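import Mathlib
import Cfsg.Prelude.Def_Transfer
import Cfsg.Agent.Lib.H13.Weak
import Cfsg.Agent.Lib.H13.Residual
import Cfsg.Agent.Lib.H12.Core

set_option autoImplicit false

namespace Cfsg.Agent.H13

open Cfsg

variable {H : Type*} [Group H] [Finite H] {p : ℕ} [Fact p.Prime]

/-- `S` is a Sylow `p`-subgroup of `X`, both subgroups of the ambient group. -/
structure IsSylIn (p : ℕ) (S X : Subgroup H) : Prop where
  le : S ≤ X
  pg : IsPGroup p S
  nd : ¬ p ∣ S.relIndex X

theorem isSylIn_top (T : Sylow p H) : IsSylIn p (T : Subgroup H) ⊤ :=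
  ⟨le_top, T.2, by rw [Subgroup.relIndex_top_right]; exact T.not_dvd_index⟩

theorem IsSylIn.of_le {S M X : Subgroup H} (h : IsSylIn p S X) (hSM : S ≤ M) (hMX : M ≤ X) :
    IsSylIn p S M :=
  ⟨hSM, h.pg, fun hd => h.nd (by
    rw [← Subgroup.relIndex_mul_relIndex S M X hSM hMX]; exact hd.mul_right _)⟩

/-- the corresponding Sylow subgroup of `↥X`. -/
noncomputable def IsSylIn.toSylow {S X : Subgroup H} (h : IsSylIn p S X) : Sylow p ↥X :=
  IsPGroup.toSylow (P := S.subgroupOf X) (isPGroup_subgroupOf h.pg) h.nd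

theorem IsSylIn.coe_toSylow {S X : Subgroup H} (h : IsSylIn p S X) :
    ((h.toSylow : Sylow p ↥X) : Subgroup ↥X) = S.subgroupOf X := rfl

theorem IsSylIn.map_toSylow {S X : Subgroup H} (h : IsSylIn p S X) :
    ((h.toSylow : Sylow p ↥X) : Subgroup ↥X).map X.subtype = S := by
  rw [h.coe_toSylow, Subgroup.map_subgroupOf_eq_of_le h.le]

theorem isSylIn_of_sylow {X : Subgroup H} (S : Sylow p ↥X) :
    IsSylIn p ((S : Subgroup ↥X).map X.subtype) X := by
  refine ⟨Subgroup.map_subtype_le _, S.2.map _, ?_⟩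
  have h1 : ((S : Subgroup ↥X).map X.subtype).subgroupOf X = (S : Subgroup ↥X) :=
    Subgroup.comap_map_eq_self_of_injective X.subtype_injective _
  unfold Subgroup.relIndex
  rw [h1]
  exact S.not_dvd_index

theorem IsSylIn.eq_of_le {S S' X : Subgroup H} (h : IsSylIn p S X) (hS : S ≤ S') (hX : S' ≤ X)
    (hp : IsPGroup p S') : S' = S := by
  have h1 : S'.subgroupOf X = ((h.toSylow : Sylow p ↥X) : Subgroup ↥X) :=
    h.toSylow.is_maximal' (isPGroup_subgroupOf hp) (by
      rw [h.coe_toSylow]; exact Subgroup.comap_mono hS)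
  have h2 := congrArg (Subgroup.map X.subtype) h1
  rwa [Subgroup.map_subgroupOf_eq_of_le hX, h.map_toSylow] at h2

/-- Intersection with a normal subgroup. -/
theorem IsSylIn.inf_normal {S X Y : Subgroup H} (h : IsSylIn p S X) (hYX : Y ≤ X)
    (hn : X ≤ Subgroup.normalizer (Y : Set H)) : IsSylIn p (S ⊓ Y) Y := by
  haveI hY' : (Y.subgroupOf X).Normal := by
    constructor
    intro x hx g
    rw [Subgroup.mem_subgroupOf] at hx ⊢
    exact (Subgroup.mem_normalizer_iff.mp (hn g.2) _).mp hx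
  obtain ⟨P, hP⟩ := exists_sylow_inf_normal h.toSylow (Y.subgroupOf X)
  refine ⟨inf_le_right, h.pg.to_le inf_le_left, ?_⟩
  have h1 := (isSylIn_of_sylow P).nd
  rw [hP, ← Subgroup.relIndex_map_map_of_injective _ _ X.subtype_injective, Subgroup.map_inf _ _ _ X.subtype_injective,
    h.map_toSylow, Subgroup.map_subgroupOf_eq_of_le hYX] at h1
  exact h1

theorem IsSylIn.inf_of_normal {X : Subgroup H} (T : Sylow p H) [hX : X.Normal] :
    IsSylIn p ((T : Subgroup H) ⊓ X) X :=
  (isSylIn_top T).inf_normal le_top (by rw [Subgroup.normalizer_eq_top X])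

/-- every `p`-subgroup of `X` lies in an `X`-conjugate of a Sylow subgroup of `X`. -/
theorem IsSylIn.exists_conj {S S' X : Subgroup H} (h : IsSylIn p S X) (hS : S' ≤ X)
    (hp : IsPGroup p S') : ∃ x ∈ X, S' ≤ S.map (MulAut.conj x).toMonoidHom := by
  obtain ⟨T₁, hT₁⟩ := exists_sylow_subgroup_le hS hp
  obtain ⟨k, hk⟩ := MulAction.exists_smul_eq X h.toSylow T₁
  refine ⟨k, k.2, hT₁.trans ?_⟩
  have h1 : (T₁ : Subgroup X).map X.subtype
      = (((h.toSylow : Sylow p ↥X) : Subgroup ↥X).map X.subtype).map (MulAut.conj (k : H)).toMonoidHom := by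
    rw [← hk, ← map_subtype_conj]
    rfl
  rw [h1, h.map_toSylow]

theorem IsSylIn.exists_conj_eq {S S' X : Subgroup H} (h : IsSylIn p S X) (hS : S' ≤ X)
    (hp : IsPGroup p S') (hc : Nat.card S ≤ Nat.card S') :
    ∃ x ∈ X, S' = S.map (MulAut.conj x).toMonoidHom := by
  obtain ⟨x, hx, hle⟩ := h.exists_conj hS hp
  refine ⟨x, hx, Subgroup.eq_of_le_of_card_ge hle ?_⟩
  rwa [card_map_conj]

theorem IsSylIn.le_of_normal {S P X : Subgroup H} (h : IsSylIn p S X)
    (hn : X ≤ Subgroup.normalizer (S : Set H)) (hP : P ≤ X) (hp : IsPGroup p P) : P ≤ S := by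
  obtain ⟨x, hx, hle⟩ := h.exists_conj hP hp
  rwa [map_conj_eq_of_mem_normalizer (hn hx)] at hle

theorem IsSylIn.map_conj {S X : Subgroup H} (h : IsSylIn p S X) (g : H) :
    IsSylIn p (S.map (MulAut.conj g).toMonoidHom) (X.map (MulAut.conj g).toMonoidHom) := by
  refine ⟨Subgroup.map_mono h.le, isPGroup_map_conj h.pg, ?_⟩
  rw [Subgroup.relIndex_map_map_of_injective _ _ (MulAut.conj g).injective]
  exact h.nd

theorem IsSylIn.conj_of_mem {S X : Subgroup H} (h : IsSylIn p S X) {g : H}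
    (hg : g ∈ Subgroup.normalizer (X : Set H)) :
    IsSylIn p (S.map (MulAut.conj g).toMonoidHom) X := by
  have := h.map_conj g
  rwa [map_conj_eq_of_mem_normalizer hg] at this

/-- `X` has a normal Sylow subgroup. -/
theorem IsSylIn.isPClosed {S X : Subgroup H} (h : IsSylIn p S X)
    (hn : X ≤ Subgroup.normalizer (S : Set H)) : IsPClosed p ↥X := by
  apply H12.isPClosed_of_sylow_normal h.toSylow
  rw [h.coe_toSylow]
  constructor
  intro x hx g
  rw [Subgroup.mem_subgroupOf] at hx ⊢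
  exact (Subgroup.mem_normalizer_iff.mp (hn g.2) _).mp hx

/-- Conversely: if `X` is `p`-closed then each Sylow subgroup is normalized by `X`. -/
theorem IsSylIn.normalizer_of_isPClosed {S X : Subgroup H} (h : IsSylIn p S X)
    (hc : IsPClosed p ↥X) : X ≤ Subgroup.normalizer (S : Set H) := by
  intro x hx
  have h1 := hc h.toSylow
  rw [h.coe_toSylow] at h1
  rw [Subgroup.mem_normalizer_iff]
  intro s
  constructor
  · intro hs
    have h2 := h1.conj_mem ⟨s, h.le hs⟩ (by rw [Subgroup.mem_subgroupOf]; exact hs) ⟨x, hx⟩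
    rw [Subgroup.mem_subgroupOf] at h2
    exact h2
  · intro hs
    have hsX : x * s * x⁻¹ ∈ X := h.le hs
    have hsX' : s ∈ X := by
      have := X.mul_mem (X.mul_mem (X.inv_mem hx) hsX) hx
      simpa [mul_assoc] using this
    have h2 := h1.conj_mem ⟨x * s * x⁻¹, hsX⟩ (by rw [Subgroup.mem_subgroupOf]; exact hs) ⟨x, hx⟩⁻¹
    rw [Subgroup.mem_subgroupOf] at h2
    simpa [mul_assoc] using h2

/-- `A = S ⊔ O^p(A)` form: a subgroup containing `S` and the `p'`-elements of `X` contains `X`. -/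
theorem IsSylIn.le_of_res {S X Y : Subgroup H} (h : IsSylIn p S X) (hSY : S ≤ Y)
    (hres : (pResidual p ↥X).map X.subtype ≤ Y) : X ≤ Y := by
  have h1 := sylow_sup_pResidual h.toSylow
  intro x hx
  have h2 : (⟨x, hx⟩ : X) ∈ ((h.toSylow : Sylow p ↥X) : Subgroup ↥X) ⊔ pResidual p ↥X := by
    rw [h1]; exact Subgroup.mem_top _
  have h3 : ((h.toSylow : Sylow p ↥X) : Subgroup ↥X) ⊔ pResidual p ↥X ≤ Y.subgroupOf X := by
    refine sup_le ?_ ?_
    · rw [h.coe_toSylow]
      exact Subgroup.comap_mono hSY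
    · intro y hy
      rw [Subgroup.mem_subgroupOf]
      exact hres ⟨y, hy, rfl⟩
  exact h3 h2

/-- The `p`-residual of a subgroup `A`, viewed in the ambient group. -/
abbrev resIn (p : ℕ) {H : Type*} [Group H] (A : Subgroup H) : Subgroup H :=
  (pResidual p ↥A).map A.subtype

theorem resIn_le (A : Subgroup H) : resIn p A ≤ A := Subgroup.map_subtype_le _

theorem mem_resIn_of_coprime {A : Subgroup H} {x : H} (hx : x ∈ A)
    (hc : Nat.Coprime (orderOf x) p) : x ∈ resIn p A :=
  ⟨⟨x, hx⟩, Subgroup.subset_closure (by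
    show Nat.Coprime (orderOf (⟨x, hx⟩ : A)) p
    rwa [Subgroup.orderOf_mk]), rfl⟩

theorem resIn_le_of_forall {A Y : Subgroup H}
    (h : ∀ x ∈ A, Nat.Coprime (orderOf x) p → x ∈ Y) : resIn p A ≤ Y := by
  unfold resIn pResidual
  rw [MonoidHom.map_closure, Subgroup.closure_le]
  rintro _ ⟨x, hx, rfl⟩
  refine h _ x.2 ?_
  have hx' : Nat.Coprime (orderOf x) p := hx
  rwa [Subgroup.coe_subtype, Subgroup.orderOf_coe]

theorem resIn_map_conj (A : Subgroup H) (g : H) :
    (resIn p A).map (MulAut.conj g).toMonoidHom = resIn p (A.map (MulAut.conj g).toMonoidHom) := by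
  have key : ∀ (g : H) (A : Subgroup H),
      (resIn p A).map (MulAut.conj g).toMonoidHom ≤ resIn p (A.map (MulAut.conj g).toMonoidHom) := by
    intro g A
    rw [Subgroup.map_le_iff_le_comap]
    apply resIn_le_of_forall
    intro x hx hc
    rw [Subgroup.mem_comap]
    apply mem_resIn_of_coprime (Subgroup.mem_map_of_mem _ hx)
    have : orderOf ((MulAut.conj g).toMonoidHom x) = orderOf x :=
      orderOf_injective _ (MulAut.conj g).injective x
    rwa [this]
  apply le_antisymm (key g A)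
  have h1 := key g⁻¹ (A.map (MulAut.conj g).toMonoidHom)
  rw [map_conj_inv_map_conj] at h1
  rw [map_conj_le_iff, inv_inv] at h1
  exact h1

theorem normalizer_le_normalizer_resIn (A : Subgroup H) :
    Subgroup.normalizer (A : Set H) ≤ Subgroup.normalizer ((resIn p A : Subgroup H) : Set H) := by
  intro g hg
  apply mem_normalizer_of_map_conj_eq
  rw [resIn_map_conj, map_conj_eq_of_mem_normalizer hg]

theorem le_normalizer_resIn (A : Subgroup H) :
    A ≤ Subgroup.normalizer ((resIn p A : Subgroup H) : Set H) :=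
  Subgroup.le_normalizer.trans (normalizer_le_normalizer_resIn A)

end Cfsg.Agent.H13
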