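import Mathlib
import Cfsg.Prelude.Def_LocalStructure
import Cfsg.Agent.Lib.H13.SylIn
import Cfsg.Agent.Lib.H13.Basic
import Cfsg.Agent.Lib.H01.Fitting

set_option autoImplicit false

namespace Cfsg.Agent.H13

open Cfsg

variable {H : Type*} [Group H] [Finite H] {p : ℕ} [Fact p.Prime]

/-- `T ∩ K` is Sylow in `K` if `T ∩ KQ` is Sylow in `KQ`, `Q ≤ T` normal. -/
theorem isSylIn_inf_of_sup {T Q K : Subgroup H} [hQ : Q.Normal] (hTp : IsPGroup p T) (hQT : Q ≤ T)
    (h : IsSylIn p (T ⊓ (K ⊔ Q)) (K ⊔ Q)) : IsSylIn p (T ⊓ K) K := by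
  obtain ⟨S₀, hS₀⟩ := exists_sylow_subgroup_le (K := K) (A := T ⊓ K) inf_le_right (hTp.to_le inf_le_left)
  set S := (S₀ : Subgroup K).map K.subtype with hS
  have hSp : IsPGroup p S := S₀.2.map _
  have hQp : IsPGroup p Q := hTp.to_le hQT
  have h1 : T ⊓ (K ⊔ Q) ≤ S ⊔ Q := by
    rintro x ⟨hxT, hxK⟩
    obtain ⟨k, hk, q, hq, rfl⟩ := Subgroup.mem_sup_of_normal_right.1 hxK
    have h2 : k ∈ T := by
      have := T.mul_mem hxT (T.inv_mem (hQT hq))
      simpa using this
    exact Subgroup.mul_mem _ (Subgroup.mem_sup_left (hS₀ ⟨h2, hk⟩)) (Subgroup.mem_sup_right hq)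
  have h2 : S ⊔ Q ≤ K ⊔ Q := sup_le_sup_right (Subgroup.map_subtype_le _) _
  have h3 := h.eq_of_le h1 h2 (hSp.to_sup_of_normal_right hQp)
  have h4 : S ≤ T ⊓ K := le_inf (le_sup_left.trans (h3.le.trans inf_le_left)) (Subgroup.map_subtype_le _)
  have h5 : S = T ⊓ K := le_antisymm h4 hS₀
  rw [← h5]
  exact isSylIn_of_sylow S₀

/-- The largest proper subgroup of `A` over `T ∩ A`, when there is one. -/
noncomputable def upperSup (T A : Subgroup H) : Subgroup H :=
  (T ⊓ A) ⊔ sSup {X | T ⊓ A ≤ X ∧ X ≤ A ∧ X ≠ A}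

theorem upperSup_le (T A : Subgroup H) : upperSup T A ≤ A :=
  sup_le inf_le_right (sSup_le fun _ hX => hX.2.1)

theorem inf_le_upperSup (T A : Subgroup H) : T ⊓ A ≤ upperSup T A := le_sup_left

theorem le_upperSup {T A X : Subgroup H} (h1 : T ⊓ A ≤ X) (h2 : X ≤ A) (h3 : X ≠ A) :
    X ≤ upperSup T A :=
  le_trans (le_sSup (show X ∈ {X | T ⊓ A ≤ X ∧ X ≤ A ∧ X ≠ A} from ⟨h1, h2, h3⟩)) le_sup_right

theorem upperSup_map_conj_le (T A : Subgroup H) (g : H) :
    (upperSup T A).map (MulAut.conj g).toMonoidHom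
      ≤ upperSup (T.map (MulAut.conj g).toMonoidHom) (A.map (MulAut.conj g).toMonoidHom) := by
  rw [Subgroup.map_le_iff_le_comap]
  refine sup_le ?_ (sSup_le ?_)
  · rw [← Subgroup.map_le_iff_le_comap, map_conj_inf]
    exact inf_le_upperSup _ _
  · rintro X ⟨h1, h2, h3⟩
    rw [← Subgroup.map_le_iff_le_comap]
    apply le_upperSup
    · rw [← map_conj_inf]
      exact Subgroup.map_mono h1
    · exact Subgroup.map_mono h2
    · intro h
      apply h3
      exact Subgroup.map_injective (MulAut.conj g).injective h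

theorem upperSup_map_conj (T A : Subgroup H) (g : H) :
    (upperSup T A).map (MulAut.conj g).toMonoidHom
      = upperSup (T.map (MulAut.conj g).toMonoidHom) (A.map (MulAut.conj g).toMonoidHom) := by
  apply le_antisymm (upperSup_map_conj_le T A g)
  have h1 := upperSup_map_conj_le (T.map (MulAut.conj g).toMonoidHom) (A.map (MulAut.conj g).toMonoidHom) g⁻¹
  rw [map_conj_inv_map_conj, map_conj_inv_map_conj, map_conj_le_iff, inv_inv] at h1
  exact h1

theorem upperSup_ne_of_unique {T Q E : Subgroup H} [hQ : Q.Normal] (hQT : Q ≤ T)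
    (hE : ∃! M : Subgroup ↥E, IsCoatom M ∧ (T ⊓ E).subgroupOf E ≤ M) :
    upperSup T (E ⊔ Q) ≠ E ⊔ Q := by
  obtain ⟨M₀, ⟨hM₀, hSM₀⟩, huniq⟩ := hE
  set M₁ := M₀.map E.subtype ⊔ Q with hM₁
  have hT₀ : T ⊓ E ≤ M₀.map E.subtype := by
    intro x hx
    exact ⟨⟨x, hx.2⟩, hSM₀ (by rw [Subgroup.mem_subgroupOf]; exact hx), rfl⟩
  have h1 : T ⊓ (E ⊔ Q) ≤ M₁ := by
    rintro x ⟨hxT, hxK⟩
    obtain ⟨k, hk, q, hq, rfl⟩ := Subgroup.mem_sup_of_normal_right.1 hxK
    have h2 : k ∈ T := by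
      have := T.mul_mem hxT (T.inv_mem (hQT hq))
      simpa using this
    exact Subgroup.mul_mem _ (Subgroup.mem_sup_left (hT₀ ⟨h2, hk⟩)) (Subgroup.mem_sup_right hq)
  have h2 : upperSup T (E ⊔ Q) ≤ M₁ := by
    refine sup_le h1 (sSup_le ?_)
    rintro X ⟨hX1, hX2, hX3⟩
    have hQX : Q ≤ X := (le_inf hQT le_sup_right).trans hX1
    have hne : X.subgroupOf E ≠ ⊤ := by
      intro hc
      apply hX3
      apply le_antisymm hX2
      refine sup_le ?_ hQX
      intro e he
      have : (⟨e, he⟩ : E) ∈ X.subgroupOf E := by rw [hc]; exact Subgroup.mem_top _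
      exact this
    obtain h | ⟨C, hC, hXC⟩ := eq_top_or_exists_le_coatom (X.subgroupOf E)
    · exact absurd h hne
    have hSC : (T ⊓ E).subgroupOf E ≤ C := by
      refine le_trans ?_ hXC
      intro y hy
      rw [Subgroup.mem_subgroupOf] at hy ⊢
      exact hX1 ⟨hy.1, Subgroup.mem_sup_left hy.2⟩
    have hCM : C = M₀ := huniq C ⟨hC, hSC⟩
    subst hCM
    intro x hx
    obtain ⟨k, hk, q, hq, rfl⟩ := Subgroup.mem_sup_of_normal_right.1 (hX2 hx)
    have hkX : k ∈ X := by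
      have := X.mul_mem hx (X.inv_mem (hQX hq))
      simpa using this
    refine Subgroup.mul_mem _ (Subgroup.mem_sup_left ⟨⟨k, hk⟩, hXC ?_, rfl⟩) (Subgroup.mem_sup_right hq)
    rw [Subgroup.mem_subgroupOf]
    exact hkX
  intro hc
  rw [hc] at h2
  apply hM₀.1
  rw [eq_top_iff]
  rintro ⟨e, he⟩ -
  have he' : e ∈ M₁ := h2 (Subgroup.mem_sup_left he)
  obtain ⟨m, hm, q, hq, rfl⟩ := Subgroup.mem_sup_of_normal_right.1 he'
  have hmE : m ∈ E := by
    obtain ⟨w, -, rfl⟩ := hm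
    exact w.2
  have hqE : q ∈ E := by
    have := E.mul_mem (E.inv_mem hmE) he
    simpa using this
  have hq' : q ∈ M₀.map E.subtype := hT₀ ⟨hQT hq, hqE⟩
  have hmq := Subgroup.mul_mem _ hm hq'
  obtain ⟨w, hw, hwe⟩ := hmq
  have : (⟨m * q, he⟩ : E) = w := Subtype.ext hwe.symm
  rw [this]
  exact hw

/-- Elements of a proper overgroup of `T` not containing `A` and normalizing `A` normalize the
largest subgroup of `A` over `T ∩ A`. -/
theorem mem_normalizer_upperSup {T A X : Subgroup H} (hS : IsSylIn p (T ⊓ A) A)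
    (hne : upperSup T A ≠ A) (hTX : T ≤ X) (hAX : ¬ A ≤ X) {x : H} (hx : x ∈ X)
    (hxA : x ∈ Subgroup.normalizer (A : Set H)) :
    x ∈ Subgroup.normalizer ((upperSup T A : Subgroup H) : Set H) := by
  set M := upperSup T A with hM
  set S := T ⊓ A with hSdef
  have hSM : S ≤ M := inf_le_upperSup T A
  have hMA : M ≤ A := upperSup_le T A
  have h1 : X ⊓ A ≤ M := by
    apply le_upperSup (inf_le_inf_right _ hTX) inf_le_right
    intro h
    exact hAX (inf_eq_right.1 h)
  have hXx : X.map (MulAut.conj x).toMonoidHom = X :=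
    map_conj_eq_of_mem_normalizer (Subgroup.le_normalizer hx)
  have h2 : S.map (MulAut.conj x).toMonoidHom ≤ M := by
    refine le_trans (le_inf ?_ ?_) h1
    · have := Subgroup.map_mono (f := (MulAut.conj x).toMonoidHom) ((inf_le_left : S ≤ T).trans hTX)
      rwa [hXx] at this
    · have := Subgroup.map_mono (f := (MulAut.conj x).toMonoidHom) (inf_le_right : S ≤ A)
      rwa [map_conj_eq_of_mem_normalizer hxA] at this
  obtain ⟨m, hm, hmS⟩ := (hS.of_le hSM hMA).exists_conj_eq h2 (isPGroup_map_conj hS.pg)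
    (le_of_eq (card_map_conj x S).symm)
  have hmN : m ∈ Subgroup.normalizer (A : Set H) := Subgroup.le_normalizer (hMA hm)
  set y := m⁻¹ * x with hy
  have hyA : y ∈ Subgroup.normalizer (A : Set H) :=
    Subgroup.mul_mem _ (Subgroup.inv_mem _ hmN) hxA
  have hyS : S.map (MulAut.conj y).toMonoidHom = S := by
    rw [hy, ← map_conj_mul, hmS, map_conj_mul, inv_mul_cancel, map_conj_one]
  have hyM : y ∈ Subgroup.normalizer (M : Set H) := by
    apply mem_normalizer_of_map_conj_le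
    apply le_upperSup
    · rw [← hSdef, ← hyS]
      exact Subgroup.map_mono hSM
    · have := Subgroup.map_mono (f := (MulAut.conj y).toMonoidHom) hMA
      rwa [map_conj_eq_of_mem_normalizer hyA] at this
    · intro h
      apply hne
      have h3 := map_conj_eq_of_mem_normalizer hyA
      rw [← h3] at h
      exact Subgroup.map_injective (MulAut.conj y).injective h
  have hxe : x = m * y := by rw [hy]; group
  rw [hxe]
  exact Subgroup.mul_mem _ (Subgroup.le_normalizer hm) hyM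

section family

variable {𝒦 : Set (Subgroup H)}

theorem sSup_family_normal (hinv : ∀ h : H, ∀ E ∈ 𝒦, E.map (MulAut.conj h).toMonoidHom ∈ 𝒦) :
    (sSup 𝒦).Normal := by
  constructor
  intro n hn g
  have h1 : sSup 𝒦 ≤ (sSup 𝒦).comap (MulAut.conj g).toMonoidHom :=
    sSup_le fun E hE => Subgroup.map_le_iff_le_comap.1 (le_sSup (hinv g E hE))
  exact h1 hn

theorem exists_mul_of_res (T : Sylow p H) {R : Subgroup H} [hR : R.Normal]
    (hres : pResidual p H ≤ R) (h : H) : ∃ r ∈ R, ∃ t ∈ (T : Subgroup H), r * t = h := by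
  have h1 : h ∈ R ⊔ (T : Subgroup H) := by
    have h2 := sylow_sup_pResidual T
    have h3 : (⊤ : Subgroup H) ≤ R ⊔ (T : Subgroup H) := by
      rw [← h2]
      exact sup_le le_sup_right (hres.trans le_sup_left)
    exact h3 (Subgroup.mem_top h)
  exact Subgroup.mem_sup_of_normal_left.1 h1

/-- `S2855`, first part. -/
theorem isMinimalOver_of_family (hne : 𝒦.Nonempty)
    (hinv : ∀ h : H, ∀ E ∈ 𝒦, E.map (MulAut.conj h).toMonoidHom ∈ 𝒦)
    (htr : ∀ E ∈ 𝒦, ∀ K ∈ 𝒦, ∃ h : H, K = E.map (MulAut.conj h).toMonoidHom)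
    (hres : pResidual p H ≤ sSup 𝒦)
    (hnorm : ∀ E ∈ 𝒦, sSup 𝒦 ⊔ pCore p H ≤ Subgroup.normalizer ((E ⊔ pCore p H : Subgroup H) : Set H))
    (hmin : ∀ E ∈ 𝒦, ∀ T : Sylow p ↥E, IsMinimalOver (T : Subgroup ↥E)) (T : Sylow p H) :
    IsMinimalOver (T : Subgroup H) := by
  set Q := pCore p H with hQdef
  haveI hQ : Q.Normal := H01.pCore_normal p
  have hQT : Q ≤ T := pCore_le_sylow T
  set R := sSup 𝒦 with hRdef
  haveI hRn : R.Normal := sSup_family_normal hinv
  haveI hRQ : (R ⊔ Q).Normal := Subgroup.sup_normal _ _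
  have hEle : ∀ E ∈ 𝒦, E ≤ R := fun E hE => le_sSup hE
  have hAle : ∀ E ∈ 𝒦, E ⊔ Q ≤ R ⊔ Q := fun E hE => sup_le_sup_right (hEle E hE) _
  have hAconj : ∀ (E : Subgroup H) (g : H),
      (E ⊔ Q).map (MulAut.conj g).toMonoidHom = E.map (MulAut.conj g).toMonoidHom ⊔ Q := by
    intro E g
    rw [map_conj_sup, map_conj_eq_of_normal (N := Q)]
  -- Sylow intersections
  have hSylA : ∀ E ∈ 𝒦, IsSylIn p ((T : Subgroup H) ⊓ (E ⊔ Q)) (E ⊔ Q) := by
    intro E hE
    have h1 := (IsSylIn.inf_of_normal (X := R ⊔ Q) T).inf_normal (hAle E hE) (hnorm E hE)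
    rwa [inf_assoc, inf_eq_right.2 (hAle E hE)] at h1
  have hSylE : ∀ E ∈ 𝒦, IsSylIn p ((T : Subgroup H) ⊓ E) E := fun E hE =>
    isSylIn_inf_of_sup T.2 hQT (hSylA E hE)
  have hUniq : ∀ E ∈ 𝒦, ∃! M : Subgroup ↥E, IsCoatom M ∧ ((T : Subgroup H) ⊓ E).subgroupOf E ≤ M := by
    intro E hE
    have h1 := (hmin E hE (hSylE E hE).toSylow).2
    rwa [(hSylE E hE).coe_toSylow] at h1
  have hNC : ∀ E ∈ 𝒦, Subgroup.normalClosure ((((T : Subgroup H) ⊓ E).subgroupOf E : Subgroup ↥E) : Set ↥E) = ⊤ := by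
    intro E hE
    have h1 := (hmin E hE (hSylE E hE).toSylow).1
    rwa [(hSylE E hE).coe_toSylow] at h1
  have hNe : ∀ E ∈ 𝒦, upperSup (T : Subgroup H) (E ⊔ Q) ≠ E ⊔ Q := fun E hE =>
    upperSup_ne_of_unique hQT (hUniq E hE)
  -- `E ≤ N` for normal subgroups of `E` containing `T ∩ E`
  have hLeN : ∀ E ∈ 𝒦, ∀ N : Subgroup H, (T : Subgroup H) ⊓ E ≤ N →
      E ≤ Subgroup.normalizer (N : Set H) → E ≤ N := by
    intro E hE N h1 h2
    haveI hn : (N.subgroupOf E).Normal := by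
      constructor
      intro x hx g
      rw [Subgroup.mem_subgroupOf] at hx ⊢
      exact (Subgroup.mem_normalizer_iff.mp (h2 g.2) _).mp hx
    have h3 : Subgroup.normalClosure (((T : Subgroup H) ⊓ E).subgroupOf E : Set ↥E) ≤ N.subgroupOf E :=
      Subgroup.normalClosure_le_normal (fun x hx => by
        have hx' : (x : H) ∈ (T : Subgroup H) ⊓ E := hx
        exact h1 hx')
    rw [hNC E hE] at h3
    intro e he
    have : (⟨e, he⟩ : E) ∈ N.subgroupOf E := h3 (Subgroup.mem_top _)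
    exact this
  have htop : ∀ X : Subgroup H, (T : Subgroup H) ≤ X → R ≤ X → X = ⊤ := by
    intro X hTX hRX
    rw [eq_top_iff, ← sylow_sup_pResidual T]
    exact sup_le hTX (hres.trans hRX)
  -- normal closure
  have hclosure : Subgroup.normalClosure ((T : Subgroup H) : Set H) = ⊤ := by
    set N := Subgroup.normalClosure ((T : Subgroup H) : Set H) with hN
    haveI hNn : N.Normal := Subgroup.normalClosure_normal
    have hTN : (T : Subgroup H) ≤ N := Subgroup.le_normalClosure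
    apply htop N hTN
    refine sSup_le fun E hE => hLeN E hE N (inf_le_left.trans hTN) ?_
    rw [Subgroup.normalizer_eq_top N]
    exact le_top
  -- transitivity of `T`
  have hTtr : ∀ (h : H), ∀ E ∈ 𝒦, ∃ t ∈ (T : Subgroup H),
      (E ⊔ Q).map (MulAut.conj h).toMonoidHom = (E ⊔ Q).map (MulAut.conj t).toMonoidHom := by
    intro h E hE
    obtain ⟨r, hr, t, ht, rfl⟩ := exists_mul_of_res T (R := R ⊔ Q) (hres.trans le_sup_left) h
    refine ⟨t, ht, ?_⟩
    rw [← map_conj_mul, hAconj E t, map_conj_eq_of_mem_normalizer (hnorm _ (hinv t E hE) hr)]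
  have hclaim1 : ∀ X : Subgroup H, (T : Subgroup H) ≤ X → X ≠ ⊤ → ∀ E ∈ 𝒦, ¬ (E ⊔ Q) ≤ X := by
    intro X hTX hX E hE hEX
    apply hX
    apply htop X hTX
    refine sSup_le fun K hK => ?_
    obtain ⟨h, rfl⟩ := htr E hE K hK
    obtain ⟨t, ht, htt⟩ := hTtr h E hE
    have h1 : (E ⊔ Q).map (MulAut.conj h).toMonoidHom ≤ X := by
      rw [htt]
      have h2 := Subgroup.map_mono (f := (MulAut.conj t).toMonoidHom) hEX
      rwa [map_conj_eq_of_mem_normalizer (Subgroup.le_normalizer (hTX ht))] at h2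
    exact (Subgroup.map_mono le_sup_left).trans h1
  have hTne : (T : Subgroup H) ≠ ⊤ := by
    intro hc
    obtain ⟨E, hE⟩ := hne
    obtain ⟨M, ⟨hM, hSM⟩, -⟩ := hUniq E hE
    apply hM.1
    rw [eq_top_iff]
    refine le_trans ?_ hSM
    intro e _
    rw [Subgroup.mem_subgroupOf]
    exact ⟨hc ▸ Subgroup.mem_top _, e.2⟩
  -- the subgroup `U`
  let U : Subgroup H :=
    { carrier := {x | ∀ E ∈ 𝒦, (upperSup (T : Subgroup H) (E ⊔ Q)).map (MulAut.conj x).toMonoidHom
          = upperSup (T : Subgroup H) ((E ⊔ Q).map (MulAut.conj x).toMonoidHom)}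
      one_mem' := by
        intro E _
        simp only [map_conj_one]
      mul_mem' := by
        intro x y hx hy E hE
        rw [← map_conj_mul, hy E hE, hAconj E y, hx _ (hinv y E hE), ← hAconj E y, map_conj_mul]
      inv_mem' := by
        intro x hx E hE
        have h1 := hx _ (hinv x⁻¹ E hE)
        rw [← hAconj E x⁻¹, map_conj_map_conj_inv] at h1
        rw [← h1, map_conj_inv_map_conj] }
  have hUmem : ∀ x : H, x ∈ U ↔ ∀ E ∈ 𝒦, (upperSup (T : Subgroup H) (E ⊔ Q)).map (MulAut.conj x).toMonoidHom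
          = upperSup (T : Subgroup H) ((E ⊔ Q).map (MulAut.conj x).toMonoidHom) := fun _ => Iff.rfl
  have hTU : (T : Subgroup H) ≤ U := by
    intro t ht
    rw [hUmem]
    intro E _
    rw [upperSup_map_conj, map_conj_eq_of_mem_normalizer (Subgroup.le_normalizer ht)]
  have hXU : ∀ X : Subgroup H, (T : Subgroup H) ≤ X → X ≠ ⊤ → X ≤ U := by
    intro X hTX hX x hx
    obtain ⟨r, hr, t, ht, rfl⟩ := exists_mul_of_res T (R := R ⊔ Q) (hres.trans le_sup_left) x
    have hrX : r ∈ X := by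
      have := X.mul_mem hx (X.inv_mem (hTX ht))
      simpa using this
    refine U.mul_mem ?_ (hTU ht)
    rw [hUmem]
    intro E hE
    have h1 : r ∈ Subgroup.normalizer ((E ⊔ Q : Subgroup H) : Set H) := hnorm E hE hr
    have h2 := mem_normalizer_upperSup (hSylA E hE) (hNe E hE) hTX (hclaim1 X hTX hX E hE) hrX h1
    rw [map_conj_eq_of_mem_normalizer h2, map_conj_eq_of_mem_normalizer h1]
  have hUne : U ≠ ⊤ := by
    intro hc
    obtain ⟨E, hE⟩ := hne
    apply hNe E hE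
    set M := upperSup (T : Subgroup H) (E ⊔ Q) with hM
    apply le_antisymm (upperSup_le _ _)
    refine sup_le ?_ ((le_inf hQT le_sup_right).trans (inf_le_upperSup _ _))
    apply hLeN E hE M
    · exact (inf_le_inf_left _ le_sup_left).trans (inf_le_upperSup _ _)
    · intro e he
      have h1 : e ∈ Subgroup.normalizer ((E ⊔ Q : Subgroup H) : Set H) :=
        hnorm E hE (Subgroup.mem_sup_left (hEle E hE he))
      have h2 : e ∈ U := hc ▸ Subgroup.mem_top e
      apply mem_normalizer_of_map_conj_eq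
      rw [hM, (hUmem e).1 h2 E hE, map_conj_eq_of_mem_normalizer h1]
  refine ⟨hclosure, U, ⟨⟨hUne, fun Z hZ => ?_⟩, hTU⟩, ?_⟩
  · by_contra hZne
    exact absurd (hXU Z (hTU.trans hZ.le) hZne) (not_le_of_gt hZ)
  · rintro C ⟨hC, hTC⟩
    have h1 := hXU C hTC hC.1
    exact ((hC.le_iff.1 h1).resolve_left hUne).symm

end family

end Cfsg.Agent.H13
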