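import Cfsg.Agent.Lib.H13.AsymH
import Cfsg.Agent.Lib.H12.PReduced3
import Cfsg.Agent.Lib.H05.Comp2
import Cfsg.Agent.Lib.H07.FStar

/-!
Asymmetric `Y_M`: `Y_M ≤ Y_H` for `H` of characteristic `p` above the preimage of `F*(M†/C(Y))`.
-/

set_option autoImplicit false
set_option linter.style.haveILetI false

namespace Cfsg.Agent.H13

open Cfsg
open scoped commutatorElement Pointwise

variable {G : Type*} [Group G] [Finite G] {p : ℕ} [Fact p.Prime]

/-- In a group with `O_p = 1`, a `p`-subgroup normalized by `F*` is trivial. -/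
theorem eq_bot_of_fstar_normalizes {K : Type*} [Group K] [Finite K]
    (hO : ∀ X : Subgroup K, X.Normal → IsPGroup p X → X = ⊥) {X : Subgroup K} (hXp : IsPGroup p X)
    (hn : generalizedFittingSubgroup K ≤ Subgroup.normalizer (X : Set K)) : X = ⊥ := by
  set F := generalizedFittingSubgroup K with hF
  haveI hFn : F.Normal := H07.generalizedFitting_normal K
  have hFtop : Subgroup.normalizer (F : Set K) = ⊤ := Subgroup.normalizer_eq_top_iff.2 hFn
  have h1 : X ⊓ F ≤ pCoreOf p F :=
    le_pCoreOf inf_le_right (hXp.to_le inf_le_left)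
      (fun f hf => mem_normalizer_inf (hn hf) (Subgroup.le_normalizer hf))
  have h2 : pCoreOf p F = ⊥ := by
    apply hO _ _ (isPGroup_pCoreOf F)
    have h3 : (⊤ : Subgroup K) ≤ Subgroup.normalizer ((pCoreOf p F : Subgroup K) : Set K) := by
      rw [← hFtop]
      exact normalizer_le_normalizer_pCoreOf F
    exact Subgroup.normalizer_eq_top_iff.1 (top_le_iff.1 h3)
  rw [h2, le_bot_iff] at h1
  have h3 : ⁅X, F⁆ ≤ X ⊓ F := commutator_le_inf_of_normalize
    (fun _ _ => hFtop ▸ Subgroup.mem_top _) hn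
  rw [h1, le_bot_iff, Subgroup.commutator_eq_bot_iff_le_centralizer] at h3
  have h4 : X ≤ F := h3.trans (H05.centralizer_fstar_le)
  rw [inf_eq_left.2 h4] at h1
  exact h1

/-- `p`-subgroups (mod `C`) normalized by the preimage of `F*(D/C)` lie in `C`, where `C = C_G(Y_D)`. -/
theorem le_of_fstar_normalizes {D C : Subgroup G}
    (hC : C = Subgroup.centralizer (largestPReducedOf p D : Set G)) [hn : (C.subgroupOf D).Normal]
    {F : Subgroup G}
    (hF : F = ((generalizedFittingSubgroup (↥D ⧸ C.subgroupOf D)).comap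
      (QuotientGroup.mk' (C.subgroupOf D))).map D.subtype)
    {B : Subgroup G} (hBD : B ≤ D) (hFB : F ≤ Subgroup.normalizer (B : Set G))
    (hB : ∀ b ∈ B, ∃ k : ℕ, b ^ (p ^ k) ∈ C) : B ≤ C := by
  -- `O_p(D/C) = 1`
  have hO : ∀ X : Subgroup (↥D ⧸ C.subgroupOf D), X.Normal → IsPGroup p X → X = ⊥ := by
    intro X hXn hXp
    have hV := (H12.largest_spec (p := p) (L := ↥D)).1
    have he : Subgroup.centralizer ((largestPReduced p ↥D : Subgroup ↥D) : Set ↥D) = C.subgroupOf D := by
      ext x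
      rw [Subgroup.mem_subgroupOf, hC, Subgroup.mem_centralizer_iff, Subgroup.mem_centralizer_iff]
      constructor
      · rintro h _ ⟨v, hv, rfl⟩
        exact congrArg Subtype.val (h v hv)
      · intro h v hv
        exact Subtype.ext (h _ ⟨v, hv, rfl⟩)
    have h1 : X.comap (QuotientGroup.mk' (C.subgroupOf D)) ≤
        Subgroup.centralizer ((largestPReduced p ↥D : Subgroup ↥D) : Set ↥D) := by
      apply H12.pReduced_elim hV (hXn.comap _)
      intro x hx
      obtain ⟨k, hk⟩ := hXp ⟨_, hx⟩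
      refine ⟨k, ?_⟩
      rw [he, ← QuotientGroup.eq_one_iff, QuotientGroup.mk_pow]
      exact congrArg Subtype.val hk
    rw [he] at h1
    rw [eq_bot_iff]
    intro x hx
    obtain ⟨y, rfl⟩ := QuotientGroup.mk_surjective x
    rw [Subgroup.mem_bot, QuotientGroup.eq_one_iff]
    exact h1 hx
  set X := (B.subgroupOf D).map (QuotientGroup.mk' (C.subgroupOf D)) with hX
  have hXp : IsPGroup p X := by
    rintro ⟨_, b, hb, rfl⟩
    obtain ⟨k, hk⟩ := hB b hb
    refine ⟨k, ?_⟩
    apply Subtype.ext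
    show (QuotientGroup.mk' (C.subgroupOf D)) b ^ (p ^ k) = 1
    rw [← map_pow]
    apply (QuotientGroup.eq_one_iff _).2
    rw [Subgroup.mem_subgroupOf]
    exact hk
  have hnX : generalizedFittingSubgroup (↥D ⧸ C.subgroupOf D) ≤ Subgroup.normalizer (X : Set _) := by
    intro f hf
    obtain ⟨f', rfl⟩ := QuotientGroup.mk_surjective f
    apply mem_normalizer_of_map_conj_le
    rintro _ ⟨_, ⟨b, hb, rfl⟩, rfl⟩
    have hfF : (f' : G) ∈ F := by
      rw [hF]
      exact ⟨f', hf, rfl⟩
    have hb' : (b : G) ∈ B := hb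
    have h1 := (Subgroup.mem_normalizer_iff.1 (hFB hfF) _).1 hb'
    exact ⟨f' * b * f'⁻¹, h1, rfl⟩
  have hXb := eq_bot_of_fstar_normalizes hO hXp hnX
  intro b hb
  have h1 : (QuotientGroup.mk' (C.subgroupOf D)) ⟨b, hBD hb⟩ ∈ X := ⟨_, hb, rfl⟩
  rw [hXb, Subgroup.mem_bot] at h1
  have h2 := (QuotientGroup.eq_one_iff _).1 h1
  exact h2

namespace BasicSetup

variable {S : Sylow p G} {Q M : Subgroup G} (h : BasicSetup p S Q M)
include h

/-- `Y_M ≤ Y_H`. -/
theorem Y_le_Y_of_fstar (hasym : ¬ IsSymmetricIn (largestPReducedOf p M)) {D C : Subgroup G}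
    (hD : D = M ⊔ Subgroup.centralizer (largestPReducedOf p M : Set G))
    (hC : C = Subgroup.centralizer (largestPReducedOf p M : Set G))
    [hn : (C.subgroupOf D).Normal] {F : Subgroup G}
    (hF : F = ((generalizedFittingSubgroup (↥D ⧸ C.subgroupOf D)).comap
      (QuotientGroup.mk' (C.subgroupOf D))).map D.subtype)
    (H : Subgroup G) (hFH : F ≤ H)
    (hH : Subgroup.centralizer (pCore p ↥H : Set ↥H) ≤ pCore p ↥H) :
    largestPReducedOf p M ≤ largestPReducedOf p H := by
  have hYD : largestPReducedOf p M = largestPReducedOf p D := by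
    rw [hD]
    exact h.hM.2.2.2.1
  have hC' : C = Subgroup.centralizer (largestPReducedOf p D : Set G) := by
    rw [← hYD]
    exact hC
  have key := @le_of_fstar_normalizes G _ _ p _ D C hC' hn F hF
  set Y := largestPReducedOf p M with hY
  set O := pCoreOf p M with hO
  have hYO : Y ≤ O := largestPReducedOf_le_pCoreOf M
  have hOC : O ≤ C := hC ▸ pCoreOf_le_centralizer_largestPReducedOf M
  have hCD : C ≤ D := by
    rw [hC, hD]
    exact le_sup_right
  have hCF : C ≤ F := by
    intro x hx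
    rw [hF]
    refine ⟨⟨x, hCD hx⟩, ?_, rfl⟩
    have h1 : (QuotientGroup.mk' (C.subgroupOf D)) ⟨x, hCD hx⟩ = 1 := by
      apply (QuotientGroup.eq_one_iff _).2
      rw [Subgroup.mem_subgroupOf]
      exact hx
    show (QuotientGroup.mk' (C.subgroupOf D)) ⟨x, hCD hx⟩ ∈ generalizedFittingSubgroup (↥D ⧸ C.subgroupOf D)
    rw [h1]
    exact Subgroup.one_mem _
  have hFD : F ≤ D := by
    rw [hF]
    exact Subgroup.map_subtype_le _
  have hOH : O ≤ H := hOC.trans (hCF.trans hFH)
  have hYH : Y ≤ H := hYO.trans hOH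
  have hDM : D = M ⊔ Subgroup.centralizer ((Y : Subgroup G) : Set G) := hD
  have hND : Subgroup.normalizer (O : Set G) ≤ D := by
    rw [hD]
    exact h.normalizer_pCore_le
  set W := pCoreOf p H with hW
  have hWp : IsPGroup p W := isPGroup_pCoreOf H
  have hHW : H ≤ Subgroup.normalizer ((W : Subgroup G) : Set G) := pCoreOf_normalized H
  have hWO : W ≤ Subgroup.normalizer (O : Set G) := h.pCoreOf_le_normalizer_of_le hasym hOH
  have hWC : W ≤ C := by
    apply key (hWO.trans hND) (hFH.trans hHW)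
    intro b hb
    obtain ⟨k, hk⟩ := hWp ⟨b, hb⟩
    refine ⟨k, ?_⟩
    have : b ^ p ^ k = 1 := by simpa using congrArg Subtype.val hk
    rw [this]
    exact C.one_mem
  have hWCY : W ≤ Subgroup.centralizer ((Y : Subgroup G) : Set G) := hC ▸ hWC
  have hYCW : Y ≤ Subgroup.centralizer ((W : Subgroup G) : Set G) := le_centralizer_of_le_centralizer hWCY
  have hYW : Y ≤ W := by
    have h1 := (isCharP_subgroup_iff H).1 hH
    exact (le_inf hYH hYCW).trans h1
  -- inside `H`
  set Y' := Y.subgroupOf H with hY'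
  set E' := Subgroup.normalClosure ((Y' : Subgroup ↥H) : Set ↥H) with hE'
  have hE'n : E'.Normal := Subgroup.normalClosure_normal
  have hYE : IsElementaryAbelian p Y := isElementaryAbelian_largestPReducedOf M
  have hZ : Y' ≤ omegaOne p (pCore p ↥H ⊓ Subgroup.centralizer (pCore p ↥H : Set ↥H)) := by
    intro y hy
    have hy' : (y : G) ∈ Y := hy
    obtain ⟨w, hw, e⟩ := hYW hy'
    have : w = y := Subtype.ext e
    subst this
    apply H12.mem_omegaOne_center_of hw
    · intro u hu
      have h1 := Subgroup.mem_centralizer_iff.1 (hWCY ⟨u, hu, rfl⟩) _ hy'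
      exact Subtype.ext h1.symm
    · have := hYE.2 _ hy'
      exact Subtype.ext (by simpa using this)
  have hZn : (omegaOne p (pCore p ↥H ⊓ Subgroup.centralizer (pCore p ↥H : Set ↥H))).Normal :=
    H12.omegaOne_center_normal _
  have hE'Z : E' ≤ omegaOne p (pCore p ↥H ⊓ Subgroup.centralizer (pCore p ↥H : Set ↥H)) :=
    Subgroup.normalClosure_le_normal hZ
  have hE'E : IsElementaryAbelian p E' :=
    H12.IsElementaryAbelian_mono hE'Z (H12.isElementaryAbelian_omegaOne_center _)
  have hY'E' : Y' ≤ E' := Subgroup.subset_normalClosure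
  have hred : IsPReducedNormal p E' := by
    apply H12.pReduced_intro hE'n hE'E
    intro X hXn _ hX
    haveI := hXn
    haveI hCn : (Subgroup.centralizer (E' : Set ↥H)).Normal := inferInstance
    set X₀ := X.map H.subtype with hX₀
    have hHX₀ : H ≤ Subgroup.normalizer (X₀ : Set G) := by
      intro l hl
      apply mem_normalizer_of_map_conj_le
      rintro _ ⟨_, ⟨x, hx, rfl⟩, rfl⟩
      exact ⟨_, hXn.conj_mem x hx ⟨l, hl⟩, rfl⟩
    have hcomm : ∀ c ∈ Subgroup.centralizer (E' : Set ↥H), (c : G) ∈ C := by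
      intro c hc
      rw [hC, Subgroup.mem_centralizer_iff]
      intro y hy
      have hy' : (⟨y, hYH hy⟩ : H) ∈ E' := hY'E' hy
      exact congrArg Subtype.val (Subgroup.mem_centralizer_iff.1 hc _ hy')
    have h1 : X₀ ⊓ D ≤ C := by
      apply key inf_le_right
      · intro f hf
        exact mem_normalizer_inf (hHX₀ (hFH hf)) (Subgroup.le_normalizer (hFD hf))
      · rintro _ ⟨⟨x, hx, rfl⟩, -⟩
        obtain ⟨k, hk⟩ := hX x hx
        exact ⟨k, hcomm _ hk⟩
    obtain ⟨S₀, hS₀⟩ := exists_sylow_subgroup_le (K := H) hOH (isPGroup_pCoreOf M)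
    have hS₀D : (S₀ : Subgroup ↥H).map H.subtype ≤ D :=
      (h.le_normalizer_of_pGroup hasym (isPGroup_map_subtype S₀) hS₀).trans hND
    have hX₀C : X₀ ≤ C := by
      rintro _ ⟨x, hx, rfl⟩
      obtain ⟨a, ⟨ha, ha'⟩, c, ⟨hc, hc'⟩, e⟩ :=
        H12.exists_sylow_mul_of_elementwise S₀ X (Subgroup.centralizer (E' : Set ↥H)) hX x hx
      have h2 : (a : G) ∈ C := h1 ⟨⟨a, ha', rfl⟩, hS₀D ⟨a, ha, rfl⟩⟩
      rw [e]
      exact C.mul_mem h2 (hcomm c hc)
    have hE'X : E' ≤ Subgroup.centralizer (X : Set ↥H) := by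
      apply Subgroup.normalClosure_le_normal
      intro y hy
      rw [SetLike.mem_coe, Subgroup.mem_centralizer_iff]
      intro x hx
      have hy' : (y : G) ∈ Y := hy
      have h2 := hX₀C ⟨x, hx, rfl⟩
      rw [hC, Subgroup.mem_centralizer_iff] at h2
      exact Subtype.ext (h2 _ hy').symm
    exact le_centralizer_of_le_centralizer hE'X
  intro y hy
  have hy' : (⟨y, hYH hy⟩ : H) ∈ E' := hY'E' hy
  exact ⟨_, (H12.largest_spec (p := p) (L := ↥H)).2 E' hred hy', rfl⟩

end BasicSetup

end Cfsg.Agent.H13
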