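import Cfsg.Agent.Lib.H13.AsymO
import Cfsg.Agent.Lib.H13.Residual
import Cfsg.Agent.Lib.H12.PReduced3

/-!
Asymmetric `Y_M`: the set `ℌ_G(O_p(M))`.
-/

set_option autoImplicit false
set_option linter.style.haveILetI false

namespace Cfsg.Agent.H13

open Cfsg
open scoped commutatorElement Pointwise

variable {G : Type*} [Group G] [Finite G] {p : ℕ} [Fact p.Prime]

/-- `O_p(X) ∩ L ≤ O_p(L)` for `L ≤ X`. -/
theorem pCoreOf_inf_le {L X : Subgroup G} (hLX : L ≤ X) : pCoreOf p X ⊓ L ≤ pCoreOf p L :=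
  le_pCoreOf inf_le_right ((isPGroup_pCoreOf X).to_le inf_le_left)
    (fun _ hl => mem_normalizer_inf ((pCoreOf_normalized X) (hLX hl)) (Subgroup.le_normalizer hl))

/-- A `p'`-element of `A N`, with `A` a `p`-group normalizing `N`, lies in `N`. -/
theorem mem_of_mem_sup_of_coprime {N A : Subgroup G} (hA : IsPGroup p A)
    (hAN : A ≤ Subgroup.normalizer (N : Set G)) {x : G} (hx : x ∈ A ⊔ N)
    (hc : Nat.Coprime (orderOf x) p) : x ∈ N := by
  have hp : p.Prime := Fact.out
  have hx' : x ∈ ((A ⊔ N : Subgroup G) : Set G) := hx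
  rw [Subgroup.coe_mul_of_left_le_normalizer_right A N hAN] at hx'
  obtain ⟨a, ha, c, hc', rfl⟩ := Set.mem_mul.mp hx'
  obtain ⟨k, hk⟩ := IsPGroup.iff_orderOf.1 hA ⟨a, ha⟩
  have hk' : a ^ (p ^ k) = 1 := by
    have h1 : orderOf a = p ^ k := by
      rw [← Subgroup.orderOf_mk a ha]
      exact hk
    rw [← h1]
    exact pow_orderOf_eq_one a
  obtain ⟨c', hc'', e⟩ := H12.pow_mul_mem_of_normalizer (C := N) (d := a) (c := c) (hAN ha) hc' (p ^ k)
  rw [hk', one_mul] at e
  set x := a * c with hxdef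
  -- `x` is a power of `x ^ (p ^ k)`
  have hpow : x ∈ Subgroup.zpowers (x ^ (p ^ k)) := by
    have h2 : Nat.Coprime (p ^ k) (orderOf x) := (Nat.Coprime.pow_right k hc).symm
    by_cases h1 : orderOf x = 1
    · rw [orderOf_eq_one_iff] at h1
      rw [h1]
      exact Subgroup.one_mem _
    · have h3 : 1 < orderOf x := by
        have : 0 < orderOf x := orderOf_pos x
        omega
      obtain ⟨m, -, hm⟩ := Nat.exists_mul_mod_eq_one_of_coprime h2 h3
      refine ⟨(m : ℤ), ?_⟩
      show (x ^ (p ^ k)) ^ (m : ℤ) = x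
      rw [zpow_natCast, ← pow_mul, ← pow_mod_orderOf, hm, pow_one]
  have h4 : x ^ (p ^ k) ∈ N := by
    rw [e]
    exact hc''
  exact (Subgroup.zpowers_le.2 h4) hpow

/-- `O^p(H)` as a subgroup of `G`. -/
abbrev resG (p : ℕ) (H : Subgroup G) : Subgroup G := (pResidual p ↥H).map H.subtype

omit [Finite G] [Fact p.Prime] in
theorem mem_resG_of_coprime {H : Subgroup G} {x : G} (hx : x ∈ H) (hc : Nat.Coprime (orderOf x) p) :
    x ∈ resG p H := by
  refine ⟨⟨x, hx⟩, Subgroup.subset_closure ?_, rfl⟩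
  show Nat.Coprime (orderOf (⟨x, hx⟩ : H)) p
  rwa [Subgroup.orderOf_mk]

omit [Finite G] [Fact p.Prime] in
theorem resG_le {H K : Subgroup G} (h : ∀ x ∈ H, Nat.Coprime (orderOf x) p → x ∈ K) : resG p H ≤ K := by
  rw [Subgroup.map_le_iff_le_comap]
  apply (Subgroup.closure_le _).2
  intro x hx
  have hx' : Nat.Coprime (orderOf x) p := hx
  refine h _ x.2 ?_
  show Nat.Coprime (orderOf (x : G)) p
  rwa [Subgroup.orderOf_coe]

omit [Finite G] [Fact p.Prime] in
theorem resG_le_self (H : Subgroup G) : resG p H ≤ H :=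
  resG_le (fun _ hx _ => hx)

theorem le_normalizer_resG (H : Subgroup G) : H ≤ Subgroup.normalizer ((resG p H : Subgroup G) : Set G) := by
  intro h hh
  apply mem_normalizer_of_map_conj_le
  rintro _ ⟨_, ⟨x, hx, rfl⟩, rfl⟩
  have h1 := (pResidual_normal' (p := p) (G := ↥H)).conj_mem x hx ⟨h, hh⟩
  exact ⟨_, h1, rfl⟩

/-- A proper subgroup containing `O^p` lies in a proper normal subgroup. -/
theorem exists_normal_of_residual_le {K : Type*} [Group K] [Finite K] (P : Subgroup K)
    (hR : pResidual p K ≤ P) (hP : P ≠ ⊤) : ∃ N : Subgroup K, N.Normal ∧ P ≤ N ∧ N ≠ ⊤ := by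
  haveI hnil : Group.IsNilpotent (K ⧸ pResidual p K) := (isPGroup_quotient_pResidual (p := p)).isNilpotent
  set f := QuotientGroup.mk' (pResidual p K) with hf
  have hker : f.ker = pResidual p K := QuotientGroup.ker_mk' _
  have hsurj : Function.Surjective f := QuotientGroup.mk'_surjective _
  have hne : P.map f ≠ ⊤ := by
    intro h
    apply hP
    have h1 : (P.map f).comap f = P := by
      rw [Subgroup.comap_map_eq, hker]
      exact sup_eq_left.2 hR
    rw [← h1, h, Subgroup.comap_top]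
  obtain ⟨M', hM', hle⟩ : ∃ M', IsCoatom M' ∧ P.map f ≤ M' :=
    (eq_top_or_exists_le_coatom (P.map f)).resolve_left hne
  have hnorm : M'.Normal :=
    Subgroup.NormalizerCondition.normal_of_coatom M' Group.normalizerCondition_of_isNilpotent hM'
  refine ⟨M'.comap f, inferInstance, ?_, ?_⟩
  · exact (Subgroup.map_le_iff_le_comap).1 hle
  · intro h
    apply hM'.1
    rw [eq_top_iff]
    intro x _
    obtain ⟨y, rfl⟩ := hsurj x
    have : y ∈ M'.comap f := by rw [h]; trivial
    exact this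

omit [Finite G] [Fact p.Prime] in
/-- `[A, B]` is normalized by `A`. -/
theorem le_normalizer_commutator_left (A B : Subgroup G) :
    A ≤ Subgroup.normalizer ((⁅A, B⁆ : Subgroup G) : Set G) := by
  intro a ha
  rw [Subgroup.mem_normalizer_iff]
  have key : ∀ a ∈ A, ∀ x ∈ (⁅A, B⁆ : Subgroup G), a * x * a⁻¹ ∈ (⁅A, B⁆ : Subgroup G) := by
    intro a ha x hx
    rw [Subgroup.commutator_def] at hx
    induction hx using Subgroup.closure_induction with
    | mem x hx =>
      obtain ⟨a₁, ha₁, b, hb, rfl⟩ := hx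
      have e : a * ⁅a₁, b⁆ * a⁻¹ = ⁅a * a₁, b⁆ * ⁅a, b⁆⁻¹ := by
        simp only [commutatorElement_def]
        group
      rw [e]
      exact Subgroup.mul_mem _ (Subgroup.commutator_mem_commutator (A.mul_mem ha ha₁) hb)
        (Subgroup.inv_mem _ (Subgroup.commutator_mem_commutator ha hb))
    | one => simp [Subgroup.one_mem]
    | mul x y _ _ hx hy =>
      have e : a * (x * y) * a⁻¹ = (a * x * a⁻¹) * (a * y * a⁻¹) := by group
      rw [e]
      exact Subgroup.mul_mem _ hx hy
    | inv x _ hx =>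
      have e : a * x⁻¹ * a⁻¹ = (a * x * a⁻¹)⁻¹ := by group
      rw [e]
      exact Subgroup.inv_mem _ hx
  intro x
  constructor
  · exact key a ha x
  · intro hx
    have := key a⁻¹ (A.inv_mem ha) _ hx
    simpa [mul_assoc] using this

/-! ### The set `ℌ_G(O_p(M))` -/

section frakH

variable {M H : Subgroup G}

/-- Normal subgroups of `H ∈ ℌ` containing `O_p(M)` equal `H`. -/
theorem frakH_eq_of_normal (hH : IsInFrakH p M H) {K : Subgroup G} (hKH : K ≤ H)
    (hn : H ≤ Subgroup.normalizer (K : Set G)) (hOK : pCoreOf p M ≤ K) : K = H := by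
  by_contra hne
  have h1 := hH.2.2.2 K hOK (lt_of_le_of_ne hKH hne)
  exact hH.2.2.1 (h1.trans (pCoreOf_le_pCoreOf_of_normal hKH hn))

/-- The normal closure of `O_p(M)` in `H`. -/
theorem frakH_normalClosure (hH : IsInFrakH p M H) :
    (Subgroup.normalClosure (((pCoreOf p M).subgroupOf H : Subgroup ↥H) : Set ↥H)).map H.subtype = H := by
  apply frakH_eq_of_normal hH
  · exact Subgroup.map_subtype_le _
  · intro h hh
    apply mem_normalizer_of_map_conj_le
    rintro _ ⟨_, ⟨x, hx, rfl⟩, rfl⟩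
    have h1 := (Subgroup.normalClosure_normal (s := (((pCoreOf p M).subgroupOf H : Subgroup ↥H) : Set ↥H))).conj_mem
      x hx ⟨h, hh⟩
    exact ⟨_, h1, rfl⟩
  · intro x hx
    have hxH := hH.2.1 hx
    refine ⟨⟨x, hxH⟩, Subgroup.subset_normalClosure ?_, rfl⟩
    exact hx

/-- `H = O^p(H) O_p(M)`. -/
theorem frakH_resG_sup (hH : IsInFrakH p M H) : resG p H ⊔ pCoreOf p M = H := by
  have hle : resG p H ⊔ pCoreOf p M ≤ H := sup_le (resG_le_self H) hH.2.1
  by_contra hne
  set P := resG p H ⊔ pCoreOf p M with hP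
  have h1 : P.subgroupOf H ≠ ⊤ := by
    intro h
    apply hne
    apply le_antisymm hle
    intro x hx
    have : (⟨x, hx⟩ : H) ∈ P.subgroupOf H := by rw [h]; trivial
    exact this
  have h2 : pResidual p ↥H ≤ P.subgroupOf H := by
    intro x hx
    rw [Subgroup.mem_subgroupOf]
    exact Subgroup.mem_sup_left ⟨x, hx, rfl⟩
  obtain ⟨N, hN, hPN, hNt⟩ := exists_normal_of_residual_le (p := p) _ h2 h1
  have h3 : N.map H.subtype = H := by
    apply frakH_eq_of_normal hH
    · exact Subgroup.map_subtype_le _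
    · intro h hh
      apply mem_normalizer_of_map_conj_le
      rintro _ ⟨_, ⟨x, hx, rfl⟩, rfl⟩
      exact ⟨_, hN.conj_mem x hx ⟨h, hh⟩, rfl⟩
    · intro x hx
      have hxH := hH.2.1 hx
      refine ⟨⟨x, hxH⟩, hPN ?_, rfl⟩
      rw [Subgroup.mem_subgroupOf]
      exact Subgroup.mem_sup_right hx
  apply hNt
  rw [eq_top_iff]
  intro x _
  have h4 : (x : G) ∈ N.map H.subtype := by rw [h3]; exact x.2
  obtain ⟨y, hy, e⟩ := h4
  have : y = x := Subtype.ext e
  rwa [← this]

/-- The normal closure of `Y_M` in `H`, with `O_p(M)`, generates `H`. -/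
theorem frakH_normalClosure_Y_sup (hH : IsInFrakH p M H) :
    (Subgroup.normalClosure (((largestPReducedOf p M).subgroupOf H : Subgroup ↥H) : Set ↥H)).map H.subtype
      ⊔ pCoreOf p M = H := by
  set Y := largestPReducedOf p M with hY
  set O := pCoreOf p M with hO
  have hYO : Y ≤ O := largestPReducedOf_le_pCoreOf M
  have hOH : O ≤ H := hH.2.1
  set NCH := Subgroup.normalClosure ((Y.subgroupOf H : Subgroup ↥H) : Set ↥H) with hNCH
  set NC := NCH.map H.subtype with hNC
  have hNCn : NCH.Normal := Subgroup.normalClosure_normal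
  have hNCle : NC ≤ H := Subgroup.map_subtype_le _
  have hYNC : Y ≤ NC := by
    intro y hy
    refine ⟨⟨y, hOH (hYO hy)⟩, Subgroup.subset_normalClosure ?_, rfl⟩
    exact hy
  have hHNC : H ≤ Subgroup.normalizer (NC : Set G) := by
    intro h hh
    apply mem_normalizer_of_map_conj_le
    rintro _ ⟨_, ⟨x, hx, rfl⟩, rfl⟩
    exact ⟨_, hNCn.conj_mem x hx ⟨h, hh⟩, rfl⟩
  have hle : NC ⊔ O ≤ H := sup_le hNCle hOH
  by_contra hne
  have h1 := hH.2.2.2 (NC ⊔ O) le_sup_right (lt_of_le_of_ne hle hne)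
  have h2 : Y ≤ pCoreOf p NC :=
    (le_inf h1 hYNC).trans (pCoreOf_inf_le le_sup_left)
  have hHA : H ≤ Subgroup.normalizer ((pCoreOf p NC : Subgroup G) : Set G) :=
    hHNC.trans (normalizer_le_normalizer_pCoreOf NC)
  have hAn : ((pCoreOf p NC).subgroupOf H).Normal := by
    constructor
    intro x hx g
    rw [Subgroup.mem_subgroupOf] at hx ⊢
    exact (Subgroup.mem_normalizer_iff.1 (hHA g.2) _).1 hx
  have h3 : NCH ≤ (pCoreOf p NC).subgroupOf H := by
    apply Subgroup.normalClosure_le_normal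
    intro y hy
    rw [SetLike.mem_coe, Subgroup.mem_subgroupOf] at hy ⊢
    exact h2 hy
  have h4 : NC ≤ pCoreOf p NC := by
    rintro _ ⟨x, hx, rfl⟩
    exact h3 hx
  have h5 : IsPGroup p NC := (isPGroup_pCoreOf NC).to_le h4
  exact hH.2.2.1 (hYNC.trans (le_pCoreOf hNCle h5 hHNC))

end frakH

namespace BasicSetup

variable {S : Sylow p G} {Q M H : Subgroup G} (h : BasicSetup p S Q M)
include h

/-- `O_p(H)` normalizes `O_p(M)`. -/
theorem pCoreOf_le_normalizer_of_le (hasym : ¬ IsSymmetricIn (largestPReducedOf p M))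
    {H : Subgroup G} (hOH : pCoreOf p M ≤ H) :
    pCoreOf p H ≤ Subgroup.normalizer (pCoreOf p M : Set G) := by
  have hsup : IsPGroup p (pCoreOf p M ⊔ pCoreOf p H : Subgroup G) :=
    IsPGroup.to_sup_of_normal_right' (isPGroup_pCoreOf M) (isPGroup_pCoreOf H)
      (hOH.trans (pCoreOf_normalized H))
  exact le_sup_right.trans (h.le_normalizer_of_pGroup hasym hsup le_sup_left)

/-- `O^p(H) Y_M` is the normal closure of `Y_M` in `H`, and `[O^p(H), Y_M] = O^p(H)`. -/
theorem frakH_res (hH : IsInFrakH p M H) :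
    resG p H ⊔ largestPReducedOf p M =
      (Subgroup.normalClosure (((largestPReducedOf p M).subgroupOf H : Subgroup ↥H) : Set ↥H)).map H.subtype ∧
    ⁅resG p H, largestPReducedOf p M⁆ = resG p H := by
  set Y := largestPReducedOf p M with hY
  set O := pCoreOf p M with hO
  set R := resG p H with hR
  have hYO : Y ≤ O := largestPReducedOf_le_pCoreOf M
  have hOH : O ≤ H := hH.2.1
  have hOp : IsPGroup p O := isPGroup_pCoreOf M
  have hOC : O ≤ Subgroup.centralizer ((Y : Subgroup G) : Set G) :=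
    pCoreOf_le_centralizer_largestPReducedOf M
  have hRH : R ≤ H := resG_le_self H
  have hHR : H ≤ Subgroup.normalizer ((R : Subgroup G) : Set G) := le_normalizer_resG H
  have hOYn : O ≤ Subgroup.normalizer ((Y : Subgroup G) : Set G) :=
    hOC.trans (centralizer_le_normalizer_of_le Y)
  have hsup : O ⊔ R = H := by
    rw [sup_comm]
    exact frakH_resG_sup hH
  set NCH := Subgroup.normalClosure ((Y.subgroupOf H : Subgroup ↥H) : Set ↥H) with hNCH
  set NC := NCH.map H.subtype with hNC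
  have hNCn : NCH.Normal := Subgroup.normalClosure_normal
  have hHNC : H ≤ Subgroup.normalizer (NC : Set G) := by
    intro h hh
    apply mem_normalizer_of_map_conj_le
    rintro _ ⟨_, ⟨x, hx, rfl⟩, rfl⟩
    exact ⟨_, hNCn.conj_mem x hx ⟨h, hh⟩, rfl⟩
  have hNCsup : O ⊔ NC = H := by
    rw [sup_comm]
    exact frakH_normalClosure_Y_sup hH
  have hYH : Y ≤ H := hYO.trans hOH
  -- `R ≤ NC`
  have hRNC : R ≤ NC := by
    apply resG_le
    intro x hx hc
    apply mem_of_mem_sup_of_coprime hOp (hOH.trans hHNC) _ hc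
    rw [hNCsup]
    exact hx
  have hYNC : Y ≤ NC := by
    intro y hy
    refine ⟨⟨y, hYH hy⟩, Subgroup.subset_normalClosure ?_, rfl⟩
    exact hy
  -- a criterion for `NC ≤ K`
  have hcrit : ∀ K : Subgroup G, K ≤ H → H ≤ Subgroup.normalizer (K : Set G) → Y ≤ K → NC ≤ K := by
    intro K hKH hK hYK
    have hKn : (K.subgroupOf H).Normal := by
      constructor
      intro x hx g
      rw [Subgroup.mem_subgroupOf] at hx ⊢
      exact (Subgroup.mem_normalizer_iff.1 (hK g.2) _).1 hx
    have h3 : NCH ≤ K.subgroupOf H := by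
      apply Subgroup.normalClosure_le_normal
      intro y hy
      rw [SetLike.mem_coe, Subgroup.mem_subgroupOf] at hy ⊢
      exact hYK hy
    rintro _ ⟨x, hx, rfl⟩
    exact h3 hx
  constructor
  · apply le_antisymm (sup_le hRNC hYNC)
    apply hcrit _ (sup_le hRH hYH) _ le_sup_right
    rw [← hsup]
    apply sup_le
    · intro o ho
      exact mem_normalizer_sup (hHR (hOH ho)) (hOYn ho)
    · exact (le_sup_left (b := Y)).trans Subgroup.le_normalizer
  · set R₁ := ⁅R, Y⁆ with hR₁
    have hR₁R : R₁ ≤ R := by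
      rw [hR₁, Subgroup.commutator_le]
      intro r hr y hy
      have e : ⁅r, y⁆ = r * (y * r⁻¹ * y⁻¹) := by
        simp only [commutatorElement_def]
        group
      rw [e]
      exact R.mul_mem hr ((Subgroup.mem_normalizer_iff.1 (hHR (hYH hy)) _).1 (R.inv_mem hr))
    have hRR₁ : R ≤ Subgroup.normalizer (R₁ : Set G) := le_normalizer_commutator_left R Y
    have hOR₁ : O ≤ Subgroup.normalizer (R₁ : Set G) := fun o ho =>
      mem_normalizer_commutator (hHR (hOH ho)) (hOYn ho)
    have hHR₁ : H ≤ Subgroup.normalizer (R₁ : Set G) := by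
      rw [← hsup]
      exact sup_le hOR₁ hRR₁
    have h1 : NC ≤ R₁ ⊔ Y := by
      apply hcrit _ (sup_le (hR₁R.trans hRH) hYH) _ le_sup_right
      rw [← hsup]
      apply sup_le
      · intro o ho
        exact mem_normalizer_sup (hOR₁ ho) (hOYn ho)
      · intro r hr
        apply mem_normalizer_of_map_conj_le
        rw [map_conj_sup]
        apply sup_le
        · rw [map_conj_eq_of_mem_normalizer (hRR₁ hr)]
          exact le_sup_left
        · rintro _ ⟨y, hy, rfl⟩
          have e : (MulAut.conj r).toMonoidHom y = ⁅r, y⁆ * y := by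
            simp [commutatorElement_def, MulAut.conj_apply]
          rw [e]
          exact Subgroup.mul_mem _ (Subgroup.mem_sup_left (Subgroup.commutator_mem_commutator hr hy))
            (Subgroup.mem_sup_right hy)
    have h2 : O ⊔ R₁ = H := by
      apply le_antisymm (sup_le hOH (hR₁R.trans hRH))
      rw [← hsup]
      apply sup_le le_sup_left
      have h3 := hRNC.trans h1
      exact h3.trans (sup_le le_sup_right (hYO.trans le_sup_left))
    apply le_antisymm hR₁R
    apply resG_le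
    intro x hx hc
    apply mem_of_mem_sup_of_coprime hOp hOR₁ _ hc
    rw [h2]
    exact hx

/-- A Sylow subgroup of `H` inside `M†`. -/
theorem exists_sylow_inf_dagger (hasym : ¬ IsSymmetricIn (largestPReducedOf p M)) {L : Subgroup G}
    (hOL : pCoreOf p M ≤ L) :
    ∃ T : Sylow p ↥L, (T : Subgroup ↥L).map L.subtype ≤ L ⊓ (M ⊔ Subgroup.centralizer (largestPReducedOf p M : Set G)) := by
  obtain ⟨T, hT⟩ := exists_sylow_subgroup_le (K := L) hOL (isPGroup_pCoreOf M)
  refine ⟨T, ?_⟩
  rintro _ ⟨t, ht, rfl⟩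
  refine ⟨t.2, h.normalizer_pCore_le ?_⟩
  exact h.le_normalizer_of_pGroup hasym (isPGroup_map_subtype T) hT ⟨t, ht, rfl⟩

omit h in
theorem card_sylow_eq {K : Subgroup G} (T₁ T₂ : Sylow p ↥K) :
    Nat.card ((T₁ : Subgroup ↥K).map K.subtype) = Nat.card ((T₂ : Subgroup ↥K).map K.subtype) := by
  rw [Subgroup.card_map_of_injective K.subtype_injective, Subgroup.card_map_of_injective K.subtype_injective,
    Sylow.card_eq_multiplicity, Sylow.card_eq_multiplicity]

/-- Every Sylow subgroup of `H ∩ M†` is a Sylow subgroup of `H`. -/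
theorem sylow_inf_dagger_sylow (hasym : ¬ IsSymmetricIn (largestPReducedOf p M)) {L I : Subgroup G}
    (hOL : pCoreOf p M ≤ L) (hI : I = L ⊓ (M ⊔ Subgroup.centralizer (largestPReducedOf p M : Set G)))
    (T : Sylow p ↥I) :
    ∃ P : Sylow p ↥L, (P : Subgroup ↥L).map L.subtype = (T : Subgroup _).map I.subtype := by
  obtain ⟨T₁, hT₁⟩ := h.exists_sylow_inf_dagger hasym hOL
  rw [← hI] at hT₁
  obtain ⟨T₂, hT₂⟩ := exists_sylow_subgroup_le (K := I) hT₁ (isPGroup_map_subtype T₁)
  have hTL : (T : Subgroup ↥I).map I.subtype ≤ L := by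
    have hIL : I ≤ L := by
      rw [hI]
      exact inf_le_left
    rintro _ ⟨x, -, rfl⟩
    exact hIL x.2
  obtain ⟨P, hP⟩ := exists_sylow_subgroup_le (K := L) hTL (isPGroup_map_subtype T)
  refine ⟨P, ?_⟩
  symm
  apply Subgroup.eq_of_le_of_card_ge hP
  rw [card_sylow_eq P T₁, card_sylow_eq T T₂]
  exact Subgroup.card_le_of_le hT₂

/-- Sylow subgroups of `C_G(Y)` are conjugates of `O_p(M)` under `C_G(Y)`. -/
theorem exists_conj_sylow_centralizer {C : Subgroup G}
    (hC : C = Subgroup.centralizer (largestPReducedOf p M : Set G)) (T : Sylow p ↥C) :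
    ∃ z ∈ C, ((T : Subgroup _).map C.subtype).map (MulAut.conj z).toMonoidHom = pCoreOf p M := by
  set T' := (T : Subgroup ↥C).map C.subtype with hT'
  have hT'p : IsPGroup p T' := isPGroup_map_subtype T
  have hT'C : T' ≤ C := by
    rintro _ ⟨x, -, rfl⟩
    exact x.2
  obtain ⟨z, hz, hle⟩ := h.exists_conj_le_pCore hT'p (hC ▸ hT'C)
  refine ⟨z, hC ▸ hz, ?_⟩
  apply Subgroup.eq_of_le_of_card_ge hle
  rw [card_map_conj]
  have hOC : pCoreOf p M ≤ C := hC ▸ pCoreOf_le_centralizer_largestPReducedOf M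
  obtain ⟨T₂, hT₂⟩ := exists_sylow_subgroup_le (K := C) hOC (isPGroup_pCoreOf M)
  rw [hT', card_sylow_eq T T₂]
  exact Subgroup.card_le_of_le hT₂

omit h in
theorem pCoreOf_map_conj (L : Subgroup G) (g : G) :
    pCoreOf p (L.map (MulAut.conj g).toMonoidHom) = (pCoreOf p L).map (MulAut.conj g).toMonoidHom := by
  have key : ∀ (L : Subgroup G) (g : G),
      (pCoreOf p L).map (MulAut.conj g).toMonoidHom ≤ pCoreOf p (L.map (MulAut.conj g).toMonoidHom) := by
    intro L g
    apply le_pCoreOf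
    · exact map_conj_le_map_conj (pCoreOf_le L)
    · exact isPGroup_map_conj (isPGroup_pCoreOf L)
    · rw [← map_conj_normalizer]
      exact map_conj_le_map_conj (pCoreOf_normalized L)
  apply le_antisymm _ (key L g)
  rw [map_conj_le_iff_aux]
  have h1 := key (L.map (MulAut.conj g).toMonoidHom) g⁻¹
  rwa [map_conj_inv_map_conj] at h1

/-- Existence of a member of `ℌ_G(O_p(M))`. -/
theorem exists_frakH (htall : IsCharPTall p (largestPReducedOf p M))
    (hasym : ¬ IsSymmetricIn (largestPReducedOf p M)) : ∃ H : Subgroup G, IsInFrakH p M H := by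
  set Y := largestPReducedOf p M with hY
  set O := pCoreOf p M with hO
  have hYO : Y ≤ O := largestPReducedOf_le_pCoreOf M
  have hOp : IsPGroup p O := isPGroup_pCoreOf M
  -- the family
  let F : Set (Subgroup G) := {X | IsCharP p X ∧ O ≤ X ∧ ¬ Y ≤ pCoreOf p X}
  have hF : F.Nonempty := by
    obtain ⟨T, L, hTL, hL, hYL⟩ := htall
    obtain ⟨z, hz, e⟩ := h.exists_conj_sylow_centralizer rfl T
    have e' : ((T : Subgroup _).map (Subgroup.centralizer ((Y : Subgroup G) : Set G)).subtype).map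
        (MulAut.conj z).toMonoidHom = O := e
    refine ⟨L.map (MulAut.conj z).toMonoidHom, isCharP_map_conj hL z, ?_, ?_⟩
    · rw [← e']
      exact map_conj_le_map_conj hTL
    · rw [pCoreOf_map_conj]
      intro h1
      apply hYL
      have hzY : Y.map (MulAut.conj z⁻¹).toMonoidHom = Y :=
        map_conj_eq_of_mem_normalizer (centralizer_le_normalizer_of_le Y (Subgroup.inv_mem _ hz))
      rw [map_conj_le_iff_aux (A := Y) (B := pCoreOf p L), hzY] at h1
      exact h1
  obtain ⟨H, hHmin⟩ : ∃ H, Minimal (fun X => X ∈ F) H := (Set.toFinite F).exists_minimal hF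
  obtain ⟨⟨hHc, hOH, hYH⟩, hmin⟩ := hHmin
  refine ⟨H, hHc, hOH, hYH, ?_⟩
  -- `Y ≤ O_p(X)` for `O ≤ X < H` of characteristic `p`
  have hcharP : ∀ X : Subgroup G, X < H → O ≤ X → pCoreOf p H ≤ Subgroup.normalizer (X : Set G) →
      Y ≤ pCoreOf p X := by
    intro X hXH hOX hn
    by_contra hc
    have hXF : X ∈ F := ⟨isCharP_of_le hHc hXH.le hn, hOX, hc⟩
    exact hXH.not_ge (hmin hXF hXH.le)
  have hWO := h.pCoreOf_le_normalizer_of_le hasym hOH
  -- the join of the conjugates of `O`
  let K : Subgroup G := ⨆ x : H, O.map (MulAut.conj (x : G)).toMonoidHom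
  have hKH : K ≤ H := by
    apply iSup_le
    rintro x _ ⟨a, ha, rfl⟩
    exact H.mul_mem (H.mul_mem x.2 (hOH ha)) (H.inv_mem x.2)
  have hOK : O ≤ K := by
    have h1 := le_iSup (fun x : H => O.map (MulAut.conj (x : G)).toMonoidHom) 1
    simp only [OneMemClass.coe_one] at h1
    rwa [map_conj_one] at h1
  have hHK : H ≤ Subgroup.normalizer (K : Set G) := by
    intro y hy
    apply mem_normalizer_of_map_conj_le
    show (⨆ x : H, O.map (MulAut.conj (x : G)).toMonoidHom).map _ ≤ _
    rw [Subgroup.map_iSup]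
    apply iSup_le
    intro x
    rw [map_conj_mul]
    exact le_iSup (fun x : H => O.map (MulAut.conj (x : G)).toMonoidHom) ⟨y * x, H.mul_mem hy x.2⟩
  have hKeq : K = H := by
    by_contra hne
    have h1 := hcharP K (lt_of_le_of_ne hKH hne) hOK ((pCoreOf_le H).trans hHK)
    exact hYH (h1.trans (pCoreOf_le_pCoreOf_of_normal hKH hHK))
  intro P hOP hPH
  set W := pCoreOf p H with hW
  have hHW : H ≤ Subgroup.normalizer ((W : Subgroup G) : Set G) := pCoreOf_normalized H
  have hWH : W ≤ H := pCoreOf_le H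
  have hP₁H : P ⊔ W ≤ H := sup_le hPH.le hWH
  have hP₁lt : P ⊔ W < H := by
    apply lt_of_le_of_ne hP₁H
    intro e
    apply hPH.not_ge
    rw [← hKeq]
    apply iSup_le
    intro x
    -- `x = a * w`
    have hx : (x : G) ∈ ((P ⊔ W : Subgroup G) : Set G) := by
      rw [e]
      exact x.2
    rw [Subgroup.coe_mul_of_left_le_normalizer_right P W (hPH.le.trans hHW)] at hx
    obtain ⟨a, ha, w, hw, e'⟩ := Set.mem_mul.mp hx
    rw [← e', ← map_conj_mul, map_conj_eq_of_mem_normalizer (hWO hw)]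
    rintro _ ⟨b, hb, rfl⟩
    exact P.mul_mem (P.mul_mem ha (hOP hb)) (P.inv_mem ha)
  have h1 := hcharP (P ⊔ W) hP₁lt (hOP.trans le_sup_left)
    (le_sup_right.trans Subgroup.le_normalizer)
  exact (le_inf h1 (hYO.trans hOP)).trans (pCoreOf_inf_le le_sup_left)

end BasicSetup

end Cfsg.Agent.H13
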