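import Cfsg.Agent.Lib.H13.AsymH
import Cfsg.Agent.Lib.H12.PReduced3

/-!
Asymmetric `Y_M`: overgroups `H A` with `H ∈ ℌ`, `A` a `p`-group normalized by `H`.
-/

set_option autoImplicit false
set_option linter.style.haveILetI false

namespace Cfsg.Agent.H13

open Cfsg
open scoped commutatorElement Pointwise

variable {G : Type*} [Group G] [Finite G] {p : ℕ} [Fact p.Prime]

namespace BasicSetup

variable {S : Sylow p G} {Q M H X A₀ : Subgroup G} (h : BasicSetup p S Q M)
include h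

/-- `X = H A₀`: `H` is normalized by `O_p(X)`. -/
theorem pCoreOf_le_normalizer_frakH (hasym : ¬ IsSymmetricIn (largestPReducedOf p M))
    (hH : IsInFrakH p M H) (hHX : H ≤ X) :
    pCoreOf p X ≤ Subgroup.normalizer (H : Set G) := by
  set O := pCoreOf p M with hO
  set A := pCoreOf p X with hA
  have hOH : O ≤ H := hH.2.1
  have hAO : A ≤ Subgroup.normalizer (O : Set G) := h.pCoreOf_le_normalizer_of_le hasym (hOH.trans hHX)
  have hXA : X ≤ Subgroup.normalizer (A : Set G) := pCoreOf_normalized X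
  let K : Subgroup G := ⨆ x : H, O.map (MulAut.conj (x : G)).toMonoidHom
  have hKH : K ≤ H := by
    apply iSup_le
    rintro x _ ⟨a, ha, rfl⟩
    exact H.mul_mem (H.mul_mem x.2 (hOH ha)) (H.inv_mem x.2)
  have hOK : O ≤ K := by
    have h1 := le_iSup (fun x : H => O.map (MulAut.conj (x : G)).toMonoidHom) 1
    simp only [OneMemClass.coe_one] at h1
    rwa [map_conj_one] at h1
  have hHK : H ≤ Subgroup.normalizer (K : Set G) := by
    intro y hy
    apply mem_normalizer_of_map_conj_le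
    show (⨆ x : H, O.map (MulAut.conj (x : G)).toMonoidHom).map _ ≤ _
    rw [Subgroup.map_iSup]
    apply iSup_le
    intro x
    rw [map_conj_mul]
    exact le_iSup (fun x : H => O.map (MulAut.conj (x : G)).toMonoidHom) ⟨y * x, H.mul_mem hy x.2⟩
  have hKeq : K = H := frakH_eq_of_normal hH hKH hHK hOK
  intro q hq
  apply mem_normalizer_of_map_conj_le
  rw [← hKeq]
  show (⨆ x : H, O.map (MulAut.conj (x : G)).toMonoidHom).map _ ≤ _
  rw [Subgroup.map_iSup]
  apply iSup_le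
  intro x
  rw [map_conj_mul]
  have e : q * (x : G) = (x : G) * ((x : G)⁻¹ * q * (x : G)) := by group
  have hq' : (x : G)⁻¹ * q * (x : G) ∈ A := by
    have := (Subgroup.mem_normalizer_iff.1 (Subgroup.inv_mem _ (hXA (hHX x.2))) q).1 hq
    simpa using this
  rw [e, ← map_conj_mul, map_conj_eq_of_mem_normalizer (hAO hq')]
  exact le_iSup (fun x : H => O.map (MulAut.conj (x : G)).toMonoidHom) x

omit h in
/-- `O^p(H) = O^p(H A)`. -/
theorem resG_eq_of_sup {A : Subgroup G} (hAp : IsPGroup p A) (hAH : A ≤ Subgroup.normalizer (H : Set G))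
    (hX : X = A ⊔ H) : resG p H = resG p X := by
  apply le_antisymm
  · apply resG_le
    intro x hx hc
    exact mem_resG_of_coprime (by rw [hX]; exact Subgroup.mem_sup_right hx) hc
  · apply resG_le
    intro x hx hc
    refine mem_resG_of_coprime ?_ hc
    rw [hX] at hx
    exact mem_of_mem_sup_of_coprime hAp hAH hx hc

/-- The normal-subgroup part of `p`-irreducibility. -/
theorem resG_le_of_normal (hasym : ¬ IsSymmetricIn (largestPReducedOf p M))
    (hH : IsInFrakH p M H) (hHX : H ≤ X) (hX : X = pCoreOf p X ⊔ H) (N₀ : Subgroup G) (hN₀X : N₀ ≤ X)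
    (hXN : X ≤ Subgroup.normalizer (N₀ : Set G)) :
    resG p H ≤ N₀ ∨ ∀ B : Subgroup G, B ≤ N₀ → IsPGroup p B → B ≤ pCoreOf p X := by
  set Y := largestPReducedOf p M with hY
  set O := pCoreOf p M with hO
  set A := pCoreOf p X with hA
  set W := pCoreOf p H with hW
  have hOH : O ≤ H := hH.2.1
  have hOp : IsPGroup p O := isPGroup_pCoreOf M
  have hAp : IsPGroup p A := isPGroup_pCoreOf X
  have hXA : X ≤ Subgroup.normalizer (A : Set G) := pCoreOf_normalized X
  have hAX : A ≤ X := pCoreOf_le X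
  have hAH : A ≤ Subgroup.normalizer (H : Set G) := h.pCoreOf_le_normalizer_frakH hasym hH hHX
  have hXH : X ≤ Subgroup.normalizer (H : Set G) := by
    rw [hX]
    exact sup_le hAH Subgroup.le_normalizer
  have hHW : H ≤ Subgroup.normalizer (W : Set G) := pCoreOf_normalized H
  have hWA : W ≤ A := pCoreOf_le_pCoreOf_of_normal hHX hXH
  have hAHW : A ⊓ H ≤ W := pCoreOf_inf_le hHX
  set N₂ := (A ⊔ N₀) ⊓ H with hN₂
  have hHN₂ : H ≤ Subgroup.normalizer (N₂ : Set G) := fun y hy =>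
    mem_normalizer_inf (mem_normalizer_sup (hXA (hHX hy)) (hXN (hHX hy))) (Subgroup.le_normalizer hy)
  have hN₂H : N₂ ≤ H := inf_le_right
  have hWN₂ : W ≤ N₂ := le_inf (hWA.trans le_sup_left) (pCoreOf_le H)
  by_cases hc : O ⊔ N₂ = H
  · left
    apply resG_le
    intro x hx hco
    have h1 : x ∈ N₂ := by
      apply mem_of_mem_sup_of_coprime hOp (hOH.trans hHN₂) _ hco
      rw [hc]
      exact hx
    exact mem_of_mem_sup_of_coprime hAp (hAX.trans hXN) h1.1 hco
  right
  have hlt : O ⊔ N₂ < H := lt_of_le_of_ne (sup_le hOH hN₂H) hc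
  have hYA₁ := hH.2.2.2 _ le_sup_left hlt
  set A₁ := pCoreOf p (O ⊔ N₂) with hA₁
  have hA₁n : O ⊔ N₂ ≤ Subgroup.normalizer (A₁ : Set G) := pCoreOf_normalized _
  have hYO : Y ≤ O := largestPReducedOf_le_pCoreOf M
  have hcomm : ∀ n ∈ N₂, ∀ y ∈ Y, ⁅n, y⁆ ∈ W := by
    intro n hn y hy
    have h1 : ⁅n, y⁆ ∈ A₁ := by
      have e : ⁅n, y⁆ = (n * y * n⁻¹) * y⁻¹ := by
        simp only [commutatorElement_def]
      rw [e]
      exact A₁.mul_mem ((Subgroup.mem_normalizer_iff.1 (hA₁n (Subgroup.mem_sup_right hn)) _).1 (hYA₁ hy))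
        (A₁.inv_mem (hYA₁ hy))
    have h2 : ⁅n, y⁆ ∈ N₂ := by
      have e : ⁅n, y⁆ = n * (y * n⁻¹ * y⁻¹) := by
        simp only [commutatorElement_def]
        group
      rw [e]
      exact N₂.mul_mem hn ((Subgroup.mem_normalizer_iff.1 (hHN₂ (hOH (hYO hy))) _).1 (N₂.inv_mem hn))
    have h3 : A₁ ⊓ N₂ ≤ pCoreOf p N₂ := pCoreOf_inf_le le_sup_right
    exact pCoreOf_le_pCoreOf_of_normal hN₂H hHN₂ (h3 ⟨h1, h2⟩)
  -- the centralizer of `N₂ / W` in `H`
  let C₂ : Subgroup G :=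
    { carrier := {z | z ∈ H ∧ ∀ n ∈ N₂, ⁅n, z⁆ ∈ W}
      mul_mem' := by
        rintro a b ⟨ha, ha'⟩ ⟨hb, hb'⟩
        refine ⟨H.mul_mem ha hb, fun n hn => ?_⟩
        have e : ⁅n, a * b⁆ = ⁅n, a⁆ * (a * ⁅n, b⁆ * a⁻¹) := by
          simp only [commutatorElement_def]
          group
        rw [e]
        exact W.mul_mem (ha' n hn) ((Subgroup.mem_normalizer_iff.1 (hHW ha) _).1 (hb' n hn))
      one_mem' := by
        refine ⟨H.one_mem, fun n _ => ?_⟩
        simp [commutatorElement_def, Subgroup.one_mem]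
      inv_mem' := by
        rintro a ⟨ha, ha'⟩
        refine ⟨H.inv_mem ha, fun n hn => ?_⟩
        have e : ⁅n, a⁻¹⁆ = a⁻¹ * ⁅n, a⁆⁻¹ * a⁻¹⁻¹ := by
          simp only [commutatorElement_def]
          group
        rw [e]
        exact (Subgroup.mem_normalizer_iff.1 (Subgroup.inv_mem _ (hHW ha)) _).1 (W.inv_mem (ha' n hn)) }
  have hC₂H : C₂ ≤ H := fun z hz => hz.1
  have hYC₂ : Y ≤ C₂ := fun y hy => ⟨hOH (hYO hy), fun n hn => hcomm n hn y hy⟩
  have hHC₂ : H ≤ Subgroup.normalizer (C₂ : Set G) := by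
    intro l hl
    apply mem_normalizer_of_map_conj_le
    rintro _ ⟨z, ⟨hz, hz'⟩, rfl⟩
    refine ⟨H.mul_mem (H.mul_mem hl hz) (H.inv_mem hl), fun n hn => ?_⟩
    have hn' : l⁻¹ * n * l⁻¹⁻¹ ∈ N₂ := (Subgroup.mem_normalizer_iff.1 (Subgroup.inv_mem _ (hHN₂ hl)) n).1 hn
    have e : ⁅n, (MulAut.conj l).toMonoidHom z⁆ = l * ⁅l⁻¹ * n * l⁻¹⁻¹, z⁆ * l⁻¹ := by
      simp [commutatorElement_def, MulAut.conj_apply]
      group
    rw [e]
    exact (Subgroup.mem_normalizer_iff.1 (hHW hl) _).1 (hz' _ hn')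
  -- `R ≤ C₂`
  have hRC₂ : resG p H ≤ C₂ := by
    obtain ⟨h1, -⟩ := h.frakH_res hH
    have hNC : (Subgroup.normalClosure ((Y.subgroupOf H : Subgroup ↥H) : Set ↥H)).map H.subtype ≤ C₂ := by
      have hKn : (C₂.subgroupOf H).Normal := by
        constructor
        intro x hx g
        rw [Subgroup.mem_subgroupOf] at hx ⊢
        exact (Subgroup.mem_normalizer_iff.1 (hHC₂ g.2) _).1 hx
      have h3 : Subgroup.normalClosure ((Y.subgroupOf H : Subgroup ↥H) : Set ↥H) ≤ C₂.subgroupOf H := by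
        apply Subgroup.normalClosure_le_normal
        intro y hy
        rw [SetLike.mem_coe, Subgroup.mem_subgroupOf] at hy ⊢
        exact hYC₂ hy
      rintro _ ⟨x, hx, rfl⟩
      exact h3 hx
    rw [← hY] at h1
    exact (le_sup_left.trans h1.le).trans hNC
  -- `p`-subgroups of `N₂` lie in `W`
  have hN₂W : ∀ B : Subgroup G, B ≤ N₂ → IsPGroup p B → B ≤ W := by
    intro B hBN hBp
    obtain ⟨S₀, hS₀⟩ := exists_sylow_subgroup_le (K := H) (hBN.trans hN₂H) hBp
    set S' := (S₀ : Subgroup ↥H).map H.subtype with hS'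
    have hS'p : IsPGroup p S' := isPGroup_map_subtype S₀
    have hWS' : W ≤ S' := by
      rintro _ ⟨w, hw, rfl⟩
      exact ⟨w, _root_.Cfsg.Agent.H13.pCore_le_sylow S₀ hw, rfl⟩
    have hN₂R : ∀ n ∈ N₂, ∃ a ∈ S' ⊓ N₂, ∃ c ∈ resG p H ⊓ N₂, n = a * c := by
      intro n hn
      haveI : (N₂.subgroupOf H).Normal := by
        constructor
        intro x hx g
        rw [Subgroup.mem_subgroupOf] at hx ⊢
        exact (Subgroup.mem_normalizer_iff.1 (hHN₂ g.2) _).1 hx
      haveI hRn : (pResidual p ↥H).Normal := pResidual_normal'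
      have hnH : n ∈ H := hN₂H hn
      obtain ⟨a, ⟨ha, ha'⟩, c, ⟨hc', hc''⟩, e⟩ := H12.exists_sylow_mul_of_elementwise S₀ (N₂.subgroupOf H)
        (pResidual p ↥H) (by
          intro d _
          have h1 := (isPGroup_quotient_pResidual (p := p) (G := ↥H)) (d : ↥H ⧸ pResidual p ↥H)
          obtain ⟨k, hk⟩ := h1
          refine ⟨k, ?_⟩
          rw [← QuotientGroup.eq_one_iff, QuotientGroup.mk_pow]
          exact hk) ⟨n, hnH⟩ hn
      refine ⟨a, ⟨⟨a, ha, rfl⟩, ha'⟩, c, ⟨⟨c, hc', rfl⟩, hc''⟩, ?_⟩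
      exact congrArg Subtype.val e
    have hS'N : N₂ ≤ Subgroup.normalizer ((S' ⊓ N₂ : Subgroup G) : Set G) := by
      intro n hn
      apply mem_normalizer_of_map_conj_le
      obtain ⟨a, ha, c, hc', rfl⟩ := hN₂R n hn
      rintro _ ⟨s, hs, rfl⟩
      have hc2 : ⁅s, c⁆ ∈ W := (hRC₂ hc'.1).2 s hs.2
      have e : (MulAut.conj (a * c)).toMonoidHom s = a * (⁅s, c⁆⁻¹ * s) * a⁻¹ := by
        simp [commutatorElement_def, MulAut.conj_apply]
        group
      rw [e]
      have hin : ⁅s, c⁆⁻¹ * s ∈ S' ⊓ N₂ :=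
        Subgroup.mul_mem _ ⟨S'.inv_mem (hWS' hc2), N₂.inv_mem (hWN₂ hc2)⟩ hs
      exact Subgroup.mul_mem _ (Subgroup.mul_mem _ ha hin) (Subgroup.inv_mem _ ha)
    have h1 : S' ⊓ N₂ ≤ pCoreOf p N₂ := le_pCoreOf inf_le_right (hS'p.to_le inf_le_left) hS'N
    have h2 : B ≤ S' ⊓ N₂ := le_inf hS₀ hBN
    exact (h2.trans h1).trans (pCoreOf_le_pCoreOf_of_normal hN₂H hHN₂)
  intro B hBN hBp
  -- `X = A H`
  have hBA : IsPGroup p (A ⊔ B : Subgroup G) :=
    IsPGroup.to_sup_of_normal_left' hAp hBp ((hBN.trans hN₀X).trans hXA)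
  have hB₂ : (A ⊔ B) ⊓ H ≤ W := hN₂W _ (inf_le_inf_right _ (sup_le_sup_left hBN _)) (hBA.to_le inf_le_left)
  intro t ht
  have htX : t ∈ X := hN₀X (hBN ht)
  have ht' : t ∈ ((A ⊔ H : Subgroup G) : Set G) := by
    rw [← hX]
    exact htX
  rw [Subgroup.coe_mul_of_left_le_normalizer_right A H hAH] at ht'
  obtain ⟨a, ha, l, hl, e⟩ := Set.mem_mul.mp ht'
  have hl' : l = a⁻¹ * t := by rw [← e]; group
  have hlA : l ∈ A := by
    apply hWA
    apply hB₂
    refine ⟨?_, hl⟩
    rw [hl']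
    exact Subgroup.mul_mem _ (Subgroup.mem_sup_left (A.inv_mem ha)) (Subgroup.mem_sup_right ht)
  rw [← e]
  exact A.mul_mem ha hlA

/-- `H A₀` is `p`-irreducible. -/
theorem isPIrreducible_frakH (hasym : ¬ IsSymmetricIn (largestPReducedOf p M))
    (hH : IsInFrakH p M H) (hHX : H ≤ X) (hX : X = pCoreOf p X ⊔ H) : IsPIrreducible p ↥X := by
  have hAH : pCoreOf p X ≤ Subgroup.normalizer (H : Set G) := h.pCoreOf_le_normalizer_frakH hasym hH hHX
  have hXH : X ≤ Subgroup.normalizer (H : Set G) := by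
    rw [hX]
    exact sup_le hAH Subgroup.le_normalizer
  have hOX : pCoreOf p M ≤ X := hH.2.1.trans hHX
  constructor
  · intro hc
    obtain ⟨T, hT⟩ := exists_sylow_subgroup_le (K := X) hOX (isPGroup_pCoreOf M)
    haveI : (T : Subgroup ↥X).Normal := hc T
    have h1 : (T : Subgroup ↥X).map X.subtype ≤ pCoreOf p X := by
      apply le_pCoreOf _ (isPGroup_map_subtype T)
      · intro x hx
        apply mem_normalizer_of_map_conj_le
        rintro _ ⟨_, ⟨t, ht, rfl⟩, rfl⟩
        have := (inferInstance : (T : Subgroup ↥X).Normal).conj_mem t ht ⟨x, hx⟩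
        exact ⟨_, this, rfl⟩
      · rintro _ ⟨t, -, rfl⟩
        exact t.2
    have h2 : largestPReducedOf p M ≤ pCoreOf p X ⊓ H :=
      le_inf ((largestPReducedOf_le_pCoreOf M).trans (hT.trans h1))
        ((largestPReducedOf_le_pCoreOf M).trans hH.2.1)
    exact hH.2.2.1 (h2.trans (pCoreOf_inf_le hHX))
  · intro N hN hNc
    set N₀ := N.map X.subtype with hN₀
    have hN₀X : N₀ ≤ X := Subgroup.map_subtype_le _
    have hXN : X ≤ Subgroup.normalizer (N₀ : Set G) := by
      intro x hx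
      apply mem_normalizer_of_map_conj_le
      rintro _ ⟨_, ⟨n, hn, rfl⟩, rfl⟩
      exact ⟨_, hN.conj_mem n hn ⟨x, hx⟩, rfl⟩
    rcases h.resG_le_of_normal hasym hH hHX hX N₀ hN₀X hXN with h1 | h1
    · have h2 : resG p X ≤ N₀ := by
        rw [← resG_eq_of_sup (isPGroup_pCoreOf X) hAH hX]
        exact h1
      intro z hz
      obtain ⟨n, hn, e⟩ := h2 ⟨z, hz, rfl⟩
      have : n = z := Subtype.ext e
      rwa [← this]
    · exfalso
      apply hNc
      intro T
      -- `T` lies in the normal `p`-subgroup `O_p(X) ∩ N`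
      set A := pCoreOf p X with hA
      let D : Subgroup ↥N := (A.subgroupOf X).subgroupOf N
      haveI hAn : (A.subgroupOf X).Normal := by
        constructor
        intro x hx g
        rw [Subgroup.mem_subgroupOf] at hx ⊢
        exact (Subgroup.mem_normalizer_iff.1 (pCoreOf_normalized X g.2) _).1 hx
      haveI hDn : D.Normal := Subgroup.normal_subgroupOf
      have hDp : IsPGroup p D := by
        intro x
        obtain ⟨k, hk⟩ := isPGroup_pCoreOf (p := p) X ⟨(((x : ↥N) : ↥X) : G), x.2⟩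
        refine ⟨k, ?_⟩
        apply Subtype.ext
        apply Subtype.ext
        apply Subtype.ext
        simpa using congrArg Subtype.val hk
      have hTp : IsPGroup p (((T : Subgroup ↥N).map N.subtype).map X.subtype) :=
        (T.2.map _).map _
      have hTN₀ : ((T : Subgroup ↥N).map N.subtype).map X.subtype ≤ N₀ := by
        rintro _ ⟨_, ⟨t, -, rfl⟩, rfl⟩
        exact ⟨t, t.2, rfl⟩
      have hTA := h1 _ hTN₀ hTp
      have hTD : (T : Subgroup ↥N) ≤ D := by
        intro t ht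
        rw [Subgroup.mem_subgroupOf, Subgroup.mem_subgroupOf]
        exact hTA ⟨_, ⟨t, ht, rfl⟩, rfl⟩
      have e : D = T := T.is_maximal' hDp hTD
      show (T : Subgroup ↥N).Normal
      rw [← e]
      exact hDn

end BasicSetup

end Cfsg.Agent.H13
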