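import Cfsg.Agent.Lib.H13.BasicProp
import Cfsg.Agent.Lib.H12.PReduced3

/-!
Asymmetric `Y_M`: `O_p(M)` is weakly closed, and consequences.
-/

set_option autoImplicit false
set_option linter.style.haveILetI false

namespace Cfsg.Agent.H13

open Cfsg
open scoped commutatorElement Pointwise

variable {G : Type*} [Group G] [Finite G] {p : ℕ} [Fact p.Prime]

/-- `Y_L ≠ 1` for `L ∈ 𝓛_G`. -/
theorem largestPReducedOf_ne_bot {L : Subgroup G} (hL : L ∈ charPSubgroups p G) :
    largestPReducedOf p L ≠ ⊥ := by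
  have hp : p.Prime := Fact.out
  have hO1 : pCore p ↥L ≠ ⊥ := hL.1
  have hchar : Subgroup.centralizer (pCore p ↥L : Set ↥L) ≤ pCore p ↥L := by
    apply (isCharP_subgroup_iff L).2
    rintro x ⟨-, hx⟩
    exact hL.2 hx
  obtain ⟨S₀⟩ : Nonempty (Sylow p ↥L) := inferInstance
  have hS₀ : (S₀ : Subgroup ↥L) ≠ ⊥ := by
    intro h0
    apply hO1
    have := pCore_le_sylow (p := p) S₀
    rw [h0] at this
    exact le_bot_iff.1 this
  haveI : Nontrivial (S₀ : Subgroup ↥L) := (Subgroup.nontrivial_iff_ne_bot _).2 hS₀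
  haveI : Nontrivial (Subgroup.center (S₀ : Subgroup ↥L)) := by
    have := S₀.2.center_nontrivial
    exact this
  have hZp : IsPGroup p (Subgroup.center (S₀ : Subgroup ↥L)) := S₀.2.to_subgroup _
  obtain ⟨u, hu⟩ : ∃ u : Subgroup.center (S₀ : Subgroup ↥L), orderOf u = p := by
    obtain ⟨k, hk⟩ := IsPGroup.iff_card.1 hZp
    have hdvd : p ∣ Nat.card (Subgroup.center (S₀ : Subgroup ↥L)) := by
      rw [hk]
      have : k ≠ 0 := by
        rintro rfl
        have h2 := Finite.one_lt_card (α := Subgroup.center (S₀ : Subgroup ↥L))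
        rw [hk, pow_zero] at h2
        exact lt_irrefl _ h2
      exact dvd_pow_self p this
    exact exists_prime_orderOf_dvd_card' p hdvd
  set w : ↥L := ((u : (S₀ : Subgroup ↥L)) : ↥L) with hw
  have hwS : w ∈ (S₀ : Subgroup ↥L) := (u : (S₀ : Subgroup ↥L)).2
  have hwc : ∀ y ∈ (S₀ : Subgroup ↥L), y * w = w * y := by
    intro y hy
    have h1 := (Subgroup.mem_center_iff.1 u.2) ⟨y, hy⟩
    exact congrArg Subtype.val h1
  have hwp : w ^ p = 1 := by
    have h1 : (u : (S₀ : Subgroup ↥L)) ^ p = 1 := by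
      have := pow_orderOf_eq_one u
      rw [hu] at this
      exact congrArg Subtype.val this
    exact congrArg Subtype.val h1
  have hw1 : w ≠ 1 := by
    intro h0
    have h1 : u = 1 := by
      apply Subtype.ext
      apply Subtype.ext
      exact h0
    rw [h1, orderOf_one] at hu
    exact hp.one_lt.ne hu
  have h1 : (w : G) ∈ sylowCenterClosure p L := H12.le_sylowCenterClosure L S₀ hwS hwc hwp
  have h2 : IsPReducedNormal p ((sylowCenterClosure p L).subgroupOf L) :=
    H12.sylowCenterClosure_pReduced hchar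
  have h3 : (sylowCenterClosure p L).subgroupOf L ≤ largestPReduced p ↥L := le_sSup h2
  intro h0
  have h4 : (w : G) ∈ largestPReducedOf p L := ⟨w, h3 h1, rfl⟩
  rw [h0, Subgroup.mem_bot] at h4
  exact hw1 (Subtype.ext h4)

omit [Finite G] [Fact p.Prime] in
theorem map_conj_le_iff_aux {g : G} {A B : Subgroup G} :
    A ≤ B.map (MulAut.conj g).toMonoidHom ↔ A.map (MulAut.conj g⁻¹).toMonoidHom ≤ B := by
  rw [map_conj_le_iff, inv_inv]

/-- The standing hypotheses of the section on large subgroups. -/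
structure BasicSetup (p : ℕ) [Fact p.Prime] (S : Sylow p G) (Q M : Subgroup G) : Prop where
  hQp : IsPGroup p Q
  hQ1 : Q ≠ ⊥
  hQS : Q ≤ (S : Subgroup G)
  hQ : IsLarge Q
  hSM : (S : Subgroup G) ≤ M
  hM : IsInFrakM p M

namespace BasicSetup

variable {S : Sylow p G} {Q M : Subgroup G} (h : BasicSetup p S Q M)
include h

theorem pCore_le_sylow : pCoreOf p M ≤ (S : Subgroup G) := by
  have hsup : IsPGroup p ((S : Subgroup G) ⊔ pCoreOf p M : Subgroup G) :=
    IsPGroup.to_sup_of_normal_right' S.2 (isPGroup_pCoreOf M) (h.hSM.trans (pCoreOf_normalized M))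
  exact (S.is_maximal' hsup le_sup_left) ▸ le_sup_right

theorem pCore_ne_bot : pCoreOf p M ≠ ⊥ := pCoreOf_ne_bot h.hM.1.1

theorem Y_ne_bot : largestPReducedOf p M ≠ ⊥ := largestPReducedOf_ne_bot h.hM.1

/-- `p`-subgroups of `C_M(Y)` lie in `O_p(M)`. -/
theorem le_pCore_of_le_inf {B : Subgroup G}
    (hB : B ≤ M ⊓ Subgroup.centralizer (largestPReducedOf p M : Set G)) (hBp : IsPGroup p B) :
    B ≤ pCoreOf p M := by
  set Y := largestPReducedOf p M with hY
  set A := M ⊓ Subgroup.centralizer ((Y : Subgroup G) : Set G) with hA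
  have hclosed : IsPClosed p ↥A := h.hM.2.2.2.2.1
  obtain ⟨R⟩ : Nonempty (Sylow p ↥A) := inferInstance
  set R₀ : Subgroup G := (R : Subgroup ↥A).map A.subtype with hR₀
  have hR₀p : IsPGroup p R₀ := isPGroup_map_subtype R
  have hR₀A : R₀ ≤ A := by
    rintro _ ⟨x, -, rfl⟩
    exact x.2
  have hsub : ∀ B : Subgroup G, B ≤ A → IsPGroup p B → B ≤ R₀ := by
    intro B hBA hB
    obtain ⟨T, hT⟩ := exists_sylow_subgroup_le (K := A) hBA hB
    haveI : ((T : Subgroup ↥A)).Normal := hclosed T
    have h1 : (T : Subgroup ↥A) ≤ R := T.2.le_sylow_of_normal R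
    exact hT.trans (Subgroup.map_mono h1)
  have hMA : M ≤ Subgroup.normalizer (A : Set G) := by
    intro m hm
    apply mem_normalizer_of_map_conj_eq
    rw [hA, map_conj_inf, map_conj_centralizer,
      map_conj_eq_of_mem_normalizer (Subgroup.le_normalizer hm),
      map_conj_eq_of_mem_normalizer (le_normalizer_largestPReducedOf M hm)]
  have hR₀P : R₀ ≤ pCoreOf p M := by
    apply le_pCoreOf (hR₀A.trans inf_le_left) hR₀p
    intro m hm
    apply mem_normalizer_of_map_conj_le
    apply hsub _ _ (isPGroup_map_conj hR₀p)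
    have h2 := Subgroup.map_mono (f := (MulAut.conj m).toMonoidHom) hR₀A
    rwa [map_conj_eq_of_mem_normalizer (hMA hm)] at h2
  exact (hsub B hB hBp).trans hR₀P

/-- Elements of `M†`. -/
theorem exists_mul_of_mem_dagger {d : G}
    (hd : d ∈ M ⊔ Subgroup.centralizer (largestPReducedOf p M : Set G)) :
    ∃ m ∈ M, ∃ z ∈ Subgroup.centralizer (largestPReducedOf p M : Set G), d = m * z := by
  have hMC : M ≤ Subgroup.normalizer
      ((Subgroup.centralizer ((largestPReducedOf p M : Subgroup G) : Set G) : Subgroup G) : Set G) :=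
    le_sup_left.trans (dagger_le_normalizer_centralizer_Y M)
  have hd' : d ∈ ((M ⊔ Subgroup.centralizer ((largestPReducedOf p M : Subgroup G) : Set G) :
      Subgroup G) : Set G) := hd
  rw [Subgroup.coe_mul_of_left_le_normalizer_right M _ hMC] at hd'
  obtain ⟨m, hm, z, hz, rfl⟩ := Set.mem_mul.mp hd'
  exact ⟨m, hm, z, hz, rfl⟩

/-- A `p`-subgroup of `C_G(Y)` is `C_G(Y)`-conjugate into `O_p(M)`. -/
theorem exists_conj_le_pCore {P : Subgroup G} (hPp : IsPGroup p P)
    (hPC : P ≤ Subgroup.centralizer (largestPReducedOf p M : Set G)) :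
    ∃ z ∈ Subgroup.centralizer (largestPReducedOf p M : Set G),
      P.map (MulAut.conj z).toMonoidHom ≤ pCoreOf p M := by
  set Y := largestPReducedOf p M with hY
  set D := M ⊔ Subgroup.centralizer ((Y : Subgroup G) : Set G) with hD
  have hSD : (S : Subgroup G) ≤ D := h.hSM.trans le_sup_left
  have hPD : P ≤ D := hPC.trans le_sup_right
  obtain ⟨T, hT⟩ := exists_sylow_subgroup_le (K := D) hPD hPp
  obtain ⟨c, hc⟩ := MulAction.exists_smul_eq D T (S.subtype hSD)
  have hc' : ((S.subtype hSD : Sylow p D) : Subgroup D).map D.subtype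
      = ((T : Subgroup D).map D.subtype).map (MulAut.conj (c : G)).toMonoidHom := by
    rw [← hc, ← map_subtype_conj]
    rfl
  have hS' : ((S.subtype hSD : Sylow p D) : Subgroup D).map D.subtype = S := by
    rw [Sylow.coe_subtype, Subgroup.subgroupOf_map_subtype]
    exact inf_eq_left.2 hSD
  rw [hS'] at hc'
  obtain ⟨m, hm, z, hz, e⟩ := h.exists_mul_of_mem_dagger c.2
  refine ⟨z, hz, ?_⟩
  apply h.le_pCore_of_le_inf _ (isPGroup_map_conj hPp)
  rintro _ ⟨x, hx, rfl⟩
  have hxC := hPC hx
  refine Subgroup.mem_inf.2 ⟨?_, ?_⟩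
  · have h1 : (c : G) * x * (c : G)⁻¹ ∈ (S : Subgroup G) := by
      rw [hc']
      exact ⟨x, hT hx, rfl⟩
    have h2 : (c : G) * x * (c : G)⁻¹ ∈ M := h.hSM h1
    rw [e] at h2
    have h3 : (MulAut.conj z).toMonoidHom x = m⁻¹ * (m * z * x * (m * z)⁻¹) * m := by
      simp [MulAut.conj_apply]
      group
    rw [h3]
    exact M.mul_mem (M.mul_mem (M.inv_mem hm) h2) hm
  · exact Subgroup.mul_mem _ (Subgroup.mul_mem _ hz hxC) (Subgroup.inv_mem _ hz)

/-- `O_p(M)` is maximal among the `p`-subgroups of `C_G(Y)`. -/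
theorem eq_of_le_centralizer {P : Subgroup G} (hPp : IsPGroup p P) (hOP : pCoreOf p M ≤ P)
    (hPC : P ≤ Subgroup.centralizer (largestPReducedOf p M : Set G)) : P = pCoreOf p M := by
  obtain ⟨z, -, hz⟩ := h.exists_conj_le_pCore hPp hPC
  have h1 := Subgroup.card_le_of_le hz
  rw [card_map_conj] at h1
  exact (Subgroup.eq_of_le_of_card_ge hOP h1).symm

/-- `N_G(O_p(M)) ≤ M†`. -/
theorem normalizer_pCore_le :
    Subgroup.normalizer (pCoreOf p M : Set G)
      ≤ M ⊔ Subgroup.centralizer (largestPReducedOf p M : Set G) :=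
  normalizer_le_dagger h.hQp h.hQ1 h.hQ (h.hQS.trans h.hSM) h.hM h.pCore_ne_bot (isPGroup_pCoreOf M)
    (pCoreOf_normalized M)

theorem normalizer_pCore_le_normalizer_Y :
    Subgroup.normalizer (pCoreOf p M : Set G) ≤ Subgroup.normalizer (largestPReducedOf p M : Set G) :=
  h.normalizer_pCore_le.trans (dagger_le_normalizer_Y M)

theorem map_conj_Y_eq {g₁ g₂ : G} (he : (pCoreOf p M).map (MulAut.conj g₁).toMonoidHom
      = (pCoreOf p M).map (MulAut.conj g₂).toMonoidHom) :
    (largestPReducedOf p M).map (MulAut.conj g₁).toMonoidHom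
      = (largestPReducedOf p M).map (MulAut.conj g₂).toMonoidHom := by
  have h1 : g₂⁻¹ * g₁ ∈ Subgroup.normalizer (pCoreOf p M : Set G) := by
    apply mem_normalizer_of_map_conj_eq
    rw [← map_conj_mul, he, map_conj_inv_map_conj]
  have h2 := map_conj_eq_of_mem_normalizer (h.normalizer_pCore_le_normalizer_Y h1)
  rw [← map_conj_mul] at h2
  have h3 := congrArg (fun R => R.map (MulAut.conj g₂).toMonoidHom) h2
  simpa only [map_conj_map_conj_inv] using h3

/-- `N_G(O_g) ≤ N_G(Y_g)`. -/
theorem normalizer_conj_pCore_le (g : G) :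
    Subgroup.normalizer (((pCoreOf p M).map (MulAut.conj g).toMonoidHom : Subgroup G) : Set G)
      ≤ Subgroup.normalizer (((largestPReducedOf p M).map (MulAut.conj g).toMonoidHom : Subgroup G) : Set G) := by
  rw [← map_conj_normalizer, ← map_conj_normalizer]
  exact Subgroup.map_mono h.normalizer_pCore_le_normalizer_Y

/-- One step of the walk. -/
theorem Y_le_of_normalize (hasym : ¬ IsSymmetricIn (largestPReducedOf p M)) {g : G}
    (h1 : largestPReducedOf p M ≤ Subgroup.normalizer
      (((largestPReducedOf p M).map (MulAut.conj g).toMonoidHom : Subgroup G) : Set G))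
    (h2 : (largestPReducedOf p M).map (MulAut.conj g).toMonoidHom ≤
      Subgroup.normalizer (largestPReducedOf p M : Set G))
    (h3 : largestPReducedOf p M ≤ Subgroup.normalizer
      (((pCoreOf p M).map (MulAut.conj g).toMonoidHom : Subgroup G) : Set G)) :
    largestPReducedOf p M ≤ (pCoreOf p M).map (MulAut.conj g).toMonoidHom := by
  set Y := largestPReducedOf p M with hY
  set O := pCoreOf p M with hO
  have hYO : Y ≤ O := largestPReducedOf_le_pCoreOf M
  have hOC : O ≤ Subgroup.centralizer ((Y : Subgroup G) : Set G) :=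
    pCoreOf_le_centralizer_largestPReducedOf M
  have hOp : IsPGroup p O := isPGroup_pCoreOf M
  have hYp : IsPGroup p Y := hOp.to_le hYO
  have hc : ⁅Y, Y.map (MulAut.conj g).toMonoidHom⁆ ≤ Y ⊓ Y.map (MulAut.conj g).toMonoidHom :=
    commutator_le_inf_of_normalize h1 h2
  have hb : ⁅Y, Y.map (MulAut.conj g).toMonoidHom⁆ = ⊥ := by
    by_contra hne
    exact hasym ⟨g, hne, hc⟩
  have hYC : Y ≤ Subgroup.centralizer ((Y.map (MulAut.conj g).toMonoidHom : Subgroup G) : Set G) :=
    Subgroup.commutator_eq_bot_iff_le_centralizer.1 hb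
  have hYC' : Y.map (MulAut.conj g⁻¹).toMonoidHom ≤ Subgroup.centralizer ((Y : Subgroup G) : Set G) := by
    rw [map_conj_le_iff, inv_inv, map_conj_centralizer]
    exact hYC
  have h3' : Y.map (MulAut.conj g⁻¹).toMonoidHom ≤ Subgroup.normalizer ((O : Subgroup G) : Set G) := by
    rw [map_conj_le_iff, inv_inv, map_conj_normalizer]
    exact h3
  have hPp : IsPGroup p (Y.map (MulAut.conj g⁻¹).toMonoidHom ⊔ O : Subgroup G) :=
    IsPGroup.to_sup_of_normal_right' (isPGroup_map_conj hYp) hOp h3'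
  have hP := h.eq_of_le_centralizer hPp le_sup_right (sup_le hYC' hOC)
  have h4 : Y.map (MulAut.conj g⁻¹).toMonoidHom ≤ O := le_sup_left.trans hP.le
  have h5 := Subgroup.map_mono (f := (MulAut.conj g).toMonoidHom) h4
  rwa [map_conj_map_conj_inv] at h5

/-- The set of conjugators making a conjugate of `O` adjacent to `O`. -/
def _root_.Cfsg.Agent.H13.adjConj (p : ℕ) (M : Subgroup G) : Set G :=
  {g | pCoreOf p M ≤ Subgroup.normalizer (((pCoreOf p M).map (MulAut.conj g).toMonoidHom : Subgroup G) : Set G) ∧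
    (pCoreOf p M).map (MulAut.conj g).toMonoidHom ≤ Subgroup.normalizer (pCoreOf p M : Set G)}

omit h in
theorem adjConj_inv {g : G} (hg : g ∈ adjConj p M) : g⁻¹ ∈ adjConj p M := by
  obtain ⟨h1, h2⟩ := hg
  constructor
  · rw [← map_conj_normalizer, ← map_conj_le_iff]
    exact h2
  · rw [map_conj_le_iff, inv_inv, map_conj_normalizer]
    exact h1

/-- Walk lemma: for `g` a product of `n` adjacency steps, `Y ≤ O_g`. -/
theorem Y_le_of_mem_pow (hasym : ¬ IsSymmetricIn (largestPReducedOf p M)) (n : ℕ) :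
    ∀ g ∈ (adjConj p M) ^ n, largestPReducedOf p M ≤ (pCoreOf p M).map (MulAut.conj g).toMonoidHom := by
  have hinv : (adjConj p M)⁻¹ = adjConj p M := by
    ext x
    constructor
    · intro hx
      have := adjConj_inv (p := p) (M := M) (Set.mem_inv.1 hx)
      rwa [inv_inv] at this
    · intro hx
      exact Set.mem_inv.2 (adjConj_inv hx)
  have hYO : largestPReducedOf p M ≤ pCoreOf p M := largestPReducedOf_le_pCoreOf M
  induction n with
  | zero =>
    intro g hg
    rw [pow_zero, Set.mem_one] at hg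
    subst hg
    rw [map_conj_one]
    exact hYO
  | succ n ih =>
    intro g hg
    have hg' : g⁻¹ ∈ (adjConj p M) ^ (n + 1) := by
      have : g⁻¹ ∈ ((adjConj p M) ^ (n + 1))⁻¹ := Set.inv_mem_inv.2 hg
      rwa [← inv_pow, hinv] at this
    rw [pow_succ] at hg hg'
    obtain ⟨a, ha, t, ht, rfl⟩ := Set.mem_mul.1 hg
    obtain ⟨b, hb, s, hs, es⟩ := Set.mem_mul.1 hg'
    have h1 := ih a ha
    have h2 := ih b hb
    -- `O_a` normalizes `O_{a t}`
    have h3 : (pCoreOf p M).map (MulAut.conj a).toMonoidHom ≤ Subgroup.normalizer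
        (((pCoreOf p M).map (MulAut.conj (a * t)).toMonoidHom : Subgroup G) : Set G) := by
      rw [← map_conj_mul, ← map_conj_normalizer]
      exact Subgroup.map_mono ht.1
    apply h.Y_le_of_normalize hasym
    · exact (h1.trans h3).trans (h.normalizer_conj_pCore_le _)
    · -- `Y_g ≤ O_{g b} ` and `g b = s⁻¹`
      have h4 : (largestPReducedOf p M).map (MulAut.conj (a * t)).toMonoidHom ≤
          (pCoreOf p M).map (MulAut.conj s⁻¹).toMonoidHom := by
        have e : s⁻¹ = (a * t) * b := by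
          have e1 : (a * t) * (b * s) = 1 := by rw [es]; group
          have e2 : (a * t) * b = s⁻¹ := by
            rw [eq_inv_iff_mul_eq_one]
            rw [mul_assoc]
            exact e1
          exact e2.symm
        rw [e, ← map_conj_mul (a * t) b]
        exact map_conj_le_map_conj h2
      exact h4.trans ((adjConj_inv hs).2.trans h.normalizer_pCore_le_normalizer_Y)
    · exact h1.trans h3

/-- The adjacency lemma: mutually normalizing conjugates of `O_p(M)` are equal. -/
theorem conj_eq_of_adj (hasym : ¬ IsSymmetricIn (largestPReducedOf p M)) {g : G}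
    (hg : g ∈ adjConj p M) : (pCoreOf p M).map (MulAut.conj g).toMonoidHom = pCoreOf p M := by
  set Y := largestPReducedOf p M with hY
  set O := pCoreOf p M with hO
  set D := M ⊔ Subgroup.centralizer ((Y : Subgroup G) : Set G) with hD
  have hYO : Y ≤ O := largestPReducedOf_le_pCoreOf M
  have hOC : O ≤ Subgroup.centralizer ((Y : Subgroup G) : Set G) :=
    pCoreOf_le_centralizer_largestPReducedOf M
  have hOp : IsPGroup p O := isPGroup_pCoreOf M
  set H := Subgroup.closure (adjConj p M) with hHdef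
  have hpow : ∀ x ∈ H, ∃ n : ℕ, x ∈ (adjConj p M) ^ n := by
    intro x hx
    induction hx using Subgroup.closure_induction with
    | mem x hx => exact ⟨1, by rwa [pow_one]⟩
    | one => exact ⟨0, by rw [pow_zero, Set.mem_one]⟩
    | mul x y _ _ hx hy =>
      obtain ⟨a, ha⟩ := hx
      obtain ⟨b, hb⟩ := hy
      exact ⟨a + b, by rw [pow_add]; exact Set.mul_mem_mul ha hb⟩
    | inv x _ hx =>
      obtain ⟨a, ha⟩ := hx
      refine ⟨a, ?_⟩
      have hinv : (adjConj p M)⁻¹ = adjConj p M := by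
        ext x
        constructor
        · intro hx
          have := adjConj_inv (p := p) (M := M) (Set.mem_inv.1 hx)
          rwa [inv_inv] at this
        · intro hx
          exact Set.mem_inv.2 (adjConj_inv hx)
      have : x⁻¹ ∈ ((adjConj p M) ^ a)⁻¹ := Set.inv_mem_inv.2 ha
      rwa [← inv_pow, hinv] at this
  have hYH : ∀ x ∈ H, Y ≤ O.map (MulAut.conj x).toMonoidHom := by
    intro x hx
    obtain ⟨n, hn⟩ := hpow x hx
    exact h.Y_le_of_mem_pow hasym n x hn
  have hYH' : ∀ x ∈ H, Y.map (MulAut.conj x).toMonoidHom ≤ O := by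
    intro x hx
    rw [map_conj_le_iff]
    exact hYH _ (H.inv_mem hx)
  let W : Subgroup G := ⨆ x : H, Y.map (MulAut.conj (x : G)).toMonoidHom
  have hWO : W ≤ O := iSup_le (fun x => hYH' x x.2)
  have hYW : Y ≤ W := by
    have h1 := le_iSup (fun x : H => Y.map (MulAut.conj (x : G)).toMonoidHom) 1
    simp only [OneMemClass.coe_one] at h1
    rwa [map_conj_one] at h1
  have hWH : H ≤ Subgroup.normalizer (W : Set G) := by
    intro y hy
    apply mem_normalizer_of_map_conj_le
    show (⨆ x : H, Y.map (MulAut.conj (x : G)).toMonoidHom).map _ ≤ _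
    rw [Subgroup.map_iSup]
    apply iSup_le
    intro x
    rw [map_conj_mul]
    exact le_iSup (fun x : H => Y.map (MulAut.conj (x : G)).toMonoidHom) ⟨y * x, H.mul_mem hy x.2⟩
  have hNH : Subgroup.normalizer (O : Set G) ≤ H := by
    intro x hx
    apply Subgroup.subset_closure
    have e := map_conj_eq_of_mem_normalizer hx
    constructor
    · show O ≤ Subgroup.normalizer ((O.map (MulAut.conj x).toMonoidHom : Subgroup G) : Set G)
      rw [e]
      exact Subgroup.le_normalizer
    · show O.map (MulAut.conj x).toMonoidHom ≤ Subgroup.normalizer (O : Set G)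
      rw [e]
      exact Subgroup.le_normalizer
  have hW1 : W ≠ ⊥ := by
    intro h0
    apply h.Y_ne_bot
    rw [← hY]
    rw [h0] at hYW
    exact le_bot_iff.1 hYW
  have hMW : M ≤ Subgroup.normalizer (W : Set G) :=
    (pCoreOf_normalized M).trans (hNH.trans hWH)
  have hWD : Subgroup.normalizer (W : Set G) ≤ D :=
    normalizer_le_dagger h.hQp h.hQ1 h.hQ (h.hQS.trans h.hSM) h.hM hW1 (hOp.to_le hWO) hMW
  have hgD : g ∈ D := hWD (hWH (Subgroup.subset_closure hg))
  have hgY : Y.map (MulAut.conj g).toMonoidHom = Y :=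
    map_conj_eq_of_mem_normalizer (dagger_le_normalizer_Y M hgD)
  have hO'C : O.map (MulAut.conj g).toMonoidHom ≤ Subgroup.centralizer ((Y : Subgroup G) : Set G) := by
    have h1 := Subgroup.map_mono (f := (MulAut.conj g).toMonoidHom) hOC
    rwa [map_conj_centralizer, hgY] at h1
  have hPp : IsPGroup p (O.map (MulAut.conj g).toMonoidHom ⊔ O : Subgroup G) :=
    IsPGroup.to_sup_of_normal_right' (isPGroup_map_conj hOp) hOp hg.2
  have hP := h.eq_of_le_centralizer hPp le_sup_right (sup_le hO'C hOC)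
  have h4 : O.map (MulAut.conj g).toMonoidHom ≤ O := le_sup_left.trans hP.le
  exact Subgroup.eq_of_le_of_card_ge h4 (by rw [card_map_conj])

/-- A `p`-subgroup containing `O_p(M)` normalizes it. -/
theorem le_normalizer_of_pGroup (hasym : ¬ IsSymmetricIn (largestPReducedOf p M)) {P : Subgroup G}
    (hP : IsPGroup p P) (hOP : pCoreOf p M ≤ P) : P ≤ Subgroup.normalizer (pCoreOf p M : Set G) := by
  by_contra hn
  obtain ⟨k, -, h1, h2, h3⟩ := exists_conj_normalize_of_not_normal hP hOP hn
  exact h1 (h.conj_eq_of_adj hasym ⟨h2, h3⟩)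

/-- A `p`-subgroup containing a conjugate of `O_p(M)` normalizes it. -/
theorem le_normalizer_conj_of_pGroup (hasym : ¬ IsSymmetricIn (largestPReducedOf p M)) {P : Subgroup G}
    (hP : IsPGroup p P) (g : G) (hOP : (pCoreOf p M).map (MulAut.conj g).toMonoidHom ≤ P) :
    P ≤ Subgroup.normalizer (((pCoreOf p M).map (MulAut.conj g).toMonoidHom : Subgroup G) : Set G) := by
  rw [← map_conj_normalizer, map_conj_le_iff_aux]
  have h1 := h.le_normalizer_of_pGroup hasym (isPGroup_map_conj (g := g⁻¹) hP) (by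
    rw [← map_conj_le_iff]
    exact hOP)
  exact h1

/-- Two conjugates of `O_p(M)` in a common `p`-subgroup: uniqueness. -/
theorem conj_eq_of_le_pGroup (hasym : ¬ IsSymmetricIn (largestPReducedOf p M)) {P : Subgroup G}
    (hP : IsPGroup p P) (hOP : pCoreOf p M ≤ P) {g : G}
    (hg : (pCoreOf p M).map (MulAut.conj g).toMonoidHom ≤ P) :
    (pCoreOf p M).map (MulAut.conj g).toMonoidHom = pCoreOf p M :=
  h.conj_eq_of_adj hasym ⟨hOP.trans (h.le_normalizer_conj_of_pGroup hasym hP g hg),
    hg.trans (h.le_normalizer_of_pGroup hasym hP hOP)⟩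

/-- `O_p(M)` is weakly closed. -/
theorem isWeaklyClosedSubgroup_pCore (hasym : ¬ IsSymmetricIn (largestPReducedOf p M)) :
    IsWeaklyClosedSubgroup p (pCoreOf p M) :=
  ⟨S, h.pCore_le_sylow, fun _ hg => h.conj_eq_of_le_pGroup hasym S.2 h.pCore_le_sylow hg⟩

/-- `G`-fusion in `Y_M` is controlled by `M`. -/
theorem exists_conj_in_M (hasym : ¬ IsSymmetricIn (largestPReducedOf p M)) {x g : G}
    (hx : x ∈ largestPReducedOf p M) (hg : g * x * g⁻¹ ∈ largestPReducedOf p M) :
    ∃ m ∈ M, m * x * m⁻¹ = g * x * g⁻¹ := by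
  set Y := largestPReducedOf p M with hY
  set O := pCoreOf p M with hO
  have hOC : O ≤ Subgroup.centralizer ((Y : Subgroup G) : Set G) :=
    pCoreOf_le_centralizer_largestPReducedOf M
  set y := g * x * g⁻¹ with hy
  set K := Subgroup.centralizer ({y} : Set G) with hK
  have hOK : O ≤ K := by
    intro a ha
    exact Subgroup.mem_centralizer_singleton_iff.2 (Subgroup.mem_centralizer_iff.1 (hOC ha) y hg).symm
  have hOK' : O.map (MulAut.conj g).toMonoidHom ≤ K := by
    rintro _ ⟨a, ha, rfl⟩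
    apply Subgroup.mem_centralizer_singleton_iff.2
    have h1 := Subgroup.mem_centralizer_iff.1 (hOC ha) x hx
    simp only [MulEquiv.coe_toMonoidHom, MulAut.conj_apply, hy]
    calc g * a * g⁻¹ * (g * x * g⁻¹) = g * (a * x) * g⁻¹ := by group
      _ = g * (x * a) * g⁻¹ := by rw [h1]
      _ = g * x * g⁻¹ * (g * a * g⁻¹) := by group
  obtain ⟨k, hk, e⟩ := exists_conj_in (h.isWeaklyClosedSubgroup_pCore hasym) (isPGroup_pCoreOf M) hOK hOK'
  have hd : k⁻¹ * g ∈ Subgroup.normalizer (O : Set G) := by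
    apply mem_normalizer_of_map_conj_eq
    rw [← map_conj_mul, e, map_conj_inv_map_conj]
  obtain ⟨m, hm, z, hz, ed⟩ := h.exists_mul_of_mem_dagger (h.normalizer_pCore_le hd)
  refine ⟨m, hm, ?_⟩
  have h1 : z * x = x * z := (Subgroup.mem_centralizer_iff.1 hz x hx).symm
  have h2 : k * y = y * k := (Subgroup.mem_centralizer_singleton_iff.1 hk)
  have h3 : m * z = k⁻¹ * g := ed.symm
  have h4 : m * x * m⁻¹ = (m * z) * x * (m * z)⁻¹ := by
    have : (m * z) * x * (m * z)⁻¹ = m * (z * x) * z⁻¹ * m⁻¹ := by group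
    rw [this, h1]
    group
  rw [h4, h3]
  have h5 : (k⁻¹ * g) * x * (k⁻¹ * g)⁻¹ = k⁻¹ * y * k := by
    rw [hy]
    group
  rw [h5]
  have h6 : y * k = k * y := h2.symm
  rw [mul_assoc, h6]
  group

end BasicSetup

end Cfsg.Agent.H13
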