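import Cfsg.Agent.Lib.H13.WeakComm

/-!
Characteristic `p` for overgroups of weakly closed self-centralizing subgroups.
-/

set_option autoImplicit false

namespace Cfsg.Agent.H13

open Cfsg
open scoped commutatorElement Pointwise

variable {G : Type*} [Group G] {p : ℕ}

section
variable [Finite G] [Fact p.Prime]

/-- A `p`-subgroup normalized by a weakly closed `Q` normalizes `Q`. -/
theorem wc_le_normalizer {Q R : Subgroup G} (hQp : IsPGroup p Q) (hwc : IsWeaklyClosedSubgroup p Q)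
    (hRp : IsPGroup p R) (hQR : Q ≤ Subgroup.normalizer (R : Set G)) :
    R ≤ Subgroup.normalizer (Q : Set G) := by
  intro u hu
  have hsup : IsPGroup p (Q ⊔ R : Subgroup G) := IsPGroup.to_sup_of_normal_right' hQp hRp hQR
  apply mem_normalizer_of_map_conj_eq
  apply wc_conj_eq hwc hsup le_sup_left
  rintro _ ⟨q, hq, rfl⟩
  have h1 : (MulAut.conj u).toMonoidHom q = ⁅u, q⁆ * q := by
    simp [commutatorElement_def, MulAut.conj_apply]
  rw [h1]
  have h2 : ⁅u, q⁆ ∈ R := by
    have : ⁅R, Q⁆ ≤ R := commutator_le_left_of_le_normalizer hQR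
    exact this (Subgroup.commutator_mem_commutator hu hq)
  exact Subgroup.mul_mem _ (Subgroup.mem_sup_right h2) (Subgroup.mem_sup_left hq)

/-- The key lemma, for subgroups `L` with `Q ≤ L ≤ A`, `A` of characteristic `p`, `Q` weakly closed. -/
theorem isCharP_of_wc_of_le {Q A L : Subgroup G} (hQp : IsPGroup p Q) (hwc : IsWeaklyClosedSubgroup p Q)
    (hQC : Subgroup.centralizer (Q : Set G) ≤ Q) (hA : IsCharP p A) (hQL : Q ≤ L) (hLA : L ≤ A) :
    IsCharP p L := by
  have hQA : Q ≤ A := hQL.trans hLA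
  have hkey : KeySetting p (pCore p A) (Q.subgroupOf A) := by
    refine ⟨isPGroup_pCore, pCore_normal p A, hA, ?_, ?_, ?_⟩
    · exact isPGroup_subgroupOf hQp
    · intro x hx
      apply hQC
      rw [Subgroup.mem_centralizer_iff]
      intro q hq
      exact congrArg Subtype.val (Subgroup.mem_centralizer_iff.mp hx ⟨q, hQA hq⟩ hq)
    · intro u hu
      have h1 : (u : G) ∈ Subgroup.normalizer (Q : Set G) := by
        apply wc_le_normalizer hQp hwc (R := pCoreOf p A) (isPGroup_pCoreOf A) _ ⟨u, hu, rfl⟩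
        exact hQA.trans (pCoreOf_normalized A)
      rw [Subgroup.mem_normalizer_iff]
      intro h
      exact Subgroup.mem_normalizer_iff.mp h1 (h : G)
  have h1 := hkey.isCharP_of_le (L := L.subgroupOf A) (fun x hx => hQL hx)
  exact charP_of_mulEquiv (Subgroup.subgroupOfEquivOfLe hLA) h1

/-- Main structural lemma. -/
theorem wc_centralizer_core {Q L : Subgroup G} (hQp : IsPGroup p Q) (hwc : IsWeaklyClosedSubgroup p Q)
    (hQC : Subgroup.centralizer (Q : Set G) ≤ Q) (hQL : Q ≤ L)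
    (hC : IsCharP p (Subgroup.centralizer ((pCoreOf p L : Subgroup G) : Set G)))
    (hCL : L ⊓ Subgroup.centralizer ((pCoreOf p L : Subgroup G) : Set G) ≤ pCoreOf p L) :
    ⁅Q, Subgroup.centralizer ((pCoreOf p L : Subgroup G) : Set G)⁆ ≤ Q ⊓ pCoreOf p L ∧
      IsPGroup p (Subgroup.centralizer ((pCoreOf p L : Subgroup G) : Set G)) := by
  set O := pCoreOf p L with hO
  set C := Subgroup.centralizer ((O : Subgroup G) : Set G) with hCdef
  have hLO : L ≤ Subgroup.normalizer (O : Set G) := pCoreOf_normalized L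
  have hLC : L ≤ Subgroup.normalizer (C : Set G) := hLO.trans (H01.normalizer_le_normalizer_centralizer O)
  have hQC' : Q ≤ Subgroup.normalizer (C : Set G) := hQL.trans hLC
  set R := pCoreOf p C with hR
  have hRC : R ≤ C := pCoreOf_le C
  have hRp : IsPGroup p R := isPGroup_pCoreOf C
  have hCR : C ≤ Subgroup.normalizer (R : Set G) := pCoreOf_normalized C
  have hQR : Q ≤ Subgroup.normalizer (R : Set G) := hQC'.trans (normalizer_le_normalizer_pCoreOf C)
  have hRQ : R ≤ Subgroup.normalizer (Q : Set G) := wc_le_normalizer hQp hwc hRp hQR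
  set Z := O ⊓ C with hZ
  have hZp : IsPGroup p Z := (isPGroup_pCoreOf L).to_le inf_le_left
  have hLZ : L ≤ Subgroup.normalizer (Z : Set G) := fun g hg => mem_normalizer_inf (hLO hg) (hLC hg)
  have hCZ : C ≤ Subgroup.centralizer (Z : Set G) := Subgroup.centralizer_le inf_le_left
  have hCnZ : C ≤ Subgroup.normalizer (Z : Set G) := hCZ.trans (centralizer_le_normalizer_of_le Z)
  have hQCZ : Q ⊓ C ≤ Z := le_inf ((inf_le_inf_right _ hQL).trans hCL) inf_le_right
  have hRQZ : ⁅R, Q⁆ ≤ Z := by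
    refine (commutator_le_inf_of_normalize hRQ hQR).trans ?_
    have h1 : R ⊓ Q ≤ Q ⊓ C := le_inf inf_le_right (inf_le_left.trans hRC)
    exact h1.trans hQCZ
  have hbot : ∀ X : Subgroup G, X ≤ Z → ⁅X, C⁆ = ⊥ := by
    intro X hX
    rw [Subgroup.commutator_comm, Subgroup.commutator_eq_bot_iff_le_centralizer]
    exact hCZ.trans (Subgroup.centralizer_le hX)
  have hcomm3 : ⁅⁅C, Q⁆, R⁆ ≤ Z := by
    apply three_subgroups_of_normalizer C Q R Z hCnZ (hQL.trans hLZ) (hRC.trans hCnZ)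
    · rw [Subgroup.commutator_comm Q R, hbot _ hRQZ]
      exact bot_le
    · have h1 : ⁅R, C⁆ ≤ R := commutator_le_left_of_le_normalizer hCR
      exact (Subgroup.commutator_mono h1 le_rfl).trans hRQZ
  set C₁ := ⁅C, Q⁆ with hC₁
  have hC₁C : C₁ ≤ C := commutator_le_left_of_le_normalizer hQC'
  have hCharC : C ⊓ Subgroup.centralizer (R : Set G) ≤ R := (isCharP_subgroup_iff C).mp hC
  have hC₁p : IsPGroup p C₁ := by
    apply isPGroup_of_forall_coprime
    intro y hy hcop
    have hyC : y ∈ C := hC₁C hy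
    apply eq_one_of_coprime_of_mem hRp _ hcop
    apply hCharC
    refine ⟨hyC, ?_⟩
    show y ∈ Subgroup.centralizer (R : Set G)
    rw [Subgroup.mem_centralizer_iff]
    intro u hu
    have h1 : ⁅u, y⁆ ∈ Z := by
      apply hcomm3
      rw [Subgroup.commutator_comm]
      exact Subgroup.commutator_mem_commutator hu hy
    have h2 : Commute ⁅u, y⁆ y := Subgroup.mem_centralizer_iff.mp (hCZ hyC) _ h1
    exact (commute_of_quadratic hZp h1 h2 hcop).eq
  have hC₁R : C₁ ≤ R := le_pCoreOf hC₁C hC₁p (H05.comm_le_normalizer_left C Q)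
  have hC₁Z : C₁ ≤ Q ⊓ Z := by
    intro c hc
    obtain ⟨a, ⟨haQ, haC⟩, b, hb, rfl⟩ := wc_factor_commutator hQp hwc hQC' hc
    have h1 : ⁅C₁, Q⁆ ≤ ⁅R, Q⁆ := Subgroup.commutator_mono hC₁R le_rfl
    have hb' : b ∈ ⁅R, Q⁆ := h1 hb
    have hbQ : b ∈ Q := commutator_le_right_of_le_normalizer hRQ hb'
    have hbZ : b ∈ Z := hRQZ hb'
    have haZ : a ∈ Z := hQCZ ⟨haQ, hC₁C haC⟩
    exact ⟨Q.mul_mem haQ hbQ, Z.mul_mem haZ hbZ⟩
  refine ⟨?_, ?_⟩
  · rw [Subgroup.commutator_comm]
    exact hC₁Z.trans (inf_le_inf_left _ inf_le_left)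
  · apply isPGroup_of_forall_coprime
    intro y hy hcop
    apply eq_one_of_coprime_of_mem hQp _ hcop
    apply hQC
    rw [Subgroup.mem_centralizer_iff]
    intro q hq
    have h1 : ⁅q, y⁆ ∈ Z := by
      have h2 : ⁅y, q⁆ ∈ C₁ := Subgroup.commutator_mem_commutator hy hq
      have h3 : ⁅q, y⁆ = ⁅y, q⁆⁻¹ := (commutatorElement_inv y q).symm
      rw [h3]
      exact Z.inv_mem (hC₁Z h2).2
    have h2 : Commute ⁅q, y⁆ y := Subgroup.mem_centralizer_iff.mp (hCZ hy) _ h1
    exact (commute_of_quadratic hZp h1 h2 hcop).eq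

end

end Cfsg.Agent.H13
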