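import Cfsg.Agent.Lib.H13.WeakChar
import Cfsg.Agent.Lib.H13.Large
import Cfsg.Agent.S2842

/-!
Large subgroups and characteristic `p`.
-/

set_option autoImplicit false

namespace Cfsg.Agent.H13

open Cfsg
open scoped commutatorElement Pointwise

variable {G : Type*} [Group G] {p : ℕ}

section
variable [Finite G] [Fact p.Prime]

/-- A nontrivial large `p`-subgroup is weakly closed. -/
theorem isWeaklyClosedSubgroup_of_isLarge {Q : Subgroup G} (hQp : IsPGroup p Q) (hQ1 : Q ≠ ⊥)
    (hL : IsLarge Q) : IsWeaklyClosedSubgroup p Q := by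
  obtain ⟨T, hT⟩ := hQp.exists_le_sylow
  refine ⟨T, hT, fun g hg => ?_⟩
  by_cases hgN : g ∈ Subgroup.normalizer (Q : Set G)
  · exact map_conj_eq_of_mem_normalizer hgN
  · exfalso
    have h1 := large_centralizer_inf_eq_bot hQp hQ1 hL hgN
    have hT1 : (T : Subgroup G) ≠ ⊥ := by
      intro h0
      apply hQ1
      rw [eq_bot_iff, ← h0]
      exact hT
    apply center_ne_bot_of_pgroup T.2 hT1
    rw [eq_bot_iff, ← h1]
    exact le_inf (inf_le_right.trans (Subgroup.centralizer_le hT))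
      (inf_le_right.trans (Subgroup.centralizer_le hg))

/-- `C_Y(Q)` is nontrivial for a `p`-group `Q` normalizing a nontrivial `p`-group `Y`. -/
theorem inf_centralizer_ne_bot {Q Y : Subgroup G} (hQp : IsPGroup p Q) (hYp : IsPGroup p Y) (hY1 : Y ≠ ⊥)
    (hQY : Q ≤ Subgroup.normalizer (Y : Set G)) : Y ⊓ Subgroup.centralizer (Q : Set G) ≠ ⊥ := by
  have hsup : IsPGroup p (Q ⊔ Y : Subgroup G) := IsPGroup.to_sup_of_normal_right' hQp hYp hQY
  have h1 := inf_center_ne_bot_of_pgroup hsup (le_sup_right : Y ≤ Q ⊔ Y) hY1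
    (sup_le hQY Subgroup.le_normalizer)
  intro h0
  apply h1
  rw [eq_bot_iff, ← h0]
  exact le_inf inf_le_left (inf_le_right.trans (inf_le_right.trans (Subgroup.centralizer_le (le_sup_left : Q ≤ Q ⊔ Y))))

/-- `C(Y) ≤ N(Q)` for a `p`-group `Y` normalized by large `Q`. -/
theorem large_centralizer_le_normalizer {Q Y : Subgroup G} (hQp : IsPGroup p Q) (hL : IsLarge Q)
    (hYp : IsPGroup p Y) (hY1 : Y ≠ ⊥) (hQY : Q ≤ Subgroup.normalizer (Y : Set G)) :
    Subgroup.centralizer (Y : Set G) ≤ Subgroup.normalizer (Q : Set G) := by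
  have h1 := inf_centralizer_ne_bot hQp hYp hY1 hQY
  have h2 := hL.2 _ inf_le_right h1
  refine le_trans ?_ h2
  exact (Subgroup.centralizer_le (inf_le_left : Y ⊓ Subgroup.centralizer (Q : Set G) ≤ Y)).trans (centralizer_le_normalizer_of_le _)

/-- `C(y)` has characteristic `p` for `y ≠ 1` in `C(Q)`. -/
theorem isCharP_centralizer_of_large {Q : Subgroup G} (hQp : IsPGroup p Q) (hL : IsLarge Q) {y : G}
    (hy1 : y ≠ 1) (hy : y ∈ Subgroup.centralizer (Q : Set G)) :
    IsCharP p (Subgroup.centralizer ({y} : Set G)) := by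
  set A := Subgroup.centralizer ({y} : Set G) with hA
  have hz : Subgroup.zpowers y ≠ ⊥ := by
    intro h0
    rw [Subgroup.zpowers_eq_bot] at h0
    exact hy1 h0
  have h1 := hL.2 (Subgroup.zpowers y) (by
    rw [Subgroup.zpowers_le]
    exact hy) hz
  have hCz : A ≤ Subgroup.normalizer ((Subgroup.zpowers y : Subgroup G) : Set G) := by
    intro c hc
    apply centralizer_le_normalizer_of_le
    rw [Subgroup.mem_centralizer_iff]
    intro w hw
    obtain ⟨k, rfl⟩ := hw
    have h2 : Commute y c := Subgroup.mem_centralizer_iff.mp hc y rfl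
    exact (h2.zpow_left k)
  have hAQ : A ≤ Subgroup.normalizer (Q : Set G) := hCz.trans h1
  have hQA : Q ≤ A := by
    intro q hq
    rw [hA, Subgroup.mem_centralizer_iff]
    intro w hw
    rw [Set.mem_singleton_iff.mp hw]
    exact (Subgroup.mem_centralizer_iff.mp hy q hq).symm
  have hQO : Q ≤ pCoreOf p A := le_pCoreOf hQA hQp hAQ
  rw [isCharP_subgroup_iff]
  exact (inf_le_right.trans (Subgroup.centralizer_le hQO)).trans (hL.1.trans hQO)

theorem pCoreOf_ne_bot {L : Subgroup G} (h : pCore p L ≠ ⊥) : pCoreOf p L ≠ ⊥ := by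
  intro h0
  apply h
  exact (Subgroup.map_eq_bot_iff_of_injective _ L.subtype_injective).mp h0

/-- First part of the structure theorem on large subgroups. -/
theorem large_overgroup {Q L : Subgroup G} (hQp : IsPGroup p Q) (hQ1 : Q ≠ ⊥) (hL : IsLarge Q) (hQL : Q ≤ L)
    (hO : pCore p L ≠ ⊥) :
    IsPGroup p (Subgroup.centralizer ((pCoreOf p L : Subgroup G) : Set G)) ∧ IsCharP p L := by
  have hO' := pCoreOf_ne_bot hO
  have h1 := inf_centralizer_ne_bot hQp (isPGroup_pCoreOf L) hO' (hQL.trans (pCoreOf_normalized L))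
  obtain ⟨y, hy, hy1⟩ := (Subgroup.bot_or_exists_ne_one _).resolve_left h1
  obtain ⟨-, h2, h3⟩ := Cfsg.Agent.S2842.result Q hQp hQ1 (isWeaklyClosedSubgroup_of_isLarge hQp hQ1 hL) hL.1 L hQL
    (Or.inr ⟨y, hy1, hy, isCharP_centralizer_of_large hQp hL hy1 hy.2⟩)
  exact ⟨h2, h3⟩

end

end Cfsg.Agent.H13
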