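import Cfsg.Agent.Lib.H13.WeakFact
import Cfsg.Agent.Lib.H13.LargeChar
import Cfsg.Agent.Lib.H13.PReduced
import Cfsg.Agent.Lib.H01.Coprime4

/-!
The basic property: `N_G(I) ≤ M†`, a criterion for `O_p(L)`.
-/

set_option autoImplicit false
set_option linter.style.haveILetI false

namespace Cfsg.Agent.H13

open Cfsg
open scoped commutatorElement Pointwise

variable {G : Type*} [Group G] {p : ℕ}

section
variable [Finite G] [Fact p.Prime]

/-- A normalizer containing `Q` lies in `𝓛_G`. -/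
theorem normalizer_mem_charP {Q I : Subgroup G} (hQp : IsPGroup p Q) (hQ1 : Q ≠ ⊥) (hQ : IsLarge Q)
    (hI1 : I ≠ ⊥) (hIp : IsPGroup p I) (hQI : Q ≤ Subgroup.normalizer (I : Set G)) :
    Subgroup.normalizer (I : Set G) ∈ charPSubgroups p G := by
  set L := Subgroup.normalizer (I : Set G) with hL
  have hIO : I ≤ pCoreOf p L := le_pCoreOf Subgroup.le_normalizer hIp (le_refl _)
  have hO : pCore p ↥L ≠ ⊥ := by
    intro h0
    apply hI1
    have : pCoreOf p L = ⊥ := by
      unfold pCoreOf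
      rw [h0, Subgroup.map_bot]
    rw [this] at hIO
    exact le_bot_iff.1 hIO
  refine ⟨hO, ?_⟩
  obtain ⟨h1, -⟩ := large_overgroup hQp hQ1 hQ hQI hO
  show Subgroup.centralizer ((pCoreOf p L : Subgroup G) : Set G) ≤ pCoreOf p L
  have hCL : Subgroup.centralizer ((pCoreOf p L : Subgroup G) : Set G) ≤ L := by
    intro x hx
    have h2 : x ∈ Subgroup.centralizer (I : Set G) := centralizer_antitone hIO hx
    exact centralizer_le_normalizer_of_le I h2
  apply le_pCoreOf hCL h1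
  exact (pCoreOf_normalized L).trans (H01.normalizer_le_normalizer_centralizer _)

/-- `N_G(I) ≤ M†` for a nontrivial `p`-subgroup normalized by `M`. -/
theorem normalizer_le_dagger {Q I M : Subgroup G} (hQp : IsPGroup p Q) (hQ1 : Q ≠ ⊥) (hQ : IsLarge Q)
    (hQM : Q ≤ M) (hM : IsInFrakM p M) (hI1 : I ≠ ⊥) (hIp : IsPGroup p I)
    (hMI : M ≤ Subgroup.normalizer (I : Set G)) :
    Subgroup.normalizer (I : Set G) ≤ M ⊔ Subgroup.centralizer (largestPReducedOf p M : Set G) := by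
  have h1 := normalizer_mem_charP hQp hQ1 hQ hI1 hIp (hQM.trans hMI)
  obtain ⟨X, hX, hXm⟩ : ∃ X : Subgroup G, Subgroup.normalizer (I : Set G) ≤ X ∧
      Maximal (fun Y => Y ∈ charPSubgroups p G) X :=
    (Set.toFinite (charPSubgroups p G)).exists_le_maximal h1
  have hX2 : X ∈ maxCharPSubgroups p G := by
    refine ⟨hXm.1, fun L hL hXL => ?_⟩
    exact le_antisymm (hXm.2 hL hXL) hXL
  have := hM.2.2.1 X hX2 (hMI.trans hX)
  rw [← this]
  exact hX

/-- A criterion for lying in `O_p(L)`. -/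
theorem le_pCoreOf_of_comm_le {L A Y O : Subgroup G} (hAp : IsPGroup p A)
    (hLA : L ≤ Subgroup.normalizer (A : Set G)) (hYL : Y ≤ L) (hc : ⁅Y, A⁆ ≤ ⁅A, A⁆) (hYO : Y ≤ O)
    (hOp : IsPGroup p O) (hDO : L ⊓ Subgroup.centralizer (A : Set G) ≤ Subgroup.normalizer (O : Set G)) :
    Y ≤ pCoreOf p L := by
  have hp : p.Prime := Fact.out
  have hLA' : L ≤ Subgroup.normalizer ((⁅A, A⁆ : Subgroup G) : Set G) := fun g hg =>
    mem_normalizer_commutator (hLA hg) (hLA hg)
  let E : Subgroup G :=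
    { carrier := {g | g ∈ L ∧ ∀ a ∈ A, ⁅g, a⁆ ∈ ⁅A, A⁆}
      mul_mem' := by
        rintro g h ⟨hg, hg'⟩ ⟨hh, hh'⟩
        refine ⟨L.mul_mem hg hh, fun a ha => ?_⟩
        have e : ⁅g * h, a⁆ = (g * ⁅h, a⁆ * g⁻¹) * ⁅g, a⁆ := by
          simp only [commutatorElement_def]
          group
        rw [e]
        exact Subgroup.mul_mem _ ((Subgroup.mem_normalizer_iff.1 (hLA' hg) _).1 (hh' a ha)) (hg' a ha)
      one_mem' := by
        refine ⟨L.one_mem, fun a _ => ?_⟩
        simp [commutatorElement_def, Subgroup.one_mem]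
      inv_mem' := by
        rintro g ⟨hg, hg'⟩
        refine ⟨L.inv_mem hg, fun a ha => ?_⟩
        have e : ⁅g⁻¹, a⁆ = g⁻¹ * ⁅g, a⁆⁻¹ * g⁻¹⁻¹ := by
          simp only [commutatorElement_def]
          group
        rw [e]
        exact (Subgroup.mem_normalizer_iff.1 (Subgroup.inv_mem _ (hLA' hg)) _).1 (Subgroup.inv_mem _ (hg' a ha)) }
  have hEL : E ≤ L := fun g hg => hg.1
  have hLE : L ≤ Subgroup.normalizer (E : Set G) := by
    intro l hl
    apply mem_normalizer_of_map_conj_le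
    rintro _ ⟨g, ⟨hg, hg'⟩, rfl⟩
    refine ⟨L.mul_mem (L.mul_mem hl hg) (L.inv_mem hl), fun a ha => ?_⟩
    have ha' : l⁻¹ * a * l⁻¹⁻¹ ∈ A := (Subgroup.mem_normalizer_iff.1 (Subgroup.inv_mem _ (hLA hl)) a).1 ha
    have e : ⁅(MulAut.conj l).toMonoidHom g, a⁆ = l * ⁅g, l⁻¹ * a * l⁻¹⁻¹⁆ * l⁻¹ := by
      simp [commutatorElement_def, MulAut.conj_apply]
      group
    rw [e]
    exact (Subgroup.mem_normalizer_iff.1 (hLA' hl) _).1 (hg' _ ha')
  set D := L ⊓ Subgroup.centralizer (A : Set G) with hD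
  have hDE : D ≤ E := by
    intro g hg
    refine ⟨(Subgroup.mem_inf.1 hg).1, fun a ha => ?_⟩
    have h1 := Subgroup.mem_centralizer_iff.1 (Subgroup.mem_inf.1 hg).2 a ha
    have h2 : ⁅g, a⁆ = 1 := commutatorElement_eq_one_iff_mul_comm.2 h1.symm
    rw [h2]
    exact Subgroup.one_mem _
  have hYE : Y ≤ E := by
    intro y hy
    exact ⟨hYL hy, fun a ha => hc (Subgroup.commutator_mem_commutator hy ha)⟩
  have hYp : IsPGroup p Y := hOp.to_le hYO
  -- `p'`-elements of `E`
  have hfrat : ⁅A, A⁆ ≤ (frattini A).map A.subtype := by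
    rw [← Subgroup.map_subtype_commutator]
    exact Subgroup.map_mono (H01.commutator_le_frattini_of_isPGroup hAp)
  have hpp : ppGen p E ≤ D := by
    unfold ppGen
    apply (Subgroup.closure_le _).2
    rintro x ⟨hxE, hxc⟩
    refine Subgroup.mem_inf.2 ⟨hEL hxE, ?_⟩
    have hzE : Subgroup.zpowers x ≤ E := (Subgroup.zpowers_le).2 hxE
    have h1 := H01.centralizes_of_trivial_on_frattini_quotient (Subgroup.zpowers x) A
      (hzE.trans (hEL.trans hLA)) (by
        rw [Nat.card_zpowers]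
        have hfr : IsPGroup p (frattini A) := IsPGroup.to_subgroup hAp _
        obtain ⟨k, hk⟩ := IsPGroup.iff_card.1 hfr
        rw [hk]
        exact Nat.Coprime.pow_right k hxc)
      (fun a ha k hk => hfrat ((hzE ha).2 k hk))
    exact h1 (Subgroup.mem_zpowers x)
  set R := pCoreOf p D with hR
  have hRp : IsPGroup p R := isPGroup_pCoreOf D
  have hLD : L ≤ Subgroup.normalizer (D : Set G) := fun g hg =>
    mem_normalizer_inf (Subgroup.le_normalizer hg) ((hLA.trans (H01.normalizer_le_normalizer_centralizer A)) hg)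
  have hLR : L ≤ Subgroup.normalizer (R : Set G) := hLD.trans (normalizer_le_normalizer_pCoreOf D)
  have hRD : R ≤ D := pCoreOf_le D
  have hYR : ∀ y ∈ Y, ∀ d ∈ D, ⁅y, d⁆ ∈ R := by
    intro y hy d hd
    have hO : ⁅y, d⁆ ∈ O := by
      have e : ⁅y, d⁆ = y * (d * y⁻¹ * d⁻¹) := by
        simp only [commutatorElement_def]
        group
      rw [e]
      exact O.mul_mem (hYO hy) ((Subgroup.mem_normalizer_iff.1 (hDO hd) _).1 (O.inv_mem (hYO hy)))
    have hDm : ⁅y, d⁆ ∈ D := by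
      have e : ⁅y, d⁆ = (y * d * y⁻¹) * d⁻¹ := by
        simp only [commutatorElement_def]
      rw [e]
      exact D.mul_mem ((Subgroup.mem_normalizer_iff.1 (hLD (hYL hy)) _).1 hd) (D.inv_mem hd)
    have hOD : O ⊓ D ≤ R := le_pCoreOf inf_le_right (hOp.to_le inf_le_left)
      (fun g hg => mem_normalizer_inf (hDO hg) (Subgroup.le_normalizer hg))
    exact hOD (Subgroup.mem_inf.2 ⟨hO, hDm⟩)
  have hYRp : IsPGroup p (Y ⊔ R : Subgroup G) := IsPGroup.to_sup_of_normal_right' hYp hRp (hYL.trans hLR)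
  have hYRE : Y ⊔ R ≤ E := sup_le hYE (hRD.trans hDE)
  obtain ⟨T, hT⟩ := exists_sylow_subgroup_le hYRE hYRp
  set T' := (T : Subgroup E).map E.subtype with hT'
  have hT'p : IsPGroup p T' := isPGroup_map_subtype T
  have hT'E : T' ≤ E := by
    rintro _ ⟨x, -, rfl⟩
    exact x.2
  have hsup := ppGen_sup_sylow E T
  have hconj : ∀ g ∈ E, Y.map (MulAut.conj g).toMonoidHom ≤ T' := by
    intro g hg
    have hg' : g ∈ ((T' ⊔ ppGen p E : Subgroup G) : Set G) := by
      rw [hsup]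
      exact hg
    rw [Subgroup.coe_mul_of_left_le_normalizer_right T' (ppGen p E)
      (hT'E.trans (Subgroup.le_normalizer.trans (normalizer_le_normalizer_ppGen E)))] at hg'
    obtain ⟨t, ht, x, hx, rfl⟩ := Set.mem_mul.mp hg'
    rintro _ ⟨y, hy, rfl⟩
    have hxD := hpp hx
    have h1 : (MulAut.conj (t * x)).toMonoidHom y = t * (⁅y, x⁆⁻¹ * y) * t⁻¹ := by
      simp [commutatorElement_def, MulAut.conj_apply]
      group
    rw [h1]
    exact T'.mul_mem (T'.mul_mem ht (T'.mul_mem (hT (Subgroup.mem_sup_right (R.inv_mem (hYR y hy x hxD))))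
      (hT (Subgroup.mem_sup_left hy)))) (T'.inv_mem ht)
  obtain ⟨W, hW⟩ : ∃ W : Subgroup G, W = ⨆ g : E, Y.map (MulAut.conj (g : G)).toMonoidHom := ⟨_, rfl⟩
  have hWT : W ≤ T' := by
    rw [hW]
    exact iSup_le (fun g => hconj g g.2)
  have hWE : E ≤ Subgroup.normalizer (W : Set G) := by
    intro h hh
    apply mem_normalizer_of_map_conj_le
    rw [hW, Subgroup.map_iSup]
    apply iSup_le
    intro g
    show (Y.map (MulAut.conj (g : G)).toMonoidHom).map (MulAut.conj h).toMonoidHom ≤ _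
    rw [map_conj_mul]
    exact le_iSup (fun g : E => Y.map (MulAut.conj (g : G)).toMonoidHom) ⟨h * g, E.mul_mem hh g.2⟩
  have hYW : Y ≤ W := by
    rw [hW]
    have h1 := le_iSup (fun g : E => Y.map (MulAut.conj (g : G)).toMonoidHom) 1
    simp only [OneMemClass.coe_one] at h1
    rwa [map_conj_one] at h1
  have hWO : W ≤ pCoreOf p E := le_pCoreOf (hWT.trans hT'E) (hT'p.to_le hWT) hWE
  exact hYW.trans (hWO.trans (pCoreOf_le_pCoreOf_of_normal hEL hLE))

end

end Cfsg.Agent.H13
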