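import Cfsg.Prelude.Def_Transfer
import Cfsg.Agent.Lib.H08.Extraspecial
import Cfsg.Agent.Lib.H01.Basic

/-! Counting elements of order four in extraspecial 2-groups of plus type. -/

set_option autoImplicit false
set_option linter.style.haveILetI false

namespace Cfsg.Agent.H13

open Cfsg

theorem extraspecial_two_setup {E : Type*} [Group E] [Finite E] (hE : IsExtraspecial 2 E) :
    ∃ z : E, z ≠ 1 ∧ z ^ 2 = 1 ∧ (∀ x, x * z = z * x) ∧ (∀ x : E, x ^ 2 = 1 ∨ x ^ 2 = z) ∧
      (∀ a b : E, a * b = b * a ∨ a * b = z * (b * a)) ∧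
      (∀ c : E, c ∈ Subgroup.center E ↔ c = 1 ∨ c = z) := by
  classical
  obtain ⟨⟨hp, hfr, hcomm⟩, hz⟩ := hE
  haveI : Fact (Nat.Prime 2) := ⟨Nat.prime_two⟩
  obtain ⟨z', hz'ne, hz'u⟩ := (Nat.card_eq_two_iff' (1 : Subgroup.center E)).1 hz
  have hmem : ∀ c ∈ Subgroup.center E, c = 1 ∨ c = (z' : E) := by
    intro c hc
    by_cases h1 : c = 1
    · exact Or.inl h1
    · right
      have := hz'u ⟨c, hc⟩ (fun h => h1 (congrArg Subtype.val h))
      exact congrArg Subtype.val this
  have hzne : (z' : E) ≠ 1 := fun h => hz'ne (Subtype.ext h)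
  have hzc : ∀ x : E, x * z' = z' * x := fun x => ((Subgroup.mem_center_iff).1 z'.2 x)
  have hzz : (z' : E) ^ 2 = 1 := by
    have hcz : (z' : E) ^ 2 ∈ Subgroup.center E := Subgroup.pow_mem _ z'.2 2
    rcases hmem _ hcz with h | h
    · exact h
    · exfalso
      apply hzne
      have h2 : (z' : E) * z' = z' * 1 := by rw [mul_one, ← pow_two]; exact h
      exact mul_left_cancel h2
  refine ⟨z', hzne, hzz, hzc, ?_, ?_, ?_⟩
  · intro x
    apply hmem
    rw [← hfr]
    exact Cfsg.Agent.H01.pow_mem_frattini_of_isPGroup hp x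
  · intro a b
    have hc : a * b * a⁻¹ * b⁻¹ ∈ Subgroup.center E := by
      rw [← hcomm]
      exact Subgroup.commutator_mem_commutator (Subgroup.mem_top a) (Subgroup.mem_top b)
    rcases hmem _ hc with h | h
    · left
      have : a * b = (a * b * a⁻¹ * b⁻¹) * (b * a) := by group
      rw [this, h, one_mul]
    · right
      have : a * b = (a * b * a⁻¹ * b⁻¹) * (b * a) := by group
      rw [this, h]
  · intro c
    constructor
    · exact hmem c
    · rintro (h | h)
      · rw [h]; exact Subgroup.one_mem _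
      · rw [h]; exact z'.2

theorem extraspecial_two_orderOf_eq_four {E : Type*} [Group E] {z : E} (hz1 : z ≠ 1) (hz2 : z ^ 2 = 1)
    (hsq : ∀ x : E, x ^ 2 = 1 ∨ x ^ 2 = z) (x : E) : orderOf x = 4 ↔ x ^ 2 = z := by
  constructor
  · intro h
    rcases hsq x with h1 | h1
    · exfalso
      have := orderOf_dvd_of_pow_eq_one h1
      rw [h] at this
      omega
    · exact h1
  · intro h
    have h4 : orderOf x = 2 ^ (1 + 1) := by
      apply orderOf_eq_prime_pow (p := 2) (n := 1)
      · rw [pow_one, h]; exact hz1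
      · have : x ^ 2 ^ (1 + 1) = (x ^ 2) ^ 2 := by rw [← pow_mul]; norm_num
        rw [this, h, hz2]
    rw [h4]; norm_num

theorem extraspecial_two_count {E : Type*} [Group E] [Finite E] (m : ℕ) (hE : IsExtraspecial 2 E)
    (hcard : Nat.card E = 2 ^ (2 * m + 1)) (A : Subgroup E) (hA : IsElementaryAbelian 2 A)
    (hAc : Nat.card A = 2 ^ (m + 1)) :
    Nat.card {x : E // orderOf x = 4} = 2 ^ (2 * m) - 2 ^ m := by
  classical
  obtain ⟨z, hz1, hz2, hzc, hsq, hcm, hcen⟩ := extraspecial_two_setup hE
  have hord := extraspecial_two_orderOf_eq_four hz1 hz2 hsq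
  have hzz : z * z = 1 := by rw [← pow_two]; exact hz2
  have hF : Cfsg.Agent.H08.Extra.Form (⊤ : Subgroup E) z :=
    ⟨hz1, hzz, Subgroup.mem_top z, fun q _ => hzc q, fun a _ b _ => hcm a b⟩
  -- the centraliser of `A`
  have hAcomm : ∀ a ∈ A, ∀ b ∈ A, a * b = b * a := by
    intro a ha b hb
    haveI := hA.1
    have := mul_comm' (⟨a, ha⟩ : A) (⟨b, hb⟩ : A)
    exact congrArg Subtype.val this
  have hdc := Cfsg.Agent.H08.Extra.double_count hF A ⊤ le_top le_rfl
  have hAZ : Nat.card (A ⊓ Subgroup.centralizer ((⊤ : Subgroup E) : Set E) : Subgroup E) ≤ 2 := by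
    have hle : A ⊓ Subgroup.centralizer ((⊤ : Subgroup E) : Set E) ≤ Subgroup.center E := by
      intro c hc
      rw [Subgroup.mem_center_iff]
      intro g
      have := (Subgroup.mem_centralizer_iff.1 (Subgroup.mem_inf.1 hc).2) g (Subgroup.mem_top g)
      exact this
    calc _ ≤ Nat.card (Subgroup.center E) := Subgroup.card_le_of_le hle
      _ = 2 := hE.2
  have hCA : A ≤ (⊤ : Subgroup E) ⊓ Subgroup.centralizer (A : Set E) := by
    intro a ha
    refine Subgroup.mem_inf.2 ⟨Subgroup.mem_top a, Subgroup.mem_centralizer_iff.2 ?_⟩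
    intro b hb
    exact hAcomm b hb a ha
  have hCAle : Nat.card A ≤ Nat.card ((⊤ : Subgroup E) ⊓ Subgroup.centralizer (A : Set E) : Subgroup E) :=
    Subgroup.card_le_of_le hCA
  rw [hAc] at hdc hCAle
  rw [Nat.card_congr (Subgroup.topEquiv (G := E)).toEquiv, hcard] at hdc
  have hCcard : Nat.card ((⊤ : Subgroup E) ⊓ Subgroup.centralizer (A : Set E) : Subgroup E) ≤ 2 ^ (m + 1) := by
    have h1 : 2 ^ (m + 1) * Nat.card ((⊤ : Subgroup E) ⊓ Subgroup.centralizer (A : Set E) : Subgroup E) ≤
        2 ^ (m + 1) * 2 ^ (m + 1) := by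
      rw [hdc]
      calc _ ≤ 2 ^ (2 * m + 1) * 2 := Nat.mul_le_mul_left _ hAZ
        _ = 2 ^ (m + 1) * 2 ^ (m + 1) := by ring
    exact Nat.le_of_mul_le_mul_left h1 (by positivity)
  have hCeq : (⊤ : Subgroup E) ⊓ Subgroup.centralizer (A : Set E) = A := by
    symm
    apply Subgroup.eq_of_le_of_card_ge hCA
    rw [hAc]; exact hCcard
  have hnotcomm : ∀ x : E, x ∉ A → ∃ b ∈ A, x * b ≠ b * x := by
    intro x hx
    by_contra hcon
    push Not at hcon
    apply hx
    rw [← hCeq]
    refine Subgroup.mem_inf.2 ⟨Subgroup.mem_top x, Subgroup.mem_centralizer_iff.2 ?_⟩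
    intro b hb
    exact (hcon b hb).symm
  -- squaring on a coset
  have hfib : ∀ x : E, x ∉ A → Nat.card {a : A // (x * a) ^ 2 = z} = 2 ^ m := by
    intro x hx
    obtain ⟨b, hbA, hb⟩ := hnotcomm x hx
    have hb2 : b * b = 1 := by rw [← pow_two]; exact hA.2 b hbA
    have hkey : ∀ a : A, (x * a * b) ^ 2 = z * (x * a) ^ 2 := by
      intro a
      set y := x * (a : E) with hy
      have hyb : y * b ≠ b * y := by
        intro h
        apply hb
        have e1 : y * b = x * (b * a) := by rw [hy, mul_assoc, hAcomm a a.2 b hbA]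
        have e2 : b * y = (b * x) * a := by rw [hy, mul_assoc]
        rw [e1, e2, ← mul_assoc] at h
        exact mul_right_cancel h
      have hyb2 : y * b = z * (b * y) := by
        rcases hcm y b with h | h
        · exact absurd h hyb
        · exact h
      calc (y * b) ^ 2 = (y * b) * (y * b) := pow_two _
        _ = (z * (b * y)) * (y * b) := by rw [← hyb2]
        _ = z * (b * (y * y) * b) := by group
        _ = z * (b * b * (y * y)) := by
            have hc : y * y * b = b * (y * y) := by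
              rcases hsq y with h | h
              · rw [← pow_two, h, one_mul, mul_one]
              · rw [← pow_two, h]; exact (hzc b).symm
            congr 1
            rw [mul_assoc b (y * y) b, hc, ← mul_assoc]
        _ = z * y ^ 2 := by rw [hb2, one_mul, pow_two]
    have hS : Nat.card {a : A // (x * a) ^ 2 = z} = Nat.card {a : A // (x * a) ^ 2 ≠ z} := by
      apply Nat.card_congr
      refine
        { toFun := fun a => ⟨⟨a.1 * b, A.mul_mem a.1.2 hbA⟩, ?_⟩
          invFun := fun a => ⟨⟨a.1 * b, A.mul_mem a.1.2 hbA⟩, ?_⟩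
          left_inv := ?_
          right_inv := ?_ }
      · show (x * ((a.1 : E) * b)) ^ 2 ≠ z
        rw [← mul_assoc, hkey, a.2, hzz]
        exact hz1.symm
      · show (x * ((a.1 : E) * b)) ^ 2 = z
        rw [← mul_assoc, hkey]
        rcases hsq (x * a.1) with h | h
        · rw [h, mul_one]
        · exact absurd h a.2
      · intro a
        apply Subtype.ext
        apply Subtype.ext
        show (a.1 : E) * b * b = a.1
        rw [mul_assoc, hb2, mul_one]
      · intro a
        apply Subtype.ext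
        apply Subtype.ext
        show (a.1 : E) * b * b = a.1
        rw [mul_assoc, hb2, mul_one]
    have hsum : Nat.card {a : A // (x * a) ^ 2 = z} + Nat.card {a : A // (x * a) ^ 2 ≠ z} = Nat.card A := by
      haveI : Fintype A := Fintype.ofFinite A
      rw [Nat.card_eq_fintype_card, Nat.card_eq_fintype_card, Nat.card_eq_fintype_card]
      have h1 : Fintype.card {a : A // (x * (a : E)) ^ 2 ≠ z} = Fintype.card A - Fintype.card {a : A // (x * (a : E)) ^ 2 = z} :=
        Fintype.card_subtype_compl (fun a : A => (x * (a : E)) ^ 2 = z)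
      have h2 := Fintype.card_subtype_le (fun a : A => (x * (a : E)) ^ 2 = z)
      omega
    rw [hS, hAc] at hsum
    rw [hS]
    have : 2 ^ (m + 1) = 2 * 2 ^ m := by ring
    omega
  -- reduction to the cosets
  haveI : Fintype E := Fintype.ofFinite E
  haveI : Fintype (E ⧸ A) := Fintype.ofFinite _
  have hT : Nat.card {x : E // orderOf x = 4} = (Finset.univ.filter (fun x : E => x ^ 2 = z)).card := by
    rw [Nat.card_eq_fintype_card, Fintype.card_subtype]
    congr 1
    ext x
    simp [hord]
  rw [hT]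
  have hsplit := Finset.card_eq_sum_card_fiberwise
    (s := Finset.univ.filter (fun x : E => x ^ 2 = z)) (t := (Finset.univ : Finset (E ⧸ A)))
    (f := fun x => (QuotientGroup.mk x : E ⧸ A)) (fun x _ => Finset.mem_coe.2 (Finset.mem_univ _))
  rw [hsplit]
  have hfibcard : ∀ q : E ⧸ A, q ≠ QuotientGroup.mk 1 →
      (Finset.filter (fun x => (QuotientGroup.mk x : E ⧸ A) = q) (Finset.univ.filter (fun x : E => x ^ 2 = z))).card = 2 ^ m := by
    intro q hq
    obtain ⟨x₀, rfl⟩ := QuotientGroup.mk_surjective q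
    have hx₀ : x₀ ∉ A := by
      intro h
      apply hq
      rw [QuotientGroup.eq]
      simpa using h
    rw [← hfib x₀ hx₀, Nat.card_eq_fintype_card, Fintype.card_subtype]
    symm
    apply Finset.card_bij (fun (a : A) _ => x₀ * (a : E))
    · intro a ha
      rw [Finset.mem_filter, Finset.mem_filter]
      refine ⟨⟨Finset.mem_univ _, (Finset.mem_filter.1 ha).2⟩, ?_⟩
      show (QuotientGroup.mk (x₀ * (a : E)) : E ⧸ A) = QuotientGroup.mk x₀
      rw [QuotientGroup.eq]
      simp
    · intro a _ b _ h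
      exact Subtype.ext (mul_left_cancel h)
    · intro y hy
      rw [Finset.mem_filter, Finset.mem_filter] at hy
      have hq : (QuotientGroup.mk y : E ⧸ A) = QuotientGroup.mk x₀ := hy.2
      rw [QuotientGroup.eq] at hq
      refine ⟨⟨x₀⁻¹ * y, ?_⟩, ?_, ?_⟩
      · have := A.inv_mem hq
        simpa using this
      · rw [Finset.mem_filter]
        refine ⟨Finset.mem_univ _, ?_⟩
        show (x₀ * (x₀⁻¹ * y)) ^ 2 = z
        rw [mul_inv_cancel_left]
        exact hy.1.2
      · show x₀ * (x₀⁻¹ * y) = y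
        rw [mul_inv_cancel_left]
  have hfib1 : (Finset.filter (fun x => (QuotientGroup.mk x : E ⧸ A) = QuotientGroup.mk 1) (Finset.univ.filter (fun x : E => x ^ 2 = z))).card = 0 := by
    rw [Finset.card_eq_zero, Finset.filter_eq_empty_iff]
    intro x hx hq
    rw [QuotientGroup.eq] at hq
    have hxA : x ∈ A := by simpa using hq
    have := hA.2 x hxA
    rw [(Finset.mem_filter.1 hx).2] at this
    exact hz1 this
  rw [← Finset.add_sum_erase _ _ (Finset.mem_univ (QuotientGroup.mk 1 : E ⧸ A)), hfib1, zero_add]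
  rw [Finset.sum_congr rfl (fun q hq => hfibcard q (Finset.ne_of_mem_erase hq)), Finset.sum_const,
    Finset.card_erase_of_mem (Finset.mem_univ _), Finset.card_univ, smul_eq_mul]
  have hidx : Fintype.card (E ⧸ A) = 2 ^ m := by
    rw [← Nat.card_eq_fintype_card, ← Subgroup.index_eq_card]
    have h1 := Subgroup.card_mul_index A
    rw [hAc, hcard] at h1
    have h2 : 2 ^ (2 * m + 1) = 2 ^ (m + 1) * 2 ^ m := by ring
    rw [h2] at h1
    exact Nat.eq_of_mul_eq_mul_left (by positivity) h1
  rw [hidx, Nat.sub_mul, one_mul]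
  congr 1
  ring

end Cfsg.Agent.H13
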