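import Cfsg.Prelude.Def_Transfer
import Cfsg.Agent.Lib.H13.FrobOdd
import Cfsg.Agent.Lib.H01.Basic

/-! Lower bound for faithful modules of extraspecial groups: abstract decomposition under
two commuting automorphisms of prime order. -/

set_option autoImplicit false
set_option linter.style.haveILetI false

namespace Cfsg.Agent.H13.ExtraBound

open Finset

section Abstract

variable {V : Type*} [CommGroup V]

/-- The norm of an endomorphism. -/
def Nm (p : ℕ) (f : Monoid.End V) (v : V) : V := ∏ j ∈ range p, (f ^ j) v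

theorem Nm_mul (p : ℕ) (f : Monoid.End V) (u v : V) : Nm p f (u * v) = Nm p f u * Nm p f v := by
  simp [Nm, map_mul, prod_mul_distrib]

theorem pow_apply_of_fixed {f : Monoid.End V} {v : V} (h : f v = v) (j : ℕ) : (f ^ j) v = v := by
  induction j with
  | zero => rfl
  | succ n ih =>
    rw [pow_succ']
    show f ((f ^ n) v) = v
    rw [ih, h]

theorem Nm_of_fixed {p : ℕ} {f : Monoid.End V} {v : V} (h : f v = v) : Nm p f v = v ^ p := by
  simp [Nm, pow_apply_of_fixed h]

theorem apply_Nm {p : ℕ} {f : Monoid.End V} (hp : f ^ p = 1) (v : V) : f (Nm p f v) = Nm p f v := by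
  unfold Nm
  rw [map_prod]
  have h1 := prod_range_succ (fun j => (f ^ j) v) p
  have h2 := prod_range_succ' (fun j => (f ^ j) v) p
  have h3 : ∀ j, (f ^ (j + 1)) v = f ((f ^ j) v) := by
    intro j
    rw [pow_succ']
    rfl
  simp only [hp, pow_zero, h3] at h1 h2
  have h4 : (∏ j ∈ range p, (f ^ j) v) * (1 : Monoid.End V) v = (∏ j ∈ range p, f ((f ^ j) v)) * (1 : Monoid.End V) v := by
    rw [← h1, h2]
  exact (mul_right_cancel h4).symm

theorem pow_fpf {p k : ℕ} (hp : p.Prime) (hk : Nat.Coprime k p) {γ : Monoid.End V} (hγ : γ ^ p = 1)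
    (hfpf : ∀ v, γ v = v → v = 1) (v : V) (h : (γ ^ k) v = v) : v = 1 := by
  apply hfpf
  obtain ⟨m, -, hm⟩ := Nat.exists_mul_mod_eq_one_of_coprime hk hp.one_lt
  have h1 : γ = (γ ^ k) ^ m := by
    rw [← pow_mul, pow_eq_pow_mod (k * m) hγ, hm, pow_one]
  rw [h1]
  exact pow_apply_of_fixed h m

theorem Nm_pow_eq_one {p k : ℕ} (hp : p.Prime) (hk : Nat.Coprime k p) {γ : Monoid.End V}
    (hγ : γ ^ p = 1) (hfpf : ∀ v, γ v = v → v = 1) (v : V) : Nm p (γ ^ k) v = 1 := by
  apply pow_fpf hp hk hγ hfpf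
  apply apply_Nm
  rw [← pow_mul, mul_comm, pow_mul, hγ, one_pow]

/-- `T s = β * γ ^ s`. -/
theorem T_pow {β γ : Monoid.End V} (hc : Commute β γ) (s j : ℕ) :
    (β * γ ^ s) ^ j = β ^ j * γ ^ (s * j) := by
  rw [(hc.pow_right s).mul_pow, ← pow_mul]

theorem T_pow_eq_one {p : ℕ} {β γ : Monoid.End V} (hc : Commute β γ) (hβ : β ^ p = 1) (hγ : γ ^ p = 1)
    (s : ℕ) : (β * γ ^ s) ^ p = 1 := by
  rw [T_pow hc, pow_mul', hγ, hβ, one_pow, one_mul]

theorem prod_Nm_T {p : ℕ} (hp : p.Prime) {β γ : Monoid.End V} (hc : Commute β γ) (hγ : γ ^ p = 1)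
    (hfpf : ∀ v, γ v = v → v = 1) (v : V) :
    ∏ t ∈ range p, Nm p (β * γ ^ t) v = v ^ p := by
  unfold Nm
  rw [prod_comm]
  have hpos : 0 ∈ range p := mem_range.2 hp.pos
  rw [prod_eq_single_of_mem 0 hpos]
  · simp [T_pow hc]
  · intro j hj hj0
    have hjlt := mem_range.1 hj
    have hcop : Nat.Coprime j p := by
      apply Nat.Coprime.symm
      rw [hp.coprime_iff_not_dvd]
      intro hd
      have := Nat.le_of_dvd (by omega) hd
      omega
    have h1 : ∏ t ∈ range p, ((β * γ ^ t) ^ j) v = (β ^ j) (Nm p (γ ^ j) v) := by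
      unfold Nm
      rw [map_prod]
      apply prod_congr rfl
      intro t _
      rw [T_pow hc, mul_comm t j, pow_mul]
      rfl
    rw [h1, Nm_pow_eq_one hp hcop hγ hfpf, map_one]

/-- The `T_s`-norm of a `T_t`-fixed vector, `s ≠ t`. -/
theorem Nm_T_of_fixed_ne {p s t : ℕ} (hp : p.Prime) {β γ : Monoid.End V} (hc : Commute β γ)
    (hγ : γ ^ p = 1) (hfpf : ∀ v, γ v = v → v = 1) (hs : s < p) (ht : t < p) (hst : s ≠ t) {v : V}
    (hv : (β * γ ^ t) v = v) : Nm p (β * γ ^ s) v = 1 := by
  have hk : Nat.Coprime (s + p - t) p := by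
    apply Nat.Coprime.symm
    rw [hp.coprime_iff_not_dvd]
    intro hd
    obtain ⟨q, hq⟩ := hd
    have h0 : s + p - t > 0 := by omega
    have h1 : s + p - t < 2 * p := by omega
    have hq1 : q = 1 := by
      have hqpos : 0 < q := by
        rcases Nat.eq_zero_or_pos q with h | h
        · rw [h] at hq; omega
        · exact h
      have : q < 2 := by
        by_contra hge
        have : p * 2 ≤ p * q := Nat.mul_le_mul_left _ (by omega)
        omega
      omega
    rw [hq1] at hq
    omega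
  have hT : β * γ ^ s = γ ^ (s + p - t) * (β * γ ^ t) := by
    have h1 : γ ^ (s + p - t) * (β * γ ^ t) = β * (γ ^ (s + p - t) * γ ^ t) := by
      rw [← mul_assoc, ((hc.pow_right (s + p - t)).eq).symm, mul_assoc]
    rw [h1, ← pow_add, Nat.sub_add_cancel (by omega), pow_add, hγ, mul_one]
  have h2 : ∀ j, ((β * γ ^ s) ^ j) v = ((γ ^ (s + p - t)) ^ j) v := by
    intro j
    have hcomm : Commute (γ ^ (s + p - t)) (β * γ ^ t) := by
      apply Commute.mul_right
      · exact (hc.pow_right _).symm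
      · exact Commute.pow_pow_self γ _ _
    rw [hT, hcomm.mul_pow]
    show ((γ ^ (s + p - t)) ^ j) (((β * γ ^ t) ^ j) v) = _
    rw [pow_apply_of_fixed hv]
  have h3 : Nm p (β * γ ^ s) v = Nm p (γ ^ (s + p - t)) v := by
    unfold Nm
    exact prod_congr rfl (fun j _ => h2 j)
  rw [h3]
  exact Nm_pow_eq_one hp hk hγ hfpf v

theorem pow_inj_of {p : ℕ} (hinj : ∀ v : V, v ^ p = 1 → v = 1) {u v : V} (h : u ^ p = v ^ p) : u = v := by
  have : (u / v) ^ p = 1 := by rw [div_pow, h, div_self']
  exact div_eq_one.1 (hinj _ this)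

/-- The fixed subgroups of the `T_s` are independent. -/
theorem prod_card_fixed_le [Finite V] {p : ℕ} (hp : p.Prime) {β γ : Monoid.End V} (hc : Commute β γ)
    (hγ : γ ^ p = 1) (hfpf : ∀ v, γ v = v → v = 1) (hinj : ∀ v : V, v ^ p = 1 → v = 1) :
    ∏ s : Fin p, Nat.card {v : V // (β * γ ^ (s : ℕ)) v = v} ≤ Nat.card V := by
  classical
  haveI : ∀ s : Fin p, Finite {v : V // (β * γ ^ (s : ℕ)) v = v} := fun _ => inferInstance
  rw [← Nat.card_pi]
  apply Nat.card_le_card_of_injective
    (fun f : (∀ s : Fin p, {v : V // (β * γ ^ (s : ℕ)) v = v}) => ∏ s, (f s).1)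
  intro f g hfg
  funext s
  apply Subtype.ext
  have key : ∀ f : (∀ s : Fin p, {v : V // (β * γ ^ (s : ℕ)) v = v}),
      Nm p (β * γ ^ (s : ℕ)) (∏ t, (f t).1) = (f s).1 ^ p := by
    intro f
    have hmap : ∀ (S : Finset (Fin p)) (u : Fin p → V),
        Nm p (β * γ ^ (s : ℕ)) (∏ t ∈ S, u t) = ∏ t ∈ S, Nm p (β * γ ^ (s : ℕ)) (u t) := by
      intro S u
      induction S using Finset.induction_on with
      | empty =>
        simp only [prod_empty]
        exact Finset.prod_eq_one (fun j _ => map_one _)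
      | insert a S ha ih => rw [prod_insert ha, prod_insert ha, Nm_mul, ih]
    rw [hmap, prod_eq_single s]
    · exact Nm_of_fixed (f s).2
    · intro t _ hts
      apply Nm_T_of_fixed_ne hp hc hγ hfpf s.2 t.2 (fun h => hts (Fin.ext h.symm)) (f t).2
    · intro h
      exact absurd (mem_univ s) h
  have h1 := key f
  have h2 := key g
  rw [show (∏ t, (f t).1) = ∏ t, (g t).1 from hfg] at h1
  exact pow_inj_of hinj (h1.symm.trans h2)

theorem alpha_pow {α β γ : Monoid.End V} (hαβ : α * β = γ * β * α) (hαγ : α * γ = γ * α)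
    (hc : Commute β γ) (k : ℕ) :
    α ^ k * β = γ ^ k * β * α ^ k := by
  induction k with
  | zero => simp
  | succ n ih =>
    have h1 : α ^ n * γ = γ * α ^ n := ((Commute.pow_left (show Commute α γ from hαγ) n)).eq
    calc α ^ (n + 1) * β = α ^ n * (α * β) := by rw [pow_succ, mul_assoc]
      _ = α ^ n * (γ * β * α) := by rw [hαβ]
      _ = (α ^ n * γ) * β * α := by simp only [mul_assoc]
      _ = γ * (α ^ n * β) * α := by rw [h1]; simp only [mul_assoc]
      _ = γ * (γ ^ n * β * α ^ n) * α := by rw [ih]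
      _ = γ ^ (n + 1) * β * α ^ (n + 1) := by
        rw [pow_succ' γ, pow_succ α]
        simp only [mul_assoc]

/-- The decomposition lemma. -/
theorem fixed_card_pow_le [Finite V] {p : ℕ} (hp : p.Prime) {α β γ : Monoid.End V}
    (hαinj : Function.Injective α) (hc : Commute β γ) (hγ : γ ^ p = 1) (hβ : β ^ p = 1)
    (hαβ : α * β = γ * β * α) (hαγ : α * γ = γ * α) (hfpf : ∀ v, γ v = v → v = 1)
    (hinj : ∀ v : V, v ^ p = 1 → v = 1) :
    Nat.card {v : V // β v = v} ^ p ≤ Nat.card V ∧
      (Nontrivial V → ∃ v : V, v ≠ 1 ∧ β v = v) := by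
  have hcomm : ∀ t : ℕ, β * γ ^ t = γ ^ t * β := fun t => (hc.pow_right t).eq
  have hαk : ∀ k : ℕ, Function.Injective (α ^ k) := by
    intro k
    induction k with
    | zero => exact fun a b h => h
    | succ n ih =>
      rw [pow_succ]
      exact fun a b h => hαinj (ih h)
  have hmaps : ∀ (k t : ℕ) (v : V), (γ ^ t * β) v = v → (γ ^ (k + t) * β) ((α ^ k) v) = (α ^ k) v := by
    intro k t v hv
    have h1 := alpha_pow hαβ hαγ hc k
    have h2 : (γ ^ (k + t) * β) ((α ^ k) v) = (γ ^ t * (γ ^ k * β * α ^ k)) v := by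
      rw [pow_add, ← mul_assoc]
      have : γ ^ k * γ ^ t = γ ^ t * γ ^ k := Commute.pow_pow_self γ _ _
      rw [this]
      simp only [mul_assoc]
      rfl
    rw [h2, ← h1]
    have hαγk : α ^ k * γ ^ t = γ ^ t * α ^ k := (Commute.pow_pow (show Commute α γ from hαγ) k t).eq
    have h3 : (γ ^ t * (α ^ k * β)) v = (α ^ k) ((γ ^ t * β) v) := by
      have : γ ^ t * (α ^ k * β) = α ^ k * (γ ^ t * β) := by
        rw [← mul_assoc, ← hαγk, mul_assoc]
      rw [this]
      rfl
    rw [h3, hv]
  constructor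
  · have hle : ∀ s : Fin p, Nat.card {v : V // β v = v} ≤ Nat.card {v : V // (β * γ ^ (s : ℕ)) v = v} := by
      intro s
      apply Nat.card_le_card_of_injective
        (fun v : {v : V // β v = v} => (⟨(α ^ (s : ℕ)) v.1, by
          rw [hcomm]
          have h0 : (γ ^ 0 * β) v.1 = v.1 := by
            rw [pow_zero, one_mul]
            exact v.2
          exact hmaps s 0 v.1 h0⟩ : {v : V // (β * γ ^ (s : ℕ)) v = v}))
      intro a b hab
      apply Subtype.ext
      apply hαk s
      exact congrArg Subtype.val hab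
    calc Nat.card {v : V // β v = v} ^ p = ∏ _s : Fin p, Nat.card {v : V // β v = v} := by
          rw [prod_const, card_univ, Fintype.card_fin]
      _ ≤ ∏ s : Fin p, Nat.card {v : V // (β * γ ^ (s : ℕ)) v = v} :=
          Finset.prod_le_prod' (fun s _ => hle s)
      _ ≤ Nat.card V := prod_card_fixed_le hp hc hγ hfpf hinj
  · intro hnt
    by_contra hcon
    push Not at hcon
    have hβ1 : ∀ v : V, β v = v → v = 1 := by
      intro v hv
      by_contra hne
      exact hcon v hne hv
    have hTs : ∀ s : ℕ, s < p → ∀ v : V, (β * γ ^ s) v = v → v = 1 := by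
      intro s hs v hv
      rw [hcomm] at hv
      have h1 := hmaps (p - s) s v hv
      rw [Nat.sub_add_cancel hs.le, hγ, one_mul] at h1
      have h2 := hβ1 _ h1
      apply hαk (p - s)
      rw [h2, map_one]
    have hall : ∀ v : V, v = 1 := by
      intro v
      apply hinj
      rw [← prod_Nm_T hp hc hγ hfpf v]
      apply Finset.prod_eq_one
      intro t ht
      apply hTs t (mem_range.1 ht)
      exact apply_Nm (T_pow_eq_one hc hβ hγ t) v
    obtain ⟨x, y, hxy⟩ := hnt
    exact hxy ((hall x).trans (hall y).symm)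

end Abstract

section Concrete

variable {G : Type*} [Group G]

/-- Conjugation as an endomorphism of a subgroup. -/
def cj (W : Subgroup G) (g : G) (hg : g ∈ Subgroup.normalizer (W : Set G)) : Monoid.End W :=
  { toFun := fun v => ⟨g * v * g⁻¹, (Subgroup.mem_normalizer_iff.1 hg v).1 v.2⟩
    map_one' := by ext; simp
    map_mul' := fun x y => Subtype.ext (by
      show g * ((x : G) * y) * g⁻¹ = (g * x * g⁻¹) * (g * y * g⁻¹)
      group) }

@[simp] theorem cj_coe (W : Subgroup G) (g : G) (hg : g ∈ Subgroup.normalizer (W : Set G)) (v : W) :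
    ((cj W g hg v : W) : G) = g * v * g⁻¹ := rfl

theorem cj_mul (W : Subgroup G) {g h : G} (hg : g ∈ Subgroup.normalizer (W : Set G))
    (hh : h ∈ Subgroup.normalizer (W : Set G)) :
    cj W g hg * cj W h hh = cj W (g * h) (Subgroup.mul_mem _ hg hh) := by
  apply MonoidHom.ext
  intro v
  apply Subtype.ext
  show g * (h * v * h⁻¹) * g⁻¹ = (g * h) * v * (g * h)⁻¹
  group

theorem cj_congr (W : Subgroup G) {g h : G} (hg : g ∈ Subgroup.normalizer (W : Set G))
    (hh : h ∈ Subgroup.normalizer (W : Set G)) (e : g = h) : cj W g hg = cj W h hh := by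
  subst e; rfl

theorem cj_one (W : Subgroup G) (hg : (1 : G) ∈ Subgroup.normalizer (W : Set G)) :
    cj W 1 hg = 1 := by
  apply MonoidHom.ext
  intro v
  apply Subtype.ext
  show 1 * (v : G) * 1⁻¹ = v
  simp

theorem cj_pow (W : Subgroup G) {g : G} (hg : g ∈ Subgroup.normalizer (W : Set G)) (k : ℕ) :
    cj W g hg ^ k = cj W (g ^ k) (Subgroup.pow_mem _ hg k) := by
  induction k with
  | zero =>
    apply MonoidHom.ext
    intro v
    apply Subtype.ext
    rw [pow_zero]
    show (v : G) = (g ^ 0) * v * (g ^ 0)⁻¹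
    simp
  | succ n ih =>
    rw [pow_succ, ih, cj_mul]
    exact cj_congr _ _ _ (pow_succ g n).symm

/-- The concrete decomposition lemma. -/
theorem conj_decomp [Finite G] (W : Subgroup G) {p : ℕ} (hp : p.Prime) (hWc : ∀ x ∈ W, ∀ y ∈ W, x * y = y * x)
    (hWp : ∀ v ∈ W, v ^ p = 1 → v = 1) {a b c : G} (ha : a ∈ Subgroup.normalizer (W : Set G))
    (hb : b ∈ Subgroup.normalizer (W : Set G)) (hc : c ∈ Subgroup.normalizer (W : Set G))
    (hab : a * b * a⁻¹ = c * b) (hcb : c * b = b * c) (hca : c * a = a * c) (hcp : c ^ p = 1)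
    (hbp : b ^ p = 1) (hfpf : ∀ v ∈ W, c * v * c⁻¹ = v → v = 1) :
    Nat.card (W ⊓ Subgroup.centralizer ({b} : Set G) : Subgroup G) ^ p ≤ Nat.card W ∧
      (W ≠ ⊥ → W ⊓ Subgroup.centralizer ({b} : Set G) ≠ ⊥) := by
  letI : CommGroup W := { (inferInstance : Group W) with
    mul_comm := fun x y => Subtype.ext (hWc x x.2 y y.2) }
  have hone : (1 : G) ∈ Subgroup.normalizer (W : Set G) := Subgroup.one_mem _
  have hmain := fixed_card_pow_le (V := W) hp (α := cj W a ha) (β := cj W b hb) (γ := cj W c hc)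
    (by
      intro x y hxy
      apply Subtype.ext
      have : a * (x : G) * a⁻¹ = a * y * a⁻¹ := congrArg Subtype.val hxy
      exact mul_left_cancel (mul_right_cancel this))
    (by
      show cj W b hb * cj W c hc = cj W c hc * cj W b hb
      rw [cj_mul, cj_mul]
      exact cj_congr _ _ _ hcb.symm)
    (by
      rw [cj_pow, ← cj_one W hone]
      exact cj_congr _ _ _ hcp)
    (by
      rw [cj_pow, ← cj_one W hone]
      exact cj_congr _ _ _ hbp)
    (by
      rw [cj_mul, cj_mul, cj_mul]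
      apply cj_congr
      have : a * b = c * b * a := by rw [← hab]; group
      exact this)
    (by
      rw [cj_mul, cj_mul]
      exact cj_congr _ _ _ hca.symm)
    (by
      intro v hv
      apply Subtype.ext
      exact hfpf v v.2 (congrArg Subtype.val hv))
    (by
      intro v hv
      apply Subtype.ext
      exact hWp v v.2 (congrArg Subtype.val hv))
  have hiff : ∀ v : W, (cj W b hb v = v) ↔ (v : G) ∈ Subgroup.centralizer ({b} : Set G) := by
    intro v
    rw [Subgroup.mem_centralizer_iff]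
    constructor
    · intro h w hw
      rw [Set.mem_singleton_iff.1 hw]
      have h1 : b * (v : G) * b⁻¹ = v := congrArg Subtype.val h
      exact (eq_mul_inv_iff_mul_eq.1 h1.symm).symm
    · intro h
      apply Subtype.ext
      show b * (v : G) * b⁻¹ = v
      rw [h b (Set.mem_singleton b)]
      group
  have hcard : Nat.card {v : W // cj W b hb v = v} =
      Nat.card (W ⊓ Subgroup.centralizer ({b} : Set G) : Subgroup G) := by
    apply Nat.card_congr
    exact
      { toFun := fun v => ⟨v.1.1, Subgroup.mem_inf.2 ⟨v.1.2, (hiff v.1).1 v.2⟩⟩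
        invFun := fun v => ⟨⟨v.1, (Subgroup.mem_inf.1 v.2).1⟩, (hiff _).2 (Subgroup.mem_inf.1 v.2).2⟩
        left_inv := fun v => rfl
        right_inv := fun v => rfl }
  refine ⟨?_, ?_⟩
  · rw [← hcard]
    exact hmain.1
  · intro hne
    have hnt : Nontrivial W := (Subgroup.nontrivial_iff_ne_bot W).2 hne
    obtain ⟨v, hv1, hv2⟩ := hmain.2 hnt
    intro hbot
    have h3 : (v : G) ∈ W ⊓ Subgroup.centralizer ({b} : Set G) :=
      Subgroup.mem_inf.2 ⟨v.2, (hiff v).1 hv2⟩
    rw [hbot] at h3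
    apply hv1
    apply Subtype.ext
    exact h3

end Concrete

end Cfsg.Agent.H13.ExtraBound
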