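import Cfsg.Agent.Lib.H13.ExtraBound

/-! Lower bound for faithful modules of extraspecial groups: the induction. -/

set_option autoImplicit false
set_option linter.style.haveILetI false

namespace Cfsg.Agent.H13.ExtraBound

variable {G : Type*} [Group G]

/-- The data of an extraspecial subgroup. -/
structure ExtC (p : ℕ) (E : Subgroup G) (z : G) (w : ℕ) : Prop where
  zE : z ∈ E
  z1 : z ≠ 1
  zp : z ^ p = 1
  zc : ∀ x ∈ E, x * z = z * x
  comm : ∀ x ∈ E, ∀ y ∈ E, x * y * x⁻¹ * y⁻¹ ∈ Subgroup.zpowers z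
  pow : ∀ x ∈ E, x ^ p ∈ Subgroup.zpowers z
  cen : ∀ x ∈ E, (∀ y ∈ E, x * y = y * x) → x ∈ Subgroup.zpowers z
  card : Nat.card E = p ^ (2 * w + 1)

theorem comm_of_mem_zpowers {K : Subgroup G} {z : G} (hcz : ∀ x ∈ K, x * z = z * x) {u x : G}
    (hu : u ∈ Subgroup.zpowers z) (hx : x ∈ K) : x * u = u * x := by
  obtain ⟨i, rfl⟩ := Subgroup.mem_zpowers_iff.1 hu
  exact (Commute.zpow_right (show Commute x z from hcz x hx) i).eq

theorem zpowers_eq_of_ne_one {p : ℕ} [Fact p.Prime] {z c : G} (hzo : orderOf z = p)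
    (hc : c ∈ Subgroup.zpowers z) (hc1 : c ≠ 1) : z ∈ Subgroup.zpowers c := by
  have hpr : p.Prime := Fact.out
  have hle : Subgroup.zpowers c ≤ Subgroup.zpowers z := (Subgroup.zpowers_le).2 hc
  have hcard : Nat.card (Subgroup.zpowers z) = p := by rw [Nat.card_zpowers, hzo]
  have hfin : Finite (Subgroup.zpowers z) := Nat.finite_of_card_ne_zero (by rw [hcard]; exact hpr.ne_zero)
  have hd : Nat.card (Subgroup.zpowers c) ∣ p := by
    rw [← hcard]
    exact Subgroup.card_dvd_of_le hle
  rcases (Nat.dvd_prime hpr).1 hd with h | h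
  · exfalso
    rw [Nat.card_zpowers, orderOf_eq_one_iff] at h
    exact hc1 h
  · have heq : Subgroup.zpowers c = Subgroup.zpowers z := by
      haveI := hfin
      apply Subgroup.eq_of_le_of_card_ge hle
      rw [hcard, h]
    rw [heq]
    exact Subgroup.mem_zpowers z

/-- One step of the reduction. -/
theorem index_step [Finite G] {p : ℕ} [Fact p.Prime] {K : Subgroup G} {z g y : G} (hzo : orderOf z = p)
    (hcz : ∀ x ∈ K, x * z = z * x)
    (hc : ∀ x ∈ K, x * g * x⁻¹ * g⁻¹ ∈ Subgroup.zpowers z) (hy : y ∈ K) (hyg : y * g * y⁻¹ * g⁻¹ ≠ 1) :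
    Nat.card K = p * Nat.card (K ⊓ Subgroup.centralizer ({g} : Set G) : Subgroup G) ∧
      ∀ x ∈ K, ∃ k : ℕ, x * (y ^ k)⁻¹ ∈ Subgroup.centralizer ({g} : Set G) := by
  classical
  have hpr : p.Prime := Fact.out
  have hcom : ∀ u ∈ Subgroup.zpowers z, ∀ v ∈ Subgroup.zpowers z, u * v = v * u := by
    intro u hu v hv
    obtain ⟨i, rfl⟩ := Subgroup.mem_zpowers_iff.1 hu
    obtain ⟨j, rfl⟩ := Subgroup.mem_zpowers_iff.1 hv
    exact (Commute.zpow_zpow_self z i j).eq
  let f : K →* Subgroup.zpowers z := MonoidHom.mk'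
    (fun x => ⟨(x : G) * g * (x : G)⁻¹ * g⁻¹, hc x x.2⟩) (by
      intro a b
      apply Subtype.ext
      show ((a : G) * b) * g * ((a : G) * b)⁻¹ * g⁻¹ = ((a : G) * g * (a : G)⁻¹ * g⁻¹) * ((b : G) * g * (b : G)⁻¹ * g⁻¹)
      have h1 := hc b b.2
      have h2 := comm_of_mem_zpowers hcz h1 a.2
      have h3 := hcom _ (hc a a.2) _ h1
      rw [h3]
      have e1 : ((a : G) * b) * g * ((a : G) * b)⁻¹ * g⁻¹ =
          (a : G) * ((b : G) * g * (b : G)⁻¹ * g⁻¹) * (a : G)⁻¹ * ((a : G) * g * (a : G)⁻¹ * g⁻¹) := by group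
      rw [e1, h2]
      group)
  have hfcoe : ∀ x : K, ((f x : Subgroup.zpowers z) : G) = (x : G) * g * (x : G)⁻¹ * g⁻¹ := fun x => rfl
  have hfy : f ⟨y, hy⟩ ≠ 1 := by
    intro h
    apply hyg
    have := congrArg Subtype.val h
    exact this
  have hcardz : Nat.card (Subgroup.zpowers z) = p := by rw [Nat.card_zpowers, hzo]
  have hgen : ∀ u : Subgroup.zpowers z, ∃ k : ℕ, f ⟨y, hy⟩ ^ k = u := by
    intro u
    have hmem : (u : G) ∈ Subgroup.zpowers ((f ⟨y, hy⟩ : Subgroup.zpowers z) : G) := by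
      have h1 := zpowers_eq_of_ne_one (p := p) hzo (f ⟨y, hy⟩).2 (fun h => hfy (Subtype.ext h))
      have h2 : Subgroup.zpowers z ≤ Subgroup.zpowers ((f ⟨y, hy⟩ : Subgroup.zpowers z) : G) :=
        (Subgroup.zpowers_le).2 h1
      exact h2 u.2
    obtain ⟨i, hi⟩ := Subgroup.mem_zpowers_iff.1 hmem
    have h3 : (f ⟨y, hy⟩) ^ i = u := Subtype.ext (by simpa using hi)
    have h4 : u ∈ Subgroup.zpowers (f ⟨y, hy⟩) := ⟨i, h3⟩
    rw [← mem_powers_iff_mem_zpowers] at h4
    obtain ⟨k, hk⟩ := h4
    exact ⟨k, hk⟩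
  have hsurj : Function.Surjective f := by
    intro u
    obtain ⟨k, hk⟩ := hgen u
    exact ⟨⟨y, hy⟩ ^ k, by rw [map_pow, hk]⟩
  have hker : ∀ x : K, f x = 1 ↔ (x : G) ∈ Subgroup.centralizer ({g} : Set G) := by
    intro x
    rw [Subgroup.mem_centralizer_iff]
    constructor
    · intro h w hw
      rw [Set.mem_singleton_iff.1 hw]
      have h1 : (x : G) * g * (x : G)⁻¹ * g⁻¹ = 1 := congrArg Subtype.val h
      have h2 : (x : G) * g = g * x := by
        have : (x : G) * g * (x : G)⁻¹ = g := by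
          rw [mul_inv_eq_one] at h1
          exact h1
        rw [mul_inv_eq_iff_eq_mul] at this
        exact this
      exact h2.symm
    · intro h
      apply Subtype.ext
      show (x : G) * g * (x : G)⁻¹ * g⁻¹ = 1
      have := h g (Set.mem_singleton g)
      rw [← this]
      group
  constructor
  · have h1 : f.ker.index = Nat.card (Subgroup.zpowers z) := by
      rw [Subgroup.index_ker, MonoidHom.range_eq_top.2 hsurj]
      exact Nat.card_congr (Subgroup.topEquiv).toEquiv
    have h2 := Subgroup.card_mul_index f.ker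
    rw [h1, hcardz] at h2
    have h3 : Nat.card f.ker = Nat.card (K ⊓ Subgroup.centralizer ({g} : Set G) : Subgroup G) := by
      apply Nat.card_congr
      exact
        { toFun := fun v => ⟨v.1.1, Subgroup.mem_inf.2 ⟨v.1.2, (hker v.1).1 (MonoidHom.mem_ker.1 v.2)⟩⟩
          invFun := fun v => ⟨⟨v.1, (Subgroup.mem_inf.1 v.2).1⟩, MonoidHom.mem_ker.2 ((hker _).2 (Subgroup.mem_inf.1 v.2).2)⟩
          left_inv := fun v => rfl
          right_inv := fun v => rfl }
    rw [← h2, h3, mul_comm]
  · intro x hx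
    obtain ⟨k, hk⟩ := hgen (f ⟨x, hx⟩)
    refine ⟨k, ?_⟩
    have h1 : f (⟨x, hx⟩ * (⟨y, hy⟩ ^ k)⁻¹) = 1 := by
      rw [map_mul, map_inv, map_pow, hk, mul_inv_cancel]
    exact (hker _).1 h1

/-- Passing to the centraliser of a non-abelian pair. -/
theorem ExtC.reduce [Finite G] {p : ℕ} [Fact p.Prime] {E : Subgroup G} {z : G} {w : ℕ}
    (h : ExtC p E z (w + 1)) {a b : G} (ha : a ∈ E) (hb : b ∈ E) (hab : a * b ≠ b * a) :
    ExtC p (E ⊓ Subgroup.centralizer ({b} : Set G) ⊓ Subgroup.centralizer ({a} : Set G)) z w := by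
  have hpr : p.Prime := Fact.out
  have hzo : orderOf z = p := orderOf_eq_prime h.zp h.z1
  have hne : a * b * a⁻¹ * b⁻¹ ≠ 1 := by
    intro h1
    apply hab
    have : a * b * a⁻¹ = b := by
      rw [mul_inv_eq_one] at h1
      exact h1
    rw [mul_inv_eq_iff_eq_mul] at this
    exact this
  have hne' : b * a * b⁻¹ * a⁻¹ ≠ 1 := by
    intro h1
    apply hab
    have : b * a * b⁻¹ = a := by
      rw [mul_inv_eq_one] at h1
      exact h1
    rw [mul_inv_eq_iff_eq_mul] at this
    exact this.symm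
  obtain ⟨h1c, h1d⟩ := index_step (p := p) (K := E) (g := b) (y := a) hzo h.zc
    (fun x hx => h.comm x hx b hb) ha hne
  have hbK : b ∈ E ⊓ Subgroup.centralizer ({b} : Set G) := by
    refine Subgroup.mem_inf.2 ⟨hb, Subgroup.mem_centralizer_iff.2 ?_⟩
    intro w hw
    rw [Set.mem_singleton_iff.1 hw]
  obtain ⟨h2c, h2d⟩ := index_step (p := p) (K := E ⊓ Subgroup.centralizer ({b} : Set G)) (g := a) (y := b) hzo
    (fun x hx => h.zc x (Subgroup.mem_inf.1 hx).1)
    (fun x hx => h.comm x (Subgroup.mem_inf.1 hx).1 a ha) hbK hne'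
  have hzb : z ∈ Subgroup.centralizer ({b} : Set G) := by
    rw [Subgroup.mem_centralizer_iff]
    intro w hw
    rw [Set.mem_singleton_iff.1 hw]
    exact h.zc b hb
  have hza : z ∈ Subgroup.centralizer ({a} : Set G) := by
    rw [Subgroup.mem_centralizer_iff]
    intro w hw
    rw [Set.mem_singleton_iff.1 hw]
    exact h.zc a ha
  refine
    { zE := Subgroup.mem_inf.2 ⟨Subgroup.mem_inf.2 ⟨h.zE, hzb⟩, hza⟩
      z1 := h.z1
      zp := h.zp
      zc := fun x hx => h.zc x (Subgroup.mem_inf.1 (Subgroup.mem_inf.1 hx).1).1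
      comm := fun x hx y hy => h.comm x (Subgroup.mem_inf.1 (Subgroup.mem_inf.1 hx).1).1 y
        (Subgroup.mem_inf.1 (Subgroup.mem_inf.1 hy).1).1
      pow := fun x hx => h.pow x (Subgroup.mem_inf.1 (Subgroup.mem_inf.1 hx).1).1
      cen := ?_
      card := ?_ }
  · intro x hx hxc
    apply h.cen x (Subgroup.mem_inf.1 (Subgroup.mem_inf.1 hx).1).1
    intro y hy
    have hxb : x * b = b * x :=
      ((Subgroup.mem_centralizer_iff.1 (Subgroup.mem_inf.1 (Subgroup.mem_inf.1 hx).1).2) b (Set.mem_singleton b)).symm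
    have hxa : x * a = a * x :=
      ((Subgroup.mem_centralizer_iff.1 (Subgroup.mem_inf.1 hx).2) a (Set.mem_singleton a)).symm
    obtain ⟨k, hk⟩ := h1d y hy
    have hy2 : y * (a ^ k)⁻¹ ∈ E ⊓ Subgroup.centralizer ({b} : Set G) :=
      Subgroup.mem_inf.2 ⟨E.mul_mem hy (E.inv_mem (E.pow_mem ha k)), hk⟩
    obtain ⟨l, hl⟩ := h2d _ hy2
    have hy1 : y * (a ^ k)⁻¹ * (b ^ l)⁻¹ ∈ E ⊓ Subgroup.centralizer ({b} : Set G) ⊓ Subgroup.centralizer ({a} : Set G) :=
      Subgroup.mem_inf.2 ⟨Subgroup.mul_mem _ hy2 (Subgroup.inv_mem _ (Subgroup.pow_mem _ hbK l)), hl⟩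
    have hc1 := hxc _ hy1
    have hxak : Commute x (a ^ k) := (show Commute x a from hxa).pow_right k
    have hxbl : Commute x (b ^ l) := (show Commute x b from hxb).pow_right l
    have e : y = (y * (a ^ k)⁻¹ * (b ^ l)⁻¹) * (b ^ l) * (a ^ k) := by group
    rw [e]
    calc x * ((y * (a ^ k)⁻¹ * (b ^ l)⁻¹) * (b ^ l) * (a ^ k))
        = (x * (y * (a ^ k)⁻¹ * (b ^ l)⁻¹)) * (b ^ l) * (a ^ k) := by group
      _ = ((y * (a ^ k)⁻¹ * (b ^ l)⁻¹) * x) * (b ^ l) * (a ^ k) := by rw [hc1]
      _ = (y * (a ^ k)⁻¹ * (b ^ l)⁻¹) * (x * (b ^ l)) * (a ^ k) := by group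
      _ = (y * (a ^ k)⁻¹ * (b ^ l)⁻¹) * ((b ^ l) * x) * (a ^ k) := by rw [hxbl.eq]
      _ = (y * (a ^ k)⁻¹ * (b ^ l)⁻¹) * (b ^ l) * (x * (a ^ k)) := by group
      _ = (y * (a ^ k)⁻¹ * (b ^ l)⁻¹) * (b ^ l) * ((a ^ k) * x) := by rw [hxak.eq]
      _ = ((y * (a ^ k)⁻¹ * (b ^ l)⁻¹) * (b ^ l) * (a ^ k)) * x := by group
  · have hc := h.card
    rw [h1c, h2c] at hc
    have : p ^ (2 * (w + 1) + 1) = p * (p * p ^ (2 * w + 1)) := by ring
    rw [this] at hc
    have h3 := Nat.eq_of_mul_eq_mul_left hpr.pos hc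
    exact Nat.eq_of_mul_eq_mul_left hpr.pos h3

theorem mem_C_iff {b h : G} : h ∈ Subgroup.centralizer ({b} : Set G) ↔ b * h = h * b := by
  rw [Subgroup.mem_centralizer_iff]
  constructor
  · intro H
    exact H b (Set.mem_singleton b)
  · intro H w hw
    rw [Set.mem_singleton_iff.1 hw]
    exact H

theorem mem_zpowers_two {z u : G} (hz : z ^ 2 = 1) (hu : u ∈ Subgroup.zpowers z) : u = 1 ∨ u = z := by
  obtain ⟨i, rfl⟩ := Subgroup.mem_zpowers_iff.1 hu
  rcases Int.even_or_odd' i with ⟨j, rfl | rfl⟩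
  · left
    rw [zpow_mul]
    have : z ^ (2 : ℤ) = 1 := by exact_mod_cast hz
    rw [this, one_zpow]
  · right
    rw [zpow_add, zpow_mul]
    have : z ^ (2 : ℤ) = 1 := by exact_mod_cast hz
    rw [this, one_zpow, one_mul, zpow_one]

theorem pow_of_mem_zpowers {z c : G} {p : ℕ} (hz : z ^ p = 1) (hc : c ∈ Subgroup.zpowers z) : c ^ p = 1 := by
  obtain ⟨i, rfl⟩ := Subgroup.mem_zpowers_iff.1 hc
  rw [← zpow_natCast, ← zpow_mul, mul_comm, zpow_mul, zpow_natCast, hz, one_zpow]

theorem main_bound [Finite G] {p r n : ℕ} [Fact p.Prime] [Fact r.Prime] (hpr : p ≠ r) (hn : 1 ≤ n)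
    (hmin : ∀ k : ℕ, 1 ≤ k → p ∣ r ^ k - 1 → n ≤ k) :
    ∀ (w : ℕ) (E : Subgroup G) (z : G) (W : Subgroup G), ExtC p E z w →
      E ≤ Subgroup.normalizer (W : Set G) → (∀ x ∈ W, ∀ y ∈ W, x * y = y * x) → (∀ v ∈ W, v ^ r = 1) →
      W ≠ ⊥ → (∀ v ∈ W, z * v * z⁻¹ = v → v = 1) → r ^ (n * p ^ w) ≤ Nat.card W := by
  classical
  have hp : p.Prime := Fact.out
  have hr : r.Prime := Fact.out
  have hcop : p.Coprime r := (Nat.coprime_primes hp hr).2 hpr
  -- common facts
  have hcard : ∀ W : Subgroup G, (∀ v ∈ W, v ^ r = 1) → W ≠ ⊥ → ∃ k, 1 ≤ k ∧ Nat.card W = r ^ k := by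
    intro W hWr hW1
    have hpg : IsPGroup r W := fun g => ⟨1, by
      rw [pow_one]
      exact Subtype.ext (hWr g g.2)⟩
    obtain ⟨k, hk⟩ := IsPGroup.iff_card.1 hpg
    refine ⟨k, ?_, hk⟩
    rcases Nat.eq_zero_or_pos k with h0 | h0
    · exfalso
      rw [h0, pow_zero] at hk
      exact hW1 (Subgroup.card_eq_one.1 hk)
    · exact h0
  have hWpow : ∀ W : Subgroup G, (∀ v ∈ W, v ^ r = 1) → ∀ v ∈ W, v ^ p = 1 → v = 1 := by
    intro W hWr v hv h1
    have h2 := orderOf_dvd_of_pow_eq_one h1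
    have h3 := orderOf_dvd_of_pow_eq_one (hWr v hv)
    have h4 := Nat.dvd_gcd h2 h3
    rw [hcop.gcd_eq_one] at h4
    exact orderOf_eq_one_iff.1 (Nat.dvd_one.1 h4)
  intro w
  induction w with
  | zero =>
    intro E z W hE hN hWc hWr hW1 hfpf
    obtain ⟨k, hk1, hk⟩ := hcard W hWr hW1
    haveI : Fintype W := Fintype.ofFinite W
    have hzN := hN hE.zE
    let γ := cj W z hzN
    let f : Function.End W := fun v => γ v
    have hfp : ∀ (k : ℕ) (v : W), (f ^ k) v = (γ ^ k) v := by
      intro k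
      induction k with
      | zero => intro v; rfl
      | succ m ih =>
        intro v
        rw [pow_succ', pow_succ']
        show f ((f ^ m) v) = γ ((γ ^ m) v)
        rw [ih]
    have hf1 : f ^ p ^ 1 = 1 := by
      funext v
      rw [hfp, pow_one]
      show ((γ ^ p) v) = v
      have : γ ^ p = cj W (z ^ p) (Subgroup.pow_mem _ hzN p) := cj_pow W hzN p
      rw [this]
      apply Subtype.ext
      show z ^ p * (v : G) * (z ^ p)⁻¹ = v
      rw [hE.zp]
      simp
    have hmod := Equiv.Perm.card_fixedPoints_modEq (p := p) (n := 1) hf1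
    have hfix : Fintype.card f.fixedPoints = 1 := by
      rw [Fintype.card_eq_one_iff]
      refine ⟨⟨1, ?_⟩, ?_⟩
      · show γ 1 = 1
        exact map_one γ
      · intro y
        apply Subtype.ext
        apply Subtype.ext
        have hy : f y.1 = y.1 := y.2
        have h1 : z * ((y.1 : W) : G) * z⁻¹ = y.1 := congrArg Subtype.val hy
        exact hfpf _ y.1.2 h1
    rw [hfix, ← Nat.card_eq_fintype_card, hk] at hmod
    have hone : 1 ≤ r ^ k := Nat.one_le_pow _ _ hr.pos
    have hd : p ∣ r ^ k - 1 := (Nat.modEq_iff_dvd' hone).1 hmod.symm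
    have hnk := hmin k hk1 hd
    rw [hk, pow_zero, mul_one]
    exact Nat.pow_le_pow_right hr.pos hnk
  | succ w ih =>
    intro E z W hE hN hWc hWr hW1 hfpf
    have hzo : orderOf z = p := orderOf_eq_prime hE.zp hE.z1
    -- facts for a noncommuting pair
    have hpair : ∀ a ∈ E, ∀ b ∈ E, a * b ≠ b * a →
        (a * b * a⁻¹ * b⁻¹ ∈ Subgroup.zpowers z) ∧ (a * b * a⁻¹ * b⁻¹ ≠ 1) ∧
        (∀ v ∈ W, (a * b * a⁻¹ * b⁻¹) * v * (a * b * a⁻¹ * b⁻¹)⁻¹ = v → v = 1) := by
      intro a ha b hb hab
      have hc := hE.comm a ha b hb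
      have hc1 : a * b * a⁻¹ * b⁻¹ ≠ 1 := by
        intro h1
        apply hab
        have : a * b * a⁻¹ = b := by
          rw [mul_inv_eq_one] at h1
          exact h1
        rw [mul_inv_eq_iff_eq_mul] at this
        exact this
      refine ⟨hc, hc1, ?_⟩
      intro v hv hfix
      apply hfpf v hv
      have hz := zpowers_eq_of_ne_one (p := p) hzo hc hc1
      obtain ⟨i, hi⟩ := Subgroup.mem_zpowers_iff.1 hz
      have hcomm : Commute (a * b * a⁻¹ * b⁻¹) v := by
        show (a * b * a⁻¹ * b⁻¹) * v = v * (a * b * a⁻¹ * b⁻¹)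
        rw [mul_inv_eq_iff_eq_mul] at hfix
        exact hfix
      have hcz : Commute z v := by
        rw [← hi]
        exact hcomm.zpow_left i
      rw [hcz.eq]
      group
    by_cases hb : ∃ b ∈ E, b ∉ Subgroup.zpowers z ∧ b ^ p = 1
    · obtain ⟨b, hbE, hbz, hbp⟩ := hb
      obtain ⟨a, haE, hab⟩ : ∃ a ∈ E, a * b ≠ b * a := by
        by_contra hcon
        push Not at hcon
        apply hbz
        apply hE.cen b hbE
        intro y hy
        exact (hcon y hy).symm
      obtain ⟨hc, hc1, hcfix⟩ := hpair a haE b hbE hab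
      have hcE : a * b * a⁻¹ * b⁻¹ ∈ E := by
        exact E.mul_mem (E.mul_mem (E.mul_mem haE hbE) (E.inv_mem haE)) (E.inv_mem hbE)
      obtain ⟨h1, h2⟩ := conj_decomp W hp hWc (hWpow W hWr) (hN haE) (hN hbE) (hN hcE)
        (by group) (comm_of_mem_zpowers hE.zc hc hbE).symm (comm_of_mem_zpowers hE.zc hc haE).symm
        (pow_of_mem_zpowers hE.zp hc) hbp hcfix
      have hE1 := hE.reduce haE hbE hab
      have hNF : E ⊓ Subgroup.centralizer ({b} : Set G) ⊓ Subgroup.centralizer ({a} : Set G) ≤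
          Subgroup.normalizer ((W ⊓ Subgroup.centralizer ({b} : Set G) : Subgroup G) : Set G) := by
        intro x hx
        have hxE := (Subgroup.mem_inf.1 (Subgroup.mem_inf.1 hx).1).1
        have hxb : b * x = x * b := mem_C_iff.1 (Subgroup.mem_inf.1 (Subgroup.mem_inf.1 hx).1).2
        rw [Subgroup.mem_normalizer_iff]
        intro h
        have hW := Subgroup.mem_normalizer_iff.1 (hN hxE) h
        have hC : h ∈ Subgroup.centralizer ({b} : Set G) ↔ x * h * x⁻¹ ∈ Subgroup.centralizer ({b} : Set G) := by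
          rw [mem_C_iff, mem_C_iff]
          constructor
          · intro H
            have e1 : b * (x * h * x⁻¹) = x * (b * h) * x⁻¹ := by
              rw [← mul_assoc, ← mul_assoc, hxb]
              group
            have e2 : x * h * x⁻¹ * b = x * (h * b) * x⁻¹ := by
              have : x⁻¹ * b = b * x⁻¹ := by
                rw [inv_mul_eq_iff_eq_mul, ← mul_assoc, ← hxb]
                group
              rw [mul_assoc, this]
              group
            rw [e1, e2, H]
          · intro H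
            have e1 : b * (x * h * x⁻¹) = x * (b * h) * x⁻¹ := by
              rw [← mul_assoc, ← mul_assoc, hxb]
              group
            have e2 : x * h * x⁻¹ * b = x * (h * b) * x⁻¹ := by
              have : x⁻¹ * b = b * x⁻¹ := by
                rw [inv_mul_eq_iff_eq_mul, ← mul_assoc, ← hxb]
                group
              rw [mul_assoc, this]
              group
            rw [e1, e2] at H
            exact mul_left_cancel (mul_right_cancel H)
        show h ∈ W ⊓ _ ↔ x * h * x⁻¹ ∈ W ⊓ _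
        rw [Subgroup.mem_inf, Subgroup.mem_inf, hW, hC]
      have h3 := ih _ z (W ⊓ Subgroup.centralizer ({b} : Set G)) hE1 hNF
        (fun x hx y hy => hWc x (Subgroup.mem_inf.1 hx).1 y (Subgroup.mem_inf.1 hy).1)
        (fun v hv => hWr v (Subgroup.mem_inf.1 hv).1) (h2 hW1)
        (fun v hv => hfpf v (Subgroup.mem_inf.1 hv).1)
      calc r ^ (n * p ^ (w + 1)) = (r ^ (n * p ^ w)) ^ p := by
            rw [← pow_mul, pow_succ, mul_assoc]
        _ ≤ (Nat.card (W ⊓ Subgroup.centralizer ({b} : Set G) : Subgroup G)) ^ p := Nat.pow_le_pow_left h3 p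
        _ ≤ Nat.card W := h1
    · push Not at hb
      have hB : ∀ b ∈ E, b ^ p = 1 → b ∈ Subgroup.zpowers z := by
        intro b hb1 hb2
        by_contra hcon
        exact hb b hb1 hcon hb2
      -- noncommuting pair
      have hcardz : Nat.card (Subgroup.zpowers z) = p := by rw [Nat.card_zpowers, hzo]
      obtain ⟨b, hbE, hbz⟩ : ∃ b ∈ E, b ∉ Subgroup.zpowers z := by
        by_contra hcon
        push Not at hcon
        have h1 : E ≤ Subgroup.zpowers z := hcon
        have h2 := Subgroup.card_le_of_le h1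
        rw [hE.card, hcardz] at h2
        have h3 : p ^ 1 < p ^ (2 * (w + 1) + 1) := Nat.pow_lt_pow_right hp.one_lt (by omega)
        rw [pow_one] at h3
        omega
      obtain ⟨a, haE, hab⟩ : ∃ a ∈ E, a * b ≠ b * a := by
        by_contra hcon
        push Not at hcon
        apply hbz
        apply hE.cen b hbE
        intro y hy
        exact (hcon y hy).symm
      by_cases hp2 : p = 2
      · subst hp2
        have hsq : ∀ x ∈ E, x ∉ Subgroup.zpowers z → x ^ 2 = z := by
          intro x hx hxz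
          rcases mem_zpowers_two hE.zp (hE.pow x hx) with h | h
          · exact absurd (hB x hx h) hxz
          · exact h
        have haz : a ∉ Subgroup.zpowers z := by
          intro h
          exact hab (comm_of_mem_zpowers hE.zc h hbE).symm
        have hw0 : w = 0 := by
          by_contra hw
          have hE1 := hE.reduce haE hbE hab
          obtain ⟨d, hdE, hdz⟩ : ∃ d ∈ E ⊓ Subgroup.centralizer ({b} : Set G) ⊓ Subgroup.centralizer ({a} : Set G),
              d ∉ Subgroup.zpowers z := by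
            by_contra hcon
            push Not at hcon
            have h1 : E ⊓ Subgroup.centralizer ({b} : Set G) ⊓ Subgroup.centralizer ({a} : Set G) ≤ Subgroup.zpowers z := hcon
            have h2 := Subgroup.card_le_of_le h1
            rw [hE1.card, hcardz] at h2
            have h3 : 2 ^ 1 < 2 ^ (2 * w + 1) := Nat.pow_lt_pow_right (by norm_num) (by omega)
            omega
          have hdE' := (Subgroup.mem_inf.1 (Subgroup.mem_inf.1 hdE).1).1
          have hdb : b * d = d * b := mem_C_iff.1 (Subgroup.mem_inf.1 (Subgroup.mem_inf.1 hdE).1).2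
          have hda : a * d = d * a := mem_C_iff.1 (Subgroup.mem_inf.1 hdE).2
          have hadsq : (a * d) ^ 2 = 1 := by
            have hc : Commute a d := hda
            rw [hc.mul_pow, hsq a haE haz, hsq d hdE' hdz, ← pow_two, hE.zp]
          have h1 := hB _ (E.mul_mem haE hdE') hadsq
          have h2 := comm_of_mem_zpowers hE.zc h1 hbE
          apply hab
          have h3 : b * a * d = a * b * d := by
            calc b * a * d = b * (a * d) := by group
              _ = (a * d) * b := h2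
              _ = a * (d * b) := by group
              _ = a * (b * d) := by rw [hdb]
              _ = a * b * d := by group
          exact (mul_right_cancel h3).symm
        subst hw0
        have hn1 : n = 1 := by
          have hodd : Odd r := hr.odd_of_ne_two (Ne.symm hpr)
          obtain ⟨m, hm⟩ := hodd
          have : 2 ∣ r ^ 1 - 1 := by
            rw [pow_one, hm]
            exact ⟨m, by omega⟩
          have := hmin 1 le_rfl this
          omega
        subst hn1
        obtain ⟨k, hk1, hk⟩ := hcard W hWr hW1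
        obtain ⟨hc, hc1, hcfix⟩ := hpair a haE b hbE hab
        have hk2 : 2 ≤ k := by
          by_contra hlt
          have hk11 : k = 1 := by omega
          subst hk11
          rw [pow_one] at hk
          -- `W` is cyclic of prime order
          obtain ⟨v, hvW, hv1⟩ := (Subgroup.bot_or_exists_ne_one W).resolve_left hW1
          have hvo : orderOf v = r := orderOf_eq_prime (hWr v hvW) hv1
          have hWv : Subgroup.zpowers v = W := by
            apply Subgroup.eq_of_le_of_card_ge ((Subgroup.zpowers_le).2 hvW)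
            rw [hk, Nat.card_zpowers, hvo]
          have hav : a * v * a⁻¹ ∈ Subgroup.zpowers v := by
            rw [hWv]
            exact (Subgroup.mem_normalizer_iff.1 (hN haE) v).1 hvW
          have hbv : b * v * b⁻¹ ∈ Subgroup.zpowers v := by
            rw [hWv]
            exact (Subgroup.mem_normalizer_iff.1 (hN hbE) v).1 hvW
          obtain ⟨i, hi⟩ := Subgroup.mem_zpowers_iff.1 hav
          obtain ⟨j, hj⟩ := Subgroup.mem_zpowers_iff.1 hbv
          have e1 : b * (a * v * a⁻¹) * b⁻¹ = v ^ (j * i) := by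
            rw [← hi, ← conj_zpow, ← hj, ← zpow_mul]
          have e2 : a * (b * v * b⁻¹) * a⁻¹ = v ^ (i * j) := by
            rw [← hj, ← conj_zpow, ← hi, ← zpow_mul]
          have hvW' : b * (a * v * a⁻¹) * b⁻¹ ∈ W := by
            rw [e1]
            exact W.zpow_mem hvW _
          have hfix : (a * b * a⁻¹ * b⁻¹) * (b * (a * v * a⁻¹) * b⁻¹) * (a * b * a⁻¹ * b⁻¹)⁻¹ =
              b * (a * v * a⁻¹) * b⁻¹ := by
            have e3 : (a * b * a⁻¹ * b⁻¹) * (b * (a * v * a⁻¹) * b⁻¹) * (a * b * a⁻¹ * b⁻¹)⁻¹ =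
                a * (b * v * b⁻¹) * a⁻¹ := by group
            rw [e3, e1, e2, mul_comm]
          have h1 := hcfix _ hvW' hfix
          apply hv1
          have h2 : (b * a) * v * (b * a)⁻¹ = 1 := by
            rw [← h1]
            group
          have h3 : v = (b * a)⁻¹ * ((b * a) * v * (b * a)⁻¹) * (b * a) := by group
          rw [h3, h2]
          group
        rw [hk]
        simp only [pow_zero, one_mul, zero_add, pow_one, one_mul]
        exact Nat.pow_le_pow_right hr.pos hk2
      · exfalso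
        have hp3 : 2 < p := by
          have := hp.two_le
          omega
        have hbp : b ^ p ≠ 1 := fun h => hbz (hB b hbE h)
        have hbpz := hE.pow b hbE
        have hz' := zpowers_eq_of_ne_one (p := p) hzo hbpz hbp
        have hmem : (a ^ p)⁻¹ ∈ Subgroup.zpowers (b ^ p) :=
          ((Subgroup.zpowers_le).2 hz') (Subgroup.inv_mem _ (hE.pow a haE))
        rw [← mem_powers_iff_mem_zpowers] at hmem
        obtain ⟨u, hu⟩ := hmem
        obtain ⟨y, hy⟩ : ∃ y, y = b ^ u := ⟨_, rfl⟩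
        have hyE : y ∈ E := by
          rw [hy]
          exact E.pow_mem hbE u
        have hcz := hE.comm y hyE a haE
        have h1 : y * a = (y * a * y⁻¹ * a⁻¹) * a * y := by group
        have hcx : Commute (y * a * y⁻¹ * a⁻¹) a := (comm_of_mem_zpowers hE.zc hcz haE).symm
        have hcy : Commute (y * a * y⁻¹ * a⁻¹) y := (comm_of_mem_zpowers hE.zc hcz hyE).symm
        have h2 := (Cfsg.Agent.H13.mul_pow_of_central h1 hcx hcy p).2
        have hcp := pow_of_mem_zpowers hE.zp hcz
        obtain ⟨m, hm⟩ := hp.dvd_choose_self (k := 2) (by norm_num) hp3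
        rw [hm, pow_mul, hcp, one_pow, mul_one] at h2
        have h3 : (a * y) ^ p = 1 := by
          rw [h2]
          have : y ^ p = (b ^ p) ^ u := by
            rw [hy, ← pow_mul, ← pow_mul, mul_comm]
          simp only at hu
          rw [this, hu, mul_inv_cancel]
        have h4 := hB _ (E.mul_mem haE hyE) h3
        have h5 := comm_of_mem_zpowers hE.zc h4 hbE
        apply hab
        have h6 : y * b = b * y := by
          rw [hy]
          exact (Commute.pow_left (Commute.refl b) u).eq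
        have h7 : b * a * y = a * b * y := by
          calc b * a * y = b * (a * y) := by group
            _ = (a * y) * b := h5
            _ = a * (y * b) := by group
            _ = a * (b * y) := by rw [h6]
            _ = a * b * y := by group
        exact (mul_right_cancel h7).symm

/-- The fixed-point-free part of a commutative group under an automorphism of prime order. -/
theorem exists_fpf_part [Finite G] {p r : ℕ} [Fact p.Prime] [Fact r.Prime] (hpr : p ≠ r)
    (E A : Subgroup G) (z : G) (hzE : z ∈ E) (hzc : ∀ x ∈ E, x * z = z * x) (hzp : z ^ p = 1)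
    (hAc : ∀ x ∈ A, ∀ y ∈ A, x * y = y * x) (hAr : ∀ v ∈ A, v ^ r = 1)
    (hN : E ≤ Subgroup.normalizer (A : Set G)) (hnc : ∃ v ∈ A, z * v * z⁻¹ ≠ v) :
    ∃ W : Subgroup G, W ≤ A ∧ W ≠ ⊥ ∧ E ≤ Subgroup.normalizer (W : Set G) ∧
      ∀ v ∈ W, z * v * z⁻¹ = v → v = 1 := by
  classical
  have hp : p.Prime := Fact.out
  have hr : r.Prime := Fact.out
  have hcop : p.Coprime r := (Nat.coprime_primes hp hr).2 hpr
  letI : CommGroup A := { (inferInstance : Group A) with
    mul_comm := fun x y => Subtype.ext (hAc x x.2 y y.2) }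
  have hzN := hN hzE
  obtain ⟨γ, hγ⟩ : ∃ γ : Monoid.End A, γ = cj A z hzN := ⟨_, rfl⟩
  have hγp : γ ^ p = 1 := by
    rw [hγ, cj_pow, ← cj_one A (Subgroup.one_mem _)]
    exact cj_congr _ _ _ hzp
  let Nh : A →* A := MonoidHom.mk' (Nm p γ) (Nm_mul p γ)
  have hNh : ∀ v, Nh v = Nm p γ v := fun v => rfl
  have hγv : ∀ v : A, ((γ v : A) : G) = z * v * z⁻¹ := by
    intro v
    rw [hγ]
    rfl
  -- the endomorphism commutes with the norm of itself
  have hker : Nh.ker ≠ ⊥ := by
    intro hbot
    have hinj := (MonoidHom.ker_eq_bot_iff Nh).1 hbot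
    obtain ⟨v, hv, hne⟩ := hnc
    apply hne
    have h1 : Nh (γ ⟨v, hv⟩) = Nh ⟨v, hv⟩ := by
      rw [hNh, hNh]
      have h2 : Nm p γ (γ ⟨v, hv⟩) = γ (Nm p γ ⟨v, hv⟩) := by
        unfold Nm
        rw [map_prod]
        apply Finset.prod_congr rfl
        intro j _
        have : γ ^ j * γ = γ * γ ^ j := (Commute.pow_self γ j).eq
        exact congrArg (fun f : Monoid.End A => f ⟨v, hv⟩) this
      rw [h2, apply_Nm hγp]
    have h2 := hinj h1
    have h3 := hγv ⟨v, hv⟩
    rw [h2] at h3
    exact h3.symm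
  refine ⟨Nh.ker.map A.subtype, ?_, ?_, ?_, ?_⟩
  · rw [Subgroup.map_le_iff_le_comap]
    intro x _
    exact x.2
  · intro hbot
    apply hker
    rw [Subgroup.map_eq_bot_iff_of_injective _ A.subtype_injective] at hbot
    exact hbot
  · intro x hx
    apply Cfsg.Agent.H13.mem_normalizer_of_map_conj_le
    rintro _ ⟨_, ⟨v, hv, rfl⟩, rfl⟩
    have hxN := hN hx
    refine ⟨cj A x hxN v, ?_, rfl⟩
    have hcomm : cj A x hxN * γ = γ * cj A x hxN := by
      rw [hγ, cj_mul, cj_mul]
      exact cj_congr _ _ _ (hzc x hx)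
    have hmap : Nh (cj A x hxN v) = cj A x hxN (Nh v) := by
      rw [hNh, hNh]
      unfold Nm
      rw [map_prod]
      apply Finset.prod_congr rfl
      intro j _
      have : γ ^ j * cj A x hxN = cj A x hxN * γ ^ j := ((Commute.pow_right (show Commute (cj A x hxN) γ from hcomm) j)).eq.symm
      exact congrArg (fun f : Monoid.End A => f v) this
    show Nh (cj A x hxN v) = 1
    rw [hmap]
    have hv' : Nh v = 1 := hv
    rw [hv', map_one]
  · rintro _ ⟨v, hv, rfl⟩ hfix
    have h1 : γ v = v := by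
      apply Subtype.ext
      rw [hγv]
      exact hfix
    have h2 : Nh v = 1 := hv
    rw [hNh, Nm_of_fixed h1] at h2
    have h3 : (v : G) ^ p = 1 := by
      have := congrArg Subtype.val h2
      simpa using this
    have h4 := orderOf_dvd_of_pow_eq_one h3
    have h5 := orderOf_dvd_of_pow_eq_one (hAr v v.2)
    have h6 := Nat.dvd_gcd h4 h5
    rw [hcop.gcd_eq_one] at h6
    exact orderOf_eq_one_iff.1 (Nat.dvd_one.1 h6)

end Cfsg.Agent.H13.ExtraBound
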