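import Cfsg.Agent.Lib.H13.AsymO
import Cfsg.Agent.Lib.H13.LargeChar
import Cfsg.Agent.Lib.H12.YLocal
import Cfsg.Agent.Lib.H12.PReduced4
import Cfsg.Agent.Lib.H18.Syl
import Cfsg.Agent.Lib.H01.Basic

/-!
Existence of members of `𝔐_H` over a given member of `𝓛_H`.
-/

set_option autoImplicit false
set_option linter.style.haveILetI false

namespace Cfsg.Agent.H13

open Cfsg
open scoped commutatorElement Pointwise

variable {H : Type*} [Group H] [Finite H] {p : ℕ} [Fact p.Prime]

/-- Members of `𝓛_H` have characteristic `p`. -/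
theorem charP_of_mem_charPSubgroups {L : Subgroup H} (hL : L ∈ charPSubgroups p H) :
    Subgroup.centralizer (pCore p ↥L : Set ↥L) ≤ pCore p ↥L := by
  apply (isCharP_subgroup_iff L).2
  rintro x ⟨-, hx⟩
  exact hL.2 hx

theorem pCore_ne_bot_of_largest_ne_bot {R : Subgroup H} (h : largestPReducedOf p R ≠ ⊥) :
    pCore p ↥R ≠ ⊥ := by
  intro h0
  apply h
  have h1 := H12.pReduced_le_pCore (H12.largest_spec (p := p) (L := ↥R)).1
  rw [h0, le_bot_iff] at h1
  rw [largestPReducedOf, h1, Subgroup.map_bot]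

/-- Monotonicity of `Y` along overgroups of a Sylow subgroup of characteristic `p`. -/
theorem largestPReducedOf_mono_of_charP (T : Sylow p H) {R X : Subgroup H} (hTR : (T : Subgroup H) ≤ R)
    (hRX : R ≤ X) (hX : Subgroup.centralizer (pCore p ↥X : Set ↥X) ≤ pCore p ↥X) :
    largestPReducedOf p R ≤ largestPReducedOf p X := by
  classical
  set Y := largestPReducedOf p R with hY
  have hYR : Y ≤ R := H12.largestPReducedOf_le
  have hRY : R ≤ Subgroup.normalizer ((Y : Subgroup H) : Set H) := H12.le_normalizer_largestPReducedOf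
  have hYE : IsElementaryAbelian p Y := isElementaryAbelian_largestPReducedOf R
  have hred : H12.RedOn p Y R := H12.redOn_largestOf R
  let U : Subgroup ↥X := Y.subgroupOf X
  let K : Subgroup ↥X := R.subgroupOf X
  have hUK : U ≤ K := fun u hu => hYR hu
  have hn : K ≤ Subgroup.normalizer (U : Set ↥X) := by
    intro k hk
    rw [Subgroup.mem_normalizer_iff]
    intro u
    exact Subgroup.mem_normalizer_iff.1 (hRY hk) (u : H)
  have hE : IsElementaryAbelian p U := by
    refine ⟨⟨⟨fun a b => ?_⟩⟩, fun a ha => ?_⟩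
    · apply Subtype.ext
      apply Subtype.ext
      exact H12.isElementaryAbelian_comm hYE _ a.2 _ b.2
    · apply Subtype.ext
      exact hYE.2 _ ha
  have hR : H12.RedOn p U K := by
    intro D hDK hKD hDp
    have h1 : D.map X.subtype ≤ Subgroup.centralizer ((Y : Subgroup H) : Set H) := by
      apply hred
      · rintro _ ⟨d, hd, rfl⟩
        exact hDK hd
      · intro r hr
        apply mem_normalizer_of_map_conj_le
        rintro _ ⟨_, ⟨d, hd, rfl⟩, rfl⟩
        have h2 : (⟨r, hRX hr⟩ : ↥X) ∈ Subgroup.normalizer (D : Set ↥X) := hKD hr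
        exact ⟨_, (Subgroup.mem_normalizer_iff.1 h2 d).1 hd, rfl⟩
      · rintro _ ⟨d, hd, rfl⟩
        obtain ⟨k, hk⟩ := hDp d hd
        refine ⟨k, ?_⟩
        rw [Subgroup.mem_centralizer_iff] at hk ⊢
        intro y hy
        have h3 := hk ⟨y, hRX (hYR hy)⟩ hy
        exact congrArg Subtype.val h3
    intro d hd
    rw [Subgroup.mem_centralizer_iff]
    intro u hu
    apply Subtype.ext
    exact Subgroup.mem_centralizer_iff.1 (h1 ⟨d, hd, rfl⟩) _ hu
  have hT'K : ((T.subtype (hTR.trans hRX) : Sylow p ↥X) : Subgroup ↥X) ≤ K := by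
    intro t ht
    rw [Sylow.coe_subtype] at ht
    exact hTR ht
  have h := H12.normalClosure_pReduced hX (T.subtype (hTR.trans hRX)) K hT'K (U.subgroupOf K)
    (H12.pReduced_of_redOn hUK hn hE hR)
  have h2 := (H12.largest_spec (p := p) (L := ↥X)).2 _ h
  intro y hy
  refine ⟨⟨y, hRX (hYR hy)⟩, h2 (Subgroup.le_normalClosure ?_), rfl⟩
  exact ⟨⟨⟨y, hRX (hYR hy)⟩, hYR hy⟩, hy, rfl⟩

/-- `X = N(Y_X)` for `X ∈ 𝓜_H` above the Sylow subgroup. -/
theorem normalizer_largest_eq (S : Sylow p H)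
    (hP : ∀ R : Subgroup H, (S : Subgroup H) ≤ R → pCore p ↥R ≠ ⊥ → R ∈ charPSubgroups p H)
    {X : Subgroup H} (hSX : (S : Subgroup H) ≤ X) (hX : X ∈ maxCharPSubgroups p H) :
    Subgroup.normalizer ((largestPReducedOf p X : Subgroup H) : Set H) = X := by
  have hle : X ≤ Subgroup.normalizer ((largestPReducedOf p X : Subgroup H) : Set H) :=
    H12.le_normalizer_largestPReducedOf
  apply hX.2 _ _ hle
  apply hP _ (hSX.trans hle)
  have h1 : largestPReducedOf p (Subgroup.normalizer ((largestPReducedOf p X : Subgroup H) : Set H)) ≠ ⊥ ∨ True :=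
    Or.inr trivial
  clear h1
  intro h0
  have h2 : largestPReducedOf p X ≤ pCoreOf p (Subgroup.normalizer ((largestPReducedOf p X : Subgroup H) : Set H)) :=
    le_pCoreOf Subgroup.le_normalizer
      (H12.isPGroup_of_elementary (isElementaryAbelian_largestPReducedOf X)) le_rfl
  apply largestPReducedOf_ne_bot hX.1
  rw [eq_bot_iff]
  refine h2.trans ?_
  unfold pCoreOf
  rw [h0, Subgroup.map_bot]

/-- Two overgroups of a Sylow subgroup inside `X` of characteristic `p` with the same product with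
`C(Y_X)` have the same `Y`. -/
theorem largest_eq_of_sup_eq (S : Sylow p H) {L₁ L₂ X : Subgroup H} (h₁ : (S : Subgroup H) ≤ L₁)
    (h₂ : (S : Subgroup H) ≤ L₂) (h₁X : L₁ ≤ X) (h₂X : L₂ ≤ X)
    (hX : Subgroup.centralizer (pCore p ↥X : Set ↥X) ≤ pCore p ↥X)
    (hsup : L₁ ⊔ Subgroup.centralizer ((largestPReducedOf p X : Subgroup H) : Set H) =
      L₂ ⊔ Subgroup.centralizer ((largestPReducedOf p X : Subgroup H) : Set H)) :
    largestPReducedOf p L₁ = largestPReducedOf p L₂ := by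
  have key : ∀ {A B : Subgroup H}, (S : Subgroup H) ≤ A → (S : Subgroup H) ≤ B → A ≤ X →
      A ⊔ Subgroup.centralizer ((largestPReducedOf p X : Subgroup H) : Set H) =
      B ⊔ Subgroup.centralizer ((largestPReducedOf p X : Subgroup H) : Set H) →
      largestPReducedOf p A ≤ largestPReducedOf p B := by
    intro A B hA hB hAX he
    have hY := largestPReducedOf_mono_of_charP S hA hAX hX
    have hC : Subgroup.centralizer ((largestPReducedOf p X : Subgroup H) : Set H) ≤
        Subgroup.centralizer ((largestPReducedOf p A : Subgroup H) : Set H) :=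
      Subgroup.centralizer_le hY
    apply H12.largestPReducedOf_le_of_sup_eq S B A hB hA
    rw [← sup_eq_right.2 hC, ← sup_assoc, ← sup_assoc, ← he]
  exact le_antisymm (key h₁ h₂ h₁X hsup) (key h₂ h₁ h₂X hsup.symm)

/-- Modular-type decomposition. -/
theorem inf_sup_sup_eq {M A C X : Subgroup H} (hMC : M ≤ Subgroup.normalizer (C : Set H))
    (hA : A ≤ X) (hX : M ⊔ C = X) : (M ⊓ (A ⊔ C)) ⊔ C = A ⊔ C := by
  apply le_antisymm
  · exact sup_le (inf_le_right) le_sup_right
  · apply sup_le _ le_sup_right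
    intro a ha
    have h1 : a ∈ M ⊔ C := by
      rw [hX]
      exact hA ha
    rw [← SetLike.mem_coe, Subgroup.coe_mul_of_left_le_normalizer_right M C hMC, Set.mem_mul] at h1
    obtain ⟨m, hm, c, hc, rfl⟩ := h1
    have hm' : m ∈ M ⊓ (A ⊔ C) := by
      refine ⟨hm, ?_⟩
      have h2 : m = (m * c) * c⁻¹ := by group
      rw [h2]
      exact mul_mem ((le_sup_left : A ≤ A ⊔ C) ha) ((le_sup_right : C ≤ A ⊔ C) (inv_mem hc))
    exact mul_mem ((le_sup_left : M ⊓ (A ⊔ C) ≤ _) hm') ((le_sup_right : C ≤ _) hc)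

/-- Properties of a minimal supplement to `C₀` over a Sylow subgroup. -/
theorem minimal_supplement_props (S : Sylow p H) {M C₀ : Subgroup H} (hSM : (S : Subgroup H) ≤ M)
    (hMC : M ≤ Subgroup.normalizer (C₀ : Set H))
    (hmin : ∀ M' : Subgroup H, (S : Subgroup H) ≤ M' → M' ≤ M → M ≤ M' ⊔ C₀ → M' = M) :
    M ≤ Subgroup.normalizer (((S : Subgroup H) ⊓ C₀ : Subgroup H) : Set H) ∧
      IsPClosed p ↥(M ⊓ C₀) ∧
      ((M ⊓ C₀).subgroupOf M).map (QuotientGroup.mk' (pCore p ↥M)) ≤ frattini (↥M ⧸ pCore p ↥M) := by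
  classical
  set T₀ : Subgroup H := (S : Subgroup H) ⊓ C₀ with hT₀
  have hT₀M : T₀ ≤ M := inf_le_left.trans hSM
  let S' : Sylow p ↥M := S.subtype hSM
  have hS' : (S' : Subgroup ↥M) = (S : Subgroup H).subgroupOf M := Sylow.coe_subtype _ _
  let K' : Subgroup ↥M := C₀.subgroupOf M
  haveI hK'n : K'.Normal := by
    constructor
    intro k hk g
    exact (Subgroup.mem_normalizer_iff.1 (hMC g.2) k).1 hk
  -- (i)
  have h1 : M ≤ Subgroup.normalizer ((T₀ : Subgroup H) : Set H) := by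
    have hN' := hmin (M ⊓ Subgroup.normalizer ((T₀ : Subgroup H) : Set H))
      (le_inf hSM (by
        intro s hs
        apply mem_normalizer_inf (Subgroup.le_normalizer hs) (hMC (hSM hs))))
      inf_le_left (by
        intro m hm
        have hF := H18.frattini_inf S' K'
        have hm' : (⟨m, hm⟩ : ↥M) ∈ Subgroup.normalizer (((S' : Subgroup ↥M) ⊓ K' : Subgroup ↥M) : Set ↥M) ⊔ K' := by
          rw [hF]; trivial
        rw [← SetLike.mem_coe, Subgroup.mul_normal, Set.mem_mul] at hm'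
        obtain ⟨n, hn, k, hk, e⟩ := hm'
        have e' : m = (n : H) * (k : H) := by
          have := congrArg Subtype.val e
          simpa using this.symm
        rw [e']
        refine mul_mem ((le_sup_left : _ ≤ (M ⊓ Subgroup.normalizer ((T₀ : Subgroup H) : Set H)) ⊔ C₀) ⟨n.2, ?_⟩)
          ((le_sup_right : C₀ ≤ (M ⊓ Subgroup.normalizer ((T₀ : Subgroup H) : Set H)) ⊔ C₀) hk)
        apply mem_normalizer_of_map_conj_le
        rintro _ ⟨t, ht, rfl⟩
        have ht' : (⟨t, hT₀M ht⟩ : ↥M) ∈ ((S' : Subgroup ↥M) ⊓ K' : Subgroup ↥M) := by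
          refine ⟨?_, ht.2⟩
          rw [hS']
          exact ht.1
        have h2 := (Subgroup.mem_normalizer_iff.1 hn _).1 ht'
        refine ⟨?_, h2.2⟩
        have h3 := h2.1
        rw [hS'] at h3
        exact h3)
    exact hN' ▸ inf_le_right
  have hK'T : ∀ g : ↥M, ∀ x : H, x ∈ C₀ → (g : H) * x * (g : H)⁻¹ ∈ (S : Subgroup H) → x ∈ T₀ := by
    intro g x hx hgx
    have h2 : (g : H) * x * (g : H)⁻¹ ∈ T₀ :=
      ⟨hgx, (Subgroup.mem_normalizer_iff.1 (hMC g.2) x).1 hx⟩
    exact (Subgroup.mem_normalizer_iff.1 (h1 g.2) x).2 h2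
  have hT₀p : IsPGroup p T₀ := S.2.to_le inf_le_left
  refine ⟨h1, ?_, ?_⟩
  · -- (ii)
    intro P
    have hPle : (P : Subgroup ↥(M ⊓ C₀)) ≤ T₀.subgroupOf (M ⊓ C₀) := by
      -- conjugate into `S`
      have hB : IsPGroup p ((P : Subgroup ↥(M ⊓ C₀)).map (Subgroup.inclusion (inf_le_left : M ⊓ C₀ ≤ M))) :=
        P.2.map _
      obtain ⟨S₁, hS₁⟩ := hB.exists_le_sylow
      obtain ⟨g, hg⟩ := MulAction.exists_smul_eq ↥M S₁ S'
      intro x hx
      have hx1 : Subgroup.inclusion (inf_le_left : M ⊓ C₀ ≤ M) x ∈ (S₁ : Subgroup ↥M) := hS₁ ⟨x, hx, rfl⟩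
      have hx2 : g * Subgroup.inclusion (inf_le_left : M ⊓ C₀ ≤ M) x * g⁻¹ ∈ (S' : Subgroup ↥M) := by
        rw [← hg]
        exact Subgroup.mem_map_of_mem _ hx1
      rw [hS'] at hx2
      exact hK'T g _ x.2.2 hx2
    have hPeq : T₀.subgroupOf (M ⊓ C₀) = P := P.is_maximal' (isPGroup_subgroupOf hT₀p) hPle
    rw [← hPeq]
    constructor
    intro t ht g
    exact (Subgroup.mem_normalizer_iff.1 (h1 g.2.1) t).1 ht
  · -- (iii)
    rintro _ ⟨x, hx, rfl⟩
    rw [H01.mem_frattini_iff]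
    intro Ub hUb
    by_contra hxU
    let O : Subgroup ↥M := pCore p ↥M
    let U : Subgroup ↥M := Ub.comap (QuotientGroup.mk' O)
    have hOU : O ≤ U := by
      intro y hy
      change QuotientGroup.mk' O y ∈ Ub
      have h0 : QuotientGroup.mk' O y = 1 := (QuotientGroup.eq_one_iff y).2 hy
      rw [h0]
      exact one_mem _
    have hTO : T₀.subgroupOf M ≤ O := by
      apply le_pCore _ (isPGroup_subgroupOf hT₀p)
      constructor
      intro t ht g
      exact (Subgroup.mem_normalizer_iff.1 (h1 g.2) t).1 ht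
    have hTU : (S' : Subgroup ↥M) ⊓ K' ≤ U := by
      intro y hy
      apply hOU
      apply hTO
      refine ⟨?_, hy.2⟩
      have h2 := hy.1
      rw [hS'] at h2
      exact h2
    have hUtop : U ≠ ⊤ := by
      intro h0
      apply hUb.1
      rw [eq_top_iff]
      intro y _
      obtain ⟨g, rfl⟩ := QuotientGroup.mk_surjective y
      have h2 : g ∈ U := by rw [h0]; trivial
      exact h2
    have hsup : U ⊔ K' = ⊤ := by
      have h2 : Ub ≤ (U ⊔ K').map (QuotientGroup.mk' O) := by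
        intro y hy
        obtain ⟨g, rfl⟩ := QuotientGroup.mk_surjective y
        exact ⟨g, (le_sup_left : U ≤ U ⊔ K') hy, rfl⟩
      have h3 : (U ⊔ K').map (QuotientGroup.mk' O) = ⊤ := by
        apply hUb.2
        refine lt_of_le_of_ne h2 ?_
        intro h4
        apply hxU
        rw [h4]
        exact Subgroup.mem_map_of_mem _ ((le_sup_right : K' ≤ U ⊔ K') hx.2)
      rw [eq_top_iff]
      intro g _
      have h4 : QuotientGroup.mk' O g ∈ (U ⊔ K').map (QuotientGroup.mk' O) := by rw [h3]; trivial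
      obtain ⟨u, hu, e⟩ := h4
      have h5 : u⁻¹ * g ∈ O := QuotientGroup.eq.1 e
      have h6 : g = u * (u⁻¹ * g) := by group
      rw [h6]
      exact mul_mem hu ((le_sup_left : U ≤ U ⊔ K') (hOU h5))
    have hidx : U.index = U.relIndex K' := by
      have h2 := H18.card_inf_mul_relIndex U K'
      have h3 := H18.card_sup_mul_card_inf U K'
      rw [hsup, Subgroup.card_top] at h3
      have h4 := U.card_mul_index
      have h5 : 0 < Nat.card (U ⊓ K' : Subgroup ↥M) := Nat.card_pos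
      have h6 : 0 < Nat.card U := Nat.card_pos
      have h7 : Nat.card U * U.index * Nat.card (U ⊓ K' : Subgroup ↥M) =
          Nat.card U * (Nat.card (U ⊓ K' : Subgroup ↥M) * U.relIndex K') := by
        rw [h4, h3, h2]
      have h8 : Nat.card U * Nat.card (U ⊓ K' : Subgroup ↥M) * U.index =
          Nat.card U * Nat.card (U ⊓ K' : Subgroup ↥M) * U.relIndex K' := by
        calc _ = Nat.card U * U.index * Nat.card (U ⊓ K' : Subgroup ↥M) := by ring
          _ = _ := by rw [h7]; ring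
      exact Nat.eq_of_mul_eq_mul_left (Nat.mul_pos h6 h5) h8
    have hdvd : U.index ∣ (S' : Subgroup ↥M).index := by
      rw [hidx]
      refine (Subgroup.relIndex_dvd_of_le_left K' hTU).trans ?_
      rw [Subgroup.inf_relIndex_right]
      exact H18.relIndex_dvd_index_of_normal_right _ _
    have hnd : ¬ p ∣ U.index := fun h => S'.not_dvd_index (h.trans hdvd)
    obtain ⟨g, hg⟩ := H18.exists_sylow_le_conj S' U hnd
    let V : Subgroup H := (U.map (MulAut.conj g).toMonoidHom).map M.subtype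
    have hVM : V ≤ M := by
      rintro _ ⟨y, -, rfl⟩
      exact y.2
    have hSV : (S : Subgroup H) ≤ V := by
      intro s hs
      refine ⟨⟨s, hSM hs⟩, hg ?_, rfl⟩
      rw [hS']
      exact hs
    have hMV : M ≤ V ⊔ C₀ := by
      intro m hm
      have h2 : (U.map (MulAut.conj g).toMonoidHom) ⊔ K' = ⊤ := by
        have h3 := congrArg (Subgroup.map (MulAut.conj g).toMonoidHom) hsup
        rw [Subgroup.map_sup, map_conj_eq_of_normal (N := K')] at h3
        rw [h3]
        ext y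
        simp only [Subgroup.mem_top, iff_true]
        refine ⟨g⁻¹ * y * g, trivial, ?_⟩
        simp [MulAut.conj_apply]
        group
      have h3 : (⟨m, hm⟩ : ↥M) ∈ (U.map (MulAut.conj g).toMonoidHom) ⊔ K' := by rw [h2]; trivial
      have h4 : ((U.map (MulAut.conj g).toMonoidHom) ⊔ K').map M.subtype ≤ V ⊔ C₀ := by
        rw [Subgroup.map_sup]
        refine sup_le_sup le_rfl ?_
        rintro _ ⟨y, hy, rfl⟩
        exact hy
      exact h4 ⟨_, h3, rfl⟩
    have hVeq := hmin V hSV hVM hMV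
    apply hUtop
    rw [eq_top_iff]
    intro y _
    have h2 : ((g * y * g⁻¹ : ↥M) : H) ∈ V := by
      rw [hVeq]
      exact (g * y * g⁻¹).2
    obtain ⟨w, ⟨u, hu, rfl⟩, e⟩ := h2
    have h3 : (MulAut.conj g).toMonoidHom u = g * y * g⁻¹ := Subtype.ext e
    have h4 : u = y := by
      simp only [MulEquiv.coe_toMonoidHom, MulAut.conj_apply] at h3
      have h5 : g * u * g⁻¹ = g * y * g⁻¹ := h3
      simpa using h5
    exact h4 ▸ hu

/-- Existence of `M ∈ 𝔐_H` and `L*` over a member `L` of `𝓛_H` containing a Sylow subgroup. -/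
theorem exists_frakM (S : Sylow p H)
    (hP : ∀ R : Subgroup H, (S : Subgroup H) ≤ R → pCore p ↥R ≠ ⊥ → R ∈ charPSubgroups p H)
    (L : Subgroup H) (hSL : (S : Subgroup H) ≤ L) (hL : L ∈ charPSubgroups p H) :
    ∃ M Ls : Subgroup H, (S : Subgroup H) ≤ M ∧ IsInFrakM p M ∧ (S : Subgroup H) ≤ Ls ∧ Ls ≤ M ∧
      Ls ∈ charPSubgroups p H ∧
      L ⊔ Subgroup.centralizer ((largestPReducedOf p L : Subgroup H) : Set H) =
        Ls ⊔ Subgroup.centralizer ((largestPReducedOf p L : Subgroup H) : Set H) ∧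
      largestPReducedOf p L = largestPReducedOf p Ls ∧
      largestPReducedOf p Ls ≤ largestPReducedOf p M := by
  classical
  -- the family of pairs
  let Fam : Set (Subgroup H × Subgroup H) :=
    {a | (S : Subgroup H) ≤ a.1 ∧ a.1 ∈ charPSubgroups p H ∧
      a.1 ⊔ Subgroup.centralizer ((largestPReducedOf p L : Subgroup H) : Set H) =
        L ⊔ Subgroup.centralizer ((largestPReducedOf p L : Subgroup H) : Set H) ∧
      largestPReducedOf p a.1 = largestPReducedOf p L ∧ a.2 ∈ maxCharPSubgroups p H ∧ a.1 ≤ a.2}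
  have hmaxex : ∀ A : Subgroup H, A ∈ charPSubgroups p H → ∃ X ∈ maxCharPSubgroups p H, A ≤ X := by
    intro A hA
    obtain ⟨X, hAX, hX⟩ := (Set.toFinite (charPSubgroups p H)).exists_le_maximal hA
    refine ⟨X, ⟨hX.prop, fun L' hL' hle => ?_⟩, hAX⟩
    exact le_antisymm (hX.le_of_ge hL' hle) hle
  have hne : Fam.Nonempty := by
    obtain ⟨X, hX, hLX⟩ := hmaxex L hL
    exact ⟨(L, X), hSL, hL, rfl, rfl, hX, hLX⟩
  obtain ⟨⟨L', X₀⟩, ⟨hSL', hL', hL'sup, hL'Y, hX₀, hL'X₀⟩, hmaxi⟩ :=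
    Set.exists_max_image Fam (fun a => Nat.card (largestPReducedOf p a.2 : Subgroup H))
      (Set.toFinite _) hne
  simp only at hSL' hL' hL'sup hL'Y hX₀ hL'X₀ hmaxi
  have hSX₀ : (S : Subgroup H) ≤ X₀ := hSL'.trans hL'X₀
  have hX₀char := charP_of_mem_charPSubgroups hX₀.1
  set Y₀ := largestPReducedOf p X₀ with hY₀
  set C₀ := Subgroup.centralizer ((Y₀ : Subgroup H) : Set H) with hC₀
  have hNX₀ : Subgroup.normalizer ((Y₀ : Subgroup H) : Set H) = X₀ := normalizer_largest_eq S hP hSX₀ hX₀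
  have hC₀X₀ : C₀ ≤ X₀ := by
    rw [← hNX₀]
    exact centralizer_le_normalizer_of_le _
  have hX₀C₀ : X₀ ≤ Subgroup.normalizer ((C₀ : Subgroup H) : Set H) := by
    rw [← hNX₀]
    exact H01.normalizer_le_normalizer_centralizer _
  -- the minimal supplement
  let Cand : Set (Subgroup H) := {M' | (S : Subgroup H) ≤ M' ∧ M' ≤ X₀ ∧ M' ⊔ C₀ = X₀}
  obtain ⟨M, hM⟩ := (Set.toFinite Cand).exists_minimal
    (⟨X₀, hSX₀, le_rfl, sup_eq_left.2 hC₀X₀⟩ : Cand.Nonempty)
  obtain ⟨hSM, hMX₀, hMsup⟩ := hM.prop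
  have hMC₀ : M ≤ Subgroup.normalizer ((C₀ : Subgroup H) : Set H) := hMX₀.trans hX₀C₀
  have hmin : ∀ M' : Subgroup H, (S : Subgroup H) ≤ M' → M' ≤ M → M ≤ M' ⊔ C₀ → M' = M := by
    intro M' h1 h2 h3
    refine le_antisymm h2 (hM.le_of_le ⟨h1, h2.trans hMX₀, ?_⟩ h2)
    apply le_antisymm (sup_le (h2.trans hMX₀) hC₀X₀)
    rw [← hMsup]
    exact sup_le h3 le_sup_right
  obtain ⟨-, hpc, hfr⟩ := minimal_supplement_props S hSM hMC₀ hmin
  -- `Y_M = Y₀`
  have hYM : largestPReducedOf p M = Y₀ := by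
    apply le_antisymm (largestPReducedOf_mono_of_charP S hSM hMX₀ hX₀char)
    apply H12.largestPReducedOf_le_of_sup_eq S M X₀ hSM hSX₀
    rw [hMsup]
    exact (sup_eq_left.2 hC₀X₀).symm
  have hY₀1 : Y₀ ≠ ⊥ := largestPReducedOf_ne_bot hX₀.1
  have hML : M ∈ charPSubgroups p H :=
    hP M hSM (pCore_ne_bot_of_largest_ne_bot (by rw [hYM]; exact hY₀1))
  -- `L*`
  set Ls := M ⊓ (L' ⊔ C₀) with hLs
  have hSLs : (S : Subgroup H) ≤ Ls := le_inf hSM (hSL'.trans le_sup_left)
  have hLsM : Ls ≤ M := inf_le_left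
  have hLsX₀ : Ls ≤ X₀ := hLsM.trans hMX₀
  have hLssup : Ls ⊔ C₀ = L' ⊔ C₀ := inf_sup_sup_eq hMC₀ hL'X₀ hMsup
  have hLsY' : largestPReducedOf p Ls = largestPReducedOf p L' :=
    largest_eq_of_sup_eq S hSLs hSL' hLsX₀ hL'X₀ hX₀char hLssup
  have hLsY : largestPReducedOf p L = largestPReducedOf p Ls := by rw [hLsY', hL'Y]
  have hLsL : Ls ∈ charPSubgroups p H := by
    apply hP Ls hSLs (pCore_ne_bot_of_largest_ne_bot _)
    rw [← hLsY]
    exact largestPReducedOf_ne_bot hL
  have hYLY₀ : largestPReducedOf p L ≤ Y₀ := by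
    rw [hLsY]
    exact largestPReducedOf_mono_of_charP S hSLs hLsX₀ hX₀char
  have hCC : C₀ ≤ Subgroup.centralizer ((largestPReducedOf p L : Subgroup H) : Set H) :=
    Subgroup.centralizer_le hYLY₀
  have hLs_sup : L ⊔ Subgroup.centralizer ((largestPReducedOf p L : Subgroup H) : Set H) =
      Ls ⊔ Subgroup.centralizer ((largestPReducedOf p L : Subgroup H) : Set H) := by
    rw [← hL'sup, ← sup_eq_right.2 hCC, ← sup_assoc, ← sup_assoc, hLssup]
  have hLsFam : (Ls, X₀) ∈ Fam := ⟨hSLs, hLsL, hLs_sup.symm, hLsY.symm, hX₀, hLsX₀⟩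
  refine ⟨M, Ls, hSM, ?_, hSLs, hLsM, hLsL, hLs_sup, hLsY, ?_⟩
  · -- `M ∈ 𝔐_H`
    have hMdag : M ⊔ Subgroup.centralizer (largestPReducedOf p M : Set H) = X₀ := by
      rw [hYM]
      exact hMsup
    refine ⟨hML, ?_, ?_, ?_, ?_, ?_⟩
    · rw [hMdag]; exact hX₀
    · intro X hX hMX
      rw [hMdag]
      have hSX : (S : Subgroup H) ≤ X := hSM.trans hMX
      have h1 : (Ls, X) ∈ Fam := ⟨hSLs, hLsL, hLs_sup.symm, hLsY.symm, hX, hLsM.trans hMX⟩
      have h2 : Nat.card (largestPReducedOf p X : Subgroup H) ≤ Nat.card (Y₀ : Subgroup H) := hmaxi _ h1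
      have h3 : Y₀ ≤ largestPReducedOf p X := by
        rw [← hYM]
        exact largestPReducedOf_mono_of_charP S hSM hMX (charP_of_mem_charPSubgroups hX.1)
      have h4 : Y₀ = largestPReducedOf p X := Subgroup.eq_of_le_of_card_ge h3 h2
      rw [← normalizer_largest_eq S hP hSX hX, ← h4, hNX₀]
    · rw [hMdag, hYM]
    · rw [hYM]; exact hpc
    · rw [hYM]; exact hfr
  · rw [hYM]
    exact largestPReducedOf_mono_of_charP S hSLs hLsX₀ hX₀char

end Cfsg.Agent.H13
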