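import Cfsg.Agent.Lib.H13.FrobTwo

/-!
An odd-order element normalizing a `2`-group and centralizing all its real elements centralizes it.
-/

set_option autoImplicit false

namespace Cfsg.Agent.H13

open Cfsg
open scoped commutatorElement

variable {G : Type*} [Group G]

section
variable [Finite G]

theorem centralizes_of_centralizes_real_two {Q : Subgroup G} (hQ : IsPGroup 2 Q) {g : G}
    (hgN : g ∈ Subgroup.normalizer (Q : Set G)) (hgc : (orderOf g).Coprime 2)
    (hfix : ∀ x ∈ Q, IsConj x x⁻¹ → g * x = x * g) : g ∈ Subgroup.centralizer (Q : Set G) := by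
  induction h : Nat.card Q using Nat.strong_induction_on generalizing Q with
  | _ n ih =>
  subst h
  have IH : ∀ R : Subgroup G, R < Q → g ∈ Subgroup.normalizer (R : Set G) → ∀ x ∈ R, g * x = x * g := by
    intro R hRQ hRN
    have h1 := ih (Nat.card R) (card_lt_of_lt hRQ) (Q := R) (hQ.to_le hRQ.le) hRN
      (fun x hx => hfix x (hRQ.le hx)) rfl
    intro x hx
    exact (Subgroup.mem_centralizer_iff.mp h1 x hx).symm
  -- it suffices to show `[g, x] = 1` for all `x`
  have hfin : (∀ x ∈ Q, g * (g * x * g⁻¹ * x⁻¹) = (g * x * g⁻¹ * x⁻¹) * g) → g ∈ Subgroup.centralizer (Q : Set G) := by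
    intro hh
    rw [Subgroup.mem_centralizer_iff]
    intro x hx
    have h1 : g * x * g⁻¹ * x⁻¹ ∈ Q := Q.mul_mem ((Subgroup.mem_normalizer_iff.mp hgN x).mp hx) (Q.inv_mem hx)
    have h2 := eq_one_of_fixed_comm hQ hgc h1 (hh x hx)
    have h3 : g * x * g⁻¹ = x := by simpa using congrArg (· * x) h2
    have h4 : g * x = x * g := by simpa using congrArg (· * g) h3
    exact h4.symm
  apply hfin
  set Zg : Subgroup G := Subgroup.zpowers g with hZg
  have hgZ : g ∈ Zg := Subgroup.mem_zpowers g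
  have hZN : Zg ≤ Subgroup.normalizer (Q : Set G) := by
    rw [hZg, Subgroup.zpowers_le]
    exact hgN
  set R : Subgroup G := ⁅Q, Zg⁆ with hR
  have hRQ : R ≤ Q := commutator_le_left_of_le_normalizer hZN
  have hmemR : ∀ x ∈ Q, g * x * g⁻¹ * x⁻¹ ∈ R := by
    intro x hx
    rw [hR, Subgroup.commutator_comm]
    exact Subgroup.commutator_mem_commutator hgZ hx
  have hRgN : g ∈ Subgroup.normalizer (R : Set G) := by
    have h1 : Zg ≤ Subgroup.normalizer (R : Set G) := by
      rw [hR, Subgroup.commutator_comm]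
      exact H05.comm_le_normalizer_left Zg Q
    exact h1 hgZ
  by_cases hRlt : R = Q
  swap
  · have hlt : R < Q := lt_of_le_of_ne hRQ hRlt
    intro x hx
    exact IH R hlt hRgN _ (hmemR x hx)
  -- now `Q = [Q, g]`
  by_cases hQ1 : Q = ⊥
  · intro x hx
    rw [hQ1, Subgroup.mem_bot] at hx
    subst hx
    simp
  set D : Subgroup G := (frattini Q).map Q.subtype with hD
  have hDQ : D ≤ Q := Subgroup.map_subtype_le _
  have hDN : g ∈ Subgroup.normalizer (D : Set G) := normalizer_le_normalizer_map_of_characteristic Q (frattini Q) hgN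
  have hDlt : D < Q := by
    refine lt_of_le_of_ne hDQ ?_
    intro hDeq
    haveI : Nontrivial Q := (Subgroup.nontrivial_iff_ne_bot _).mpr hQ1
    obtain ⟨M, hM⟩ : ∃ M : Subgroup Q, IsCoatom M := by
      rcases eq_top_or_exists_le_coatom (⊥ : Subgroup Q) with h0 | ⟨M, hM, -⟩
      · exact absurd h0 bot_ne_top
      · exact ⟨M, hM⟩
    apply hM.1
    rw [eq_top_iff]
    intro x _
    have h1 : (x : G) ∈ D := by rw [hDeq]; exact x.2
    obtain ⟨y, hy, hyx⟩ := h1
    have h2 : y = x := Subtype.ext hyx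
    rw [← h2]
    exact H01.mem_frattini_iff.mp hy M hM
  have hgD := IH D hDlt hDN
  have hpowD : ∀ x ∈ Q, x ^ 2 ∈ D := by
    intro x hx
    exact ⟨⟨x, hx⟩ ^ 2, H01.pow_mem_frattini_of_isPGroup hQ _, by simp⟩
  have hcommD : ∀ x ∈ Q, ∀ y ∈ Q, y * x * y⁻¹ * x⁻¹ ∈ D := by
    intro x hx y hy
    refine ⟨⁅(⟨y, hy⟩ : Q), (⟨x, hx⟩ : Q)⁆, ?_, by simp [commutatorElement_def]⟩
    apply H01.commutator_le_frattini_of_isPGroup hQ
    exact Subgroup.commutator_mem_commutator trivial trivial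
  -- `D` is central in `Q`
  have hDcentral : ∀ x ∈ Q, ∀ y ∈ D, x * y = y * x := by
    have h1 : ⁅⁅Zg, D⁆, Q⁆ = ⊥ := by
      have : ⁅Zg, D⁆ = ⊥ := by
        rw [eq_bot_iff, Subgroup.commutator_le]
        intro z hz y hy
        obtain ⟨k, rfl⟩ := Subgroup.mem_zpowers_iff.mp hz
        have h2 : Commute g y := hgD y hy
        rw [Subgroup.mem_bot, commutatorElement_eq_one_iff_commute]
        exact h2.zpow_left k
      rw [this, Subgroup.commutator_bot_left]
    have h2 : ⁅⁅D, Q⁆, Zg⁆ = ⊥ := by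
      have hDQn : Q ≤ Subgroup.normalizer (D : Set G) := by
        intro x hx
        exact normalizer_le_normalizer_map_of_characteristic Q (frattini Q) (Subgroup.le_normalizer hx)
      have h3 : ⁅D, Q⁆ ≤ D := commutator_le_left_of_le_normalizer hDQn
      rw [eq_bot_iff, Subgroup.commutator_le]
      intro y hy z hz
      obtain ⟨k, rfl⟩ := Subgroup.mem_zpowers_iff.mp hz
      have h4 : Commute g y := hgD y (h3 hy)
      rw [Subgroup.mem_bot, commutatorElement_eq_one_iff_commute]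
      exact (h4.zpow_left k).symm
    have h3 : ⁅⁅Q, Zg⁆, D⁆ = ⊥ := Subgroup.commutator_commutator_eq_bot_of_rotate h1 h2
    rw [← hR, hRlt] at h3
    intro x hx y hy
    exact H05.comm_bot_iff.mp h3 x hx y hy
  intro x hx
  have hyQ : g * x * g⁻¹ ∈ Q := (Subgroup.mem_normalizer_iff.mp hgN x).mp hx
  have hz : g * x * g⁻¹ * x⁻¹ ∈ Q := Q.mul_mem hyQ (Q.inv_mem hx)
  apply hfix _ hz
  set y := g * x * g⁻¹ with hy
  have h7 : y ^ 2 = x ^ 2 := by
    rw [hy, conj_pow]
    have h8 : g * x ^ 2 = x ^ 2 * g := hgD _ (hpowD x hx)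
    rw [h8]
    group
  rw [isConj_iff]
  refine ⟨x⁻¹, ?_⟩
  have h9 : y * y = x * x := by
    rw [← pow_two, ← pow_two, h7]
  have h10 : y = x * x * y⁻¹ := by
    rw [← h9]
    group
  calc x⁻¹ * (y * x⁻¹) * x⁻¹⁻¹ = x⁻¹ * y := by group
    _ = x⁻¹ * (x * x * y⁻¹) := by rw [← h10]
    _ = (y * x⁻¹)⁻¹ := by group


end

end Cfsg.Agent.H13
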