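import Cfsg.Agent.Lib.H13.Weak
import Cfsg.Agent.Lib.H13.Quadratic
import Cfsg.Prelude.Def_IsolatedElements

/-!
Isolated elements.
-/

set_option autoImplicit false

namespace Cfsg.Agent.H13

open Cfsg

variable {G : Type*} [Group G] {p : ℕ}

/-- zpowers of an element of prime-power order is a `p`-group -/
theorem isPGroup_zpowers_of_orderOf [Fact p.Prime] {x : G} (hx : ∃ k : ℕ, orderOf x = p ^ k) :
    IsPGroup p (Subgroup.zpowers x) := by
  obtain ⟨k, hk⟩ := hx
  apply IsPGroup.of_card (n := k)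
  rw [Nat.card_zpowers, hk]

/-- An isolated element of a nilpotent subgroup is central in it. -/
theorem isolated_central_of_nilpotent {x : G} (hiso : IsIsolated x) (R : Subgroup G)
    [hnil : Group.IsNilpotent R] (hxR : x ∈ R) : R ≤ Subgroup.centralizer ({x} : Set G) := by
  by_contra hne
  let C : Subgroup R := (Subgroup.centralizer ({x} : Set G)).subgroupOf R
  have hC : C ≠ ⊤ := by
    intro h
    apply hne
    intro r hr
    have : (⟨r, hr⟩ : R) ∈ C := by rw [h]; trivial
    exact this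
  have hlt := Group.normalizerCondition_of_isNilpotent C (lt_top_iff_ne_top.mpr hC)
  obtain ⟨g, hg1, hg2⟩ := SetLike.exists_of_lt hlt
  apply hg2
  -- g x g⁻¹ ∈ C so commutes with x
  have hxC : (⟨x, hxR⟩ : R) ∈ C := by
    show x ∈ Subgroup.centralizer ({x} : Set G)
    rw [Subgroup.mem_centralizer_iff]
    rintro _ rfl
    rfl
  have h1 := (Subgroup.mem_normalizer_iff.mp hg1 _).mp hxC
  have h2 : (g : G) * x * (g : G)⁻¹ ∈ Subgroup.centralizer ({x} : Set G) := by
    simpa [C, Subgroup.mem_subgroupOf] using h1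
  have h3 : Commute x ((g : G) * x * (g : G)⁻¹) := by
    rw [Subgroup.mem_centralizer_iff] at h2
    exact (h2 x rfl)
  have h4 := hiso _ h3
  show (g : G) ∈ Subgroup.centralizer ({x} : Set G)
  rw [Subgroup.mem_centralizer_iff]
  rintro y rfl
  have : (g : G) * y = y * g := by
    calc (g : G) * y = ((g : G) * y * (g : G)⁻¹) * g := by group
      _ = y * g := by rw [h4]
  exact this.symm

/-- An isolated element of a `p`-subgroup is central in it. -/
theorem isolated_central_of_pgroup [Finite G] [Fact p.Prime] {x : G} (hiso : IsIsolated x)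
    (R : Subgroup G) (hR : IsPGroup p R) (hxR : x ∈ R) : R ≤ Subgroup.centralizer ({x} : Set G) := by
  haveI : Group.IsNilpotent R := hR.isNilpotent
  exact isolated_central_of_nilpotent hiso R hxR

/-- Local form: if a conjugate of an isolated element lands in a `p`-subgroup containing it,
the conjugate is the element. -/
theorem isolated_conj_eq [Finite G] [Fact p.Prime] {x : G} (hiso : IsIsolated x)
    (R : Subgroup G) (hR : IsPGroup p R) (hxR : x ∈ R) {g : G} (hg : g * x * g⁻¹ ∈ R) :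
    g * x * g⁻¹ = x := by
  have h := isolated_central_of_pgroup hiso R hR hxR hg
  rw [Subgroup.mem_centralizer_iff] at h
  exact hiso g (h x rfl)

/-- The Frattini-type conjugacy: a `p`-subgroup `A` of `P ⊔ N` with `P` Sylow and `N` normal is
`N`-conjugate into `P`. -/
theorem exists_normal_conj_into_sylow [Finite G] [Fact p.Prime] (P : Sylow p G) (N : Subgroup G)
    [hN : N.Normal] (A : Subgroup G) (hA : IsPGroup p A) (hAL : A ≤ (P : Subgroup G) ⊔ N) :
    ∃ n ∈ N, A.map (MulAut.conj n).toMonoidHom ≤ P := by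
  let L : Subgroup G := (P : Subgroup G) ⊔ N
  have hPL : (P : Subgroup G) ≤ L := le_sup_left
  let PL : Sylow p L := P.subtype hPL
  obtain ⟨T, hT⟩ := (isPGroup_subgroupOf (K := L) hA).exists_le_sylow
  obtain ⟨l, hl⟩ := MulAction.exists_smul_eq L T PL
  -- l = p₀ * n₀
  have hlmem : ((l : L) : G) ∈ (((P : Subgroup G) ⊔ N : Subgroup G) : Set G) := l.2
  rw [Subgroup.mul_normal, Set.mem_mul] at hlmem
  obtain ⟨a, ha, b, hb, hab⟩ := hlmem
  refine ⟨b, hb, ?_⟩
  rintro _ ⟨u, hu, rfl⟩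
  have huL : u ∈ L := hAL hu
  have h1 : (⟨u, huL⟩ : L) ∈ (T : Subgroup L) := hT hu
  have h2 : l * ⟨u, huL⟩ * l⁻¹ ∈ (PL : Subgroup L) := by
    rw [← hl, Sylow.coe_subgroup_smul]
    exact ⟨_, h1, rfl⟩
  have h3 : ((l : G) * u * (l : G)⁻¹) ∈ (P : Subgroup G) := by
    have : ((l * ⟨u, huL⟩ * l⁻¹ : L) : G) ∈ (P : Subgroup G) := h2
    simpa using this
  rw [← hab] at h3
  have h4 := (P : Subgroup G).mul_mem ((P : Subgroup G).mul_mem ((P : Subgroup G).inv_mem ha) h3) ha
  simp only [MulEquiv.coe_toMonoidHom, MulAut.conj_apply]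
  have h5 : a⁻¹ * (a * b * u * (a * b)⁻¹) * a = b * u * b⁻¹ := by group
  rwa [h5] at h4

end Cfsg.Agent.H13

namespace Cfsg.Agent.H13

open Cfsg
open scoped commutatorElement

variable {G : Type*} [Group G] {p : ℕ}

theorem mem_zpowers_of_orderOf_eq {C : Type*} [Group C] [Finite C] [IsCyclic C] {u v : C}
    (h : orderOf u = orderOf v) : u ∈ Subgroup.zpowers v := by
  classical
  haveI := Fintype.ofFinite C
  set n := orderOf v with hn
  have hn0 : 0 < n := orderOf_pos v
  let S : Finset C := Finset.univ.filter (fun g => g ^ n = 1)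
  have hS : S.card ≤ n := IsCyclic.card_pow_eq_one_le hn0
  let Z : Finset C := Finset.univ.filter (fun g => g ∈ Subgroup.zpowers v)
  have hZ : Z.card = n := by
    have : Z.card = Nat.card (Subgroup.zpowers v) := by
      rw [Nat.card_eq_fintype_card, Fintype.card_subtype]
    rw [this, Nat.card_zpowers]
  have hZS : Z ⊆ S := by
    intro g hg
    simp only [Z, Finset.mem_filter, Finset.mem_univ, true_and] at hg
    obtain ⟨k, rfl⟩ := hg
    simp only [S, Finset.mem_filter, Finset.mem_univ, true_and]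
    show (v ^ k) ^ n = 1
    rw [← zpow_natCast, zpow_comm, zpow_natCast, hn, pow_orderOf_eq_one, one_zpow]
  have hEq : Z = S := Finset.eq_of_subset_of_card_le hZS (by rw [hZ]; exact hS)
  have hu : u ∈ S := by
    simp only [S, Finset.mem_filter, Finset.mem_univ, true_and]
    rw [← h]
    exact pow_orderOf_eq_one u
  rw [← hEq] at hu
  simpa [Z] using hu

/-- in a cyclic `p`-group two nontrivial elements have a common nontrivial power -/
theorem exists_common_power_of_cyclic [Fact p.Prime] {C : Type*} [Group C] [Finite C] [IsCyclic C]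
    (hC : IsPGroup p C) {x w : C} (hx : x ≠ 1) (hw : w ≠ 1) :
    ∃ z, z ≠ 1 ∧ z ∈ Subgroup.zpowers x ∧ z ∈ Subgroup.zpowers w := by
  have hp : p.Prime := Fact.out
  have key : ∀ u : C, u ≠ 1 → ∃ z, orderOf z = p ∧ z ∈ Subgroup.zpowers u := by
    intro u hu
    obtain ⟨a, h1⟩ := IsPGroup.iff_orderOf.mp hC u
    have ha0 : a ≠ 0 := by
      intro h0
      rw [h0, pow_zero, orderOf_eq_one_iff] at h1
      exact hu h1
    obtain ⟨b, hb⟩ := Nat.exists_eq_succ_of_ne_zero ha0
    refine ⟨u ^ p ^ b, ?_, Subgroup.npow_mem_zpowers _ _⟩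
    rw [orderOf_pow' _ (pow_ne_zero _ hp.ne_zero), h1, hb, Nat.succ_eq_add_one, pow_succ]
    have : (p ^ b * p).gcd (p ^ b) = p ^ b := Nat.gcd_eq_right (dvd_mul_right _ _)
    rw [this]
    exact Nat.mul_div_cancel_left _ (pow_pos hp.pos _)
  obtain ⟨z₁, hz₁, hz₁x⟩ := key x hx
  obtain ⟨z₂, hz₂, hz₂w⟩ := key w hw
  have h := mem_zpowers_of_orderOf_eq (hz₁.trans hz₂.symm)
  refine ⟨z₁, ?_, hz₁x, ?_⟩
  · intro h1
    rw [h1, orderOf_one] at hz₁
    exact hp.one_lt.ne hz₁
  · exact (Subgroup.zpowers_le.mpr hz₂w) h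

/-- `p'`-elements normalizing a cyclic `p`-group and centralizing a nontrivial element centralize it. -/
theorem coprime_centralizes_cyclic [Finite G] [Fact p.Prime] {P : Subgroup G} (hP : IsPGroup p P)
    (hC : IsCyclic P) {x h : G} (hxP : x ∈ P) (hx1 : x ≠ 1) (hcomm : Commute h x)
    (hN : h ∈ Subgroup.normalizer (P : Set G)) (hcop : Nat.Coprime (orderOf h) p) :
    h ∈ Subgroup.centralizer (P : Set G) := by
  rw [Subgroup.mem_centralizer_iff]
  intro u hu
  have hu' : u ∈ P := hu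
  have habel : ∀ a ∈ P, ∀ b ∈ P, a * b = b * a := by
    intro a ha b hb
    have h1 : ∀ (a b : P), a * b = b * a := by
      obtain ⟨c, hc⟩ := hC.exists_zpow_surjective
      intro a b
      obtain ⟨i, rfl⟩ := hc a
      obtain ⟨j, rfl⟩ := hc b
      rw [← zpow_add, ← zpow_add, add_comm]
    exact congrArg Subtype.val (h1 ⟨a, ha⟩ ⟨b, hb⟩)
  have hmemconj : ∀ a ∈ P, h * a * h⁻¹ ∈ P := fun a ha =>
    (Subgroup.mem_normalizer_iff.mp hN a).mp ha
  by_contra hne
  set u₁ := h * u * h⁻¹ with hu₁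
  have hu₁P : u₁ ∈ P := hmemconj u hu'
  have hwP : u * u₁⁻¹ ∈ P := P.mul_mem hu' (P.inv_mem hu₁P)
  have hw1 : (⟨u * u₁⁻¹, hwP⟩ : P) ≠ 1 := by
    intro h0
    have h1 : u * u₁⁻¹ = 1 := congrArg Subtype.val h0
    apply hne
    have h2 : u = u₁ := by
      exact mul_inv_eq_one.mp h1
    calc u * h = u₁ * h := by rw [← h2]
      _ = h * u := by rw [hu₁]; group
  have hx1' : (⟨x, hxP⟩ : P) ≠ 1 := by
    intro h0
    exact hx1 (congrArg Subtype.val h0)
  obtain ⟨z, hz1, hzx, hzw⟩ := exists_common_power_of_cyclic hP hx1' hw1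
  obtain ⟨i, hi⟩ := hzx
  obtain ⟨j, hj⟩ := hzw
  have hzi : (z : G) = x ^ i := by
    have := congrArg Subtype.val hi
    simpa using this.symm
  have hzj : (z : G) = (u * u₁⁻¹) ^ j := by
    have := congrArg Subtype.val hj
    simpa using this.symm
  have hcu : Commute u (u₁⁻¹) := habel _ hu' _ (P.inv_mem hu₁P)
  have hcomm2 : ⁅u ^ j, h⁆ = (z : G) := by
    rw [hzj, hcu.mul_zpow, commutatorElement_def]
    have h3 : h * (u ^ j)⁻¹ * h⁻¹ = (u₁⁻¹) ^ j := by
      rw [hu₁, inv_zpow, conj_zpow]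
      group
    rw [mul_assoc (u ^ j), mul_assoc (u ^ j), h3.symm]
  have hcmem : ⁅u ^ j, h⁆ ∈ P := by rw [hcomm2]; exact z.2
  have hcc : Commute ⁅u ^ j, h⁆ h := by
    rw [hcomm2, hzi]
    exact (hcomm.symm.zpow_left i)
  have hf := commute_of_quadratic hP hcmem hcc hcop
  apply hz1
  apply Subtype.ext
  rw [← hcomm2, commutatorElement_eq_one_iff_mul_comm.mpr hf]
  rfl

/-- The normalizer of a cyclic Sylow subgroup centralizes it if it centralizes one
nontrivial element. -/
theorem normalizer_centralizes_cyclic [Finite G] [Fact p.Prime] (P : Sylow p G)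
    (hC : IsCyclic (P : Subgroup G)) {x g : G} (hxP : x ∈ (P : Subgroup G)) (hx1 : x ≠ 1)
    (hcomm : Commute g x) (hN : g ∈ Subgroup.normalizer ((P : Subgroup G) : Set G)) :
    g ∈ Subgroup.centralizer ((P : Subgroup G) : Set G) := by
  have hp : p.Prime := Fact.out
  have hg0 : orderOf g ≠ 0 := (orderOf_pos g).ne'
  obtain ⟨a, m, hnd, hm⟩ := Nat.exists_eq_pow_mul_and_not_dvd hg0 p hp.ne_one
  have hc : Nat.Coprime (p ^ a) m := Nat.Coprime.pow_left a ((Nat.Prime.coprime_iff_not_dvd hp).mpr hnd)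
  -- g^{p^a} has order m
  have hord1 : orderOf (g ^ p ^ a) = m := by
    rw [orderOf_pow' _ (pow_ne_zero _ hp.ne_zero), hm]
    have : (p ^ a * m).gcd (p ^ a) = p ^ a := Nat.gcd_eq_right (dvd_mul_right _ _)
    rw [this]
    exact Nat.mul_div_cancel_left _ (pow_pos hp.pos _)
  have hm0 : m ≠ 0 := by
    intro h0
    rw [h0, mul_zero] at hm
    exact hg0 hm
  have hord2 : orderOf (g ^ m) = p ^ a := by
    rw [orderOf_pow' _ hm0, hm]
    have : (p ^ a * m).gcd m = m := Nat.gcd_eq_right (dvd_mul_left _ _)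
    rw [this]
    exact Nat.mul_div_cancel _ (Nat.pos_of_ne_zero hm0)
  have h1 : g ^ p ^ a ∈ Subgroup.centralizer ((P : Subgroup G) : Set G) := by
    apply coprime_centralizes_cyclic P.2 hC hxP hx1 (hcomm.pow_left _) (Subgroup.pow_mem _ hN _)
    rw [hord1]
    exact ((Nat.Prime.coprime_iff_not_dvd hp).mpr hnd).symm
  -- g^m is a p-element of N(P) hence in P
  have h2 : g ^ m ∈ (P : Subgroup G) := by
    have hzp : IsPGroup p (Subgroup.zpowers (g ^ m)) :=
      isPGroup_zpowers_of_orderOf ⟨a, hord2⟩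
    have hle : Subgroup.zpowers (g ^ m) ≤ Subgroup.normalizer ((P : Subgroup G) : Set G) := by
      rw [Subgroup.zpowers_le]
      exact Subgroup.pow_mem _ hN _
    have hsup : IsPGroup p ((P : Subgroup G) ⊔ Subgroup.zpowers (g ^ m) : Subgroup G) :=
      IsPGroup.to_sup_of_normal_left' P.2 hzp hle
    have heq := P.is_maximal' hsup le_sup_left
    have : g ^ m ∈ ((P : Subgroup G) ⊔ Subgroup.zpowers (g ^ m) : Subgroup G) :=
      Subgroup.mem_sup_right (Subgroup.mem_zpowers _)
    rwa [heq] at this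
  have h3 : g ^ m ∈ Subgroup.centralizer ((P : Subgroup G) : Set G) := by
    rw [Subgroup.mem_centralizer_iff]
    intro u hu
    have h4 : ∀ (a b : (P : Subgroup G)), a * b = b * a := by
      obtain ⟨c, hc⟩ := hC.exists_zpow_surjective
      intro a b
      obtain ⟨i, rfl⟩ := hc a
      obtain ⟨j, rfl⟩ := hc b
      rw [← zpow_add, ← zpow_add, add_comm]
    exact congrArg Subtype.val (h4 ⟨u, hu⟩ ⟨_, h2⟩)
  -- Bezout
  have hb : ((p ^ a * (Nat.gcdA (p ^ a) m) + m * (Nat.gcdB (p ^ a) m) : ℤ)) = 1 := by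
    have := Nat.gcd_eq_gcd_ab (p ^ a) m
    rw [hc] at this
    push_cast at this ⊢
    linarith
  have hg : g = (g ^ p ^ a) ^ (Nat.gcdA (p ^ a) m) * (g ^ m) ^ (Nat.gcdB (p ^ a) m) := by
    rw [← zpow_natCast g (p ^ a), ← zpow_natCast g m, ← zpow_mul, ← zpow_mul, ← zpow_add]
    have : ((p ^ a : ℕ) : ℤ) * (Nat.gcdA (p ^ a) m) + (m : ℤ) * (Nat.gcdB (p ^ a) m) = 1 := by
      push_cast
      exact hb
    rw [this, zpow_one]
  rw [hg]
  exact Subgroup.mul_mem _ (Subgroup.zpow_mem _ h1 _) (Subgroup.zpow_mem _ h3 _)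

end Cfsg.Agent.H13
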