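import Mathlib
import Cfsg.Prelude.Def_LocalStructure
import Cfsg.Agent.Lib.H13.Basic

/-!
# The L-Lemma

`H` finite, `T` Sylow, `H` is `T`-minimal with unique maximal overgroup `M`; `A ≤ T` not in `O_p(H)`.
We work with the set of conjugates of `M` ("points"): a Sylow subgroup lies in exactly one point.
Proof by induction on `|H|`: if `A` lies in only one point, a minimal overgroup not in that point works.
Otherwise take `V ≥ A` maximal among subgroups generated by `O_p(H)` and conjugates of `A` that lie in two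
points; `N_H(V)` then contains conjugates of `A` outside `V`, each in one point; we recurse into a minimal
overgroup in `N_H(V)`.
-/

set_option autoImplicit false

namespace Cfsg.Agent.H13.LLem

open Cfsg Cfsg.Agent.H13

universe u

variable {H : Type u} [Group H] {p : ℕ}

/-- conjugate of a subgroup -/
def cj (g : H) (X : Subgroup H) : Subgroup H := X.map (MulAut.conj g).toMonoidHom

theorem cj_def (g : H) (X : Subgroup H) : cj g X = X.map (MulAut.conj g).toMonoidHom := rfl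

theorem mem_cj {g x : H} {X : Subgroup H} : x ∈ cj g X ↔ g⁻¹ * x * g ∈ X := mem_map_conj

theorem cj_mul (g h : H) (X : Subgroup H) : cj g (cj h X) = cj (g * h) X := map_conj_mul g h X

@[simp] theorem cj_one (X : Subgroup H) : cj 1 X = X := map_conj_one X

theorem cj_inv_cj (g : H) (X : Subgroup H) : cj g⁻¹ (cj g X) = X := map_conj_inv_map_conj g X

theorem cj_cj_inv (g : H) (X : Subgroup H) : cj g (cj g⁻¹ X) = X := map_conj_map_conj_inv g X

theorem cj_cj_inv' (g : H) (X : Subgroup H) : cj g (cj g⁻¹ X) = X := map_conj_map_conj_inv g X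

theorem cj_mono {g : H} {X Y : Subgroup H} (h : X ≤ Y) : cj g X ≤ cj g Y := Subgroup.map_mono h

theorem cj_le_cj_iff {g : H} {X Y : Subgroup H} : cj g X ≤ cj g Y ↔ X ≤ Y := by
  refine ⟨fun h => ?_, cj_mono⟩
  have := cj_mono (g := g⁻¹) h
  rwa [cj_inv_cj, cj_inv_cj] at this

theorem cj_le_iff {g : H} {X Y : Subgroup H} : cj g X ≤ Y ↔ X ≤ cj g⁻¹ Y := by
  rw [← cj_le_cj_iff (g := g⁻¹), cj_inv_cj]

theorem le_cj_iff {g : H} {X Y : Subgroup H} : X ≤ cj g Y ↔ cj g⁻¹ X ≤ Y := by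
  rw [← cj_le_cj_iff (g := g⁻¹), cj_inv_cj]

theorem cj_sup (g : H) (X Y : Subgroup H) : cj g (X ⊔ Y) = cj g X ⊔ cj g Y := map_conj_sup g X Y

theorem cj_inf (g : H) (X Y : Subgroup H) : cj g (X ⊓ Y) = cj g X ⊓ cj g Y := map_conj_inf g X Y

theorem cj_eq_of_mem {g : H} {X : Subgroup H} (h : g ∈ X) : cj g X = X :=
  map_conj_eq_of_mem_normalizer (Subgroup.le_normalizer h)

theorem cj_eq_iff_mem_normalizer {g : H} {X : Subgroup H} :
    cj g X = X ↔ g ∈ Subgroup.normalizer (X : Set H) := mem_normalizer_iff_map_conj.symm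

theorem cj_eq_of_normal {g : H} {X : Subgroup H} [hX : X.Normal] : cj g X = X :=
  map_conj_eq_of_normal

theorem isPGroup_cj {g : H} {X : Subgroup H} (h : IsPGroup p X) : IsPGroup p (cj g X) :=
  isPGroup_map_conj h

theorem isCoatom_cj {g : H} {M : Subgroup H} (h : IsCoatom M) : IsCoatom (cj g M) := by
  refine ⟨fun ht => h.1 ?_, fun K hK => ?_⟩
  · have := cj_inv_cj g M
    rw [ht] at this
    rw [← this]
    ext x
    simp [cj_def]
  · have h1 : M < cj g⁻¹ K := by
      refine lt_of_le_of_ne ?_ ?_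
      · rw [← cj_le_iff]; exact hK.le
      · intro he
        apply hK.ne
        rw [he, cj_cj_inv]
    have h2 := h.2 _ h1
    have := cj_cj_inv g K
    rw [h2] at this
    rw [← this]
    ext x
    simp [cj_def]

/-- the standing hypotheses -/
structure Std (T : Sylow p H) (M : Subgroup H) : Prop where
  nc : Subgroup.normalClosure ((T : Subgroup H) : Set H) = ⊤
  coat : IsCoatom M
  le : (T : Subgroup H) ≤ M
  uniq : ∀ M' : Subgroup H, IsCoatom M' → (T : Subgroup H) ≤ M' → M' = M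

theorem Std.of_min {T : Sylow p H} {M : Subgroup H} (hmin : IsMinimalOver (T : Subgroup H))
    (hM : IsCoatom M ∧ (T : Subgroup H) ≤ M) : Std T M := by
  refine ⟨hmin.1, hM.1, hM.2, fun M' h1 h2 => ?_⟩
  obtain ⟨M₀, -, hu⟩ := hmin.2
  rw [hu M' ⟨h1, h2⟩, hu M hM]

section
variable {T : Sylow p H} {M : Subgroup H}

theorem Std.uniq_cj (s : Std T M) {g h : H} (hh : cj g (T : Subgroup H) ≤ cj h M) :
    cj h M = cj g M := by
  have h1 : (T : Subgroup H) ≤ cj (g⁻¹ * h) M := by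
    rw [← cj_mul, ← cj_le_iff]; exact hh
  have h2 := s.uniq _ (isCoatom_cj s.coat) h1
  have h3 := congrArg (cj g) h2
  rwa [cj_mul, mul_inv_cancel_left] at h3

theorem Std.mem_of_cj_eq (s : Std T M) {x : H} (hx : cj x M = M) : x ∈ M := by
  have hN : x ∈ Subgroup.normalizer (M : Set H) := cj_eq_iff_mem_normalizer.mp hx
  by_cases ht : Subgroup.normalizer (M : Set H) = ⊤
  · exfalso
    haveI : M.Normal := Subgroup.normalizer_eq_top_iff.mp ht
    have h1 : Subgroup.normalClosure ((T : Subgroup H) : Set H) ≤ M :=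
      Subgroup.normalClosure_le_normal s.le
    rw [s.nc] at h1
    exact s.coat.1 (top_le_iff.mp h1)
  · have h2 : M = Subgroup.normalizer (M : Set H) := by
      by_contra hne
      exact ht (s.coat.2 _ (lt_of_le_of_ne Subgroup.le_normalizer hne))
    rwa [← h2] at hN

theorem Std.mem_cj_of_cj_eq (s : Std T M) {x g : H} (hx : cj x (cj g M) = cj g M) : x ∈ cj g M := by
  rw [mem_cj]
  apply s.mem_of_cj_eq
  have h1 := congrArg (cj g⁻¹) hx
  rw [cj_inv_cj, cj_mul, cj_mul] at h1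
  exact h1

variable [Finite H]

theorem Std.le_cj (s : Std T M) {g : H} {X : Subgroup H} (hg : cj g (T : Subgroup H) ≤ X)
    (hX : X ≠ ⊤) : X ≤ cj g M := by
  obtain ⟨C, hC, hXC⟩ := (eq_top_or_exists_le_coatom X).resolve_left hX
  have h1 : (T : Subgroup H) ≤ cj g⁻¹ C := by rw [← cj_le_iff]; exact hg.trans hXC
  have h2 := s.uniq _ (isCoatom_cj hC) h1
  have h3 : C = cj g M := by rw [← h2, cj_cj_inv]
  exact h3 ▸ hXC

variable [Fact p.Prime]

theorem exists_le_cj_T (T : Sylow p H) {V : Subgroup H} (hV : IsPGroup p V) :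
    ∃ g : H, V ≤ cj g (T : Subgroup H) := by
  obtain ⟨Q, hQ⟩ := hV.exists_le_sylow
  obtain ⟨g, hg⟩ := sylow_conj T Q
  exact ⟨g, by rw [cj_def, ← hg]; exact hQ⟩

theorem Std.exists_T_in_cj (s : Std T M) {V : Subgroup H} {g : H} (hV : IsPGroup p V)
    (h : V ≤ cj g M) : ∃ k : H, V ≤ cj k (T : Subgroup H) ∧ cj k M = cj g M := by
  have h0 : cj g⁻¹ V ≤ M := le_cj_iff.mp h
  have hp : IsPGroup p (cj g⁻¹ V) := isPGroup_cj hV
  have hp' : IsPGroup p ((cj g⁻¹ V).subgroupOf M) := hp.comap_subtype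
  obtain ⟨Q, hQ⟩ := hp'.exists_le_sylow
  obtain ⟨m, hm⟩ := sylow_conj (T.subtype s.le) Q
  have hTs : ((T.subtype s.le : Sylow p M) : Subgroup M) = (T : Subgroup H).subgroupOf M := rfl
  have h1 : cj g⁻¹ V ≤ cj (m : H) (T : Subgroup H) := by
    intro x hx
    have h2 : (⟨x, h0 hx⟩ : M) ∈ (Q : Subgroup M) := hQ (by simpa [Subgroup.mem_subgroupOf] using hx)
    rw [hm, mem_map_conj, hTs, Subgroup.mem_subgroupOf] at h2
    rw [mem_cj]
    simpa using h2
  refine ⟨g * m, ?_, ?_⟩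
  · rw [← cj_mul, le_cj_iff]; exact h1
  · rw [← cj_mul, cj_eq_of_mem m.2]

theorem Std.pCore_le_cj (s : Std T M) (g : H) : pCore p H ≤ cj g M := by
  obtain ⟨P, hP⟩ := exists_sylow_of_map_conj T g
  have h1 := pCore_le_sylow (p := p) P
  rw [hP] at h1
  exact h1.trans (cj_mono s.le)

/-! ### the conclusion -/

/-- the conclusion of the L-Lemma, as a predicate on `(M, A)` -/
def LC (p : ℕ) (M A : Subgroup H) : Prop :=
  ∃ L : Subgroup H, A ⊔ pCore p H ≤ L ∧ ∃ L₀ : Subgroup H, A ⊔ pCoreOf p L ≤ L₀ ∧ L₀ < L ∧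
    (∀ X : Subgroup H, A ⊔ pCoreOf p L ≤ X → X < L → X ≤ L₀) ∧
    (∃ g : H, L₀ = L ⊓ cj g M) ∧
    ∀ x ∈ L, x ∉ L₀ → (A ⊔ cj x A) ⊔ pCoreOf p L = L

/-! ### Case 1: `A` lies in only one point -/

theorem Std.case1 (s : Std T M) {A : Subgroup H} (hAT : A ≤ T)
    (hu : ∀ g : H, A ≤ cj g M → cj g M = M) : LC p M A := by
  have hAp : IsPGroup p A := T.2.to_le hAT
  set O := pCore p H with hO
  have hfam : ({Y : Subgroup H | A ⊔ O ≤ Y ∧ ¬ Y ≤ M} : Set (Subgroup H)).Nonempty :=
    ⟨⊤, le_top, fun h => s.coat.1 (top_le_iff.mp h)⟩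
  obtain ⟨L, hL⟩ := Set.Finite.exists_minimal (Set.toFinite _) hfam
  obtain ⟨⟨hL1, hL2⟩, hLm⟩ := hL
  have hmin : ∀ X : Subgroup H, A ⊔ O ≤ X → X < L → X ≤ M := by
    intro X h1 h2
    by_contra h3
    exact absurd (hLm ⟨h1, h3⟩ h2.le) (not_le_of_gt h2)
  have hOL : O ≤ pCoreOf p L := by
    apply le_pCoreOf (le_sup_right.trans hL1) isPGroup_pCore
    haveI : O.Normal := Subgroup.sSup_normal _ (fun _ h => h.1)
    rw [Subgroup.normalizer_eq_top_iff.mpr inferInstance]
    exact le_top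
  have hAL : A ≤ L := le_sup_left.trans hL1
  have hB : A ⊔ pCoreOf p L ≤ L := sup_le hAL (pCoreOf_le L)
  have hBp : IsPGroup p (A ⊔ pCoreOf p L : Subgroup H) :=
    hAp.to_sup_of_normal_right' (isPGroup_pCoreOf L) (hAL.trans (pCoreOf_normalized L))
  have hBlt : A ⊔ pCoreOf p L < L := by
    refine lt_of_le_of_ne hB fun he => hL2 ?_
    have hLp : IsPGroup p L := by
      rw [← he]; exact hBp
    obtain ⟨g, hg⟩ := exists_le_cj_T T hLp
    have h1 : L ≤ cj g M := hg.trans (cj_mono s.le)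
    rw [hu g (hAL.trans h1)] at h1
    exact h1
  have hOB : A ⊔ O ≤ A ⊔ pCoreOf p L := sup_le_sup_left hOL _
  have hBM := hmin _ hOB hBlt
  refine ⟨L, hL1, L ⊓ M, le_inf hB hBM, inf_lt_left.mpr hL2, ?_, ⟨1, by simp⟩, ?_⟩
  · intro X h1 h2
    exact le_inf h2.le (hmin X (hOB.trans h1) h2)
  · intro x hx hx2
    have hxM : x ∉ M := fun h => hx2 ⟨hx, h⟩
    by_contra hne
    have hle : (A ⊔ cj x A) ⊔ pCoreOf p L ≤ L := by
      refine sup_le (sup_le hAL ?_) (pCoreOf_le L)
      rw [cj_le_iff]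
      intro y hy
      rw [mem_cj]
      have := hAL hy
      simpa using mul_mem (mul_mem (inv_mem (inv_mem hx)) this) (inv_mem hx)
    have hlt := lt_of_le_of_ne hle hne
    have h1 := hmin _ (hOB.trans (sup_le_sup_right le_sup_left _)) hlt
    have h2 : cj x A ≤ M := (le_sup_right.trans le_sup_left).trans h1
    have h3 := hu x⁻¹ (cj_le_iff.mp h2)
    have h4 := s.mem_of_cj_eq h3
    exact hxM (by simpa using inv_mem h4)

/-! ### weak closure -/

/-- `O_p(H)` and the conjugates of `A` in `D` -/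
def wc (p : ℕ) (A D : Subgroup H) : Subgroup H :=
  (⨆ (g : H) (_ : cj g A ≤ D), cj g A) ⊔ pCore p H

omit [Finite H] [Fact p.Prime] in
theorem wc_le {A D : Subgroup H} (h : pCore p H ≤ D) : wc p A D ≤ D :=
  sup_le (iSup₂_le fun _ hg => hg) h

omit [Finite H] [Fact p.Prime] in
theorem cj_le_wc {A D : Subgroup H} {g : H} (h : cj g A ≤ D) : cj g A ≤ wc p A D :=
  (le_iSup₂ (f := fun (g : H) (_ : cj g A ≤ D) => cj g A) g h).trans le_sup_left

omit [Finite H] [Fact p.Prime] in
theorem pCore_le_wc {A D : Subgroup H} : pCore p H ≤ wc p A D := le_sup_right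

omit [Finite H] [Fact p.Prime] in
theorem wc_mono {A D E : Subgroup H} (h : D ≤ E) : wc p A D ≤ wc p A E :=
  sup_le (iSup₂_le fun _ hg => cj_le_wc (hg.trans h)) pCore_le_wc

omit [Finite H] [Fact p.Prime] in
theorem wc_le_of {A D E : Subgroup H} (hO : pCore p H ≤ E) (h : ∀ g, cj g A ≤ D → cj g A ≤ E) :
    wc p A D ≤ E :=
  sup_le (iSup₂_le fun g hg => h g hg) hO

theorem pCore_normal : (pCore p H).Normal := by
  exact Subgroup.sSup_normal _ (fun _ h => h.1)

theorem wc_cj_le {A : Subgroup H} (t : H) (D : Subgroup H) : wc p A (cj t D) ≤ cj t (wc p A D) := by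
  haveI := pCore_normal (p := p) (H := H)
  apply wc_le_of
  · rw [← cj_eq_of_normal (g := t) (X := pCore p H)]
    exact cj_mono pCore_le_wc
  · intro g hg
    have h1 : cj (t⁻¹ * g) A ≤ D := by
      rw [← cj_mul, cj_le_iff, inv_inv]; exact hg
    have h2 := cj_mono (g := t) (cj_le_wc (p := p) h1)
    rwa [cj_mul, mul_inv_cancel_left] at h2

theorem wc_cj {A : Subgroup H} (t : H) (D : Subgroup H) : wc p A (cj t D) = cj t (wc p A D) := by
  apply le_antisymm (wc_cj_le t D)
  have h1 := wc_cj_le (p := p) (A := A) t⁻¹ (cj t D)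
  rw [cj_inv_cj] at h1
  rw [← cj_le_iff] at h1
  simpa using h1

/-! ### p-group normalizers -/

omit [Finite H] [Fact p.Prime] in
theorem eq_of_normalizer_le [Finite H] [Fact p.Prime] {S D : Subgroup H} (hS : IsPGroup p S) (hD : D ≤ S)
    (hn : S ⊓ Subgroup.normalizer (D : Set H) ≤ D) : D = S := by
  by_contra hne
  have hnil : Group.IsNilpotent S := hS.isNilpotent
  have hlt : D.subgroupOf S < ⊤ := by
    refine lt_top_iff_ne_top.mpr fun h => hne (le_antisymm hD ?_)
    exact Subgroup.subgroupOf_eq_top.mp h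
  have h1 := Group.normalizerCondition_of_isNilpotent (D.subgroupOf S) hlt
  obtain ⟨r, hr1, hr2⟩ := SetLike.exists_of_lt h1
  apply hr2
  rw [Subgroup.mem_subgroupOf]
  apply hn
  refine ⟨r.2, ?_⟩
  show (r : H) ∈ Subgroup.normalizer (D : Set H)
  rw [Subgroup.mem_normalizer_iff]
  intro x
  have hr3 := Subgroup.mem_normalizer_iff.mp hr1
  constructor
  · intro hx
    have := (hr3 ⟨x, hD hx⟩).mp (by simpa [Subgroup.mem_subgroupOf] using hx)
    simpa [Subgroup.mem_subgroupOf] using this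
  · intro hx
    have hxS : x ∈ S := by
      have h3 := hD hx
      have h4 : (r : H)⁻¹ * ((r : H) * x * (r : H)⁻¹) * (r : H) ∈ S :=
        mul_mem (mul_mem (inv_mem r.2) h3) r.2
      simpa [mul_assoc] using h4
    have := (hr3 ⟨x, hxS⟩).mpr (by simpa [Subgroup.mem_subgroupOf] using hx)
    simpa [Subgroup.mem_subgroupOf] using this

/-! ### the two key claims -/

theorem Std.uniq_of_wc_eq (s : Std T M) {A V : Subgroup H} {t : H}
    (hV : wc p A V = V) (hVp : IsPGroup p V) (hVO : ¬ V ≤ pCore p H)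
    (hwc : wc p A (cj t (T : Subgroup H)) = V) {g : H} (hg : V ≤ cj g M) : cj g M = cj t M := by
  obtain ⟨k, hk1, hk2⟩ := s.exists_T_in_cj hVp hg
  rw [← hk2]
  set u := k * t⁻¹ with hu
  have hk : cj k (T : Subgroup H) = cj u (cj t (T : Subgroup H)) := by
    rw [cj_mul, hu, inv_mul_cancel_right]
  have h0 : wc p A (cj k (T : Subgroup H)) = cj u V := by
    rw [hk, wc_cj, hwc]
  have h1 : V ≤ cj u V := by
    rw [← h0]
    conv_lhs => rw [← hV]
    exact wc_mono hk1
  have h2 : cj u V = V := by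
    refine (Subgroup.eq_of_le_of_card_ge h1 ?_).symm
    exact le_of_eq (card_map_conj u V)
  have huN : u ∈ Subgroup.normalizer (V : Set H) := cj_eq_iff_mem_normalizer.mp h2
  have hS : cj t (T : Subgroup H) ≤ Subgroup.normalizer (V : Set H) := by
    intro r hr
    apply cj_eq_iff_mem_normalizer.mp
    rw [← hwc, ← wc_cj, cj_eq_of_mem hr]
  have hNtop : Subgroup.normalizer (V : Set H) ≠ ⊤ := by
    intro ht
    exact hVO (le_pCore (Subgroup.normalizer_eq_top_iff.mp ht) hVp)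
  have hN := s.le_cj hS hNtop
  have h3 : cj u (cj t M) = cj t M := cj_eq_of_mem (hN huN)
  have h4 : cj k M = cj u (cj t M) := by rw [cj_mul, hu, inv_mul_cancel_right]
  rw [h4, h3]

theorem Std.exists_new_conj (s : Std T M) {A V : Subgroup H} (hO : pCore p H ≤ V)
    (hV : wc p A V = V) (hVp : IsPGroup p V) (hVO : ¬ V ≤ pCore p H)
    (h2 : ∃ a b : H, cj a M ≠ cj b M ∧ V ≤ cj a M ∧ V ≤ cj b M) {g : H} (hg : V ≤ cj g M) :
    ∃ k : H, cj k A ≤ Subgroup.normalizer (V : Set H) ∧ ¬ cj k A ≤ V ∧ cj k A ≤ cj g M := by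
  obtain ⟨t, ht1, ht2⟩ := s.exists_T_in_cj hVp hg
  set S := cj t (T : Subgroup H) with hS
  have hSp : IsPGroup p S := isPGroup_cj T.2
  have hSM : S ≤ cj g M := by rw [← ht2]; exact cj_mono s.le
  set D := S ⊓ Subgroup.normalizer (V : Set H) with hD
  by_contra hcon
  have key : ∀ k, cj k A ≤ D → cj k A ≤ V := by
    intro k hk
    by_contra hn
    exact hcon ⟨k, hk.trans inf_le_right, hn, (hk.trans inf_le_left).trans hSM⟩
  have hVD : V ≤ D := le_inf ht1 Subgroup.le_normalizer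
  have hwcD : wc p A D = V := by
    apply le_antisymm (wc_le_of hO key)
    conv_lhs => rw [← hV]
    exact wc_mono hVD
  have hDS : D = S := by
    apply eq_of_normalizer_le (p := p) hSp inf_le_left
    rintro r ⟨hr1, hr2⟩
    refine ⟨hr1, ?_⟩
    apply cj_eq_iff_mem_normalizer.mp
    have h3 : cj r D = D := cj_eq_iff_mem_normalizer.mpr hr2
    rw [← hwcD, ← wc_cj, h3]
  have hwcS : wc p A S = V := hDS ▸ hwcD
  obtain ⟨a, b, hab, ha, hb⟩ := h2
  exact hab ((s.uniq_of_wc_eq hV hVp hVO hwcS ha).trans (s.uniq_of_wc_eq hV hVp hVO hwcS hb).symm)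

end

/-! ### transfer -/

section transfer

theorem pCoreOf_map_inj {G G' : Type*} [Group G] [Group G'] [Finite G] [Finite G'] [Fact p.Prime]
    (f : G →* G') (hf : Function.Injective f) (L : Subgroup G) :
    pCoreOf p (L.map f) = (pCoreOf p L).map f := by
  apply le_antisymm
  · set P := pCoreOf p (L.map f) with hP
    have hPL : P ≤ L.map f := pCoreOf_le _
    have hPp : IsPGroup p P := isPGroup_pCoreOf _
    have h1 : P.comap f ≤ pCoreOf p L := by
      apply le_pCoreOf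
      · intro x hx
        obtain ⟨y, hy, hyx⟩ := hPL hx
        rw [← hf hyx]; exact hy
      · exact hPp.comap_of_injective f hf
      · have h2 : L ≤ (Subgroup.normalizer (P : Set G')).comap f := by
          intro l hl
          exact pCoreOf_normalized _ ⟨l, hl, rfl⟩
        exact h2.trans (Subgroup.le_normalizer_comap f)
    intro x hx
    obtain ⟨y, -, hyx⟩ := hPL hx
    refine ⟨y, h1 ?_, hyx⟩
    simpa [hyx] using hx
  · apply le_pCoreOf
    · exact Subgroup.map_mono (pCoreOf_le L)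
    · exact (isPGroup_pCoreOf L).map f
    · exact (Subgroup.map_mono (pCoreOf_normalized L)).trans (Subgroup.le_normalizer_map f)

theorem map_cj {G G' : Type*} [Group G] [Group G'] (f : G →* G') (y : G) (X : Subgroup G) :
    (cj y X).map f = cj (f y) (X.map f) := by
  ext x
  constructor
  · rintro ⟨_, ⟨z, hz, rfl⟩, rfl⟩
    refine ⟨f z, ⟨z, hz, rfl⟩, ?_⟩
    simp [MulAut.conj_apply]
  · rintro ⟨_, ⟨z, hz, rfl⟩, rfl⟩
    refine ⟨y * z * y⁻¹, ⟨z, hz, rfl⟩, ?_⟩
    simp [MulAut.conj_apply]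

variable [Finite H] [Fact p.Prime]

theorem pCoreOf_cj (k : H) (L : Subgroup H) : pCoreOf p (cj k L) = cj k (pCoreOf p L) :=
  pCoreOf_map_inj (MulAut.conj k).toMonoidHom (MulAut.conj k).injective L

theorem LC_cj_M {M A : Subgroup H} {g : H} (h : LC p (cj g M) A) : LC p M A := by
  obtain ⟨L, h1, L₀, h2, h3, h4, ⟨g', h5⟩, h6⟩ := h
  refine ⟨L, h1, L₀, h2, h3, h4, ⟨g' * g, ?_⟩, h6⟩
  rw [h5, cj_mul]

theorem LC_conj {M A : Subgroup H} {k : H} (h : LC p M (cj k A)) : LC p M A := by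
  haveI := pCore_normal (p := p) (H := H)
  obtain ⟨L, h1, L₀, h2, h3, h4, ⟨g, h5⟩, h6⟩ := h
  have hk : cj k⁻¹ (cj k A) = A := cj_inv_cj k A
  have hp : pCoreOf p (cj k⁻¹ L) = cj k⁻¹ (pCoreOf p L) := pCoreOf_cj k⁻¹ L
  refine ⟨cj k⁻¹ L, ?_, cj k⁻¹ L₀, ?_, ?_, ?_, ⟨k⁻¹ * g, ?_⟩, ?_⟩
  · have := cj_mono (g := k⁻¹) h1
    rwa [cj_sup, hk, cj_eq_of_normal] at this
  · have := cj_mono (g := k⁻¹) h2
    rwa [cj_sup, hk, ← hp] at this
  · refine lt_of_le_of_ne (cj_mono h3.le) fun he => h3.ne ?_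
    have := congrArg (cj k) he
    rwa [cj_cj_inv' k, cj_cj_inv' k] at this
  · intro X hX1 hX2
    have h7 : cj k X ≤ L₀ := by
      apply h4
      · have := cj_mono (g := k) hX1
        rw [cj_sup, hp, cj_cj_inv' k] at this
        exact this
      · refine lt_of_le_of_ne ?_ fun he => hX2.ne ?_
        · have := cj_mono (g := k) hX2.le
          rwa [cj_cj_inv' k] at this
        · rw [← he, cj_inv_cj]
    rw [← cj_inv_cj k X]
    exact cj_mono h7
  · rw [← cj_mul, h5, cj_inf]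
  · intro x hx hx2
    have hy : k * x * k⁻¹ ∈ L := by
      rw [mem_cj, inv_inv] at hx
      exact hx
    have hy2 : k * x * k⁻¹ ∉ L₀ := by
      intro hc
      apply hx2
      rw [mem_cj, inv_inv]
      exact hc
    have h7 := h6 _ hy hy2
    have h8 := congrArg (cj k⁻¹) h7
    rw [cj_sup, cj_sup, hk, cj_mul, cj_mul, ← hp] at h8
    have h9 : k⁻¹ * (k * x * k⁻¹) * k = x := by group
    rwa [h9] at h8

theorem LC_transfer {M₀ A' Y : Subgroup H} (hA : A' ≤ Y) (hO : pCore p H ≤ Y)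
    (h : LC (H := Y) p (M₀.subgroupOf Y) (A'.subgroupOf Y)) : LC p M₀ A' := by
  obtain ⟨L, h1, L₀, h2, h3, h4, ⟨g, h5⟩, h6⟩ := h
  set f := Y.subtype with hf
  have hfi : Function.Injective f := Y.subtype_injective
  have hAm : (A'.subgroupOf Y).map f = A' := Subgroup.map_subgroupOf_eq_of_le hA
  have hp : pCoreOf p (L.map f) = (pCoreOf p L).map f := pCoreOf_map_inj f hfi L
  have hL : L.map f ≤ Y := Subgroup.map_subtype_le L
  refine ⟨L.map f, ?_, L₀.map f, ?_, ?_, ?_, ⟨g, ?_⟩, ?_⟩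
  · refine sup_le ?_ ?_
    · rw [← hAm]; exact Subgroup.map_mono (le_sup_left.trans h1)
    · have h7 : pCore p H ≤ pCoreOf p Y := by
        apply le_pCoreOf hO isPGroup_pCore
        haveI := pCore_normal (p := p) (H := H)
        rw [Subgroup.normalizer_eq_top_iff.mpr inferInstance]
        exact le_top
      exact h7.trans (Subgroup.map_mono (le_sup_right.trans h1))
  · rw [hp, ← hAm, ← Subgroup.map_sup]
    exact Subgroup.map_mono h2
  · refine lt_of_le_of_ne (Subgroup.map_mono h3.le) fun he => h3.ne ?_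
    exact Subgroup.map_injective hfi he
  · intro X hX1 hX2
    have hXY : X ≤ Y := hX2.le.trans hL
    have hXm : (X.subgroupOf Y).map f = X := Subgroup.map_subgroupOf_eq_of_le hXY
    have h7 : X.subgroupOf Y ≤ L₀ := by
      apply h4
      · rw [← Subgroup.map_le_map_iff_of_injective hfi, Subgroup.map_sup, hAm, ← hp, hXm]
        exact hX1
      · refine lt_of_le_of_ne ?_ fun he => hX2.ne ?_
        · rw [← Subgroup.map_le_map_iff_of_injective hfi, hXm]; exact hX2.le
        · rw [← he, hXm]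
    rw [← hXm]
    exact Subgroup.map_mono h7
  · ext x
    constructor
    · rintro ⟨y, hy, rfl⟩
      rw [h5] at hy
      refine ⟨⟨y, hy.1, rfl⟩, ?_⟩
      have this : y ∈ cj g (M₀.subgroupOf Y) := hy.2
      rw [mem_cj, Subgroup.mem_subgroupOf] at this
      show f y ∈ cj (g : H) M₀
      rw [mem_cj]
      simpa [hf] using this
    · rintro ⟨⟨y, hy, rfl⟩, hx⟩
      refine ⟨y, ?_, rfl⟩
      rw [h5]
      refine ⟨hy, ?_⟩
      show y ∈ cj g (M₀.subgroupOf Y)
      rw [mem_cj, Subgroup.mem_subgroupOf]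
      have hx' : f y ∈ cj (g : H) M₀ := hx
      rw [mem_cj] at hx'
      simpa [hf] using hx'
  · rintro _ ⟨y, hy, rfl⟩ hx
    have hy2 : y ∉ L₀ := fun hc => hx ⟨y, hc, rfl⟩
    have h7 := h6 y hy hy2
    have h8 := congrArg (Subgroup.map f) h7
    rw [Subgroup.map_sup, Subgroup.map_sup, hAm, map_cj, hAm, ← hp] at h8
    exact h8

end transfer

/-! ### the main induction -/

theorem lLemma_main {p : ℕ} [Fact p.Prime] (n : ℕ) : ∀ (H : Type u) [Group H] [Finite H]
    (T : Sylow p H) (M : Subgroup H) (_ : Std T M) (A : Subgroup H) (_ : A ≤ (T : Subgroup H))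
    (_ : ¬ A ≤ pCore p H), Nat.card H = n → LC p M A := by
  induction n using Nat.strong_induction_on with
  | _ n ih =>
  intro H _ _ T M s A hAT hA hcard
  by_cases hF : ∀ g : H, A ≤ cj g M → cj g M = M
  · exact s.case1 hAT hF
  simp only [not_forall] at hF
  obtain ⟨g₀, hg₀, hne⟩ := hF
  set O := pCore p H with hO
  haveI hOn : O.Normal := pCore_normal
  have hAp : IsPGroup p A := T.2.to_le hAT
  have hOp : IsPGroup p O := isPGroup_pCore
  -- the family of `V`
  have hbase : (A ⊔ O) ∈ {V : Subgroup H | A ⊔ O ≤ V ∧ IsPGroup p V ∧ wc p A V = V ∧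
      ∃ a b : H, cj a M ≠ cj b M ∧ V ≤ cj a M ∧ V ≤ cj b M} := by
    refine ⟨le_rfl, hAp.to_sup_of_normal_right hOp, ?_, 1, g₀, ?_, ?_, ?_⟩
    · apply le_antisymm (wc_le le_sup_right)
      refine sup_le ?_ pCore_le_wc
      have := cj_le_wc (p := p) (A := A) (D := A ⊔ O) (g := 1) (by simpa using le_sup_left)
      simpa using this
    · simpa using fun h => hne h.symm
    · simpa using sup_le (hAT.trans s.le) (by simpa using s.pCore_le_cj 1)
    · exact sup_le hg₀ (s.pCore_le_cj g₀)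
  obtain ⟨V, hVm⟩ := Set.Finite.exists_maximal (Set.toFinite _) ⟨_, hbase⟩
  obtain ⟨⟨hV1, hVp, hVw, a, b, hab, hVa, hVb⟩, hVmax⟩ := hVm
  have hAV : A ≤ V := le_sup_left.trans hV1
  have hOV : O ≤ V := le_sup_right.trans hV1
  have hVO : ¬ V ≤ O := fun h => hA (hAV.trans h)
  -- the new conjugates
  have hnew : ∀ a' : H, V ≤ cj a' M → ∃ k : H, cj k A ≤ Subgroup.normalizer (V : Set H) ∧
      ¬ cj k A ≤ V ∧ cj k A ≤ cj a' M ∧ ∀ b' : H, V ⊔ cj k A ≤ cj b' M → cj b' M = cj a' M := by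
    intro a' ha'
    obtain ⟨k, hk1, hk2, hk3⟩ := s.exists_new_conj hOV hVw hVp hVO ⟨a, b, hab, hVa, hVb⟩ ha'
    refine ⟨k, hk1, hk2, hk3, fun b' hb' => ?_⟩
    by_contra hne'
    have hmem : (V ⊔ cj k A) ∈ {V : Subgroup H | A ⊔ O ≤ V ∧ IsPGroup p V ∧ wc p A V = V ∧
        ∃ a b : H, cj a M ≠ cj b M ∧ V ≤ cj a M ∧ V ≤ cj b M} := by
      refine ⟨hV1.trans le_sup_left, ?_, ?_, a', b', Ne.symm hne', sup_le ha' hk3, hb'⟩
      · exact hVp.to_sup_of_normal_left' (isPGroup_cj hAp) hk1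
      · apply le_antisymm (wc_le (hOV.trans le_sup_left))
        refine sup_le ?_ (cj_le_wc le_sup_right)
        conv_lhs => rw [← hVw]
        exact wc_mono le_sup_left
    have := hVmax hmem le_sup_left
    exact hk2 (le_sup_right.trans this)
  obtain ⟨k, hk1, hk2, hk3, hk4⟩ := hnew a hVa
  obtain ⟨k', hk1', -, hk3', hk4'⟩ := hnew b hVb
  set N := Subgroup.normalizer (V : Set H) with hN
  have hNtop : N ≠ ⊤ := fun ht => hVO (le_pCore (Subgroup.normalizer_eq_top_iff.mp ht) hVp)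
  set α := cj a M with hα
  have hNα : ¬ N ≤ α := by
    intro hc
    apply hab
    exact hk4' a (sup_le hVa (hk1'.trans hc))
  set A' := cj k A with hA'
  set U := V ⊔ A' with hU
  have hUp : IsPGroup p U := hVp.to_sup_of_normal_left' (isPGroup_cj hAp) hk1
  have hfam : ({Y : Subgroup H | U ≤ Y ∧ Y ≤ N ∧ ¬ Y ≤ α} : Set (Subgroup H)).Nonempty :=
    ⟨N, sup_le Subgroup.le_normalizer hk1, le_rfl, hNα⟩
  obtain ⟨Y, hYm⟩ := Set.Finite.exists_minimal (Set.toFinite _) hfam
  obtain ⟨⟨hY1, hY2, hY3⟩, hYmin⟩ := hYm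
  have hmin : ∀ X : Subgroup H, U ≤ X → X < Y → X ≤ α := by
    intro X h1 h2
    by_contra h3
    exact absurd (hYmin ⟨h1, h2.le.trans hY2, h3⟩ h2.le) (not_le_of_gt h2)
  -- `p`-subgroups over `U` lie in `α`
  have hpt : ∀ P : Subgroup H, IsPGroup p P → U ≤ P → P ≤ α := by
    intro P hP hUP
    obtain ⟨c, hc⟩ := exists_le_cj_T T hP
    have h1 : P ≤ cj c M := hc.trans (cj_mono s.le)
    have h2 := hk4 c (hUP.trans h1)
    rwa [h2] at h1
  have hYfix : ∀ P : Subgroup H, IsPGroup p P → U ≤ P → Y ≤ Subgroup.normalizer (P : Set H) → False := by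
    intro P hP hUP hYN
    apply hY3
    intro y hy
    have h1 : cj y P = P := cj_eq_iff_mem_normalizer.mpr (hYN hy)
    have h2 : P ≤ cj y α := by
      conv_lhs => rw [← h1]
      exact cj_mono (hpt P hP hUP)
    have h3 : cj y α = cj (y * a) M := by rw [hα, cj_mul]
    rw [h3] at h2
    have h4 := hk4 (y * a) (hUP.trans h2)
    rw [← h3] at h4
    exact s.mem_cj_of_cj_eq h4
  have hOY : O ≤ Y := hOV.trans (le_sup_left.trans hY1)
  have hA'Y : A' ≤ Y := le_sup_right.trans hY1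
  have hUY : U ≤ Y := hY1
  -- the Sylow subgroup of `Y`
  have hUpY : IsPGroup p (U.subgroupOf Y) := hUp.comap_subtype
  obtain ⟨T'', hT''⟩ := hUpY.exists_le_sylow
  -- the key property of `Y`
  have hmin' : ∀ K : Subgroup Y, U.subgroupOf Y ≤ K → K ≠ ⊤ → K ≤ α.subgroupOf Y := by
    intro K hK1 hK2 x hx
    rw [Subgroup.mem_subgroupOf]
    have h1 : K.map Y.subtype < Y := by
      refine lt_of_le_of_ne (Subgroup.map_subtype_le K) fun he => hK2 ?_
      rw [eq_top_iff]
      intro z _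
      have : (z : H) ∈ K.map Y.subtype := by rw [he]; exact z.2
      obtain ⟨w, hw, hwz⟩ := this
      have : w = z := Subtype.ext hwz
      rwa [← this]
    refine hmin _ ?_ h1 ⟨x, hx, rfl⟩
    intro u hu
    exact ⟨⟨u, hUY hu⟩, hK1 (by simpa [Subgroup.mem_subgroupOf] using hu), rfl⟩
  have hαY : α.subgroupOf Y ≠ ⊤ := fun h => hY3 (Subgroup.subgroupOf_eq_top.mp h)
  have hT''α : (T'' : Subgroup Y) ≤ α.subgroupOf Y := by
    intro x hx
    rw [Subgroup.mem_subgroupOf]
    refine hpt ((T'' : Subgroup Y).map Y.subtype) (T''.2.map _) ?_ ⟨x, hx, rfl⟩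
    intro u hu
    exact ⟨⟨u, hUY hu⟩, hT'' (by simpa [Subgroup.mem_subgroupOf] using hu), rfl⟩
  have hcoat : IsCoatom (α.subgroupOf Y) := by
    refine ⟨hαY, fun K hK => ?_⟩
    by_contra hne2
    have := hmin' K ((hT''.trans hT''α).trans hK.le) hne2
    exact absurd this (not_le_of_gt hK)
  have hstd : Std T'' (α.subgroupOf Y) := by
    refine ⟨?_, hcoat, hT''α, fun M' h1 h2 => ?_⟩
    · by_contra hnc
      haveI hCn : (Subgroup.normalClosure ((T'' : Subgroup Y) : Set Y)).Normal :=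
        Subgroup.normalClosure_normal
      have hTC : (T'' : Subgroup Y) ≤ Subgroup.normalClosure ((T'' : Subgroup Y) : Set Y) :=
        Subgroup.subset_normalClosure
      have hC := hmin' _ (hT''.trans hTC) hnc
      have hF := Sylow.normalizer_sup_eq_top' T'' hTC
      have hNY : Subgroup.normalizer ((T'' : Subgroup Y) : Set Y) ≠ ⊤ := by
        intro ht
        haveI := Subgroup.normalizer_eq_top_iff.mp ht
        apply hYfix ((T'' : Subgroup Y).map Y.subtype) (T''.2.map _)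
        · intro u hu
          exact ⟨⟨u, hUY hu⟩, hT'' (by simpa [Subgroup.mem_subgroupOf] using hu), rfl⟩
        · intro y hy
          have h1 : (⟨y, hy⟩ : Y) ∈ Subgroup.normalizer ((T'' : Subgroup Y) : Set Y) := by
            rw [ht]; trivial
          have h2 := Subgroup.le_normalizer_map Y.subtype (Subgroup.mem_map_of_mem _ h1)
          exact h2
      have hN2 := hmin' _ (hT''.trans Subgroup.le_normalizer) hNY
      exact hαY (top_le_iff.mp (hF ▸ sup_le hN2 hC))
    · have h3 := hmin' M' (hT''.trans h2) h1.1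
      rcases h1.le_iff.mp h3 with h4 | h4
      · exact absurd h4 hαY
      · exact h4.symm
  -- apply induction
  have hYcard : Nat.card Y < n := by
    rw [← hcard]
    have hYtop : Y ≠ ⊤ := fun h => hNtop (top_le_iff.mp (h ▸ hY2))
    exact lt_of_le_of_ne (Subgroup.card_le_card_group Y) (fun h => hYtop (Subgroup.eq_top_of_card_eq Y h))
  have hA''T : A'.subgroupOf Y ≤ (T'' : Subgroup Y) :=
    (Subgroup.comap_mono le_sup_right).trans hT''
  have hA''O : ¬ A'.subgroupOf Y ≤ pCore p Y := by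
    intro hc
    have h1 : A' ≤ pCoreOf p Y := by
      intro x hx
      exact ⟨⟨x, hA'Y hx⟩, hc (by simpa [Subgroup.mem_subgroupOf] using hx), rfl⟩
    have h2 : V ≤ pCoreOf p Y :=
      le_pCoreOf (le_sup_left.trans hY1) hVp hY2
    exact hYfix (pCoreOf p Y) (isPGroup_pCoreOf Y) (sup_le h2 h1) (pCoreOf_normalized Y)
  have hLC := ih _ hYcard Y T'' (α.subgroupOf Y) hstd (A'.subgroupOf Y) hA''T hA''O rfl
  have h1 : LC p α A' := LC_transfer hA'Y hOY hLC
  have h2 : LC p M A' := LC_cj_M h1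
  exact LC_conj h2

end Cfsg.Agent.H13.LLem
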