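import Cfsg.Agent.Lib.H13.LargeChar

/-!
Families of pairwise normalizing `p`-subgroups.
-/

set_option autoImplicit false

namespace Cfsg.Agent.H13

open Cfsg
open scoped commutatorElement Pointwise

variable {G : Type*} [Group G] {p : ℕ}

section
variable [Finite G] [Fact p.Prime]

theorem le_normalizer_iSup {ι : Sort*} (F : ι → Subgroup G) (X : Subgroup G)
    (h : ∀ i, X ≤ Subgroup.normalizer (F i : Set G)) :
    X ≤ Subgroup.normalizer ((⨆ i, F i : Subgroup G) : Set G) :=
  (le_iInf h).trans (Subgroup.iInf_normalizer_le_normalizer_iSup F)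

/-- A finite family of pairwise normalizing `p`-subgroups generates a `p`-group. -/
theorem isPGroup_iSup_of_pairwise_normalize {ι : Type*} [Finite ι] (F : ι → Subgroup G)
    (hp : ∀ i, IsPGroup p (F i)) (hn : ∀ i j, F i ≤ Subgroup.normalizer (F j : Set G)) :
    IsPGroup p (⨆ i, F i : Subgroup G) := by
  classical
  haveI := Fintype.ofFinite ι
  have key : ∀ s : Finset ι, IsPGroup p (⨆ i ∈ s, F i : Subgroup G) := by
    intro s
    induction s using Finset.induction_on with
    | empty =>
      have h0 : (⨆ i ∈ (∅ : Finset ι), F i : Subgroup G) = ⊥ := by simp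
      rw [h0]
      exact IsPGroup.of_bot
    | insert a s ha ih =>
      rw [Finset.iSup_insert]
      have h1 : F a ≤ Subgroup.normalizer ((⨆ i ∈ s, F i : Subgroup G) : Set G) := by
        apply le_normalizer_iSup
        intro i
        apply le_normalizer_iSup
        intro _
        exact hn a i
      exact IsPGroup.to_sup_of_normal_right' (hp a) ih h1
  have h1 : (⨆ i ∈ (Finset.univ : Finset ι), F i : Subgroup G) = ⨆ i, F i := by simp
  rw [← h1]
  exact key _

end

end Cfsg.Agent.H13
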