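import Cfsg.Agent.Lib.H13.MOutChain

/-! Data for the outer automorphisms of `M11` (generated by a script). -/

set_option autoImplicit false

namespace Cfsg.Agent.H13.MOut.M11D

def ca : ℕ := 320197908119674142562552882269558816

def cb : ℕ := 819544275064949439802299827534209536

def cmu : ℕ := 923766719713448173670653459198951456

def ck : ℕ := 651079817695793315710762073243845655

def R : List (List Bool) :=
  [[true, true],
    [true, false, false, false, true, false, false, false, true, false, false, false, true, false, false, false, true, false, false, false],
    [true, false, true, false, true, false, true, false, true, false, true, false, true, false, true, false],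
    [true, false, false, false, true, false, false, true, false, false, false, false, false, true, false, false, false, true, false, false, true, false, false, false, false, false]]

def st : List (ℕ × ℕ) := [(0, 1), (2, 1), (2, 2), (3, 2), (5, 2), (6, 2), (6, 3), (7, 3), (9, 2), (10, 11), (10, 0), (12, 12), (12, 1), (12, 0), (0, 2), (15, 13), (17, 1), (15, 0), (0, 3), (4, 21), (1, 22), (22, 7), (3, 8), (8, 5), (5, 5), (6, 7), (5, 0), (8, 2), (9, 0), (5, 0), (15, 8), (12, 1), (17, 1), (34, 2), (15, 11), (16, 1), (37, 1), (22, 1), (18, 1), (13, 6), (14, 2), (15, 2), (8, 3), (17, 2), (18, 0), (6, 12), (1, 1), (8, 22), (22, 1), (9, 0), (11, 9), (25, 1), (26, 1), (10, 0), (20, 14), (16, 1), (30, 1), (18, 1), (17, 0), (0, 2), (13, 14), (1, 15), (2, 15), (3, 3)]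

def U2 : List ℕ := [984818244535754528103549039458486304, 819544275064949439802299827534209536, 606837871326500472496417652193266880, 233195321405534330655677670652912704, 891198112701633850583742379364328832, 226300161364829210215463133707875584, 879211203949567658886576995396095104, 588726533349927280461759338168754592, 235868553571723184860922716728103008, 464330878059498922369673431206667840, 609714116171738490039089542052557088]

def U3 : List ℕ := [984818244535754528103549039458486304, 320197908119674142562552882269558816, 978320980801228321302614373466121248, 606634880097824706456606202271281184, 479866820170475379175668521514382368, 648159310229650812104752762628218912, 304627158176195818307027644478557216, 607919247800864093838690550702149664, 588455692057247791957896459422220320, 898701815493414609980278417592305696]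

def U4 : List ℕ := [984818244535754528103549039458486304, 313063593285160742836699179059316768, 970254902120350598020240965873371168, 629863500390412654982178157189269536, 304382488815307602047787978285647904, 890954976140709938678640932563453984, 487655643029606470073469406179395616, 719748774308089385568610015441717280, 424698032726113400716592269113985056]

def U5 : List ℕ := [984818244535754528103549039458486304, 608405391266436187982588441666881568, 609271311764373893382231684089481248, 719923664328491199848526586197411872, 970499966350631336865513127433832480, 227578386318009578406903204956702752, 232652365823391711183829569059784736, 715872302521680643580706198532491296]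

end Cfsg.Agent.H13.MOut.M11D
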