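import Cfsg.Agent.Lib.H13.MOutChain

/-! Data for the outer automorphisms of `M12` (generated by a script). -/

set_option autoImplicit false

namespace Cfsg.Agent.H13.MOut.M12D

def ca : ℕ := 319798597967648240917828486406709296

def ca1 : ℕ := 975447770815569833621815645696012592

def cb : ℕ := 819544275064949439802299827534209536

def cmu : ℕ := 923766719713448173670653459198951456

def ct : ℕ := 390824430194767752638786424363668709

def cd : ℕ := 435308209726272960932942446491378084

def pp : ℕ := 6

def ck : ℕ := 651079817695793315710762073243845655

def R : List (List Bool) :=
  [[true, true],
    [true, false, true, false, false, false, true, false, true, false, false, false, true, false, true, false, false, false, true, false, true, false, false, false],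
    [true, false, false, false, false, false, true, false, false, false, false, false, false, false, false, true, false, false, true, false, false, true, false, false, false, false, false, true, false, false, false, false, false, false, false, false, true, false, false, true, false, false]]

def st : List (ℕ × ℕ) := [(0, 2), (2, 1), (2, 2), (3, 2), (4, 2), (5, 2), (7, 2), (7, 2), (8, 2), (9, 1), (11, 12), (12, 12), (12, 1), (12, 0), (14, 15), (16, 1), (16, 4), (14, 0), (19, 6), (17, 0), (16, 0), (21, 6), (23, 20), (23, 1), (24, 1), (17, 0), (0, 2), (12, 28), (1, 29), (14, 15), (3, 16), (31, 5), (17, 5), (33, 3), (34, 0), (8, 9), (21, 1), (10, 1), (10, 0), (0, 2), (25, 10), (12, 0), (0, 2), (16, 11), (17, 1), (18, 1), (15, 0), (0, 2), (8, 9), (6, 10), (7, 8), (3, 9), (12, 5), (13, 5), (14, 0), (12, 3), (2, 0), (0, 2), (18, 6), (11, 1), (17, 1), (10, 1), (22, 11), (20, 1), (11, 0), (0, 2), (8, 9), (5, 10), (6, 2), (3, 3), (8, 3), (13, 3), (10, 4), (15, 0), (8, 17), (6, 0), (14, 11), (11, 1), (20, 1), (8, 0), (22, 15), (14, 1), (24, 8), (21, 1), (22, 23), (23, 1), (20, 19), (5, 26)]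

def U1 : List ℕ := [984818244535754528103549039458486304, 319798597967648240917828486406709296, 861244909125433960861945671098600966, 840480634320487220601121582675692557, 440765500897022660462352887829669068, 442062347159687235938036665460106244, 932330839181998451390596870931887490, 927123806479460531542934806433248274, 927767702311139759470391435373975688, 984771333747803817492197243761528833, 984736780254394700725970647823495747, 819666030691988825768764196510763049]

def U2 : List ℕ := [984818244535754528103549039458486304, 819544275064949439802299827534209536, 606837871326500472496417652193266880, 297891990628174735947773601275971680, 891198112701633850583742379364328832, 466440322317076596272025693028913728, 484490331081881108862408287278675008, 721006052088165057276868443659059616, 837965831919480342480303095304888608, 638184159687196621319292119253291264, 311098611975892875657064407561771136]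

def U3 : List ℕ := [984818244535754528103549039458486304, 897688484168543082887175640668475424, 856377456796291930979773524260001824, 479582217756837106710328776524893216, 721269307624408231295626002150536224, 984574657262612311324662570656612384, 444780054035498696916454447640594464, 816964726674340312403741859668107296, 234560405285478607637062076013421600, 838212692413955802609225934956605472]

def U4 : List ℕ := [984818244535754528103549039458486304, 796134455581813252778404696041064480, 486349973926430203268823274221996064, 944538627742660781242037951888164896, 809127892823755776035426641505355808, 424698032726113400716592269113985056, 629863500390412654982178157189269536, 487655643029606470073469406179395616, 928952864966028496604741530750814240]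

def U5 : List ℕ := [984818244535754528103549039458486304, 608405391266436187982588441666881568, 227578386318009578406903204956702752, 970499966350631336865513127433832480, 715872302521680643580706198532491296, 719923664328491199848526586197411872, 609271311764373893382231684089481248, 232652365823391711183829569059784736]

end Cfsg.Agent.H13.MOut.M12D
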