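import Mathlib
import Cfsg.Agent.Lib.H18.Syl

/-!
Sylow `2`-subgroups of the alternating group of degree `8`: elements of the normalizer in the
symmetric group have order dividing `8`.
-/

set_option autoImplicit false
set_option maxRecDepth 100000

namespace Cfsg.Agent.H13.M24S

open Equiv

def bl1 (i : Fin 8) : ℕ := i.val / 2
def bl2 (i : Fin 8) : ℕ := i.val / 4

def ga : Perm (Fin 8) := swap 0 1 * swap 2 3
def gb : Perm (Fin 8) := swap 0 1 * swap 4 5
def gc : Perm (Fin 8) := swap 0 1 * swap 6 7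
def gd : Perm (Fin 8) := swap 0 2 * swap 1 3
def gd' : Perm (Fin 8) := swap 4 6 * swap 5 7
def ge : Perm (Fin 8) := swap 0 4 * swap 1 5 * swap 2 6 * swap 3 7

def zz : Perm (Fin 8) := swap 0 1 * swap 2 3 * swap 4 5 * swap 6 7

def tup (a b c d : Fin 8) : Fin 8 → Fin 8 := ![a, zz a, b, zz b, c, zz c, d, zz d]

def evens : List (Fin 8) := [0, 2, 4, 6]

def chkG (f : Fin 8 → Fin 8) (g : Perm (Fin 8)) : Bool :=
  evens.all (fun i => decide (bl1 (f (g i)) = bl1 (f (g (zz i))))) &&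
    evens.all (fun i => evens.all (fun j => !(decide (bl2 (f i) = bl2 (f j))) ||
      decide (bl2 (f (g i)) = bl2 (f (g j)))))

def chk (a b c d : Fin 8) : Bool :=
  decide (bl1 a ≠ bl1 b) && decide (bl1 a ≠ bl1 c) && decide (bl1 a ≠ bl1 d) &&
    decide (bl1 b ≠ bl1 c) && decide (bl1 b ≠ bl1 d) && decide (bl1 c ≠ bl1 d) &&
    [ga, gb, gc, gd, gd', ge].all (chkG (tup a b c d))

/-- The brute-force check. -/
theorem bf2 : ∀ a b c d : Fin 8, chk a b c d = true → ∀ i : Fin 8, (tup a b c d)^[8] i = i := by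
  decide +kernel

/-- The tree-preserving subgroup. -/
def treeG : Subgroup (Perm (Fin 8)) where
  carrier := {σ | (∀ i j, bl1 i = bl1 j → bl1 (σ i) = bl1 (σ j)) ∧
    (∀ i j, bl2 i = bl2 j → bl2 (σ i) = bl2 (σ j))}
  mul_mem' := by
    rintro a b ⟨ha1, ha2⟩ ⟨hb1, hb2⟩
    exact ⟨fun i j h => ha1 _ _ (hb1 i j h), fun i j h => ha2 _ _ (hb2 i j h)⟩
  one_mem' := ⟨fun _ _ h => h, fun _ _ h => h⟩
  inv_mem' := by
    intro a ha
    have hpow : ∀ n : ℕ, (∀ i j, bl1 i = bl1 j → bl1 ((a ^ n) i) = bl1 ((a ^ n) j)) ∧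
        (∀ i j, bl2 i = bl2 j → bl2 ((a ^ n) i) = bl2 ((a ^ n) j)) := by
      intro n
      induction n with
      | zero => exact ⟨fun _ _ h => h, fun _ _ h => h⟩
      | succ n ih =>
        rw [pow_succ]
        exact ⟨fun i j h => ih.1 _ _ (ha.1 i j h), fun i j h => ih.2 _ _ (ha.2 i j h)⟩
    have e : a⁻¹ = a ^ (orderOf a - 1) := by
      rw [eq_comm, eq_inv_iff_mul_eq_one, ← pow_succ, Nat.sub_add_cancel (orderOf_pos a),
        pow_orderOf_eq_one]
    rw [e]
    exact hpow _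

theorem mem_treeG_iff {σ : Perm (Fin 8)} : σ ∈ treeG ↔ (∀ i j, bl1 i = bl1 j → bl1 (σ i) = bl1 (σ j)) ∧
    (∀ i j, bl2 i = bl2 j → bl2 (σ i) = bl2 (σ j)) := Iff.rfl

/-- The explicit Sylow subgroup of the alternating group. -/
def P0 : Subgroup (Perm (Fin 8)) := treeG ⊓ alternatingGroup (Fin 8)

theorem ga_mem : ga ∈ P0 := ⟨mem_treeG_iff.2 (by decide +kernel), Perm.mem_alternatingGroup.2 (by decide +kernel)⟩
theorem gb_mem : gb ∈ P0 := ⟨mem_treeG_iff.2 (by decide +kernel), Perm.mem_alternatingGroup.2 (by decide +kernel)⟩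
theorem gc_mem : gc ∈ P0 := ⟨mem_treeG_iff.2 (by decide +kernel), Perm.mem_alternatingGroup.2 (by decide +kernel)⟩
theorem gd_mem : gd ∈ P0 := ⟨mem_treeG_iff.2 (by decide +kernel), Perm.mem_alternatingGroup.2 (by decide +kernel)⟩
theorem gd'_mem : gd' ∈ P0 := ⟨mem_treeG_iff.2 (by decide +kernel), Perm.mem_alternatingGroup.2 (by decide +kernel)⟩
theorem ge_mem : ge ∈ P0 := ⟨mem_treeG_iff.2 (by decide +kernel), Perm.mem_alternatingGroup.2 (by decide +kernel)⟩

/-- An enumeration of `64` elements of `P0`. -/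
def fE (n : Fin 64) : Perm (Fin 8) :=
  ga ^ (n.val % 2) * gb ^ (n.val / 2 % 2) * gc ^ (n.val / 4 % 2) * gd ^ (n.val / 8 % 2) *
    gd' ^ (n.val / 16 % 2) * ge ^ (n.val / 32 % 2)

theorem fE_mem (n : Fin 64) : fE n ∈ P0 :=
  mul_mem (mul_mem (mul_mem (mul_mem (mul_mem (pow_mem ga_mem _) (pow_mem gb_mem _))
    (pow_mem gc_mem _)) (pow_mem gd_mem _)) (pow_mem gd'_mem _)) (pow_mem ge_mem _)

theorem fE_inj : ∀ a b : Fin 64, fE a = fE b → a = b := by
  decide +kernel

theorem bl1_zz : ∀ x : Fin 8, bl1 (zz x) = bl1 x := by decide +kernel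

theorem block_cases : ∀ x y : Fin 8, bl1 x = bl1 y → y = x ∨ y = zz x := by decide +kernel

theorem zz_ne : ∀ i : Fin 8, zz i ≠ i := by decide +kernel

theorem comm_zz_of_tree {σ : Perm (Fin 8)} (h : σ ∈ treeG) (i : Fin 8) : σ (zz i) = zz (σ i) := by
  have h1 : bl1 (σ i) = bl1 (σ (zz i)) := h.1 i (zz i) (bl1_zz i).symm
  rcases block_cases _ _ h1 with h2 | h2
  · have h3 : zz i = i := σ.injective h2
    exact absurd h3 (zz_ne i)
  · exact h2

theorem tup_eq {σ : Perm (Fin 8)} (h : ∀ i, σ (zz i) = zz (σ i)) (i : Fin 8) :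
    σ i = tup (σ 0) (σ 2) (σ 4) (σ 6) i := by
  have e : ∀ j k : Fin 8, zz j = k → σ k = zz (σ j) := by
    intro j k hjk
    rw [← hjk, h]
  fin_cases i
  · rfl
  · exact e 0 1 (by decide +kernel)
  · rfl
  · exact e 2 3 (by decide +kernel)
  · rfl
  · exact e 4 5 (by decide +kernel)
  · rfl
  · exact e 6 7 (by decide +kernel)

theorem bl1_ne_of {σ : Perm (Fin 8)} (h : ∀ i, σ (zz i) = zz (σ i)) {i j : Fin 8} (hij : i ≠ j)
    (hz : j ≠ zz i) : ¬ bl1 (σ i) = bl1 (σ j) := by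
  intro he
  rcases block_cases _ _ he with h2 | h2
  · exact hij (σ.injective h2).symm
  · rw [← h] at h2
    exact hz (σ.injective h2)

theorem chk_of {σ : Perm (Fin 8)} (h : ∀ i, σ (zz i) = zz (σ i))
    (hT : ∀ g ∈ P0, σ * g * σ⁻¹ ∈ treeG) : chk (σ 0) (σ 2) (σ 4) (σ 6) = true := by
  have hne : ∀ {i j : Fin 8}, i ≠ j → j ≠ zz i → bl1 (σ i) ≠ bl1 (σ j) := by
    intro i j h1 h2
    exact bl1_ne_of h h1 h2
  have hf : tup (σ 0) (σ 2) (σ 4) (σ 6) = ⇑σ := funext fun i => (tup_eq h i).symm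
  have hg : ∀ g ∈ P0, chkG (⇑σ) g = true := by
    intro g hg
    obtain ⟨h1, h2⟩ := hT g hg
    have hc : ∀ i, (σ * g * σ⁻¹) (σ i) = σ (g i) := by
      intro i
      simp [Perm.mul_apply]
    simp only [chkG, Bool.and_eq_true, List.all_eq_true, Bool.or_eq_true, decide_eq_true_eq,
      Bool.not_eq_true', decide_eq_false_iff_not]
    constructor
    · intro i _
      have h3 := h1 (σ i) (σ (zz i)) (by rw [h, bl1_zz])
      rwa [hc, hc] at h3
    · intro i _ j _
      by_cases he : bl2 (σ i) = bl2 (σ j)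
      · right
        have h3 := h2 _ _ he
        rwa [hc, hc] at h3
      · left
        exact he
  simp only [chk, Bool.and_eq_true, decide_eq_true_eq, List.all_eq_true]
  refine ⟨⟨⟨⟨⟨⟨hne (by decide) (by decide +kernel), hne (by decide) (by decide +kernel)⟩,
    hne (by decide) (by decide +kernel)⟩, hne (by decide) (by decide +kernel)⟩,
    hne (by decide) (by decide +kernel)⟩, hne (by decide) (by decide +kernel)⟩, ?_⟩
  intro g hg'
  rw [hf]
  simp only [List.mem_cons, List.not_mem_nil, or_false] at hg'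
  rcases hg' with rfl | rfl | rfl | rfl | rfl | rfl
  · exact hg _ ga_mem
  · exact hg _ gb_mem
  · exact hg _ gc_mem
  · exact hg _ gd_mem
  · exact hg _ gd'_mem
  · exact hg _ ge_mem

theorem pow8_of_comm {σ : Perm (Fin 8)} (h : ∀ i, σ (zz i) = zz (σ i))
    (hT : ∀ g ∈ P0, σ * g * σ⁻¹ ∈ treeG) : σ ^ 8 = 1 := by
  have hf : tup (σ 0) (σ 2) (σ 4) (σ 6) = ⇑σ := funext fun i => (tup_eq h i).symm
  have h1 := bf2 _ _ _ _ (chk_of h hT)
  rw [hf] at h1
  ext i
  have h2 := h1 i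
  rw [Equiv.Perm.iterate_eq_pow] at h2
  simpa using congrArg Fin.val h2

theorem P0_pow {σ : Perm (Fin 8)} (h : σ ∈ P0) : σ ^ 8 = 1 :=
  pow8_of_comm (comm_zz_of_tree h.1) fun g hg => mul_mem (mul_mem h.1 hg.1) (inv_mem h.1)

theorem isPGroup_P0 : IsPGroup 2 P0 := by
  rintro ⟨σ, hσ⟩
  refine ⟨3, ?_⟩
  apply Subtype.ext
  exact P0_pow hσ

theorem card_alt8 : Nat.card (alternatingGroup (Fin 8)) = 20160 := by
  have h := two_mul_nat_card_alternatingGroup (α := Fin 8)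
  have h2 : Nat.card (Perm (Fin 8)) = 40320 := by
    rw [Nat.card_perm]; simp [Nat.factorial]
  omega

theorem card_P0 : Nat.card P0 = 64 := by
  apply le_antisymm
  · obtain ⟨k, hk⟩ := IsPGroup.iff_card.1 isPGroup_P0
    have hle : P0 ≤ alternatingGroup (Fin 8) := inf_le_right
    have hd := Subgroup.card_dvd_of_le hle
    rw [card_alt8, hk] at hd
    have h3 : (20160 : ℕ) = 2 ^ 6 * 315 := by norm_num
    rw [h3] at hd
    have hc : Nat.Coprime (2 ^ k) 315 := Nat.Coprime.pow_left _ (by norm_num)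
    have hd2 := hc.dvd_of_dvd_mul_right hd
    rw [hk]
    exact Nat.le_of_dvd (by norm_num) hd2
  · have := Nat.card_le_card_of_injective (fun n : Fin 64 => (⟨fE n, fE_mem n⟩ : P0)) (by
      intro a b h
      exact fE_inj a b (congrArg Subtype.val h))
    simpa using this

theorem exists_fE {g : Perm (Fin 8)} (hg : g ∈ P0) : ∃ n, fE n = g := by
  have hinj : Function.Injective (fun n : Fin 64 => (⟨fE n, fE_mem n⟩ : P0)) := by
    intro a b h
    exact fE_inj a b (congrArg Subtype.val h)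
  have hbij := (Nat.bijective_iff_injective_and_card _).2 ⟨hinj, by
    rw [card_P0]; simp⟩
  obtain ⟨n, hn⟩ := hbij.2 ⟨g, hg⟩
  exact ⟨n, congrArg Subtype.val hn⟩

theorem center_check : ∀ n : Fin 64, [ga, gb, gc, gd, gd', ge].all (fun g => decide (g * fE n = fE n * g)) = true →
    fE n = 1 ∨ fE n = zz := by
  decide +kernel

theorem eq_zz_of_central {w : Perm (Fin 8)} (hw : w ∈ P0) (hc : ∀ g ∈ P0, g * w = w * g) (h1 : w ≠ 1) :
    w = zz := by
  obtain ⟨n, rfl⟩ := exists_fE hw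
  refine (center_check n ?_).resolve_left h1
  simp only [List.all_eq_true, decide_eq_true_eq]
  intro g hg'
  simp only [List.mem_cons, List.not_mem_nil, or_false] at hg'
  rcases hg' with rfl | rfl | rfl | rfl | rfl | rfl
  · exact hc _ ga_mem
  · exact hc _ gb_mem
  · exact hc _ gc_mem
  · exact hc _ gd_mem
  · exact hc _ gd'_mem
  · exact hc _ ge_mem

theorem factorization_card_alt8 : (Nat.card (alternatingGroup (Fin 8))).factorization 2 = 6 := by
  rw [card_alt8, (by norm_num : (20160 : ℕ) = 2 ^ 6 * 315),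
    Nat.factorization_mul (by norm_num) (by norm_num), Nat.Prime.factorization_pow Nat.prime_two]
  have : (315 : ℕ).factorization 2 = 0 := Nat.factorization_eq_zero_of_not_dvd (by norm_num)
  simp [this]

/-- Elements of the normalizer in `S₈` of a subgroup of order `64` of `A₈` have order dividing `8`. -/
theorem pow_eight_of_normalizer (P : Subgroup (Perm (Fin 8))) (hP : P ≤ alternatingGroup (Fin 8))
    (hc : Nat.card P = 64) {σ : Perm (Fin 8)} (hσ : σ ∈ Subgroup.normalizer (P : Set (Perm (Fin 8)))) :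
    σ ^ 8 = 1 := by
  let A := alternatingGroup (Fin 8)
  have hP0 : P0 ≤ A := inf_le_right
  have c1 : Nat.card (P.subgroupOf A) = 2 ^ (Nat.card A).factorization 2 := by
    rw [factorization_card_alt8, H18.card_subgroupOf, inf_eq_left.2 hP, hc]; norm_num
  have c2 : Nat.card (P0.subgroupOf A) = 2 ^ (Nat.card A).factorization 2 := by
    rw [factorization_card_alt8, H18.card_subgroupOf, inf_eq_left.2 hP0, card_P0]; norm_num
  let S₁ : Sylow 2 A := Sylow.ofCard (P.subgroupOf A) c1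
  let S₂ : Sylow 2 A := Sylow.ofCard (P0.subgroupOf A) c2
  obtain ⟨a, ha⟩ := MulAction.exists_smul_eq A S₂ S₁
  have h1 : ∀ g ∈ P0, (a : Perm (Fin 8)) * g * (a : Perm (Fin 8))⁻¹ ∈ P := by
    intro g hg
    have hgA : (⟨g, hP0 hg⟩ : A) ∈ (S₂ : Subgroup A) := by
      change _ ∈ P0.subgroupOf A
      exact hg
    have h2 : a * (⟨g, hP0 hg⟩ : A) * a⁻¹ ∈ (S₁ : Subgroup A) := by
      rw [← ha]
      exact Subgroup.mem_map_of_mem _ hgA
    exact h2
  have h1' : ∀ g ∈ P, (a : Perm (Fin 8))⁻¹ * g * (a : Perm (Fin 8)) ∈ P0 := by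
    intro g hg
    have hgA : (⟨g, hP hg⟩ : A) ∈ (S₁ : Subgroup A) := by
      change _ ∈ P.subgroupOf A
      exact hg
    have ha' : a⁻¹ • S₁ = S₂ := by rw [← ha, inv_smul_smul]
    have h2 : a⁻¹ * (⟨g, hP hg⟩ : A) * a⁻¹⁻¹ ∈ (S₂ : Subgroup A) := by
      rw [← ha']
      exact Subgroup.mem_map_of_mem _ hgA
    have h3 : (a : Perm (Fin 8))⁻¹ * g * (a : Perm (Fin 8))⁻¹⁻¹ ∈ P0 := h2
    simpa using h3
  set b : Perm (Fin 8) := (a : Perm (Fin 8)) with hb
  set τ := b⁻¹ * σ * b with hτ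
  have hτ1 : ∀ g ∈ P0, τ * g * τ⁻¹ ∈ P0 := by
    intro g hg
    have h3 := (Subgroup.mem_normalizer_iff.1 hσ _).1 (h1 g hg)
    have h4 := h1' _ h3
    have e : τ * g * τ⁻¹ = b⁻¹ * (σ * (b * g * b⁻¹) * σ⁻¹) * b := by rw [hτ]; group
    rw [e]
    exact h4
  have hτ2 : ∀ g ∈ P0, τ⁻¹ * g * τ ∈ P0 := by
    intro g hg
    have h3 := (Subgroup.mem_normalizer_iff.1 hσ _).2 (by
      have e : σ * (σ⁻¹ * (b * g * b⁻¹) * σ) * σ⁻¹ = b * g * b⁻¹ := by group
      rw [e]
      exact h1 g hg)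
    have h4 := h1' _ h3
    have e : τ⁻¹ * g * τ = b⁻¹ * (σ⁻¹ * (b * g * b⁻¹) * σ) * b := by rw [hτ]; group
    rw [e]
    exact h4
  -- `τ` centralizes `zz`
  have hzP : zz ∈ P0 := ⟨mem_treeG_iff.2 (by decide +kernel), Perm.mem_alternatingGroup.2 (by decide +kernel)⟩
  have hw : τ * zz * τ⁻¹ = zz := eq_zz_of_central (hτ1 _ hzP) (by
    intro g hg
    have h5 := comm_zz_of_tree (hτ2 g hg).1
    have h6 : (τ⁻¹ * g * τ) * zz = zz * (τ⁻¹ * g * τ) := by
      ext i
      simp only [Perm.mul_apply]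
      exact congrArg Fin.val (h5 i)
    calc g * (τ * zz * τ⁻¹) = τ * ((τ⁻¹ * g * τ) * zz) * τ⁻¹ := by group
      _ = τ * (zz * (τ⁻¹ * g * τ)) * τ⁻¹ := by rw [h6]
      _ = _ := by group) (by
    intro h0
    have h7 : zz = 1 := by
      have e : zz = τ⁻¹ * (τ * zz * τ⁻¹) * τ := by group
      rw [e, h0]; group
    exact absurd h7 (by decide +kernel))
  have hτc : ∀ i, τ (zz i) = zz (τ i) := by
    intro i
    have h7 : τ * zz = zz * τ := by
      calc τ * zz = (τ * zz * τ⁻¹) * τ := by group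
        _ = _ := by rw [hw]
    have := congrArg (fun ρ : Perm (Fin 8) => ρ i) h7
    simpa [Perm.mul_apply] using this
  have h5 := pow8_of_comm hτc (fun g hg => (hτ1 g hg).1)
  have e2 : τ ^ 8 = b⁻¹ * σ ^ 8 * b := by
    have := conj_pow (a := b⁻¹) (b := σ) (i := 8)
    simpa [hτ] using this
  rw [e2] at h5
  have h6 : b * (b⁻¹ * σ ^ 8 * b) * b⁻¹ = b * 1 * b⁻¹ := by rw [h5]
  simpa [mul_assoc] using h6

end Cfsg.Agent.H13.M24S
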