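import Cfsg.Agent.Lib.H13.M24Alt8
import Cfsg.Agent.Lib.H27.GolayStab
import Cfsg.Agent.Lib.H13.Basic

/-!
Sylow `2`-subgroups of `M24` are self-normalizing.
-/

set_option autoImplicit false
set_option maxRecDepth 100000
set_option linter.style.haveILetI false

namespace Cfsg.Agent.H13.M24S

open Cfsg Cfsg.Agent.H27.Golay Equiv
open scoped Pointwise

abbrev OO : Finset GolayPt := fs O0

abbrev HO : Subgroup ↥M24 := MulAction.stabilizer ↥M24 OO

abbrev L6 : List ℕ := [5, 3, 2, 1, 0, 23]

theorem card_HO : Nat.card HO = 322560 := card_stab_octad fs_O0_octad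

theorem smul_OO (g : HO) : ((g : ↥M24) : Perm GolayPt) • OO = OO := g.2

theorem apply_mem_HO (g : HO) (p : GolayPt) : ((g : ↥M24) : Perm GolayPt) p ∈ OO ↔ p ∈ OO :=
  apply_mem_of_smul_eq (smul_OO g)

/-- The action on the base octad. -/
def rho0 : HO →* Perm {x // x ∈ OO} where
  toFun g := ((g : ↥M24) : Perm GolayPt).subtypePerm (fun x => apply_mem_HO g x)
  map_one' := by ext; rfl
  map_mul' := by intro a b; ext; rfl

theorem card_OO : OO.card = 8 := fs_O0_octad.2

/-- A labelling of the base octad. -/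
noncomputable def eOO : {x // x ∈ OO} ≃ Fin 8 := OO.equivFinOfCardEq card_OO

noncomputable def rho : HO →* Perm (Fin 8) := (eOO.permCongrHom).toMonoidHom.comp rho0

theorem rho_eq_one_iff (g : HO) : rho g = 1 ↔ ∀ p ∈ OO, ((g : ↥M24) : Perm GolayPt) p = p := by
  constructor
  · intro h p hp
    have h1 : rho0 g = 1 := by
      apply eOO.permCongrHom.injective
      have : eOO.permCongrHom (rho0 g) = 1 := h
      rw [this, map_one]
    have h2 := congrArg (fun τ : Perm {x // x ∈ OO} => (τ ⟨p, hp⟩ : GolayPt)) h1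
    exact h2
  · intro h
    have h1 : rho0 g = 1 := by
      apply Equiv.ext
      rintro ⟨p, hp⟩
      apply Subtype.ext
      exact h p hp
    change eOO.permCongrHom (rho0 g) = 1
    rw [h1, map_one]

theorem T7_fix : allL (fun t => allBelow (fun i => !(O0.testBit i) || Nat.beq (pa t i) i) 24) T7 = true := by
  decide +kernel

theorem L6_sub : allL (fun i => O0.testBit i) L6 = true := by decide +kernel

theorem exists_T7 {g : Perm GolayPt} (hg : g ∈ fixG L6) : ∃ t ∈ T7, permOK t = true ∧ g = P t := by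
  obtain ⟨t, ht, h1, g', hg', rfl⟩ := level7.exists_mul hg
  have h2 : g' = 1 := by
    have h3 : g' ∈ fixG baseL := hg'
    rw [fix_base_trivial] at h3
    exact h3
  refine ⟨t, ht, isM24_permOK (isFix_isM24 h1), ?_⟩
  rw [h2, mul_one]

theorem mem_fix_iff {g : Perm GolayPt} (hg : g ∈ M24) : g ∈ fixG L6 ↔ ∀ p ∈ OO, g p = p := by
  constructor
  · intro h p hp
    obtain ⟨t, ht, hok, rfl⟩ := exists_T7 h
    have h1 := allBelow_spec (allL_spec T7_fix t ht) _ (idx_lt p)
    rw [Bool.or_eq_true] at h1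
    rcases h1 with h1 | h1
    · rw [mem_fs] at hp
      simp [hp] at h1
    · rw [P_apply hok, Nat.eq_of_beq_eq_true h1, pt_idx]
  · intro h
    refine ⟨hg, fun i hi => h _ ?_⟩
    rw [mem_fs]
    have h1 : i < 24 := by
      revert i; decide
    rw [idx_pt' h1]
    exact allL_spec L6_sub i hi

/-- The pointwise stabiliser, in `↥M24`. -/
abbrev E2 : Subgroup ↥M24 := (fixG L6).subgroupOf M24

theorem fixG_le : fixG L6 ≤ M24 := fun _ h => h.1

theorem card_E2 : Nat.card E2 = 16 := by
  rw [H18.card_subgroupOf, inf_eq_left.2 fixG_le]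
  exact card_fix6

theorem mem_E2_iff (g : ↥M24) : g ∈ E2 ↔ ∀ p ∈ OO, (g : Perm GolayPt) p = p :=
  mem_fix_iff g.2

theorem E2_le_HO : E2 ≤ HO := by
  intro g hg
  rw [MulAction.mem_stabilizer_iff]
  change (g : Perm GolayPt) • OO = OO
  have h1 := (mem_E2_iff g).1 hg
  ext q
  rw [Finset.mem_smul_finset]
  constructor
  · rintro ⟨p, hp, rfl⟩
    change (g : Perm GolayPt) p ∈ OO
    rw [h1 p hp]
    exact hp
  · intro hq
    exact ⟨q, hq, h1 q hq⟩

theorem ker_rho : rho.ker = E2.subgroupOf HO := by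
  ext g
  rw [MonoidHom.mem_ker, rho_eq_one_iff, Subgroup.mem_subgroupOf, mem_E2_iff]

theorem card_ker_rho : Nat.card rho.ker = 16 := by
  rw [ker_rho, H18.card_subgroupOf, inf_eq_left.2 E2_le_HO, card_E2]

/-- Orders along a homomorphism. -/
theorem card_map_mul_card_ker {G G' : Type*} [Group G] [Group G'] [Finite G] (f : G →* G')
    (K : Subgroup G) (hK : f.ker ≤ K) : Nat.card (K.map f) * Nat.card f.ker = Nat.card K := by
  let f' := f.comp K.subtype
  have h1 : f'.range = K.map f := by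
    rw [MonoidHom.range_comp, Subgroup.range_subtype]
  have h2 : f'.ker = f.ker.subgroupOf K := by
    ext x
    simp [f', Subgroup.mem_subgroupOf]
  have h3 : Nat.card f'.ker = Nat.card f.ker := by
    rw [h2, H18.card_subgroupOf, inf_eq_left.2 hK]
  have h4 := f'.ker.card_mul_index
  rw [Subgroup.index_ker, h3, h1] at h4
  rw [mul_comm]
  exact h4

theorem card_range_rho : Nat.card rho.range = 20160 := by
  have h := card_map_mul_card_ker rho ⊤ le_top
  rw [card_ker_rho, Subgroup.card_top, card_HO, ← MonoidHom.range_eq_map] at h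
  omega

theorem range_rho : rho.range = alternatingGroup (Fin 8) := by
  apply Perm.eq_alternatingGroup_of_index_eq_two
  have h := rho.range.card_mul_index
  have h2 : Nat.card (Perm (Fin 8)) = 40320 := by
    rw [Nat.card_perm]; simp [Nat.factorial]
  rw [card_range_rho, h2] at h
  omega

theorem oct_check : allL (fun m => Nat.beq m O0 || List.any T7 (fun t => !(Nat.beq (am t m) m))) octadL = true := by
  decide +kernel

theorem T7_mem_fix {t : ℕ} (ht : t ∈ T7) : P t ∈ fixG L6 :=
  P_mem_fixG level7.hl (allL_spec level7.hT t ht)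

theorem unique_octad {o : Finset GolayPt} (ho : o ∈ octads) (h : ∀ g ∈ fixG L6, g • o = o) : o = OO := by
  have hm := mem_octads_iff_mask.1 ho
  have h1 := allL_spec oct_check _ hm
  rw [Bool.or_eq_true] at h1
  rcases h1 with h1 | h1
  · have := Nat.eq_of_beq_eq_true h1
    rw [← fs_maskOf o, this]
  · exfalso
    obtain ⟨t, ht, h2⟩ := List.any_eq_true.1 h1
    have hok := isM24_permOK (isFix_isM24 (allL_spec level7.hT t ht))
    have h3 := h _ (T7_mem_fix ht)
    have h4 : am t (maskOf o) = maskOf o := by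
      have h5 := maskOf_smul hok (maskOf o)
      rw [fs_maskOf, h3] at h5
      exact h5.symm
    rw [h4] at h2
    simp at h2

theorem factorization_card_M24 : (Nat.card ↥M24).factorization 2 = 10 := by
  rw [card_M24, (by norm_num : (244823040 : ℕ) = 2 ^ 10 * 239085),
    Nat.factorization_mul (by norm_num) (by norm_num), Nat.Prime.factorization_pow Nat.prime_two]
  have : (239085 : ℕ).factorization 2 = 0 := Nat.factorization_eq_zero_of_not_dvd (by norm_num)
  simp [this]

theorem card_sylow (S : Sylow 2 ↥M24) : Nat.card S = 1024 := by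
  rw [Sylow.card_eq_multiplicity, factorization_card_M24]
  norm_num

theorem index_HO : HO.index = 759 := by
  have h := HO.card_mul_index
  rw [card_HO, card_M24] at h
  omega

theorem isPGroup_E2 : IsPGroup 2 E2 := IsPGroup.of_card (n := 4) (by rw [card_E2]; norm_num)

theorem HO_le_normalizer_E2 : HO ≤ Subgroup.normalizer (E2 : Set ↥M24) := by
  intro h hh
  apply H13.mem_normalizer_of_map_conj_le
  rintro _ ⟨e, he, rfl⟩
  rw [SetLike.mem_coe, mem_E2_iff] at *
  intro p hp
  have h1 : ((h⁻¹ : ↥M24) : Perm GolayPt) p ∈ OO :=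
    (apply_mem_HO ⟨h⁻¹, inv_mem hh⟩ p).2 hp
  have h2 := he _ h1
  have h3 : ((MulAut.conj h).toMonoidHom e : ↥M24) = h * e * h⁻¹ := rfl
  rw [h3]
  change (h : Perm GolayPt) ((e : Perm GolayPt) (((h⁻¹ : ↥M24) : Perm GolayPt) p)) = p
  rw [h2]
  have h4 : ((h⁻¹ : ↥M24) : Perm GolayPt) = (h : Perm GolayPt)⁻¹ := rfl
  rw [h4]
  simp

theorem normalizer_le_of_le_HO (S : Sylow 2 ↥M24) (hS : (S : Subgroup ↥M24) ≤ HO) :
    Subgroup.normalizer ((S : Subgroup ↥M24) : Set ↥M24) ≤ (S : Subgroup ↥M24) := by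
  classical
  have hE2S : E2 ≤ (S : Subgroup ↥M24) := by
    have hsup : IsPGroup 2 ((S : Subgroup ↥M24) ⊔ E2 : Subgroup ↥M24) :=
      IsPGroup.to_sup_of_normal_right' S.2 isPGroup_E2 (hS.trans HO_le_normalizer_E2)
    exact (S.is_maximal' hsup le_sup_left) ▸ le_sup_right
  intro x hx
  -- `x` stabilises the base octad
  have hxH : x ∈ HO := by
    rw [MulAction.mem_stabilizer_iff]
    apply unique_octad (smul_mem_octads x.2 fs_O0_octad)
    intro g hg
    let g' : ↥M24 := ⟨g, hg.1⟩
    have hg' : g' ∈ (S : Subgroup ↥M24) := hE2S hg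
    have h1 : x⁻¹ * g' * x ∈ (S : Subgroup ↥M24) := by
      have := (Subgroup.mem_normalizer_iff.1 (inv_mem hx) g').1 hg'
      simpa using this
    have h2 : ((x⁻¹ * g' * x : ↥M24) : Perm GolayPt) • OO = OO := smul_OO ⟨_, hS h1⟩
    have h3 : g • ((x : Perm GolayPt) • OO) = (x : Perm GolayPt) • (((x⁻¹ * g' * x : ↥M24) : Perm GolayPt) • OO) := by
      rw [smul_smul, smul_smul]
      congr 1
      change g * (x : Perm GolayPt) = (x : Perm GolayPt) * ((x : Perm GolayPt)⁻¹ * g * (x : Perm GolayPt))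
      group
    rw [h3, h2]
  -- the image of `S`
  let S' : Subgroup HO := (S : Subgroup ↥M24).subgroupOf HO
  let P' : Subgroup (Perm (Fin 8)) := S'.map rho
  have hker : rho.ker ≤ S' := by
    rw [ker_rho]
    intro g hg
    exact hE2S hg
  have hcardS' : Nat.card S' = 1024 := by
    rw [H18.card_subgroupOf, inf_eq_left.2 hS]
    exact card_sylow S
  have hcardP : Nat.card P' = 64 := by
    have h := card_map_mul_card_ker rho S' hker
    rw [card_ker_rho, hcardS'] at h
    change Nat.card P' * 16 = 1024 at h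
    omega
  have hPalt : P' ≤ alternatingGroup (Fin 8) := by
    rw [← range_rho]
    rintro _ ⟨s, -, rfl⟩
    exact ⟨s, rfl⟩
  let xH : HO := ⟨x, hxH⟩
  have hσ : rho xH ∈ Subgroup.normalizer (P' : Set (Perm (Fin 8))) := by
    apply H13.mem_normalizer_of_map_conj_le
    rintro _ ⟨_, ⟨s, hs, rfl⟩, rfl⟩
    refine ⟨xH * s * xH⁻¹, ?_, ?_⟩
    · exact (Subgroup.mem_normalizer_iff.1 hx _).1 hs
    · simp [map_mul, map_inv]
  have h8 := pow_eight_of_normalizer P' hPalt hcardP hσ
  have hx8 : x ^ 8 ∈ (S : Subgroup ↥M24) := by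
    have h1 : xH ^ 8 ∈ rho.ker := by
      rw [MonoidHom.mem_ker, map_pow, h8]
    have h2 := hker h1
    exact h2
  -- conclude
  have hxp : IsPGroup 2 (Subgroup.zpowers x) := by
    have h1 : x ^ (2 ^ 13) = 1 := by
      have h2 : (⟨x ^ 8, hx8⟩ : (S : Subgroup ↥M24)) ^ 1024 = 1 := by
        have := pow_card_eq_one' (x := (⟨x ^ 8, hx8⟩ : (S : Subgroup ↥M24)))
        rwa [card_sylow S] at this
      have h3 := congrArg Subtype.val h2
      have h4 : (x ^ 8) ^ 1024 = 1 := by simpa using h3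
      rw [← pow_mul] at h4
      simpa using h4
    rintro ⟨y, n, rfl⟩
    refine ⟨13, ?_⟩
    apply Subtype.ext
    change ((x ^ n) ^ (2 ^ 13) : ↥M24) = 1
    rw [← zpow_natCast, ← zpow_mul, mul_comm, zpow_mul, zpow_natCast, h1, one_zpow]
  have hzn : Subgroup.zpowers x ≤ Subgroup.normalizer ((S : Subgroup ↥M24) : Set ↥M24) := by
    rw [Subgroup.zpowers_le]
    exact hx
  have hsup : IsPGroup 2 (Subgroup.zpowers x ⊔ (S : Subgroup ↥M24) : Subgroup ↥M24) :=
    IsPGroup.to_sup_of_normal_right' hxp S.2 hzn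
  have hle := S.is_maximal' hsup le_sup_right
  rw [← hle]
  exact (le_sup_left : Subgroup.zpowers x ≤ _) (Subgroup.mem_zpowers x)

theorem normalizer_sylow_eq (S : Sylow 2 ↥M24) :
    Subgroup.normalizer ((S : Subgroup ↥M24) : Set ↥M24) = (S : Subgroup ↥M24) := by
  apply le_antisymm _ Subgroup.le_normalizer
  have h2 : ¬ 2 ∣ HO.index := by
    rw [index_HO]; norm_num
  obtain ⟨g, hg⟩ := H18.exists_sylow_le_conj S HO h2
  let T : Sylow 2 ↥M24 := g⁻¹ • S
  have hT : ∀ t, t ∈ (T : Subgroup ↥M24) ↔ g * t * g⁻¹ ∈ (S : Subgroup ↥M24) := by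
    intro t
    have h1 : (T : Subgroup ↥M24) = (S : Subgroup ↥M24).map (MulAut.conj g⁻¹).toMonoidHom := rfl
    rw [h1, H13.mem_map_conj]
    simp
  have hTH : (T : Subgroup ↥M24) ≤ HO := by
    intro t ht
    have h1 := hg ((hT t).1 ht)
    rw [H13.mem_map_conj] at h1
    have e : g⁻¹ * (g * t * g⁻¹) * g = t := by group
    rwa [e] at h1
  have key := normalizer_le_of_le_HO T hTH
  intro x hx
  have hy : g⁻¹ * x * g ∈ Subgroup.normalizer ((T : Subgroup ↥M24) : Set ↥M24) := by
    rw [Subgroup.mem_normalizer_iff]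
    intro t
    rw [hT, hT]
    have e : g * (g⁻¹ * x * g * t * (g⁻¹ * x * g)⁻¹) * g⁻¹ = x * (g * t * g⁻¹) * x⁻¹ := by group
    rw [e]
    exact Subgroup.mem_normalizer_iff.1 hx _
  have h3 := (hT _).1 (key hy)
  have e : g * (g⁻¹ * x * g) * g⁻¹ = x := by group
  rwa [e] at h3

end Cfsg.Agent.H13.M24S
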