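import Cfsg.Agent.Lib.H13.MOutOct

/-!
Outer automorphisms of `M12` and `M11`: the enumeration of all elements by a stabiliser chain.
-/

set_option autoImplicit false
set_option maxRecDepth 100000

namespace Cfsg.Agent.H13.MOut

open Cfsg Cfsg.Agent.H27.Golay Equiv Cfsg.Agent.H13.M24S
open scoped Pointwise

variable {H : Subgroup (Perm GolayPt)}

/-- The kernel test of a candidate. -/
def testC (R : List (List Bool)) (cb : ℕ) (excP excM : List ℕ) (c : ℕ) : Bool :=
  Bool.rec false (Bool.rec true (memN c excM) (relOK R c (pinv cb)))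
    (Bool.rec true (memN c excP) (relOK R c cb))

theorem testC_spec {R : List (List Bool)} {cb c : ℕ} {excP excM : List ℕ}
    (h1 : testC R cb excP excM c = true) :
    (relOK R c cb = true → c ∈ excP) ∧ (relOK R c (pinv cb) = true → c ∈ excM) := by
  unfold testC at h1
  cases h2 : relOK R c cb with
  | false =>
    rw [h2] at h1
    cases h3 : relOK R c (pinv cb) with
    | false => exact ⟨by simp, by simp⟩
    | true =>
      rw [h3] at h1
      exact ⟨by simp, fun _ => memN_spec h1⟩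
  | true =>
    rw [h2] at h1
    cases h4 : memN c excP with
    | false => rw [h4] at h1; cases h1
    | true =>
      rw [h4] at h1
      cases h3 : relOK R c (pinv cb) with
      | false => exact ⟨fun _ => memN_spec h4, by simp⟩
      | true =>
        rw [h3] at h1
        exact ⟨fun _ => memN_spec h4, fun _ => memN_spec h1⟩

/-- The conclusion of the enumeration over a whole chain. -/
theorem final_chain {q cb ca : ℕ} [hp : Fact q.Prime] {l : List ℕ} {L : List (ℕ × ℕ × List ℕ)}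
    (cμ m : ℕ) (R : List (List Bool)) (excP excM : List ℕ)
    (hq : ¬ q ^ 2 ∣ Nat.card H) (hcb : permOK cb = true) (hbH : P cb ∈ H) (hμH : P cμ ∈ H)
    (haH : P ca ∈ H) (hca : permOK ca = true)
    (hb : orderOf (P cb) = q) (hμ : P cμ * P cb * (P cμ)⁻¹ = (P cb) ^ m)
    (hnorm : ∀ k, 0 < k → k < q → ∃ j, (k * m ^ j) % q = 1 ∨ (k * m ^ j) % q = q - 1)
    (hc : ChainOK H l L) (hl : ∀ g ∈ H, FixL l g) (hrel : relOK R ca cb = true)
    (hchk : chainAll (L.map fun x => x.2.2) (testC R cb excP excM) 984818244535754528103549039458486304 = true)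
    (φ : MulAut H) :
    ∃ g : H, (g * φ ⟨P cb, hbH⟩ * g⁻¹ = ⟨P cb, hbH⟩ ∧
        ∃ c ∈ excP, ((g * φ ⟨P ca, haH⟩ * g⁻¹ : H) : Perm GolayPt) = P c) ∨
      (g * φ ⟨P cb, hbH⟩ * g⁻¹ = (⟨P cb, hbH⟩ : H)⁻¹ ∧
        ∃ c ∈ excM, ((g * φ ⟨P ca, haH⟩ * g⁻¹ : H) : Perm GolayPt) = P c) := by
  haveI : Finite H := inferInstance
  let b : H := ⟨P cb, hbH⟩
  let μ : H := ⟨P cμ, hμH⟩
  have hb' : orderOf b = q := by
    rw [← hb]
    exact Subgroup.orderOf_mk _ _
  have hμ' : μ * b * μ⁻¹ = b ^ m := Subtype.ext hμ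
  have hx : orderOf (φ b) = q := by
    rw [← hb']
    exact MulEquiv.orderOf_eq φ b
  obtain ⟨g, hg⟩ := conj_norm q hq b μ m hb' hμ' hnorm (φ b) hx
  set x : H := g * φ ⟨P ca, haH⟩ * g⁻¹ with hxdef
  obtain ⟨c, hc1, hc2, hc3⟩ := chain_all hc (testC R cb excP excM) permOK_id hchk x.1 x.2 (hl _ x.2)
  rw [P_id, one_mul] at hc2
  have hR := relations_of_code (R := R) (⟨P ca, haH⟩ : H) (⟨P cb, hbH⟩ : H) rfl rfl hca hcb hrel
  have hs := testC_spec hc3
  refine ⟨g, ?_⟩
  rcases hg with hg | hg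
  · left
    refine ⟨hg, c, hs.1 ?_, hc2⟩
    exact relOK_of_aut _ _ hR φ g hc1 hcb hc2 (by rw [show g * φ ⟨P cb, hbH⟩ * g⁻¹ = b from hg])
  · right
    refine ⟨hg, c, hs.2 ?_, hc2⟩
    refine relOK_of_aut _ _ hR φ g hc1 (permOK_pinv hcb) hc2 ?_
    rw [show g * φ ⟨P cb, hbH⟩ * g⁻¹ = b⁻¹ from hg, P_pinv hcb]
    rfl

/-! ### The dodecad -/

/-- The mask of the dodecad of squares. -/
abbrev Dm : ℕ := 340831

theorem squareDodecad_eq : Spor.squareDodecad = fs Dm := by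
  have h1 : qrWord 0 = wd Dm := by
    ext p
    exact qrWord_eq 0 p
  rw [Spor.squareDodecad, h1, support_wd]

theorem mem_M12_iff {g : Perm GolayPt} :
    g ∈ Spor.M12 ↔ g ∈ M24 ∧ ∀ q, g q ∈ fs Dm ↔ q ∈ fs Dm := by
  show (g ∈ M24 ∧ g • Spor.squareDodecad = Spor.squareDodecad) ↔ _
  rw [squareDodecad_eq]
  refine and_congr_right fun _ => ⟨fun h q => apply_mem_of_smul_eq h, fun h => ?_⟩
  ext q
  rw [Finset.mem_smul_finset]
  constructor
  · rintro ⟨p, hp, rfl⟩
    exact (h p).2 hp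
  · intro hq
    refine ⟨g⁻¹ q, (h _).1 (by simpa using hq), by simp⟩

/-- Elements of `M12` fixing the points of a list. -/
def HD (l₀ : List ℕ) : Subgroup (Perm GolayPt) := Spor.M12 ⊓ fixG l₀

theorem HD_nil : HD [] = Spor.M12 := by
  rw [HD, fixG_nil_eq]
  exact inf_eq_left.2 (fun _ h => h.1)

theorem HD_zero : HD [0] = Spor.M11 := by
  ext g
  show (g ∈ Spor.M12 ∧ g ∈ fixG [0]) ↔ (g ∈ Spor.M12 ∧ g • (some 0 : GolayPt) = some 0)
  refine and_congr_right fun h => ?_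
  rw [mem_fixG]
  simp only [List.mem_singleton, forall_eq]
  exact ⟨fun h' => h'.2, fun h' => ⟨h.1, h'⟩⟩

theorem HD_le (l₀ : List ℕ) : HD l₀ ≤ M24 := fun _ h => h.2.1

/-- The kernel test of a transversal element in `M12`. -/
def isD (l : List ℕ) (t : ℕ) : Bool :=
  isFix l t && allBelow (fun i => Bool.rec (!(Dm.testBit (pa t i))) (Dm.testBit (pa t i)) (Dm.testBit i)) 24

theorem isD_spec {l : List ℕ} (hl : ∀ i ∈ l, i < 24) {t : ℕ} (h : isD l t = true) :
    permOK t = true ∧ P t ∈ Spor.M12 ∧ P t ∈ fixG l ∧ ∀ i ∈ l, pa t i = i := by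
  rw [isD, Bool.and_eq_true] at h
  have h1 := h.1
  have h2 := P_mem_fixG hl h1
  rw [isFix, Bool.and_eq_true] at h1
  have hok := isM24_permOK h1.1
  refine ⟨hok, mem_M12_iff.2 ⟨P_mem_M24 h1.1, ?_⟩, h2, fun i hi => Nat.eq_of_beq_eq_true (allL_spec h1.2 i hi)⟩
  intro q
  rw [mem_fs, mem_fs, idx_P hok]
  have h3 := allBelow_spec h.2 _ (idx_lt q)
  cases h4 : Dm.testBit (idx q) <;> rw [h4] at h3 <;> simp_all

/-- A level of the chains of `M12` and `M11`. -/
theorem hlevel_HD {l₀ l : List ℕ} {b m : ℕ} {T : List ℕ} (hl₀ : l₀ ⊆ l) (hl : ∀ i ∈ l, i < 24)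
    (hb : b < 24) (hbl : b ∉ l) (hbD : Dm.testBit b = true) (hT : allL (isD l) T = true)
    (hi : imgMask b T = m)
    (hm : allBelow (fun i => (m.testBit i) || decide (i ∈ l) || !(Dm.testBit i)) 24 = true) :
    HLevel (HD l₀) l b m T := by
  refine ⟨hl, hb, ?_, hi, ?_⟩
  · intro t ht
    obtain ⟨h1, h2, h3, h4⟩ := isD_spec hl (allL_spec hT t ht)
    exact ⟨h1, ⟨h2, ⟨h3.1, fun i hi => h3.2 i (hl₀ hi)⟩⟩, h4⟩
  · intro g hg hf
    have h1 := (mem_M12_iff.1 hg.1).2 (pt b)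
    refine mem_fs_of_check' hb hm ⟨hg.2.1, hf⟩ hbl ?_
    have h2 : pt b ∈ fs Dm := by rw [mem_fs, idx_pt' hb]; exact hbD
    exact mem_fs.1 (h1.2 h2)

/-- The code sending `0, 1, 2, 3, 4` to `23, 0, 1, 2, 3`. -/
theorem chainEnd_HD {ck : ℕ} (hk : isM24 ck = true) (h0 : pa ck 0 = 23) (h1 : pa ck 1 = 0) (h2 : pa ck 2 = 1)
    (h3 : pa ck 3 = 2) (h4 : pa ck 4 = 3)
    (hH : allL (fun c => Bool.rec true (idF (pa c))
      (allBelow (fun i => Bool.rec (!((am ck Dm).testBit (pa c i))) ((am ck Dm).testBit (pa c i))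
        ((am ck Dm).testBit i)) 24)) H48L = true) (l₀ : List ℕ) :
    ∀ g ∈ HD l₀, FixL [4, 3, 2, 1, 0] g → g = 1 := by
  intro g hg hf
  have hok := isM24_permOK hk
  have hkM := P_mem_M24 hk
  set k := P ck with hkd
  have e : ∀ i, i ∈ [4, 3, 2, 1, 0] → ∀ j, pa ck i = j → j < 24 → i < 24 →
      (k * g * k⁻¹) (pt j) = pt j := by
    intro i hi j hj hj24 hi24
    have h5 : k (pt i) = pt j := by rw [hkd, P_pt hok hi24, hj]
    rw [← h5]
    simp [Equiv.Perm.mul_apply, hf i hi]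
  have hm : k * g * k⁻¹ ∈ fixG [3, 2, 1, 0, 23] := by
    refine ⟨M24.mul_mem (M24.mul_mem hkM hg.2.1) (M24.inv_mem hkM), ?_⟩
    intro i hi
    simp only [List.mem_cons, List.not_mem_nil, or_false] at hi
    rcases hi with rfl | rfl | rfl | rfl | rfl
    · exact e 4 (by simp) _ h4 (by norm_num) (by norm_num)
    · exact e 3 (by simp) _ h3 (by norm_num) (by norm_num)
    · exact e 2 (by simp) _ h2 (by norm_num) (by norm_num)
    · exact e 1 (by simp) _ h1 (by norm_num) (by norm_num)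
    · exact e 0 (by simp) _ h0 (by norm_num) (by norm_num)
  obtain ⟨c, hc, hcok, he⟩ := exists_H48 hm
  have hpres := (mem_M12_iff.1 hg.1).2
  have hpres2 : allBelow (fun i => Bool.rec (!((am ck Dm).testBit (pa c i))) ((am ck Dm).testBit (pa c i))
        ((am ck Dm).testBit i)) 24 = true := by
    apply allBelow_of
    intro i hi
    have hAm : ∀ q : GolayPt, (am ck Dm).testBit (idx q) = true ↔ k⁻¹ q ∈ fs Dm := by
      intro q
      rw [← mem_fs, fs_am hok, Finset.mem_smul_finset]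
      constructor
      · rintro ⟨p, hp, hpq⟩
        have : k⁻¹ q = p := by rw [Equiv.Perm.inv_eq_iff_eq]; exact hpq.symm
        rw [this]; exact hp
      · intro hq
        exact ⟨k⁻¹ q, hq, by simp [hkd]⟩
    have h5 : P c (pt i) = pt (pa c i) := P_pt hcok hi
    have h6 := hAm (pt i)
    have h7 := hAm (pt (pa c i))
    rw [idx_pt' hi] at h6
    rw [idx_pt' (pa_lt hcok hi)] at h7
    have h8 : k⁻¹ (pt (pa c i)) = g (k⁻¹ (pt i)) := by
      rw [← h5, ← he]
      simp [Equiv.Perm.mul_apply]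
    rw [h8, hpres, ← h6] at h7
    cases h9 : (am ck Dm).testBit i <;> rw [h9] at h7 <;> simp_all
  have h10 := allL_spec hH c hc
  rw [hpres2] at h10
  have h11 : P c = 1 := P_eq_one_of hcok h10
  rw [h11] at he
  have h12 : g = k⁻¹ * (k * g * k⁻¹) * k := by group
  rw [h12, he]
  group

end Cfsg.Agent.H13.MOut
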