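import Cfsg.Agent.Lib.H13.M24Syl
import Cfsg.Agent.S5394
import Cfsg.Prelude.Def_KGroupFacts
import Cfsg.Prelude.Def_Spor_Mathieu

/-!
Outer automorphisms of the Mathieu groups: the kernel-checked framework.

* words in two generators, evaluated on points (`wordPt`, `relOK`);
* straight-line programs (`slpRun`);
* stabiliser chains inside a subgroup of `M24` (`HLevel`, `ChainOK`, `chain_gen`, `chain_all`);
* conjugation of elements of prime order with `q ^ 2` not dividing the group order (`conj_norm`);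
* automorphisms agreeing on a generating pair (`aut_eq_of_agree`, `out_card_one`, `out_card_two`);
* involutions with a fixed octad, up to powers of an element (`exists_cand`).
-/

set_option autoImplicit false
set_option maxRecDepth 100000

namespace Cfsg.Agent.H13.MOut

open Cfsg Cfsg.Agent.H27.Golay Equiv Cfsg.Agent.H13.M24S
open scoped Pointwise

/-! ### Words -/

/-- The value of a word in two elements. -/
def evalW {G : Type*} [Group G] (x y : G) : List Bool → G
  | [] => 1
  | s :: w => (if s then x else y) * evalW x y w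

theorem map_evalW {G K : Type*} [Group G] [Group K] (f : G →* K) (x y : G) (w : List Bool) :
    f (evalW x y w) = evalW (f x) (f y) w := by
  induction w with
  | nil => simp [evalW]
  | cons s w ih =>
    cases s <;> simp [evalW, ih]

/-- The value of a word, on a point, for two codes. -/
def wordPt (x y : ℕ) (w : List Bool) (p : ℕ) : ℕ :=
  List.rec (motive := fun _ => ℕ) p (fun s _ ih => pa (Bool.rec y x s) ih) w

theorem wordPt_cons (x y : ℕ) (s : Bool) (w : List Bool) (p : ℕ) :
    wordPt x y (s :: w) p = pa (Bool.rec y x s) (wordPt x y w p) := rfl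

theorem evalW_pt {x y : ℕ} (hx : permOK x = true) (hy : permOK y = true) (w : List Bool) {p : ℕ}
    (hp : p < 24) :
    wordPt x y w p < 24 ∧ evalW (P x) (P y) w (pt p) = pt (wordPt x y w p) := by
  induction w with
  | nil => exact ⟨hp, rfl⟩
  | cons s w ih =>
    cases s
    · refine ⟨pa_lt hy ih.1, ?_⟩
      show (P y * evalW (P x) (P y) w) (pt p) = pt (pa y (wordPt x y w p))
      rw [Equiv.Perm.mul_apply, ih.2, P_pt hy ih.1]
    · refine ⟨pa_lt hx ih.1, ?_⟩
      show (P x * evalW (P x) (P y) w) (pt p) = pt (pa x (wordPt x y w p))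
      rw [Equiv.Perm.mul_apply, ih.2, P_pt hx ih.1]

/-- All the words of a list are trivial (on all points) for two codes. -/
def relOK (R : List (List Bool)) (x y : ℕ) : Bool :=
  List.rec (motive := fun _ => Bool) true
    (fun w _ ih => Bool.rec false ih (allBelow (fun p => Nat.beq (wordPt x y w p) p) 24)) R

theorem relOK_of_eval {R : List (List Bool)} {x y : ℕ} (hx : permOK x = true) (hy : permOK y = true)
    (h : ∀ w ∈ R, evalW (P x) (P y) w = 1) : relOK R x y = true := by
  induction R with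
  | nil => rfl
  | cons w R ih =>
    have h1 : allBelow (fun p => Nat.beq (wordPt x y w p) p) 24 = true := by
      apply allBelow_of
      intro p hp
      have h2 := evalW_pt hx hy w hp
      rw [h w List.mem_cons_self] at h2
      have h3 : pt p = pt (wordPt x y w p) := h2.2
      have h4 := congrArg idx h3
      rw [idx_pt' hp, idx_pt' h2.1] at h4
      rw [← h4]
      exact Nat.beq_refl _
    show Bool.rec false (relOK R x y) (allBelow (fun p => Nat.beq (wordPt x y w p) p) 24) = true
    rw [h1]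
    exact ih (fun v hv => h v (List.mem_cons_of_mem _ hv))

theorem eval_of_relOK {R : List (List Bool)} {x y : ℕ} (hx : permOK x = true) (hy : permOK y = true)
    (h : relOK R x y = true) : ∀ w ∈ R, evalW (P x) (P y) w = 1 := by
  induction R with
  | nil => intro w hw; cases hw
  | cons v R ih =>
    have h0 : Bool.rec false (relOK R x y) (allBelow (fun p => Nat.beq (wordPt x y v p) p) 24) = true := h
    cases h1 : allBelow (fun p => Nat.beq (wordPt x y v p) p) 24 with
    | false => rw [h1] at h0; cases h0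
    | true =>
      rw [h1] at h0
      intro w hw
      rcases List.mem_cons.1 hw with rfl | hw
      · ext q
        have hq := evalW_pt hx hy w (idx_lt q)
        rw [pt_idx] at hq
        rw [hq.2, Nat.eq_of_beq_eq_true (allBelow_spec h1 _ (idx_lt q)), pt_idx]
        rfl
      · exact ih h0 w hw

/-! ### Straight line programs -/

/-- List lookup. -/
def nthO : List ℕ → ℕ → Option ℕ
  | [], _ => none
  | x :: _, 0 => some x
  | _ :: l, n + 1 => nthO l n

theorem nthO_mem {l : List ℕ} {n x : ℕ} (h : nthO l n = some x) : x ∈ l := by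
  induction l generalizing n with
  | nil => cases h
  | cons a l ih =>
    cases n with
    | zero =>
      have : a = x := by simpa [nthO] using h
      rw [this]; exact List.mem_cons_self
    | succ n => exact List.mem_cons_of_mem _ (ih h)

/-- One step of a straight line program; `(i, 0)` is the inverse of `acc[i]`, and `(i, j + 1)` is the
product `acc[i] * acc[j]`. -/
def slpStep (acc : List ℕ) (s : ℕ × ℕ) : List ℕ :=
  match nthO acc s.1 with
  | none => acc
  | some x =>
    match s.2 with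
    | 0 => pinv x :: acc
    | j + 1 =>
      match nthO acc j with
      | none => acc
      | some y => pcomp x y :: acc

/-- Running a straight line program. -/
def slpRun : List ℕ → List (ℕ × ℕ) → List ℕ
  | acc, [] => acc
  | acc, s :: r => slpRun (slpStep acc s) r

theorem slpStep_inv (K : Subgroup (Perm GolayPt)) (acc : List ℕ) (s : ℕ × ℕ)
    (h : ∀ c ∈ acc, permOK c = true ∧ P c ∈ K) : ∀ c ∈ slpStep acc s, permOK c = true ∧ P c ∈ K := by
  unfold slpStep
  cases h1 : nthO acc s.1 with
  | none => simpa using h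
  | some x =>
    have hx := h x (nthO_mem h1)
    simp only
    cases h2 : s.2 with
    | zero =>
      simp only
      intro c hc
      rcases List.mem_cons.1 hc with rfl | hc
      · refine ⟨permOK_pinv hx.1, ?_⟩
        rw [P_pinv hx.1]
        exact K.inv_mem hx.2
      · exact h c hc
    | succ j =>
      simp only
      cases h3 : nthO acc j with
      | none => simpa using h
      | some y =>
        have hy := h y (nthO_mem h3)
        simp only
        intro c hc
        rcases List.mem_cons.1 hc with rfl | hc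
        · refine ⟨permOK_pcomp hx.1 hy.1, ?_⟩
          rw [P_pcomp hx.1 hy.1]
          exact K.mul_mem hx.2 hy.2
        · exact h c hc

theorem slpRun_inv (K : Subgroup (Perm GolayPt)) (acc : List ℕ) (st : List (ℕ × ℕ))
    (h : ∀ c ∈ acc, permOK c = true ∧ P c ∈ K) : ∀ c ∈ slpRun acc st, permOK c = true ∧ P c ∈ K := by
  induction st generalizing acc with
  | nil => exact h
  | cons s r ih => exact ih _ (slpStep_inv K acc s h)

/-- Membership in a list of naturals. -/
def memN (x : ℕ) (l : List ℕ) : Bool :=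
  List.rec (motive := fun _ => Bool) false (fun y _ ih => Bool.rec ih true (Nat.beq x y)) l

theorem memN_spec {x : ℕ} {l : List ℕ} (h : memN x l = true) : x ∈ l := by
  induction l with
  | nil => cases h
  | cons a l ih =>
    have h0 : Bool.rec (memN x l) true (Nat.beq x a) = true := h
    cases h1 : Nat.beq x a with
    | true =>
      rw [Nat.eq_of_beq_eq_true h1]
      exact List.mem_cons_self
    | false =>
      rw [h1] at h0
      exact List.mem_cons_of_mem _ (ih h0)

/-! ### Stabiliser chains inside a subgroup -/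

variable {H : Subgroup (Perm GolayPt)}

/-- `g` fixes the points of a list. -/
def FixL (l : List ℕ) (g : Perm GolayPt) : Prop := ∀ i ∈ l, g (pt i) = pt i

/-- A level of a stabiliser chain. -/
structure HLevel (H : Subgroup (Perm GolayPt)) (l : List ℕ) (b m : ℕ) (T : List ℕ) : Prop where
  hl : ∀ i ∈ l, i < 24
  hb : b < 24
  hT : ∀ t ∈ T, permOK t = true ∧ P t ∈ H ∧ ∀ i ∈ l, pa t i = i
  hi : imgMask b T = m
  h2 : ∀ g ∈ H, FixL l g → g (pt b) ∈ fs m

theorem HLevel.exists_mul {l : List ℕ} {b m : ℕ} {T : List ℕ} (L : HLevel H l b m T)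
    {g : Perm GolayPt} (hg : g ∈ H) (hf : FixL l g) :
    ∃ t ∈ T, permOK t = true ∧ ∃ g' ∈ H, FixL (b :: l) g' ∧ g = P t * g' := by
  have h1 := L.h2 g hg hf
  rw [mem_fs, ← L.hi, testBit_imgMask] at h1
  obtain ⟨t, ht, hty⟩ := h1
  obtain ⟨hok, htH, htl⟩ := L.hT t ht
  refine ⟨t, ht, hok, (P t)⁻¹ * g, H.mul_mem (H.inv_mem htH) hg, ?_, by simp⟩
  intro i hi
  rcases List.mem_cons.1 hi with rfl | hi
  · rw [Equiv.Perm.mul_apply, Equiv.Perm.inv_eq_iff_eq, P_pt hok L.hb, hty, pt_idx]
  · rw [Equiv.Perm.mul_apply, hf i hi, Equiv.Perm.inv_eq_iff_eq, P_pt hok (L.hl i hi), htl i hi]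

/-- A stabiliser chain: the levels, then the trivial group. -/
def ChainOK (H : Subgroup (Perm GolayPt)) : List ℕ → List (ℕ × ℕ × List ℕ) → Prop
  | l, [] => ∀ g ∈ H, FixL l g → g = 1
  | l, (b, m, T) :: rest => HLevel H l b m T ∧ ChainOK H (b :: l) rest

/-- Generation from a chain. -/
theorem chain_gen {K : Subgroup (Perm GolayPt)} {l : List ℕ} {L : List (ℕ × ℕ × List ℕ)}
    (hc : ChainOK H l L) (hK : ∀ x ∈ L, ∀ t ∈ x.2.2, P t ∈ K) :
    ∀ g ∈ H, FixL l g → g ∈ K := by
  induction L generalizing l with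
  | nil =>
    intro g hg hf
    rw [hc g hg hf]
    exact K.one_mem
  | cons x L ih =>
    obtain ⟨b, m, T⟩ := x
    intro g hg hf
    obtain ⟨t, ht, _, g', hg', hf', rfl⟩ := hc.1.exists_mul hg hf
    exact K.mul_mem (hK _ List.mem_cons_self t ht)
      (ih hc.2 (fun y hy => hK y (List.mem_cons_of_mem _ hy)) g' hg' hf')

/-- The loop over all the products of a chain. -/
def chainAll : List (List ℕ) → (ℕ → Bool) → ℕ → Bool
  | [], f, acc => f acc
  | U :: Us, f, acc => allL (fun u => chainAll Us f (pcomp acc u)) U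

/-- The enumeration of a chain by the loop. -/
theorem chain_all {l : List ℕ} {L : List (ℕ × ℕ × List ℕ)} (hc : ChainOK H l L) (f : ℕ → Bool)
    {acc : ℕ} (hacc : permOK acc = true)
    (hall : chainAll (L.map fun x => x.2.2) f acc = true) :
    ∀ g ∈ H, FixL l g → ∃ c, permOK c = true ∧ P acc * g = P c ∧ f c = true := by
  induction L generalizing l acc with
  | nil =>
    intro g hg hf
    exact ⟨acc, hacc, by rw [hc g hg hf, mul_one], hall⟩
  | cons x L ih =>
    obtain ⟨b, m, T⟩ := x
    intro g hg hf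
    obtain ⟨t, ht, hok, g', hg', hf', rfl⟩ := hc.1.exists_mul hg hf
    have h1 := allL_spec hall t ht
    obtain ⟨c, hc1, hc2, hc3⟩ := ih hc.2 (permOK_pcomp hacc hok) h1 g' hg' hf'
    refine ⟨c, hc1, ?_, hc3⟩
    rw [← hc2, P_pcomp hacc hok, mul_assoc]

theorem permOK_id : permOK 984818244535754528103549039458486304 = true := by decide +kernel

theorem P_id : P 984818244535754528103549039458486304 = 1 := by
  ext q
  rw [P_apply permOK_id, (by
    have : allBelow (fun i => Nat.beq (pa 984818244535754528103549039458486304 i) i) 24 = true := by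
      decide +kernel
    exact Nat.eq_of_beq_eq_true (allBelow_spec this _ (idx_lt q)) :
    pa 984818244535754528103549039458486304 (idx q) = idx q), pt_idx]
  rfl

/-! ### Conjugation of elements of prime order -/

theorem conj_mem_zpowers' {G : Type*} [Group G] [Finite G] (p : ℕ) [hp : Fact p.Prime]
    (hp2 : ¬ p ^ 2 ∣ Nat.card G) (x h : G) (hx : orderOf x = p) (hh : orderOf h = p) :
    ∃ c : G, c * x * c⁻¹ ∈ Subgroup.zpowers h := by
  have hne : Nat.card G ≠ 0 := Nat.card_pos.ne'
  have hd : p ∣ Nat.card G := hx ▸ orderOf_dvd_natCard x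
  have hf : (Nat.card G).factorization p = 1 := by
    have h1 : 1 ≤ (Nat.card G).factorization p := by
      rw [← hp.out.pow_dvd_iff_le_factorization hne, pow_one]
      exact hd
    have h2 : ¬ 2 ≤ (Nat.card G).factorization p := by
      rw [← hp.out.pow_dvd_iff_le_factorization hne]
      exact hp2
    omega
  let P₁ : Sylow p G := Sylow.ofCard (Subgroup.zpowers x) (by
    rw [Nat.card_zpowers, hx, hf, pow_one])
  let P₂ : Sylow p G := Sylow.ofCard (Subgroup.zpowers h) (by
    rw [Nat.card_zpowers, hh, hf, pow_one])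
  obtain ⟨c, hc⟩ := MulAction.exists_smul_eq G P₁ P₂
  refine ⟨c, ?_⟩
  have hxm : x ∈ (P₁ : Subgroup G) := Subgroup.mem_zpowers x
  have h3 : c * x * c⁻¹ ∈ ((c • P₁ : Sylow p G) : Subgroup G) := by
    rw [Sylow.coe_subgroup_smul]
    exact Subgroup.smul_mem_pointwise_smul x (MulAut.conj c) _ hxm
  rw [hc] at h3
  exact h3

theorem conj_pow_eq {G : Type*} [Group G] (μ b : G) (m : ℕ) (hμ : μ * b * μ⁻¹ = b ^ m) (j k : ℕ) :
    μ ^ j * b ^ k * (μ ^ j)⁻¹ = b ^ (k * m ^ j) := by
  have h1 : ∀ k : ℕ, μ * b ^ k * μ⁻¹ = b ^ (k * m) := by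
    intro k
    have : μ * b ^ k * μ⁻¹ = (μ * b * μ⁻¹) ^ k := by
      rw [conj_pow]
    rw [this, hμ, ← pow_mul, mul_comm]
  induction j generalizing k with
  | zero => simp
  | succ j ih =>
    have : μ ^ (j + 1) * b ^ k * (μ ^ (j + 1))⁻¹ = μ * (μ ^ j * b ^ k * (μ ^ j)⁻¹) * μ⁻¹ := by
      rw [pow_succ', mul_inv_rev]
      group
    rw [this, ih, h1, pow_succ m j, mul_assoc]

/-- Any element of order `q` is conjugate to `b` or `b⁻¹`. -/
theorem conj_norm {G : Type*} [Group G] [Finite G] (q : ℕ) [hp : Fact q.Prime]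
    (hq : ¬ q ^ 2 ∣ Nat.card G) (b μ : G) (m : ℕ) (hb : orderOf b = q) (hμ : μ * b * μ⁻¹ = b ^ m)
    (hnorm : ∀ k, 0 < k → k < q → ∃ j, (k * m ^ j) % q = 1 ∨ (k * m ^ j) % q = q - 1)
    (x : G) (hx : orderOf x = q) : ∃ g : G, g * x * g⁻¹ = b ∨ g * x * g⁻¹ = b⁻¹ := by
  obtain ⟨c, hc⟩ := conj_mem_zpowers' q hq x b hx hb
  have hqpos : 0 < q := hp.out.pos
  obtain ⟨k, hk⟩ := Submonoid.mem_powers_iff _ _ |>.1 (mem_powers_iff_mem_zpowers.2 hc)
  have hk' : b ^ (k % q) = c * x * c⁻¹ := by
    rw [← hk]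
    conv_rhs => rw [← Nat.mod_add_div k q, pow_add, pow_mul, ← hb, pow_orderOf_eq_one, one_pow, mul_one]
    rw [hb]
  have hk0 : k % q ≠ 0 := by
    intro h0
    rw [h0, pow_zero] at hk'
    have h1 : x = 1 := by
      have h2 : c⁻¹ * (c * x * c⁻¹) * c = x := by group
      rw [← h2, ← hk']
      simp
    rw [h1, orderOf_one] at hx
    exact hp.out.one_lt.ne hx
  obtain ⟨j, hj⟩ := hnorm (k % q) (Nat.pos_of_ne_zero hk0) (Nat.mod_lt _ hqpos)
  refine ⟨μ ^ j * c, ?_⟩
  have h3 : μ ^ j * c * x * (μ ^ j * c)⁻¹ = b ^ ((k % q) * m ^ j) := by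
    rw [← conj_pow_eq μ b m hμ, hk']
    group
  have h4 : b ^ ((k % q) * m ^ j) = b ^ (((k % q) * m ^ j) % q) := by
    conv_lhs => rw [← Nat.mod_add_div ((k % q) * m ^ j) q, pow_add, pow_mul, ← hb, pow_orderOf_eq_one, one_pow, mul_one]
    rw [hb]
  rw [h3, h4]
  rcases hj with hj | hj
  · left
    rw [hj, pow_one]
  · right
    rw [hj, eq_inv_iff_mul_eq_one, ← pow_succ, Nat.sub_add_cancel hqpos, ← hb, pow_orderOf_eq_one]

/-! ### Automorphisms and generators -/

theorem aut_eq_of_agree {G : Type*} [Group G] {a b : G} (hgen : Subgroup.closure {a, b} = ⊤)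
    (φ ψ : MulAut G) (ha : φ a = ψ a) (hb : φ b = ψ b) : φ = ψ := by
  have h : φ.toMonoidHom = ψ.toMonoidHom := by
    apply MonoidHom.eq_of_eqOn_dense hgen
    intro x hx
    rcases hx with rfl | rfl
    · exact ha
    · exact hb
  ext x
  exact congrArg (fun f : G →* G => f x) h

theorem mem_inn_of_agree {G : Type*} [Group G] {a b : G} (hgen : Subgroup.closure {a, b} = ⊤)
    (φ : MulAut G) (g : G) (ha : g * φ a * g⁻¹ = a) (hb : g * φ b * g⁻¹ = b) : φ ∈ Cfsg.Inn G := by
  refine ⟨g⁻¹, ?_⟩
  apply aut_eq_of_agree hgen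
  · show g⁻¹ * a * g⁻¹⁻¹ = φ a
    conv_lhs => rw [← ha]
    group
  · show g⁻¹ * b * g⁻¹⁻¹ = φ b
    conv_lhs => rw [← hb]
    group

theorem out_card_one {G : Type*} [Group G] (h : ∀ φ : MulAut G, φ ∈ Cfsg.Inn G) :
    Nat.card (Cfsg.Out G) = 1 := by
  have h1 : Cfsg.Inn G = ⊤ := by
    rw [eq_top_iff]
    intro φ _
    exact h φ
  show (Cfsg.Inn G).index = 1
  rw [h1, Subgroup.index_top]

theorem out_card_two {G : Type*} [Group G] (ψ : MulAut G) (h0 : ψ ∉ Cfsg.Inn G)
    (h : ∀ φ : MulAut G, φ ∈ Cfsg.Inn G ∨ φ * ψ⁻¹ ∈ Cfsg.Inn G) :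
    Nat.card (Cfsg.Out G) = 2 := by
  show (Cfsg.Inn G).index = 2
  rw [Subgroup.index_eq_two_iff]
  refine ⟨ψ⁻¹, fun φ => ?_⟩
  by_cases hφ : φ ∈ Cfsg.Inn G
  · right
    refine ⟨hφ, fun h1 => h0 ?_⟩
    have := (Cfsg.Inn G).mul_mem ((Cfsg.Inn G).inv_mem h1) hφ
    simpa using this
  · left
    exact ⟨(h φ).resolve_left hφ, hφ⟩

/-- Conjugation by an element normalising a subgroup. -/
def conjAutOf (H : Subgroup (Perm GolayPt)) (t : Perm GolayPt) (h1 : ∀ x ∈ H, t * x * t⁻¹ ∈ H)
    (h2 : ∀ x ∈ H, t⁻¹ * x * t ∈ H) : MulAut H where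
  toFun x := ⟨t * x * t⁻¹, h1 x x.2⟩
  invFun x := ⟨t⁻¹ * x * t, h2 x x.2⟩
  left_inv x := by
    apply Subtype.ext
    show t⁻¹ * (t * x * t⁻¹) * t = x
    group
  right_inv x := by
    apply Subtype.ext
    show t * (t⁻¹ * x * t) * t⁻¹ = x
    group
  map_mul' x y := by
    apply Subtype.ext
    show t * (x * y) * t⁻¹ = t * x * t⁻¹ * (t * y * t⁻¹)
    group

/-! ### Involutions with a fixed octad -/

/-- The orbit of a mask. -/
def orbL (c m : ℕ) : ℕ → List ℕ
  | 0 => []
  | n + 1 => m :: orbL c (am c m) n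

theorem mem_orbL {c m x : ℕ} {n : ℕ} (hc : permOK c = true) (h : x ∈ orbL c m n) :
    ∃ j : ℕ, fs x = (P c) ^ j • fs m := by
  induction n generalizing m with
  | zero => cases h
  | succ n ih =>
    rcases List.mem_cons.1 h with rfl | h
    · exact ⟨0, by simp⟩
    · obtain ⟨j, hj⟩ := ih h
      refine ⟨j + 1, ?_⟩
      rw [hj, fs_am hc, pow_succ, mul_smul]

/-- The octads of all the orbits. -/
def allOrbs (c q : ℕ) (ts : List ℕ) : List ℕ :=
  List.rec (motive := fun _ => List ℕ) [] (fun t _ ih => orbL c (am t O0) q ++ ih) ts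

theorem mem_allOrbs {c q x : ℕ} {ts : List ℕ} (h : x ∈ allOrbs c q ts) :
    ∃ t ∈ ts, x ∈ orbL c (am t O0) q := by
  induction ts with
  | nil => cases h
  | cons a ts ih =>
    have h0 : x ∈ orbL c (am a O0) q ++ allOrbs c q ts := h
    rcases List.mem_append.1 h0 with h1 | h1
    · exact ⟨a, List.mem_cons_self, h1⟩
    · obtain ⟨t, ht, h2⟩ := ih h1
      exact ⟨t, List.mem_cons_of_mem _ ht, h2⟩

/-- Every octad containing the points of `S` lies in one of the listed orbits. -/
def coveredB (c q S : ℕ) (ts : List ℕ) : Bool :=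
  allL (fun m => Bool.rec (memN m (allOrbs c q ts)) true (Nat.blt 0 (Nat.land S (Nat.xor m 16777215))))
    octadL

/-- The fixed set. -/
abbrev FixS (x : Perm GolayPt) : Finset GolayPt := Finset.univ.filter fun p => x p = p

theorem exists_cand {c q S : ℕ} {ts : List ℕ} (hc : isM24 c = true) (hts : allL isM24 ts = true)
    (hcov : coveredB c q S ts = true) {x : Perm GolayPt} (hx : x ∈ M24)
    (hS : ∀ i, i < 24 → S.testBit i = true → x (pt i) = pt i) (hf : FixS x ∈ octads) :
    ∃ j : ℕ, ∃ t ∈ ts, ∃ e ∈ T7, isM24 t = true ∧ permOK e = true ∧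
      ((P c) ^ j)⁻¹ * x * (P c) ^ j = P (conjC t e) := by
  have hcok := isM24_permOK hc
  have hm := mem_octads_iff_mask.1 hf
  have h1 := allL_spec hcov _ hm
  have hlt : maskOf (FixS x) < 2 ^ 24 := maskOf_lt _
  have hbit : Nat.blt 0 (Nat.land S (Nat.xor (maskOf (FixS x)) 16777215)) = false := by
    by_contra hne
    rw [Bool.not_eq_false] at hne
    have h3 : 0 < S &&& (maskOf (FixS x) ^^^ 16777215) := by
      exact Nat.le_of_ble_eq_true hne
    obtain ⟨i, hi⟩ := Nat.exists_testBit_of_ne_zero h3.ne'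
    rw [Nat.testBit_and, Bool.and_eq_true, Nat.testBit_xor] at hi
    have hi24 : i < 24 := by
      by_contra hge
      have h4 : (maskOf (FixS x)).testBit i = false :=
        Nat.testBit_lt_two_pow (Nat.lt_of_lt_of_le hlt (Nat.pow_le_pow_right (by norm_num) (by omega)))
      have h5 : (16777215 : ℕ).testBit i = false :=
        Nat.testBit_lt_two_pow (Nat.lt_of_lt_of_le (by norm_num : 16777215 < 2 ^ 24)
          (Nat.pow_le_pow_right (by norm_num) (by omega)))
      rw [h4, h5] at hi
      simp at hi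
    have h6 := hS i hi24 hi.1
    have h7 : pt i ∈ FixS x := Finset.mem_filter.2 ⟨Finset.mem_univ _, h6⟩
    have h8 : (maskOf (FixS x)).testBit i = true := by
      rw [← fs_maskOf (FixS x), mem_fs, idx_pt' hi24] at h7
      exact h7
    have h9 : Nat.testBit 16777215 i = true := by
      have h10 : allBelow (fun i => Nat.testBit 16777215 i) 24 = true := by decide +kernel
      exact allBelow_spec h10 i hi24
    rw [h8, h9] at hi
    simp at hi
  rw [hbit] at h1
  have h2 := memN_spec h1
  obtain ⟨t, ht, h3⟩ := mem_allOrbs h2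
  obtain ⟨j, hj⟩ := mem_orbL hcok h3
  have htM := allL_spec hts t ht
  have htok := isM24_permOK htM
  rw [fs_maskOf, fs_am htok, smul_smul] at hj
  set k : Perm GolayPt := (P c) ^ j * P t with hk
  have hkM : k ∈ M24 := M24.mul_mem (M24.pow_mem (P_mem_M24 hc) j) (P_mem_M24 htM)
  have hy : k⁻¹ * x * k ∈ fixG L6 := by
    rw [mem_fix_iff (M24.mul_mem (M24.mul_mem (M24.inv_mem hkM) hx) hkM)]
    intro p hp
    have h4 : k p ∈ FixS x := by
      rw [hj, Finset.mem_smul_finset]
      exact ⟨p, hp, rfl⟩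
    have h5 : x (k p) = k p := (Finset.mem_filter.1 h4).2
    simp [Equiv.Perm.mul_apply, h5]
  obtain ⟨e, he, heok, h6⟩ := exists_T7 hy
  refine ⟨j, t, ht, e, he, htM, heok, ?_⟩
  have h7 : P (conjC t e) = P t * P e * (P t)⁻¹ := by
    unfold conjC
    rw [P_pcomp htok (permOK_pcomp heok (permOK_pinv htok)), P_pcomp heok (permOK_pinv htok),
      P_pinv htok, mul_assoc]
  rw [h7, ← h6, hk]
  group

end Cfsg.Agent.H13.MOut
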