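import Cfsg.Agent.Lib.H13.MOutCore

/-!
Outer automorphisms of the Mathieu groups: the enumeration of involutions through their fixed octads,
for subgroups of `M24`.
-/

set_option autoImplicit false
set_option maxRecDepth 100000

namespace Cfsg.Agent.H13.MOut

open Cfsg Cfsg.Agent.H27.Golay Equiv Cfsg.Agent.H13.M24S
open scoped Pointwise

/-- The power of a code. -/
def pcPow (c : ℕ) : ℕ → ℕ
  | 0 => 984818244535754528103549039458486304
  | n + 1 => pcomp c (pcPow c n)

theorem pcPow_spec {c : ℕ} (hc : permOK c = true) (n : ℕ) :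
    permOK (pcPow c n) = true ∧ P (pcPow c n) = (P c) ^ n := by
  induction n with
  | zero => exact ⟨permOK_id, by rw [pow_zero]; exact P_id⟩
  | succ n ih =>
    refine ⟨permOK_pcomp hc ih.1, ?_⟩
    show P (pcomp c (pcPow c n)) = _
    rw [P_pcomp hc ih.1, ih.2, pow_succ']

theorem P_eq_one_of {c : ℕ} (hc : permOK c = true) (h : idF (pa c) = true) : P c = 1 := by
  ext q
  rw [P_apply hc, Nat.eq_of_beq_eq_true (allBelow_spec h _ (idx_lt q)), pt_idx]
  rfl

theorem P_ne_one_of {c : ℕ} (hc : permOK c = true) (h : idF (pa c) = false) : P c ≠ 1 := by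
  intro h1
  have h2 : idF (pa c) = true := by
    apply allBelow_of
    intro i hi
    have h3 := P_pt hc hi
    rw [h1] at h3
    have h4 : pt i = pt (pa c i) := h3
    have h5 := congrArg idx h4
    rw [idx_pt' hi, idx_pt' (pa_lt hc hi)] at h5
    rw [← h5]
    exact Nat.beq_refl _
  rw [h] at h2
  cases h2

/-- The order of an element from the code. -/
theorem orderOf_P {c q : ℕ} [hq : Fact q.Prime] (hc : permOK c = true)
    (h1 : idF (pa (pcPow c q)) = true) (h2 : idF (pa c) = false) : orderOf (P c) = q := by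
  apply orderOf_eq_prime
  · obtain ⟨h3, h4⟩ := pcPow_spec hc q
    rw [← h4]
    exact P_eq_one_of h3 h1
  · exact P_ne_one_of hc h2

/-- `H48` has no elements of order `7`. -/
theorem H48_no7 : allL (fun c => Bool.rec true (idF (pa c)) (pow7F (pa c))) H48L = true := by
  decide +kernel

/-- An involution commuting with an element of order `7` has a fixed point. -/
theorem no_fpf_seven {x y : Perm GolayPt} (hx : x ∈ M24) (hy : y ∈ M24) (h2 : orderOf x = 2)
    (h7 : orderOf y = 7) (hc : x * y = y * x) : ∃ p, x p = p := by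
  classical
  by_contra hfp
  push Not at hfp
  have hy7 : y ^ 7 = 1 := by rw [← h7]; exact pow_orderOf_eq_one y
  have hxx : ∀ p, x (x p) = p := by
    intro p
    have h3 : x ^ 2 = 1 := by rw [← h2]; exact pow_orderOf_eq_one x
    have := congrArg (fun f : Perm GolayPt => f p) h3
    simpa [pow_succ] using this
  have hF : ∀ p, y p = p → y (x p) = x p := by
    intro p hp
    have h4 := congrArg (fun f : Perm GolayPt => f p) hc
    simp only [Equiv.Perm.mul_apply, hp] at h4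
    exact h4.symm
  haveI : Fact (Nat.Prime 7) := ⟨by norm_num⟩
  have hmod := fix_modEq y 7 hy7
  have heven : ((Finset.univ.filter fun p => y p = p).card : ZMod 2) = 0 := by
    have := Finset.sum_involution (s := Finset.univ.filter fun p => y p = p) (f := fun _ => (1 : ZMod 2))
      (fun a _ => x a)
      (fun a _ => by decide)
      (fun a _ _ => hfp a)
      (fun a ha => Finset.mem_filter.2 ⟨Finset.mem_univ _, hF a (Finset.mem_filter.1 ha).2⟩)
      (fun a _ => hxx a)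
    simpa using this
  have hev : 2 ∣ (Finset.univ.filter fun p => y p = p).card := (ZMod.natCast_eq_zero_iff _ _).1 heven
  have hle : (Finset.univ.filter fun p => y p = p).card ≤ 24 := by
    refine (Finset.card_filter_le _ _).trans ?_
    exact le_of_eq (by decide)
  have h5 : 5 ≤ (Finset.univ.filter fun p => y p = p).card := by
    unfold Nat.ModEq at hmod
    omega
  obtain ⟨k, hk, c, hc48, hok, e⟩ := exists_conj_H48 hy h5
  have h6 : (P c) ^ 7 = 1 := by
    rw [← e, conj_pow, hy7]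
    group
  have h8 := allL_spec H48_no7 c hc48
  rw [pow7F_of (rep_P hok) h6] at h8
  have h9 : P c = 1 := P_eq_one_of hok h8
  have h10 : y = 1 := by
    have h11 : k * y * k⁻¹ = 1 := by rw [e, h9]
    have h12 : y = k⁻¹ * (k * y * k⁻¹) * k := by group
    rw [h12, h11]
    group
  rw [h10, orderOf_one] at h7
  omega

variable {H : Subgroup (Perm GolayPt)}

/-- Fixed sets of involutions with a fixed point. -/
theorem fix_octad_of {x : Perm GolayPt} (hx : x ∈ M24) (h2 : orderOf x = 2) (hp : ∃ p, x p = p) :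
    FixS x ∈ octads := by
  rcases (Cfsg.Agent.S5394.result).1 x hx h2 with h | h
  · exact h
  · obtain ⟨p, hp⟩ := hp
    exact absurd hp (h p)

/-- The normal form of the image of the generating pair. -/
theorem normal_form_oct {q cb : ℕ} [hp : Fact q.Prime] (hH : H ≤ M24) (cμ m S : ℕ) (ts : List ℕ)
    (hq : ¬ q ^ 2 ∣ Nat.card H) (hcb : isM24 cb = true) (hbH : P cb ∈ H) (hμH : P cμ ∈ H)
    (hb : orderOf (P cb) = q) (hμ : P cμ * P cb * (P cμ)⁻¹ = (P cb) ^ m)
    (hnorm : ∀ k, 0 < k → k < q → ∃ j, (k * m ^ j) % q = 1 ∨ (k * m ^ j) % q = q - 1)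
    (hts : allL isM24 ts = true) (hcov : coveredB cb q S ts = true)
    (hS : ∀ x ∈ H, ∀ i, i < 24 → S.testBit i = true → x (pt i) = pt i)
    (a : H) (ha : orderOf a = 2) (φ : MulAut H)
    (hfp : ∀ g : H, ∃ p, ((g * φ a * g⁻¹ : H) : Perm GolayPt) p = p) :
    ∃ g : H, (g * φ ⟨P cb, hbH⟩ * g⁻¹ = ⟨P cb, hbH⟩ ∨ g * φ ⟨P cb, hbH⟩ * g⁻¹ = (⟨P cb, hbH⟩ : H)⁻¹) ∧
      ∃ t ∈ ts, ∃ e ∈ T7, isM24 t = true ∧ permOK e = true ∧
        ((g * φ a * g⁻¹ : H) : Perm GolayPt) = P (conjC t e) := by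
  classical
  haveI : Finite H := inferInstance
  let b : H := ⟨P cb, hbH⟩
  let μ : H := ⟨P cμ, hμH⟩
  have hb' : orderOf b = q := by
    rw [← hb]
    exact Subgroup.orderOf_mk _ _
  have hμ' : μ * b * μ⁻¹ = b ^ m := Subtype.ext hμ
  have hx : orderOf (φ b) = q := by
    rw [← hb']
    exact MulEquiv.orderOf_eq φ b
  obtain ⟨g₀, hg₀⟩ := conj_norm q hq b μ m hb' hμ' hnorm (φ b) hx
  set x : Perm GolayPt := ((g₀ * φ a * g₀⁻¹ : H) : Perm GolayPt) with hxdef
  have hxH : (g₀ * φ a * g₀⁻¹ : H).1 ∈ H := (g₀ * φ a * g₀⁻¹ : H).2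
  have hxM : x ∈ M24 := hH hxH
  have hord : orderOf x = 2 := by
    rw [hxdef, Subgroup.orderOf_coe]
    rw [← ha, ← MulEquiv.orderOf_eq φ a]
    have h1 : g₀ * φ a * g₀⁻¹ = (MulAut.conj g₀) (φ a) := rfl
    rw [h1]
    exact MulEquiv.orderOf_eq _ _
  have hoct := fix_octad_of hxM hord (hfp g₀)
  obtain ⟨j, t, ht, e, he, htM, heok, hj⟩ := exists_cand hcb hts hcov hxM (hS x hxH) hoct
  refine ⟨(b ^ j)⁻¹ * g₀, ?_, t, ht, e, he, htM, heok, ?_⟩
  · rcases hg₀ with h | h
    · left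
      have : (b ^ j)⁻¹ * g₀ * φ b * ((b ^ j)⁻¹ * g₀)⁻¹ = (b ^ j)⁻¹ * (g₀ * φ b * g₀⁻¹) * b ^ j := by group
      show (b ^ j)⁻¹ * g₀ * φ b * ((b ^ j)⁻¹ * g₀)⁻¹ = b
      rw [this, h]
      group
    · right
      have : (b ^ j)⁻¹ * g₀ * φ b * ((b ^ j)⁻¹ * g₀)⁻¹ = (b ^ j)⁻¹ * (g₀ * φ b * g₀⁻¹) * b ^ j := by group
      show (b ^ j)⁻¹ * g₀ * φ b * ((b ^ j)⁻¹ * g₀)⁻¹ = b⁻¹
      rw [this, h]
      group
  · rw [← hj, hxdef]
    have e1 : ((b ^ j)⁻¹ * g₀ * φ a * ((b ^ j)⁻¹ * g₀)⁻¹ : H) = (b ^ j)⁻¹ * (g₀ * φ a * g₀⁻¹) * b ^ j := by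
      group
    rw [e1]
    rfl

/-- Transport of relations. -/
theorem relOK_of_aut {R : List (List Bool)} (a b : H) (hR : ∀ w ∈ R, evalW a b w = 1) (φ : MulAut H)
    (g : H) {x y : ℕ} (hx : permOK x = true) (hy : permOK y = true)
    (h1 : ((g * φ a * g⁻¹ : H) : Perm GolayPt) = P x)
    (h2 : ((g * φ b * g⁻¹ : H) : Perm GolayPt) = P y) : relOK R x y = true := by
  apply relOK_of_eval hx hy
  intro w hw
  let ψ : H →* Perm GolayPt := H.subtype.comp ((MulAut.conj g).toMonoidHom.comp φ.toMonoidHom)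
  have h3 : ψ a = P x := h1
  have h4 : ψ b = P y := h2
  rw [← h3, ← h4, ← map_evalW, hR w hw, map_one]

/-- From a relation check on the codes to the relations in the subgroup. -/
theorem relations_of_code {R : List (List Bool)} {ca cb : ℕ} (a b : H) (ha : (a : Perm GolayPt) = P ca)
    (hb : (b : Perm GolayPt) = P cb) (hca : permOK ca = true) (hcb : permOK cb = true)
    (h : relOK R ca cb = true) : ∀ w ∈ R, evalW a b w = 1 := by
  intro w hw
  apply Subtype.ext
  have h1 := map_evalW H.subtype a b w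
  have h2 : (H.subtype a : Perm GolayPt) = P ca := ha
  have h3 : (H.subtype b : Perm GolayPt) = P cb := hb
  rw [h2, h3, eval_of_relOK hca hcb h w hw] at h1
  exact h1

/-- The kernel check on all the candidates. -/
def checkOct (ts : List ℕ) (R : List (List Bool)) (cb : ℕ) (excP excM : List ℕ) : Bool :=
  allL (fun t => allL (fun e =>
    Bool.rec false (Bool.rec true (memN (conjC t e) excM) (relOK R (conjC t e) (pinv cb)))
      (Bool.rec true (memN (conjC t e) excP) (relOK R (conjC t e) cb))) T7) ts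

theorem checkOct_spec {ts : List ℕ} {R : List (List Bool)} {cb : ℕ} {excP excM : List ℕ}
    (h : checkOct ts R cb excP excM = true) {t e : ℕ} (ht : t ∈ ts) (he : e ∈ T7) :
    (relOK R (conjC t e) cb = true → conjC t e ∈ excP) ∧
      (relOK R (conjC t e) (pinv cb) = true → conjC t e ∈ excM) := by
  have h1 := allL_spec (allL_spec h t ht) e he
  cases h2 : relOK R (conjC t e) cb with
  | false =>
    rw [h2] at h1
    cases h3 : relOK R (conjC t e) (pinv cb) with
    | false => exact ⟨by simp, by simp⟩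
    | true =>
      rw [h3] at h1
      exact ⟨by simp, fun _ => memN_spec h1⟩
  | true =>
    rw [h2] at h1
    cases h4 : memN (conjC t e) excP with
    | false => rw [h4] at h1; cases h1
    | true =>
      rw [h4] at h1
      cases h3 : relOK R (conjC t e) (pinv cb) with
      | false => exact ⟨fun _ => memN_spec h4, by simp⟩
      | true =>
        rw [h3] at h1
        exact ⟨fun _ => memN_spec h4, fun _ => memN_spec h1⟩

/-- The conclusion of the enumeration. -/
theorem final_oct {q cb ca : ℕ} [hp : Fact q.Prime] (hH : H ≤ M24) (cμ m S : ℕ) (ts : List ℕ)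
    (R : List (List Bool)) (excP excM : List ℕ)
    (hq : ¬ q ^ 2 ∣ Nat.card H) (hcb : isM24 cb = true) (hbH : P cb ∈ H) (hμH : P cμ ∈ H)
    (haH : P ca ∈ H) (hca : permOK ca = true)
    (hb : orderOf (P cb) = q) (hμ : P cμ * P cb * (P cμ)⁻¹ = (P cb) ^ m)
    (hnorm : ∀ k, 0 < k → k < q → ∃ j, (k * m ^ j) % q = 1 ∨ (k * m ^ j) % q = q - 1)
    (hts : allL isM24 ts = true) (hcov : coveredB cb q S ts = true)
    (hS : ∀ x ∈ H, ∀ i, i < 24 → S.testBit i = true → x (pt i) = pt i)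
    (ha : orderOf (P ca) = 2) (hrel : relOK R ca cb = true)
    (hchk : checkOct ts R cb excP excM = true) (φ : MulAut H)
    (hfp : ∀ g : H, ∃ p, ((g * φ ⟨P ca, haH⟩ * g⁻¹ : H) : Perm GolayPt) p = p) :
    ∃ g : H, (g * φ ⟨P cb, hbH⟩ * g⁻¹ = ⟨P cb, hbH⟩ ∧
        ∃ c ∈ excP, ((g * φ ⟨P ca, haH⟩ * g⁻¹ : H) : Perm GolayPt) = P c) ∨
      (g * φ ⟨P cb, hbH⟩ * g⁻¹ = (⟨P cb, hbH⟩ : H)⁻¹ ∧
        ∃ c ∈ excM, ((g * φ ⟨P ca, haH⟩ * g⁻¹ : H) : Perm GolayPt) = P c) := by
  have hcbok := isM24_permOK hcb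
  have ha' : orderOf (⟨P ca, haH⟩ : H) = 2 := by
    rw [← ha]
    exact Subgroup.orderOf_mk _ _
  obtain ⟨g, hg, t, ht, e, he, htM, heok, h⟩ :=
    normal_form_oct hH cμ m S ts hq hcb hbH hμH hb hμ hnorm hts hcov hS ⟨P ca, haH⟩ ha' φ hfp
  have htok := isM24_permOK htM
  have hcok : permOK (conjC t e) = true :=
    permOK_pcomp htok (permOK_pcomp heok (permOK_pinv htok))
  have hR := relations_of_code (R := R) (⟨P ca, haH⟩ : H) (⟨P cb, hbH⟩ : H) rfl rfl hca hcbok hrel
  have hchk' := checkOct_spec hchk ht he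
  refine ⟨g, ?_⟩
  rcases hg with hg | hg
  · left
    refine ⟨hg, conjC t e, hchk'.1 ?_, h⟩
    exact relOK_of_aut _ _ hR φ g hcok hcbok h (by rw [hg])
  · right
    refine ⟨hg, conjC t e, hchk'.2 ?_, h⟩
    refine relOK_of_aut _ _ hR φ g hcok (permOK_pinv hcbok) h ?_
    rw [hg, P_pinv hcbok]
    rfl

/-- Generation from a straight line program and a chain. -/
theorem closure_top_of_chain {ca cb : ℕ} {l : List ℕ} {L : List (ℕ × ℕ × List ℕ)}
    (haH : P ca ∈ H) (hbH : P cb ∈ H) (hca : permOK ca = true) (hcb : permOK cb = true)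
    (hc : ChainOK H l L) (hl : ∀ g ∈ H, FixL l g) (st : List (ℕ × ℕ))
    (hcheck : ∀ x ∈ L, ∀ t ∈ x.2.2, t ∈ slpRun [cb, ca] st) :
    Subgroup.closure {(⟨P ca, haH⟩ : H), (⟨P cb, hbH⟩ : H)} = ⊤ := by
  set K : Subgroup (Perm GolayPt) := Subgroup.closure {P ca, P cb} with hK
  have h0 : ∀ c ∈ [cb, ca], permOK c = true ∧ P c ∈ K := by
    intro c hc'
    simp only [List.mem_cons, List.not_mem_nil, or_false] at hc'
    rcases hc' with rfl | rfl
    · exact ⟨hcb, Subgroup.subset_closure (by simp)⟩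
    · exact ⟨hca, Subgroup.subset_closure (by simp)⟩
  have h1 := slpRun_inv K _ st h0
  have h2 : ∀ g ∈ H, g ∈ K := fun g hg =>
    chain_gen hc (fun x hx t ht => (h1 t (hcheck x hx t ht)).2) g hg (hl g hg)
  rw [eq_top_iff]
  rintro ⟨x, hx⟩ -
  have h3 := h2 x hx
  have h4 : K = (Subgroup.closure {(⟨P ca, haH⟩ : H), (⟨P cb, hbH⟩ : H)}).map H.subtype := by
    rw [MonoidHom.map_closure, hK]
    congr 1
    ext y
    simp [eq_comm]
  rw [h4] at h3
  obtain ⟨y, hy, rfl⟩ := h3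
  exact hy

/-- A level in a subgroup `fixG l₀` from a level of the group `M24`. -/
theorem hlevel_of_level {l₀ l : List ℕ} {b m : ℕ} {T : List ℕ} (h0 : l₀ ⊆ l) (L : Level l b m T) :
    HLevel (fixG l₀) l b m T := by
  refine ⟨L.hl, L.hb, ?_, L.hi, fun g hg hf => L.h2 g ⟨hg.1, hf⟩⟩
  intro t ht
  have h1 := allL_spec L.hT t ht
  have h2 : P t ∈ fixG l := P_mem_fixG L.hl h1
  rw [isFix, Bool.and_eq_true] at h1
  exact ⟨isM24_permOK h1.1, ⟨h2.1, fun i hi => h2.2 i (h0 hi)⟩, fun i hi =>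
    Nat.eq_of_beq_eq_true (allL_spec h1.2 i hi)⟩

/-- Replacing the transversal in a level. -/
theorem level_replace {l : List ℕ} {b m : ℕ} {T U : List ℕ} (L : Level l b m T)
    (h1 : allL (isFix l) U = true) (h2 : imgMask b U = m) : Level l b m U :=
  ⟨L.hl, L.hb, L.hm, h1, h2, L.h2⟩

/-- All the codes of a list occur in another list. -/
def subL (U V : List ℕ) : Bool := allL (fun u => memN u V) U

theorem subL_spec {U V : List ℕ} (h : subL U V = true) : ∀ u ∈ U, u ∈ V := fun u hu =>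
  memN_spec (allL_spec h u hu)

/-- The end of the chain of `fixG l₀`. -/
theorem chain_end (l₀ : List ℕ) : ∀ g ∈ fixG l₀, FixL baseL g → g = 1 := by
  intro g hg hf
  have : g ∈ fixG baseL := ⟨hg.1, hf⟩
  rw [fix_base_trivial] at this
  exact this

/-- Conjugation, from the codes. -/
theorem conj_eq_pow_of_code {cμ cb m : ℕ} (hμ : permOK cμ = true) (hb : permOK cb = true)
    (h : sameCode (pcomp (pcomp cμ cb) (pinv cμ)) (pcPow cb m) = true) :
    P cμ * P cb * (P cμ)⁻¹ = (P cb) ^ m := by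
  have h1 := pcPow_spec hb m
  rw [← h1.2, ← P_pinv hμ, ← P_pcomp hμ hb, ← P_pcomp (permOK_pcomp hμ hb) (permOK_pinv hμ)]
  exact P_eq_of_sameCode (permOK_pcomp (permOK_pcomp hμ hb) (permOK_pinv hμ)) h1.1 h

/-- Hypothesis on fixed points, from a commuting element of order `7`. -/
theorem hfp_of_seven (hH : H ≤ M24) (a y : H) (ha : orderOf a = 2) (hy : orderOf y = 7)
    (hc : a * y = y * a) (φ : MulAut H) (g : H) :
    ∃ p, ((g * φ a * g⁻¹ : H) : Perm GolayPt) p = p := by
  let ψ : MulAut H := (MulAut.conj g) * φ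
  have e1 : g * φ a * g⁻¹ = ψ a := rfl
  have e2 : g * φ y * g⁻¹ = ψ y := rfl
  rw [e1]
  apply no_fpf_seven (y := ((ψ y : H) : Perm GolayPt)) (hH (ψ a).2) (hH (ψ y).2)
  · rw [Subgroup.orderOf_coe, MulEquiv.orderOf_eq, ha]
  · rw [Subgroup.orderOf_coe, MulEquiv.orderOf_eq, hy]
  · have : ψ a * ψ y = ψ y * ψ a := by rw [← map_mul, hc, map_mul]
    exact congrArg Subtype.val this

/-- The square of a prime not dividing the order of `M24`. -/
theorem not_sq_dvd_of_le (hH : H ≤ M24) {n : ℕ} (h : ¬ n ∣ 244823040) : ¬ n ∣ Nat.card H := by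
  intro h1
  apply h
  rw [← card_M24]
  exact h1.trans (Subgroup.card_dvd_of_le hH)

theorem M23_eq : Spor.M23 = fixG [23] := by
  ext g
  rw [mem_fixG]
  show (g ∈ M24 ∧ g • (none : GolayPt) = none) ↔ _
  simp only [List.mem_singleton, forall_eq]
  exact Iff.rfl

theorem M22_eq : Spor.M22 = fixG [0, 23] := by
  ext g
  rw [mem_fixG]
  show ((g ∈ M24 ∧ g • (none : GolayPt) = none) ∧ g • (some 0 : GolayPt) = some 0) ↔ _
  simp only [List.mem_cons, List.not_mem_nil, or_false, forall_eq_or_imp, forall_eq]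
  constructor
  · rintro ⟨⟨h1, h2⟩, h3⟩
    exact ⟨h1, h3, h2⟩
  · rintro ⟨h1, h3, h2⟩
    exact ⟨⟨h1, h2⟩, h3⟩

/-- The check on levels. -/
theorem hcheck_of {L : List (ℕ × ℕ × List ℕ)} {run : List ℕ}
    (h : L.all (fun x => subL x.2.2 run) = true) : ∀ x ∈ L, ∀ t ∈ x.2.2, t ∈ run := by
  intro x hx t ht
  exact subL_spec (List.all_eq_true.1 h x hx) t ht

end Cfsg.Agent.H13.MOut
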