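import Mathlib
import Cfsg.Prelude.Def_LocalStructure
import Cfsg.Agent.Lib.H13.PTrans
import Cfsg.Agent.Lib.H13.CharP
import Cfsg.Agent.Lib.H13.CharP2
import Cfsg.Agent.Lib.H13.KeyChar

set_option autoImplicit false

namespace Cfsg.Agent.H13

open Cfsg
open scoped commutatorElement

section
variable {G : Type*} [Group G]

theorem comm_of_commutator_bot {X Y : Subgroup G} (h : ⁅X, Y⁆ = ⊥) {x y : G} (hx : x ∈ X)
    (hy : y ∈ Y) : x * y = y * x := by
  have := Subgroup.commutator_mem_commutator hx hy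
  rw [h, Subgroup.mem_bot, commutatorElement_eq_one_iff_mul_comm] at this
  exact this

theorem commutator_bot_of_comm {X Y : Subgroup G} (h : ∀ x ∈ X, ∀ y ∈ Y, x * y = y * x) :
    ⁅X, Y⁆ = ⊥ := by
  rw [eq_bot_iff, Subgroup.commutator_le]
  intro x hx y hy
  rw [Subgroup.mem_bot, commutatorElement_eq_one_iff_mul_comm]
  exact h x hx y hy

theorem eq_one_of_mem_pgroup_coprime {p : ℕ} {T : Subgroup G} (hT : IsPGroup p T) {x : G} (hx : x ∈ T)
    (hc : Nat.Coprime (orderOf x) p) : x = 1 := by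
  obtain ⟨k, hk⟩ := hT ⟨x, hx⟩
  have h1 : x ^ p ^ k = 1 := congrArg Subtype.val hk
  have h2 := orderOf_dvd_of_pow_eq_one h1
  have h3 := Nat.Coprime.eq_one_of_dvd (hc.pow_right k) h2
  exact orderOf_eq_one_iff.1 h3

theorem isPGroup_zpowers_of_pow_eq_one {p k : ℕ} {c : G} (h : c ^ p ^ k = 1) :
    IsPGroup p (Subgroup.zpowers c) := by
  rintro ⟨x, n, rfl⟩
  refine ⟨k, Subtype.ext ?_⟩
  show (c ^ n) ^ p ^ k = 1
  rw [← zpow_natCast, ← zpow_mul, mul_comm, zpow_mul, zpow_natCast, h, one_zpow]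

theorem mem_normalizer_zpowers_of_comm {x c : G} (h : x * c = c * x) :
    x ∈ Subgroup.normalizer ((Subgroup.zpowers c : Subgroup G) : Set G) := by
  apply mem_normalizer_of_map_conj_eq
  rw [MonoidHom.map_zpowers]
  congr 1
  show x * c * x⁻¹ = c
  rw [h]
  simp

end

variable {G : Type*} [Group G] [Finite G] {p : ℕ} [Fact p.Prime]

/-- A normal `p`-subgroup of `X` lies in every Sylow subgroup of `X`. -/
theorem IsSylIn.le_of_normal_pgroup {S P X : Subgroup G} (h : IsSylIn p S X) (hP : P ≤ X)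
    (hp : IsPGroup p P) (hn : X ≤ Subgroup.normalizer (P : Set G)) : P ≤ S := by
  have h1 : IsPGroup p (P ⊔ S : Subgroup G) := hp.to_sup_of_normal_left' h.pg (h.le.trans hn)
  have h2 := h.eq_of_le (le_sup_right : S ≤ P ⊔ S) (sup_le hP h.le) h1
  rw [← h2]
  exact le_sup_left

/-- The family of subgroups in the crux of `S2855`: `O_p(G) = 1`, transitive family of normal subgroups of
their join, each of them strongly `p`-irreducible. -/
structure IrrFamily (p : ℕ) (𝒜 : Set (Subgroup G)) : Prop where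
  ne : 𝒜.Nonempty
  inv : ∀ g : G, ∀ A ∈ 𝒜, A.map (MulAut.conj g).toMonoidHom ∈ 𝒜
  tr : ∀ A ∈ 𝒜, ∀ K ∈ 𝒜, ∃ g : G, K = A.map (MulAut.conj g).toMonoidHom
  res : pResidual p G ≤ sSup 𝒜
  norm : ∀ A ∈ 𝒜, sSup 𝒜 ≤ Subgroup.normalizer (A : Set G)
  core : pCore p G = ⊥
  npc : ∀ A ∈ 𝒜, ¬ IsPClosed p ↥A
  irr : ∀ A ∈ 𝒜, ∀ N : Subgroup G, N ≤ A → A ≤ Subgroup.normalizer (N : Set G) →
    ⁅N, A⁆ = ⊥ ∨ resIn p A ≤ N

namespace IrrFamily

variable {𝒜 : Set (Subgroup G)} (h : IrrFamily p 𝒜)
include h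

theorem le_sup {A : Subgroup G} (hA : A ∈ 𝒜) : A ≤ sSup 𝒜 := le_sSup hA

theorem sup_normal : (sSup 𝒜).Normal := sSup_family_normal h.inv

theorem syl (T : Sylow p G) {A : Subgroup G} (hA : A ∈ 𝒜) : IsSylIn p ((T : Subgroup G) ⊓ A) A := by
  haveI := h.sup_normal
  have h1 := (IsSylIn.inf_of_normal (X := sSup 𝒜) T).inf_normal (h.le_sup hA) (h.norm A hA)
  rwa [inf_assoc, inf_eq_right.2 (h.le_sup hA)] at h1

theorem not_norm (T : Sylow p G) {A : Subgroup G} (hA : A ∈ 𝒜) :
    ¬ A ≤ Subgroup.normalizer (((T : Subgroup G) ⊓ A : Subgroup G) : Set G) := fun hn =>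
  h.npc A hA ((h.syl T hA).isPClosed hn)

theorem res_not_central {A : Subgroup G} (hA : A ∈ 𝒜) : ¬ ⁅resIn p A, A⁆ = ⊥ := by
  intro hc
  obtain ⟨T⟩ : Nonempty (Sylow p G) := inferInstance
  apply h.not_norm T hA
  apply (h.syl T hA).le_of_res Subgroup.le_normalizer
  intro r hr
  rw [Subgroup.mem_normalizer_iff]
  intro s
  constructor
  · intro hs
    rw [comm_of_commutator_bot hc hr hs.2]
    simpa using hs
  · intro hs
    have hsA : s ∈ A := by
      have h1 : r * s * r⁻¹ ∈ A := hs.2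
      have h2 : r ∈ A := resIn_le A hr
      have := A.mul_mem (A.mul_mem (A.inv_mem h2) h1) h2
      simpa [mul_assoc] using this
    rw [comm_of_commutator_bot hc hr hsA] at hs
    simpa using hs

theorem comm_le {A : Subgroup G} : ⁅A, A⁆ ≤ A :=
  commutator_le_left_of_le_normalizer Subgroup.le_normalizer

theorem comm_not_central {A : Subgroup G} (hA : A ∈ 𝒜) : ¬ ⁅⁅A, A⁆, A⁆ = ⊥ := by
  intro hc
  obtain ⟨T⟩ : Nonempty (Sylow p G) := inferInstance
  apply h.not_norm T hA
  set S := (T : Subgroup G) ⊓ A with hS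
  have hSyl := h.syl T hA
  intro a ha
  apply mem_normalizer_of_map_conj_le
  rintro _ ⟨s, hs, rfl⟩
  show a * s * a⁻¹ ∈ S
  set c := a * s * a⁻¹ * s⁻¹ with hcdef
  have hcmem : c ∈ ⁅A, A⁆ := Subgroup.commutator_mem_commutator ha hs.2
  have hcA : c ∈ A := comm_le h hcmem
  have hcomm : ∀ x ∈ A, c * x = x * c := fun x hx => comm_of_commutator_bot hc hcmem hx
  have hac : a * s * a⁻¹ = c * s := by rw [hcdef]; group
  -- `c` is a `p`-element
  have hcp : IsPGroup p (Subgroup.zpowers c) := by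
    obtain ⟨k, hk⟩ := hSyl.pg ⟨s, hs⟩
    have hsk : s ^ p ^ k = 1 := congrArg Subtype.val hk
    have h2 : (a * s * a⁻¹) ^ p ^ k = 1 := by
      rw [conj_pow, hsk]
      simp
    have h3 : Commute c s := hcomm s hs.2
    rw [hac, h3.mul_pow, hsk, mul_one] at h2
    exact isPGroup_zpowers_of_pow_eq_one h2
  have hcS : c ∈ S := by
    have hle : Subgroup.zpowers c ≤ S := by
      apply hSyl.le_of_normal_pgroup (by simpa using hcA) hcp
      intro x hx
      exact mem_normalizer_zpowers_of_comm (hcomm x hx).symm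
    exact hle (Subgroup.mem_zpowers c)
  rw [hac]
  exact S.mul_mem hcS hs

theorem res_le_comm {A : Subgroup G} (hA : A ∈ 𝒜) : resIn p A ≤ ⁅A, A⁆ := by
  have hn : A ≤ Subgroup.normalizer ((⁅A, A⁆ : Subgroup G) : Set G) := fun a ha =>
    H12.conj_mem_normalizer_commutator (Subgroup.le_normalizer ha) (Subgroup.le_normalizer ha)
  exact (h.irr A hA ⁅A, A⁆ (comm_le h) hn).resolve_left (h.comm_not_central hA)

/-- A subgroup containing all the `A`-conjugates of a Sylow subgroup of `A` contains `O^p(A)`. -/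
theorem res_le_of_conj (T : Sylow p G) {A Y : Subgroup G} (hA : A ∈ 𝒜)
    (hY : ∀ a ∈ A, ∀ s ∈ (T : Subgroup G) ⊓ A, a * s * a⁻¹ ∈ Y) : resIn p A ≤ Y := by
  set D₀ := (Y.subgroupOf A).normalCore with hD₀
  haveI hD₀n : D₀.Normal := Subgroup.normalCore_normal _
  set D := D₀.map A.subtype with hD
  have hDA : D ≤ A := Subgroup.map_subtype_le _
  have hDY : D ≤ Y := by
    rintro _ ⟨x, hx, rfl⟩
    have := Subgroup.normalCore_le _ hx
    exact this
  have hnD : A ≤ Subgroup.normalizer (D : Set G) := by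
    intro a ha
    apply mem_normalizer_of_map_conj_le
    rintro _ ⟨_, ⟨x, hx, rfl⟩, rfl⟩
    exact ⟨_, hD₀n.conj_mem x hx ⟨a, ha⟩, rfl⟩
  have hSD : (T : Subgroup G) ⊓ A ≤ D := by
    intro s hs
    refine ⟨⟨s, hs.2⟩, ?_, rfl⟩
    intro b
    rw [Subgroup.mem_subgroupOf]
    exact hY b b.2 s hs
  obtain hc | hres := h.irr A hA D hDA hnD
  · exfalso
    apply h.not_norm T hA
    intro a ha
    apply mem_normalizer_of_map_conj_le
    rintro _ ⟨s, hs, rfl⟩
    show a * s * a⁻¹ ∈ (T : Subgroup G) ⊓ A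
    rw [← comm_of_commutator_bot hc (hSD hs) ha, mul_inv_cancel_right]
    exact hs
  · exact hres.trans hDY

/-- If one `O^p(A)` lies in a normal subgroup, so does `O^p(G)`. -/
theorem res_le_of_normal {N : Subgroup G} [hN : N.Normal] {A : Subgroup G} (hA : A ∈ 𝒜)
    (hAN : resIn p A ≤ N) : pResidual p G ≤ N := by
  obtain ⟨T⟩ : Nonempty (Sylow p G) := inferInstance
  apply H12.pResidual_le_of_sup_sylow N T
  rw [eq_top_iff, ← sylow_sup_pResidual T]
  refine sup_le le_sup_right (h.res.trans (sSup_le fun K hK => ?_))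
  apply (h.syl T hK).le_of_res (inf_le_left.trans le_sup_right)
  obtain ⟨g, rfl⟩ := h.tr A hA K hK
  show resIn p (A.map (MulAut.conj g).toMonoidHom) ≤ _
  have h5 := resIn_map_conj (p := p) A g
  refine le_trans (le_of_eq h5.symm) (le_trans ?_ le_sup_left)
  have := Subgroup.map_mono (f := (MulAut.conj g).toMonoidHom) hAN
  rwa [map_conj_eq_of_normal (N := N)] at this

/-- An element of `Z(T)` centralizing all `O^p(A)` is trivial. -/
theorem eq_one_of_central (T : Sylow p G) {y : G} (hyT : y ∈ (T : Subgroup G))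
    (hyC : y ∈ Subgroup.centralizer ((T : Subgroup G) : Set G))
    (hyR : ∀ A ∈ 𝒜, ∀ r ∈ resIn p A, r * y = y * r) : y = 1 := by
  set B := sSup (resIn p '' 𝒜) with hB
  haveI hBn : B.Normal := by
    apply sSup_family_normal
    rintro g _ ⟨A, hA, rfl⟩
    exact ⟨_, h.inv g A hA, (resIn_map_conj A g).symm⟩
  obtain ⟨A, hA⟩ := h.ne
  have h1 : pResidual p G ≤ B := h.res_le_of_normal hA (le_sSup ⟨A, hA, rfl⟩)
  have h2 : B ≤ Subgroup.centralizer ({y} : Set G) := by
    apply sSup_le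
    rintro _ ⟨A, hA, rfl⟩ r hr
    rw [Subgroup.mem_centralizer_iff]
    intro w hw
    rw [Set.mem_singleton_iff.1 hw]
    exact (hyR A hA r hr).symm
  have h3 : (T : Subgroup G) ≤ Subgroup.centralizer ({y} : Set G) := by
    intro t ht
    rw [Subgroup.mem_centralizer_iff]
    intro w hw
    rw [Set.mem_singleton_iff.1 hw]
    exact ((Subgroup.mem_centralizer_iff.1 hyC) t ht).symm
  have h4 : Subgroup.centralizer ({y} : Set G) = ⊤ := by
    rw [eq_top_iff, ← sylow_sup_pResidual T]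
    exact sup_le h3 (h1.trans h2)
  have hy : ∀ x : G, x * y = y * x := by
    intro x
    have : x ∈ Subgroup.centralizer ({y} : Set G) := h4 ▸ Subgroup.mem_top x
    exact ((Subgroup.mem_centralizer_iff.1 this) y rfl).symm
  have h5 : Subgroup.zpowers y ≤ pCore p G := by
    apply le_pCore
    · constructor
      intro n hn g
      have := mem_normalizer_zpowers_of_comm (hy g)
      exact (Subgroup.mem_normalizer_iff.1 this n).1 hn
    · exact (T.2.to_le (by simpa using hyT))
  rw [h.core, le_bot_iff, Subgroup.zpowers_eq_bot] at h5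
  exact h5

/-- Main alternative: a normal subgroup contains `O^p(G)` or is a `p'`-group. -/
theorem normal_alt (N : Subgroup G) [hN : N.Normal] :
    pResidual p G ≤ N ∨ ∀ T : Sylow p G, N ⊓ (T : Subgroup G) = ⊥ := by
  by_cases hA : ∃ A ∈ 𝒜, resIn p A ≤ N
  · obtain ⟨A, hA, hAN⟩ := hA
    exact Or.inl (h.res_le_of_normal hA hAN)
  right
  push Not at hA
  have hcent : ∀ A ∈ 𝒜, ⁅N ⊓ A, A⁆ = ⊥ := by
    intro A hAm
    refine (h.irr A hAm (N ⊓ A) inf_le_right ?_).resolve_right
      (fun hc => hA A hAm (hc.trans inf_le_left))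
    intro a ha
    apply mem_normalizer_of_map_conj_eq
    rw [map_conj_inf, map_conj_eq_of_normal (N := N), map_conj_eq_of_mem_normalizer (Subgroup.le_normalizer ha)]
  set R := sSup 𝒜 with hR
  haveI hRn : R.Normal := h.sup_normal
  set N₀ := N ⊓ R with hN₀
  haveI hN₀n : N₀.Normal := Subgroup.normal_inf_normal _ _
  have hc1 : ∀ A ∈ 𝒜, ⁅N₀, A⁆ ≤ N ⊓ A := by
    intro A hAm
    refine le_inf ?_ ?_
    · refine (Subgroup.commutator_mono inf_le_left le_rfl).trans ?_
      apply commutator_le_left_of_le_normalizer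
      rw [Subgroup.normalizer_eq_top N]
      exact le_top
    · exact commutator_le_right_of_le_normalizer (inf_le_right.trans (h.norm A hAm))
  have hc2 : ∀ A ∈ 𝒜, ⁅⁅A, A⁆, N₀⁆ = ⊥ := by
    intro A hAm
    have h0 : ⁅⁅N₀, A⁆, A⁆ = ⊥ := by
      rw [eq_bot_iff, ← hcent A hAm]
      exact Subgroup.commutator_mono (hc1 A hAm) le_rfl
    apply Subgroup.commutator_commutator_eq_bot_of_rotate
    · rwa [Subgroup.commutator_comm A N₀]
    · exact h0
  have hc3 : ∀ A ∈ 𝒜, ∀ n ∈ N₀, ∀ r ∈ resIn p A, r * n = n * r := fun A hAm n hn r hr =>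
    comm_of_commutator_bot (hc2 A hAm) (h.res_le_comm hAm hr) hn
  have hN₀T : ∀ T : Sylow p G, N₀ ⊓ (T : Subgroup G) = ⊥ := by
    intro T
    by_contra hne
    have h1 := inf_center_ne_bot_of_pgroup T.2 (inf_le_right : N₀ ⊓ (T : Subgroup G) ≤ T) hne (by
      intro t ht
      apply mem_normalizer_of_map_conj_eq
      rw [map_conj_inf, map_conj_eq_of_normal (N := N₀), map_conj_eq_of_mem_normalizer (Subgroup.le_normalizer ht)])
    obtain ⟨y, hy, hy1⟩ := (Subgroup.bot_or_exists_ne_one _).resolve_left h1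
    obtain ⟨⟨hy1N, hy1T⟩, hyT, hyC⟩ := hy
    exact hy1 (h.eq_one_of_central T hyT hyC (fun A hAm r hr => hc3 A hAm y hy1N r hr))
  have hcop : ∀ n ∈ N₀, Nat.Coprime (orderOf n) p := by
    intro n hn
    by_contra hnc
    have hp : p ∣ orderOf n := by
      by_contra hnd
      exact hnc ((Nat.Prime.coprime_iff_not_dvd (Fact.out : p.Prime)).2 hnd).symm
    set w := n ^ (orderOf n / p) with hw
    have hwo : orderOf w = p := orderOf_pow_orderOf_div (orderOf_pos n).ne' hp
    have hwN : w ∈ N₀ := N₀.pow_mem hn _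
    have hwp : IsPGroup p (Subgroup.zpowers w) := by
      apply isPGroup_zpowers_of_pow_eq_one (k := 1)
      rw [pow_one, ← hwo]
      exact pow_orderOf_eq_one w
    obtain ⟨T, hT⟩ := hwp.exists_le_sylow
    have h1 : w ∈ N₀ ⊓ (T : Subgroup G) := ⟨hwN, hT (Subgroup.mem_zpowers w)⟩
    rw [hN₀T T, Subgroup.mem_bot] at h1
    rw [h1, orderOf_one] at hwo
    exact (Fact.out : p.Prime).one_lt.ne hwo
  have hScent : ∀ T : Sylow p G, ∀ A ∈ 𝒜, ∀ s ∈ (T : Subgroup G) ⊓ A, ∀ n ∈ N₀, s * n = n * s := by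
    intro T A hAm s hs n hn
    set c := s * n * s⁻¹ * n⁻¹ with hc
    have hcN : c ∈ N₀ := N₀.mul_mem (hN₀n.conj_mem n hn s) (N₀.inv_mem hn)
    have hcNA : c ∈ N ⊓ A := by
      have h1 := hc1 A hAm (Subgroup.commutator_mem_commutator hn hs.2)
      have h2 := (N ⊓ A).inv_mem h1
      rw [commutatorElement_inv] at h2
      exact h2
    have hcs : c * s = s * c := comm_of_commutator_bot (hcent A hAm) hcNA hs.2
    have hsn : s * n * s⁻¹ = c * n := by rw [hc]; group
    have hk : ∀ k : ℕ, s ^ k * n * (s ^ k)⁻¹ = c ^ k * n := by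
      intro k
      induction k with
      | zero => simp
      | succ k ih =>
        have h1 : s ^ (k + 1) * n * (s ^ (k + 1))⁻¹ = s * (s ^ k * n * (s ^ k)⁻¹) * s⁻¹ := by
          rw [pow_succ']
          group
        have hcom : Commute s c := hcs.symm
        have h2 : s * (c ^ k * n) * s⁻¹ = c ^ k * (s * n * s⁻¹) := by
          have h3 : s * c ^ k = c ^ k * s := (hcom.pow_right k).eq
          rw [← mul_assoc, h3]
          group
        rw [h1, ih, h2, hsn, pow_succ]
        group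
    obtain ⟨m, hm⟩ := (h.syl T hAm).pg ⟨s, hs⟩
    have hsm : s ^ p ^ m = 1 := congrArg Subtype.val hm
    have h1 := hk (p ^ m)
    rw [hsm] at h1
    have h2 : c ^ p ^ m = 1 := by
      have h3 : n = c ^ p ^ m * n := by simpa using h1
      have h4 : c ^ p ^ m * n = 1 * n := by rw [← h3, one_mul]
      exact mul_right_cancel h4
    have h3 := orderOf_dvd_of_pow_eq_one h2
    have h4 := Nat.Coprime.eq_one_of_dvd ((hcop c hcN).pow_right m) h3
    have h5 : c = 1 := orderOf_eq_one_iff.1 h4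
    rw [hc] at h5
    have h6 : s * n * s⁻¹ = n := by
      have := mul_eq_one_iff_eq_inv.1 h5
      simpa using this
    exact mul_inv_eq_iff_eq_mul.1 h6
  intro T
  by_contra hne
  have h1 := inf_center_ne_bot_of_pgroup T.2 (inf_le_right : N ⊓ (T : Subgroup G) ≤ T) hne (by
    intro t ht
    apply mem_normalizer_of_map_conj_eq
    rw [map_conj_inf, map_conj_eq_of_normal (N := N), map_conj_eq_of_mem_normalizer (Subgroup.le_normalizer ht)])
  obtain ⟨y, hy, hy1⟩ := (Subgroup.bot_or_exists_ne_one _).resolve_left h1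
  obtain ⟨⟨hyN, hyT'⟩, hyT, hyC⟩ := hy
  refine hy1 (h.eq_one_of_central T hyT hyC (fun A hAm r hr => ?_))
  have hle : resIn p A ≤ Subgroup.centralizer ({y} : Set G) := by
    apply h.res_le_of_conj T hAm
    intro a ha s hs
    rw [Subgroup.mem_centralizer_iff]
    intro w hw
    rw [Set.mem_singleton_iff.1 hw]
    have haR : a ∈ R := h.le_sup hAm ha
    set φ := y * a * y⁻¹ * a⁻¹ with hφ
    have hφN : φ ∈ N₀ := by
      refine ⟨?_, ?_⟩
      · have : φ = y * (a * y⁻¹ * a⁻¹) := by rw [hφ]; group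
        rw [this]
        exact N.mul_mem hyN (hN.conj_mem _ (N.inv_mem hyN) a)
      · exact R.mul_mem (hRn.conj_mem a haR y) (R.inv_mem haR)
    set ψ := a⁻¹ * φ * a with hψ
    have hψN : ψ ∈ N₀ := by
      have := hN₀n.conj_mem φ hφN a⁻¹
      simpa [hψ] using this
    have hψs : s * ψ = ψ * s := hScent T A hAm s hs ψ hψN
    have hys : y * s = s * y := by
      exact (Subgroup.mem_centralizer_iff.1 hyC s hs.1).symm
    have hya : y * a = a * ψ * y := by
      rw [hψ, hφ]; group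
    -- the computation
    have e1 : y * (a * s * a⁻¹) * y⁻¹ = a * s * a⁻¹ := by
      have e2 : y * (a * s * a⁻¹) * y⁻¹ = (y * a) * s * (y * a)⁻¹ := by group
      have e3 : (a * ψ * y) * s * (a * ψ * y)⁻¹ = a * ψ * (y * s * y⁻¹) * ψ⁻¹ * a⁻¹ := by group
      have e4 : y * s * y⁻¹ = s := by rw [hys]; group
      have e5 : ψ * s * ψ⁻¹ = s := by rw [← hψs]; group
      rw [e2, hya, e3, e4]
      have e6 : a * ψ * s * ψ⁻¹ * a⁻¹ = a * (ψ * s * ψ⁻¹) * a⁻¹ := by group
      rw [e6, e5]
    have e7 := congrArg (· * y) e1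
    simp only [inv_mul_cancel_right] at e7
    exact e7
  have := Subgroup.mem_centralizer_iff.1 (hle hr) y rfl
  exact this.symm

theorem center_coprime {A : Subgroup G} (hA : A ∈ 𝒜) {x : G} (hx : x ∈ A)
    (hxc : ∀ a ∈ A, a * x = x * a) : Nat.Coprime (orderOf x) p := by
  by_contra hnc
  have hp : p ∣ orderOf x := by
    by_contra hnd
    exact hnc ((Nat.Prime.coprime_iff_not_dvd (Fact.out : p.Prime)).2 hnd).symm
  set w := x ^ (orderOf x / p) with hw
  have hwo : orderOf w = p := orderOf_pow_orderOf_div (orderOf_pos x).ne' hp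
  have hwA : w ∈ A := A.pow_mem hx _
  have hwc : ∀ a ∈ A, a * w = w * a := by
    intro a ha
    have h1 : Commute a x := hxc a ha
    exact (h1.pow_right _).eq
  have hwp : IsPGroup p (Subgroup.zpowers w) := by
    apply isPGroup_zpowers_of_pow_eq_one (k := 1)
    rw [pow_one, ← hwo]
    exact pow_orderOf_eq_one w
  set Z := A ⊓ Subgroup.centralizer (A : Set G) with hZ
  have hwZ : w ∈ Z := ⟨hwA, Subgroup.mem_centralizer_iff.2 hwc⟩
  have h1 : Subgroup.zpowers w ≤ pCoreOf p Z := by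
    apply le_pCoreOf (by simpa using hwZ) hwp
    intro z hz
    exact mem_normalizer_zpowers_of_comm (hwc z hz.1)
  set R := sSup 𝒜 with hR
  haveI hRn : R.Normal := h.sup_normal
  have hRZ : R ≤ Subgroup.normalizer (Z : Set G) := by
    intro r hr
    have hrA := h.norm A hA hr
    apply mem_normalizer_of_map_conj_eq
    rw [hZ, map_conj_inf, map_conj_centralizer, map_conj_eq_of_mem_normalizer hrA]
  have h2 : pCoreOf p Z ≤ pCoreOf p R := by
    apply le_pCoreOf ((pCoreOf_le Z).trans (inf_le_left.trans (h.le_sup hA))) (isPGroup_pCoreOf Z)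
    exact hRZ.trans (normalizer_le_normalizer_pCoreOf Z)
  have h3 : pCoreOf p R ≤ pCore p G := by
    apply le_pCore _ (isPGroup_pCoreOf R)
    rw [← Subgroup.normalizer_eq_top_iff, eq_top_iff, ← Subgroup.normalizer_eq_top R]
    exact normalizer_le_normalizer_pCoreOf R
  have h4 := h1.trans (h2.trans h3)
  rw [h.core, le_bot_iff, Subgroup.zpowers_eq_bot] at h4
  rw [h4, orderOf_one] at hwo
  exact (Fact.out : p.Prime).one_lt.ne hwo

theorem center_le_res {A : Subgroup G} (hA : A ∈ 𝒜) :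
    A ⊓ Subgroup.centralizer (A : Set G) ≤ resIn p A := fun _ hx =>
  mem_resIn_of_coprime hx.1 (h.center_coprime hA hx.1 (Subgroup.mem_centralizer_iff.1 hx.2))

theorem res_eq_of_le {A K : Subgroup G} (hA : A ∈ 𝒜) (hK : K ∈ 𝒜) (hle : resIn p A ≤ K) :
    resIn p A = resIn p K := by
  have hn : K ≤ Subgroup.normalizer ((resIn p A : Subgroup G) : Set G) :=
    (h.le_sup hK).trans ((h.norm A hA).trans (normalizer_le_normalizer_resIn A))
  obtain ⟨g, hg⟩ := h.tr A hA K hK
  have hcK : Nat.card ↥(resIn p K) = Nat.card ↥(resIn p A) := by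
    rw [hg, ← resIn_map_conj, card_map_conj]
  obtain hc | hle2 := h.irr K hK (resIn p A) hle hn
  · exfalso
    have h1 : resIn p A ≤ K ⊓ Subgroup.centralizer (K : Set G) :=
      le_inf hle (fun x hx => Subgroup.mem_centralizer_iff.2 (fun k hk =>
        (comm_of_commutator_bot hc hx hk).symm))
    have h2 : K ⊓ Subgroup.centralizer (K : Set G)
        = (A ⊓ Subgroup.centralizer (A : Set G)).map (MulAut.conj g).toMonoidHom := by
      rw [map_conj_inf, map_conj_centralizer, hg]
    have h3 : A ⊓ Subgroup.centralizer (A : Set G) = resIn p A := by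
      apply Subgroup.eq_of_le_of_card_ge (h.center_le_res hA)
      have := Subgroup.card_le_of_le h1
      rwa [h2, card_map_conj] at this
    apply h.res_not_central hA
    rw [← h3]
    apply commutator_bot_of_comm
    intro x hx a ha
    exact (Subgroup.mem_centralizer_iff.1 hx.2 a ha).symm
  · exact (Subgroup.eq_of_le_of_card_ge hle2 hcK.ge).symm

theorem comm_alt {A K : Subgroup G} (hA : A ∈ 𝒜) (hK : K ∈ 𝒜) :
    resIn p A = resIn p K ∨ ⁅A, K⁆ = ⊥ := by
  have hAK : A ≤ Subgroup.normalizer (K : Set G) := (h.le_sup hA).trans (h.norm K hK)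
  have hKA : K ≤ Subgroup.normalizer (A : Set G) := (h.le_sup hK).trans (h.norm A hA)
  have hWA : A ≤ Subgroup.normalizer ((A ⊓ K : Subgroup G) : Set G) := by
    intro a ha
    apply mem_normalizer_of_map_conj_eq
    rw [map_conj_inf, map_conj_eq_of_mem_normalizer (hAK ha),
      map_conj_eq_of_mem_normalizer (Subgroup.le_normalizer ha)]
  have hWK : K ≤ Subgroup.normalizer ((A ⊓ K : Subgroup G) : Set G) := by
    intro a ha
    apply mem_normalizer_of_map_conj_eq
    rw [map_conj_inf, map_conj_eq_of_mem_normalizer (hKA ha),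
      map_conj_eq_of_mem_normalizer (Subgroup.le_normalizer ha)]
  obtain hc1 | hr1 := h.irr A hA (A ⊓ K) inf_le_left hWA
  swap
  · exact Or.inl (h.res_eq_of_le hA hK (hr1.trans inf_le_right))
  obtain hc2 | hr2 := h.irr K hK (A ⊓ K) inf_le_right hWK
  swap
  · exact Or.inl (h.res_eq_of_le hK hA (hr2.trans inf_le_left)).symm
  right
  have hcomm : ⁅A, K⁆ ≤ A ⊓ K :=
    le_inf (commutator_le_left_of_le_normalizer hKA) (commutator_le_right_of_le_normalizer hAK)
  have h1 : ⁅⁅A, K⁆, A⁆ = ⊥ := by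
    rw [eq_bot_iff, ← hc1]
    exact Subgroup.commutator_mono hcomm le_rfl
  have h2 : ⁅⁅A, K⁆, K⁆ = ⊥ := by
    rw [eq_bot_iff, ← hc2]
    exact Subgroup.commutator_mono hcomm le_rfl
  have hK1 : ⁅⁅A, A⁆, K⁆ = ⊥ := by
    apply Subgroup.commutator_commutator_eq_bot_of_rotate h1
    rwa [Subgroup.commutator_comm K A]
  have hA1 : ⁅⁅K, K⁆, A⁆ = ⊥ := by
    apply Subgroup.commutator_commutator_eq_bot_of_rotate
    · rwa [Subgroup.commutator_comm K A]
    · exact h2
  obtain ⟨T⟩ : Nonempty (Sylow p G) := inferInstance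
  have key : ∀ t ∈ (T : Subgroup G) ⊓ A, K ≤ Subgroup.centralizer ({t} : Set G) := by
    intro t ht
    apply (h.syl T hK).le_of_res
    · intro k hk
      rw [Subgroup.mem_centralizer_iff]
      intro w hw
      rw [Set.mem_singleton_iff.1 hw]
      set c := ⁅t, k⁆ with hc
      have hcW : c ∈ A ⊓ K := hcomm (Subgroup.commutator_mem_commutator ht.2 hk.2)
      have hcT : c ∈ (T : Subgroup G) := by
        rw [hc, commutatorElement_def]
        exact (T : Subgroup G).mul_mem ((T : Subgroup G).mul_mem ((T : Subgroup G).mul_mem ht.1 hk.1)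
          ((T : Subgroup G).inv_mem ht.1)) ((T : Subgroup G).inv_mem hk.1)
      have hcop := h.center_coprime hA hcW.1 (fun a ha =>
        (comm_of_commutator_bot hc1 hcW ha).symm)
      have hc1' := eq_one_of_mem_pgroup_coprime T.2 hcT hcop
      rw [hc, commutatorElement_eq_one_iff_mul_comm] at hc1'
      exact hc1'
    · intro r hr
      rw [Subgroup.mem_centralizer_iff]
      intro w hw
      rw [Set.mem_singleton_iff.1 hw]
      exact (comm_of_commutator_bot hA1 (h.res_le_comm hK hr) ht.2).symm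
  apply commutator_bot_of_comm
  have hfinal : A ≤ Subgroup.centralizer (K : Set G) := by
    apply (h.syl T hA).le_of_res
    · intro t ht
      rw [Subgroup.mem_centralizer_iff]
      intro k hk
      exact ((Subgroup.mem_centralizer_iff.1 (key t ht hk)) t rfl).symm
    · intro r hr
      rw [Subgroup.mem_centralizer_iff]
      intro k hk
      exact (comm_of_commutator_bot hK1 (h.res_le_comm hA hr) hk).symm
  intro a ha k hk
  exact (Subgroup.mem_centralizer_iff.1 (hfinal ha) k hk).symm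

end IrrFamily

end Cfsg.Agent.H13
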