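import Mathlib
import Cfsg.Agent.Lib.H13.PTrans2
import Cfsg.Agent.Lib.H13.Large
import Cfsg.Agent.Lib.H14.CoprimeGen
import Cfsg.Agent.Lib.H14.UniqueSub
import Cfsg.Agent.Lib.H24.AutDihedral

set_option autoImplicit false

namespace Cfsg.Agent.H13

open Cfsg
open scoped commutatorElement

section

variable {G : Type*} [Group G] [Finite G] {p : ℕ} [Fact p.Prime]

/-- Setting of `S2934`, inside an ambient group. -/
structure OneInv (p : ℕ) (W E : Subgroup G) (a b : G) : Prop where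
  two : IsPGroup 2 W
  pg : IsPGroup p E
  odd : p ≠ 2
  comm : ∀ x ∈ E, ∀ y ∈ E, x * y = y * x
  norm : E ≤ Subgroup.normalizer (W : Set G)
  faith : ∀ e ∈ E, (∀ w ∈ W, e * w = w * e) → e = 1
  fix : ∀ e ∈ E, e ≠ 1 → ∀ x ∈ W, ∀ y ∈ W, orderOf x = 2 → orderOf y = 2 →
    e * x = x * e → e * y = y * e → x = y
  ha : a ∈ E
  hb : b ∈ E
  hap : a ^ p = 1
  hbp : b ^ p = 1
  ind : ∀ i j : ℕ, ¬ (p ∣ i ∧ p ∣ j) → a ^ i * b ^ j ≠ 1

namespace OneInv

variable {W E : Subgroup G} {a b : G} (h : OneInv p W E a b)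
include h

theorem a_ne_one : a ≠ 1 := by
  have h1 := h.ind 1 0 (by
    rintro ⟨h2, -⟩
    exact (Fact.out : p.Prime).one_lt.ne' (Nat.dvd_one.1 h2))
  simpa using h1

theorem gen {D X : Subgroup G} (hDW : D ≤ W) (hDE : E ≤ Subgroup.normalizer (D : Set G))
    (hX : ∀ g ∈ E, g ≠ 1 → ∀ v ∈ D, v * g = g * v → v ∈ X) : D ≤ X := by
  have hcard : ¬ p ∣ Nat.card D := by
    obtain ⟨k, hk⟩ := IsPGroup.iff_card.1 (h.two.to_le hDW)
    rw [hk]
    intro h2
    have := (Nat.prime_dvd_prime_iff_eq (Fact.out : p.Prime) Nat.prime_two).1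
      ((Fact.out : p.Prime).dvd_of_dvd_pow h2)
    exact h.odd this
  have h1 := H14.le_cgen (x := a) (y := b) (h.comm a h.ha b h.hb) h.hap h.hbp _ D rfl
    (hDE h.ha) (hDE h.hb) hcard
  refine h1.trans ((Subgroup.closure_le _).2 ?_)
  rintro v ⟨hv, i, j, hij, hc⟩
  exact hX _ (E.mul_mem (E.pow_mem h.ha i) (E.pow_mem h.hb j)) (h.ind i j hij) v hv hc

theorem exists_z : ∃ z ∈ W, orderOf z = 2 ∧ (∀ w ∈ W, z * w = w * z) ∧ (∀ e ∈ E, z * e = e * z) := by
  haveI : Fact (Nat.Prime 2) := ⟨Nat.prime_two⟩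
  have hWne : W ≠ ⊥ := by
    intro hW
    apply h.a_ne_one
    apply h.faith a h.ha
    intro w hw
    rw [hW, Subgroup.mem_bot] at hw
    simp [hw]
  have hZne := center_ne_bot_of_pgroup h.two hWne
  set Z := W ⊓ Subgroup.centralizer (W : Set G) with hZ
  have hZ2 : IsPGroup 2 Z := h.two.to_le inf_le_left
  obtain ⟨x, hx⟩ : ∃ x : Z, orderOf x = 2 := by
    apply exists_prime_orderOf_dvd_card'
    obtain ⟨k, hk⟩ := IsPGroup.iff_card.1 hZ2
    rw [hk]
    have hk0 : k ≠ 0 := by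
      rintro rfl
      apply hZne
      exact Subgroup.card_eq_one.1 (by simpa using hk)
    exact dvd_pow_self 2 hk0
  -- the involutions in the centre
  let V : Subgroup G :=
    { carrier := {v | v ∈ W ∧ (∀ w ∈ W, v * w = w * v) ∧ v * v = 1}
      one_mem' := ⟨W.one_mem, by simp, by simp⟩
      mul_mem' := by
        rintro u v ⟨hu, hu2, hu3⟩ ⟨hv, hv2, hv3⟩
        refine ⟨W.mul_mem hu hv, fun w hw => ?_, ?_⟩
        · rw [mul_assoc, hv2 w hw, ← mul_assoc, hu2 w hw, mul_assoc]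
        · calc u * v * (u * v) = u * (v * u) * v := by group
            _ = u * (u * v) * v := by rw [← hu2 v hv]
            _ = (u * u) * (v * v) := by group
            _ = 1 := by rw [hu3, hv3, one_mul]
      inv_mem' := by
        rintro v ⟨hv, hv2, hv3⟩
        have h1 : v⁻¹ = v := inv_eq_of_mul_eq_one_right hv3
        rw [h1]
        exact ⟨hv, hv2, hv3⟩ }
  have hVmem : ∀ v, v ∈ V ↔ v ∈ W ∧ (∀ w ∈ W, v * w = w * v) ∧ v * v = 1 := fun _ => Iff.rfl
  have hVW : V ≤ W := fun v hv => hv.1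
  have hVE : E ≤ Subgroup.normalizer (V : Set G) := by
    intro e he
    apply mem_normalizer_of_map_conj_le
    rintro _ ⟨v, ⟨hv, hv2, hv3⟩, rfl⟩
    show e * v * e⁻¹ ∈ V
    have hN := Subgroup.mem_normalizer_iff.1 (h.norm he)
    refine ⟨(hN v).1 hv, fun w hw => ?_, ?_⟩
    · have hw' : e⁻¹ * w * e ∈ W := by
        have := (Subgroup.mem_normalizer_iff.1 (h.norm (E.inv_mem he)) w).1 hw
        simpa using this
      have h2 := hv2 _ hw'
      calc e * v * e⁻¹ * w = e * (v * (e⁻¹ * w * e)) * e⁻¹ := by group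
        _ = e * ((e⁻¹ * w * e) * v) * e⁻¹ := by rw [h2]
        _ = w * (e * v * e⁻¹) := by group
    · calc e * v * e⁻¹ * (e * v * e⁻¹) = e * (v * v) * e⁻¹ := by group
        _ = 1 := by rw [hv3]; group
  have hVC : V ≤ Subgroup.centralizer (E : Set G) := by
    apply h.gen hVW hVE
    intro g hg hg1 v hv hvg
    rw [Subgroup.mem_centralizer_iff]
    intro e he
    by_cases hv1 : v = 1
    · rw [hv1]; simp
    have hov : orderOf v = 2 := orderOf_eq_prime (by rw [pow_two]; exact hv.2.2) hv1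
    have hyW : e * v * e⁻¹ ∈ W := (Subgroup.mem_normalizer_iff.1 (h.norm he) v).1 hv.1
    have hoy : orderOf (e * v * e⁻¹) = 2 := by
      rw [← hov]
      exact orderOf_injective (MulAut.conj e).toMonoidHom (MulAut.conj e).injective v
    have hge : e * g = g * e := h.comm e he g hg
    have hc1 : Commute g e := hge.symm
    have hc2 : Commute g v := hvg.symm
    have h3 := h.fix g hg hg1 v hv.1 _ hyW hov hoy hvg.symm
      (((hc1.mul_right hc2).mul_right hc1.inv_right).eq)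
    calc e * v = (e * v * e⁻¹) * e := by group
      _ = v * e := by rw [← h3]
  refine ⟨x, x.2.1, ?_, ?_, ?_⟩
  · rwa [Subgroup.orderOf_coe]
  · intro w hw
    exact (Subgroup.mem_centralizer_iff.1 x.2.2 w hw).symm
  · have hxV : (x : G) ∈ V := by
      refine ⟨x.2.1, fun w hw => (Subgroup.mem_centralizer_iff.1 x.2.2 w hw).symm, ?_⟩
      have := pow_orderOf_eq_one x
      rw [hx, pow_two] at this
      exact congrArg Subtype.val this
    intro e he
    exact (Subgroup.mem_centralizer_iff.1 (hVC hxV) e he).symm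

end OneInv

/-- The centralizer in `W` of `g`. -/
abbrev Yf (W : Subgroup G) (g : G) : Subgroup G := W ⊓ Subgroup.centralizer ({g} : Set G)

theorem mem_Yf {W : Subgroup G} {g x : G} : x ∈ Yf W g ↔ x ∈ W ∧ x * g = g * x := by
  rw [Subgroup.mem_inf, Subgroup.mem_centralizer_iff]
  constructor
  · rintro ⟨h1, h2⟩
    exact ⟨h1, (h2 g rfl).symm⟩
  · rintro ⟨h1, h2⟩
    refine ⟨h1, fun w hw => ?_⟩
    rw [Set.mem_singleton_iff.1 hw]
    exact h2.symm

structure OneZ (p : ℕ) (W E : Subgroup G) (a b z : G) : Prop extends OneInv p W E a b where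
  hzW : z ∈ W
  hz2 : orderOf z = 2
  hzc : ∀ w ∈ W, z * w = w * z
  hzE : ∀ e ∈ E, z * e = e * z

namespace OneZ

variable {W E : Subgroup G} {a b z : G} (h : OneZ p W E a b z)
include h

theorem zz : z * z = 1 := by
  have := pow_orderOf_eq_one z
  rwa [h.hz2, pow_two] at this

theorem z_ne : z ≠ 1 := by
  intro h1
  have := h.hz2
  rw [h1, orderOf_one] at this
  omega

theorem mem_Zz {w : G} : w ∈ Subgroup.zpowers z ↔ w = 1 ∨ w = z := by
  constructor
  · intro hw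
    obtain ⟨n, hn⟩ := mem_powers_iff_mem_zpowers.2 hw
    have hn' : z ^ n = w := hn
    rcases Nat.even_or_odd n with hev | hod
    · left
      rw [← hn']
      obtain ⟨k, rfl⟩ := hev
      rw [← two_mul, pow_mul, pow_two, h.zz, one_pow]
    · right
      rw [← hn']
      obtain ⟨k, rfl⟩ := hod
      rw [pow_succ, pow_mul, pow_two, h.zz, one_pow, one_mul]
  · rintro (rfl | rfl)
    · exact Subgroup.one_mem _
    · exact Subgroup.mem_zpowers _

theorem Zz_le : Subgroup.zpowers z ≤ W := by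
  simpa using h.hzW

theorem Zz_central {w y : G} (hw : w ∈ Subgroup.zpowers z) (hy : y ∈ W) : w * y = y * w := by
  rcases h.mem_Zz.1 hw with rfl | rfl
  · simp
  · exact h.hzc y hy

theorem Zz_comm_E {w y : G} (hw : w ∈ Subgroup.zpowers z) (hy : y ∈ E) : w * y = y * w := by
  rcases h.mem_Zz.1 hw with rfl | rfl
  · simp
  · exact h.hzE y hy

theorem W_norm_Zz {x : G} (hx : x ∈ W) : x ∈ Subgroup.normalizer ((Subgroup.zpowers z : Subgroup G) : Set G) :=
  mem_normalizer_zpowers_of_comm (h.hzc x hx).symm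

theorem E_norm_Zz {x : G} (hx : x ∈ E) : x ∈ Subgroup.normalizer ((Subgroup.zpowers z : Subgroup G) : Set G) :=
  mem_normalizer_zpowers_of_comm (h.hzE x hx).symm

theorem invol_eq {g v : G} (hg : g ∈ E) (hg1 : g ≠ 1) (hv : v ∈ W) (hov : orderOf v = 2)
    (hvg : v * g = g * v) : v = z :=
  h.fix g hg hg1 v hv z h.hzW hov h.hz2 hvg.symm (h.hzE g hg).symm

theorem Yf_norm {g e : G} (hg : g ∈ E) (he : e ∈ E) :
    e ∈ Subgroup.normalizer ((Yf W g : Subgroup G) : Set G) := by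
  apply mem_normalizer_of_map_conj_le
  rintro _ ⟨x, hx, rfl⟩
  have hx' := mem_Yf.1 hx
  refine mem_Yf.2 ⟨(Subgroup.mem_normalizer_iff.1 (h.norm he) x).1 hx'.1, ?_⟩
  have hc1 : Commute g e := h.comm g hg e he
  have hc2 : Commute g x := hx'.2.symm
  exact (((hc1.mul_right hc2).mul_right hc1.inv_right).eq).symm

theorem z_mem_Yf {g : G} (hg : g ∈ E) : z ∈ Yf W g := mem_Yf.2 ⟨h.hzW, h.hzE g hg⟩

theorem uniqueP {g : G} (hg : g ∈ E) (hg1 : g ≠ 1) : H14.UniqueP 2 ↥(Yf W g) := by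
  rintro ⟨x, hx⟩ ⟨y, hy⟩ hxo hyo
  rw [Subgroup.orderOf_mk] at hxo hyo
  rw [mem_Yf] at hx hy
  have h1 := h.invol_eq hg hg1 hx.1 hxo hx.2
  have h2 := h.invol_eq hg hg1 hy.1 hyo hy.2
  have h3 : (⟨y, mem_Yf.2 hy⟩ : Yf W g) = ⟨x, mem_Yf.2 hx⟩ := Subtype.ext (h2.trans h1.symm)
  rw [h3]
  exact Subgroup.mem_zpowers _

/-- An element of `E` acts trivially on `Y` when `Aut(Y)` is a `2`-group. -/
theorem comm_of_aut {Y : Subgroup G} (hYE : E ≤ Subgroup.normalizer (Y : Set G))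
    (hA : IsPGroup 2 (MulAut ↥Y)) {c y : G} (hc : c ∈ E) (hy : y ∈ Y) : c * y = y * c := by
  set σ := Y.normalizerMonoidHom ⟨c, hYE hc⟩ with hσ
  have hσ1 : σ = 1 := by
    obtain ⟨n, hn⟩ := hA σ
    obtain ⟨m, hm⟩ := h.pg ⟨c, hc⟩
    have hm' : c ^ p ^ m = 1 := congrArg Subtype.val hm
    have h3 : σ ^ p ^ m = 1 := by
      rw [hσ, ← map_pow]
      have : (⟨c, hYE hc⟩ : Subgroup.normalizer (Y : Set G)) ^ p ^ m = 1 := Subtype.ext hm'
      rw [this, map_one]
    have h4 : orderOf σ ∣ Nat.gcd (2 ^ n) (p ^ m) :=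
      Nat.dvd_gcd (orderOf_dvd_of_pow_eq_one hn) (orderOf_dvd_of_pow_eq_one h3)
    have h5 : Nat.gcd (2 ^ n) (p ^ m) = 1 := by
      apply Nat.Coprime.pow
      exact (Nat.coprime_primes Nat.prime_two Fact.out).2 h.odd.symm
    rw [h5, Nat.dvd_one, orderOf_eq_one_iff] at h4
    exact h4
  have h6 : σ ⟨y, hy⟩ = ⟨y, hy⟩ := by rw [hσ1]; rfl
  have h7 : c * y * c⁻¹ = y := congrArg Subtype.val h6
  calc c * y = c * y * c⁻¹ * c := by group
    _ = y * c := by rw [h7]

/-- The dichotomy for `C_W(g)`. -/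
theorem piece {g : G} (hg : g ∈ E) (hg1 : g ≠ 1) :
    (∀ c ∈ E, ∀ y ∈ Yf W g, c * y = y * c) ∨ (Nat.card ↥(Yf W g) = 8 ∧ ∀ y ∈ Yf W g, y ^ 4 = 1) := by
  haveI : Fact (Nat.Prime 2) := ⟨Nat.prime_two⟩
  have hYE : E ≤ Subgroup.normalizer ((Yf W g : Subgroup G) : Set G) := fun e he => h.Yf_norm hg he
  have h2 : IsPGroup 2 ↥(Yf W g) := h.two.to_le inf_le_left
  obtain hc | ⟨-, k, hk, ⟨e⟩⟩ := H14.isCyclic_or_quaternion h2 (h.uniqueP hg hg1)
  · left
    intro c hc' y hy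
    apply h.comm_of_aut hYE _ hc' hy
    obtain ⟨n, hn⟩ := IsPGroup.iff_card.1 h2
    apply IsPGroup.of_card (n := n - 1)
    rw [IsCyclic.card_mulAut, hn]
    rcases n with _ | n
    · simp
    · rw [Nat.totient_prime_pow_succ Nat.prime_two]
      simp
  · by_cases hk2 : 2 ≤ k
    · left
      intro c hc' y hy
      exact h.comm_of_aut hYE (H24.isPGroup_mulAut_congr e (H24.isPGroup_mulAut_quaternion hk2)) hc' hy
    · have hk1 : k = 1 := by omega
      subst hk1
      right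
      constructor
      · rw [Nat.card_congr e.toEquiv, Nat.card_eq_fintype_card, QuaternionGroup.card]
        norm_num
      · intro y hy
        have h3 : ∀ x : QuaternionGroup (2 ^ 1), x ^ 4 = 1 := by decide
        have h4 := h3 (e ⟨y, hy⟩)
        rw [← map_pow, map_eq_one_iff _ e.injective] at h4
        exact congrArg Subtype.val h4

/-- Counting fixed points on a group of order `8`. -/
theorem eight_count {Y : Subgroup G} (hYE : E ≤ Subgroup.normalizer (Y : Set G)) (hzY : z ∈ Y)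
    (hc8 : Nat.card Y = 8) {c : G} (hc : c ∈ E) (hcy : ∃ y ∈ Y, c * y ≠ y * c) :
    p = 3 ∧ ∀ y ∈ Y, y * c = c * y → y ∈ Subgroup.zpowers z := by
  classical
  haveI : Fintype ↥Y := Fintype.ofFinite _
  set F₀ := Y ⊓ Subgroup.centralizer ({c} : Set G) with hF₀
  have hmem : ∀ y, y ∈ F₀ ↔ y ∈ Y ∧ y * c = c * y := fun y => mem_Yf
  let f : Function.End ↥Y := fun y => ⟨c * y * c⁻¹, (Subgroup.mem_normalizer_iff.1 (hYE hc) y).1 y.2⟩
  have hfpow : ∀ (n : ℕ) (y : Y), ((f ^ n) y : G) = c ^ n * y * (c ^ n)⁻¹ := by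
    intro n
    induction n with
    | zero => intro y; simp only [pow_zero, inv_one, one_mul, mul_one]; rfl
    | succ n ih =>
      intro y
      rw [pow_succ]
      show (((f ^ n) (f y) : Y) : G) = _
      rw [ih]
      show c ^ n * (c * y * c⁻¹) * (c ^ n)⁻¹ = _
      rw [pow_succ]
      group
  obtain ⟨m, hm⟩ := h.pg ⟨c, hc⟩
  have hm' : c ^ p ^ m = 1 := congrArg Subtype.val hm
  have hfm : f ^ p ^ m = 1 := by
    funext y
    apply Subtype.ext
    rw [hfpow, hm']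
    simp only [one_mul, inv_one, mul_one]
    rfl
  have hmod := Equiv.Perm.card_fixedPoints_modEq hfm
  have hfixcard : Fintype.card ↑(Function.fixedPoints f) = Nat.card F₀ := by
    rw [← Nat.card_eq_fintype_card]
    apply Nat.card_congr
    refine ⟨fun y => ⟨y.1.1, (hmem _).2 ⟨y.1.2, ?_⟩⟩, fun y => ⟨⟨y.1, ((hmem _).1 y.2).1⟩, ?_⟩, ?_, ?_⟩
    · have h2 : c * (y.1 : G) * c⁻¹ = y.1 := congrArg Subtype.val y.2
      calc (y.1 : G) * c = c * (y.1 : G) * c⁻¹ * c := by rw [h2]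
        _ = c * y.1 := by group
    · apply Subtype.ext
      show c * (y.1 : G) * c⁻¹ = y.1
      rw [← ((hmem _).1 y.2).2]
      group
    · intro y; rfl
    · intro y; rfl
  rw [hfixcard, Fintype.card_eq_nat_card, hc8] at hmod
  have hdvd : Nat.card F₀ ∣ 8 := by
    rw [← hc8]
    exact Subgroup.card_dvd_of_le inf_le_left
  have hF₀ne : Nat.card F₀ ≠ 8 := by
    intro h8
    obtain ⟨y, hy, hyc⟩ := hcy
    have h9 : F₀ = Y := Subgroup.eq_of_le_of_card_ge inf_le_left (by rw [hc8, h8])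
    have h10 : y ∈ F₀ := h9 ▸ hy
    exact hyc ((hmem _).1 h10).2.symm
  have hzF : z ∈ F₀ := (hmem _).2 ⟨hzY, h.hzE c hc⟩
  have hF₀1 : Nat.card F₀ ≠ 1 := by
    intro h1
    have h2 := Subgroup.card_eq_one.1 h1
    rw [h2, Subgroup.mem_bot] at hzF
    exact h.z_ne hzF
  have hcases : Nat.card F₀ = 2 ∨ Nat.card F₀ = 4 := by
    have h1 : Nat.card F₀ ∈ Nat.divisors 8 := Nat.mem_divisors.2 ⟨hdvd, by norm_num⟩
    have h2 : Nat.divisors 8 = {1, 2, 4, 8} := by decide
    rw [h2] at h1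
    simp only [Finset.mem_insert, Finset.mem_singleton] at h1
    omega
  have hpprime : p.Prime := Fact.out
  have hcard2 : Nat.card F₀ = 2 ∧ p = 3 := by
    rcases hcases with h1 | h1
    · rw [h1] at hmod
      have h2 : p ∣ 8 - 2 := (Nat.modEq_iff_dvd' (by norm_num)).1 hmod.symm
      have h3 : p ∣ 2 * 3 := by simpa using h2
      rcases (Nat.Prime.dvd_mul hpprime).1 h3 with h4 | h4
      · exact absurd ((Nat.prime_dvd_prime_iff_eq hpprime Nat.prime_two).1 h4) h.odd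
      · exact ⟨h1, (Nat.prime_dvd_prime_iff_eq hpprime Nat.prime_three).1 h4⟩
    · rw [h1] at hmod
      have h2 : p ∣ 8 - 4 := (Nat.modEq_iff_dvd' (by norm_num)).1 hmod.symm
      have h3 : p ∣ 2 ^ 2 := by simpa using h2
      exact absurd ((Nat.prime_dvd_prime_iff_eq hpprime Nat.prime_two).1 (hpprime.dvd_of_dvd_pow h3)) h.odd
  refine ⟨hcard2.2, fun y hy hyc => ?_⟩
  have h4 : Subgroup.zpowers z = F₀ := by
    apply Subgroup.eq_of_le_of_card_ge (by simpa using hzF)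
    rw [hcard2.1, Nat.card_zpowers, h.hz2]
  rw [h4]
  exact (hmem _).2 ⟨hy, hyc⟩

end OneZ

end

end Cfsg.Agent.H13
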