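import Mathlib
import Cfsg.Agent.Lib.H13.OneInv
import Cfsg.Agent.Lib.H13.Q8Act

set_option autoImplicit false
set_option linter.unusedSectionVars false
set_option linter.style.haveILetI false

namespace Cfsg.Agent.H13

open Cfsg
open scoped commutatorElement

section

variable {G : Type*} [Group G] [Finite G] {p : ℕ} [Fact p.Prime]

namespace OneZ

variable {W E : Subgroup G} {a b z : G} (h : OneZ p W E a b z)
include h

/-- A first piece: `p = 3`, and `C_W(E) ≤ ⟨z⟩`. -/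
theorem exists_q : ∃ g₀ ∈ E, g₀ ≠ 1 ∧ Nat.card ↥(Yf W g₀) = 8 ∧ p = 3 ∧
    ∀ w ∈ W, (∀ e ∈ E, w * e = e * w) → w ∈ Subgroup.zpowers z := by
  by_contra hcon
  have hall : ∀ g ∈ E, g ≠ 1 → ∀ c ∈ E, ∀ y ∈ Yf W g, c * y = y * c := by
    by_contra hne
    push Not at hne
    obtain ⟨g, hg, hg1, c, hc, y, hy, hcy⟩ := hne
    have hYE : E ≤ Subgroup.normalizer ((Yf W g : Subgroup G) : Set G) :=
      fun e he => h.Yf_norm hg he
    have h8 : Nat.card ↥(Yf W g) = 8 := by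
      rcases h.piece hg hg1 with h1 | h1
      · exact absurd (h1 c hc y hy) hcy
      · exact h1.1
    obtain ⟨h3, h4⟩ := h.eight_count hYE (h.z_mem_Yf hg) h8 hc ⟨y, hy, hcy⟩
    apply hcon
    refine ⟨g, hg, hg1, h8, h3, fun w hw hwE => h4 w (mem_Yf.2 ⟨hw, hwE g hg⟩) (hwE c hc)⟩
  have hW : W ≤ Subgroup.centralizer (E : Set G) := by
    apply h.gen le_rfl h.norm
    intro g hg hg1 v hv hvg
    rw [Subgroup.mem_centralizer_iff]
    intro e he
    exact hall g hg hg1 e he v (mem_Yf.2 ⟨hv, hvg⟩)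
  apply h.a_ne_one
  apply h.faith a h.ha
  intro w hw
  exact Subgroup.mem_centralizer_iff.1 (hW hw) a h.ha

end OneZ

/-- Setting with `p = 3` and the fixed points under control. -/
structure OneF (p : ℕ) (W E : Subgroup G) (a b z : G) : Prop extends OneZ p W E a b z where
  hp3 : p = 3
  hF : ∀ w ∈ W, (∀ e ∈ E, w * e = e * w) → w ∈ Subgroup.zpowers z

/-- The quaternion data. -/
structure Q8Pair (Q : Subgroup G) (x y z : G) : Prop where
  hx : x ∈ Q
  hy : y ∈ Q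
  xx : x * x = z
  yy : y * y = z
  xy : x * y = z * (y * x)
  span : ∀ S : Subgroup G, x ∈ S → y ∈ S → Q ≤ S

namespace OneF

variable {W E : Subgroup G} {a b z : G} (h : OneF p W E a b z)
include h

theorem sq {g x : G} (hg : g ∈ E) (hg1 : g ≠ 1) (hx : x ∈ Yf W g)
    (hxz : x ∉ Subgroup.zpowers z) :
    Nat.card ↥(Yf W g) = 8 ∧ x * x = z ∧ ∃ c ∈ E, c * x ≠ x * c := by
  have hx' := mem_Yf.1 hx
  have hmove : ∃ c ∈ E, c * x ≠ x * c := by
    by_contra hne
    push Not at hne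
    exact hxz (h.hF x hx'.1 fun e he => (hne e he).symm)
  have h8 : Nat.card ↥(Yf W g) = 8 ∧ ∀ y ∈ Yf W g, y ^ 4 = 1 := by
    rcases h.piece hg hg1 with h1 | h1
    · obtain ⟨c, hc, hcx⟩ := hmove
      exact absurd (h1 c hc x hx) hcx
    · exact h1
  refine ⟨h8.1, ?_, hmove⟩
  have hx1 : x ≠ 1 := fun h1 => hxz (h1 ▸ Subgroup.one_mem _)
  have hxx : x * x ≠ 1 := by
    intro h1
    have h2 : orderOf x = 2 := orderOf_eq_prime (by rw [pow_two]; exact h1) hx1
    have h3 := h.invol_eq hg hg1 hx'.1 h2 hx'.2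
    exact hxz (h3 ▸ Subgroup.mem_zpowers _)
  have hor : orderOf (x * x) = 2 := by
    apply orderOf_eq_prime _ hxx
    have := h8.2 x hx
    rw [show x * x = x ^ 2 by rw [pow_two], ← pow_mul]
    exact this
  have hmem : x * x ∈ Yf W g := (Yf W g).mul_mem hx hx
  exact h.invol_eq hg hg1 (mem_Yf.1 hmem).1 hor (mem_Yf.1 hmem).2

theorem q8pair {g x : G} (hg : g ∈ E) (hg1 : g ≠ 1) (hx : x ∈ Yf W g)
    (hxz : x ∉ Subgroup.zpowers z) :
    Nat.card ↥(Yf W g) = 8 ∧ ∃ c ∈ E, Q8Pair (Yf W g) x (c * x * c⁻¹) z := by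
  obtain ⟨h8, hxx, c, hc, hcx⟩ := h.sq hg hg1 hx hxz
  refine ⟨h8, c, hc, ?_⟩
  have hYE : c ∈ Subgroup.normalizer ((Yf W g : Subgroup G) : Set G) := h.Yf_norm hg hc
  have hyQ : c * x * c⁻¹ ∈ Yf W g := (Subgroup.mem_normalizer_iff.1 hYE x).1 hx
  set y := c * x * c⁻¹ with hy
  have hzc : z * c = c * z := h.hzE c hc
  have hyy : y * y = z := by
    calc y * y = c * (x * x) * c⁻¹ := by rw [hy]; group
      _ = c * z * c⁻¹ := by rw [hxx]
      _ = z * c * c⁻¹ := by rw [hzc]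
      _ = z := by group
  have hzz := h.zz
  have hzne := h.z_ne
  have hx1 : x ≠ 1 := fun h1 => hxz (h1 ▸ Subgroup.one_mem _)
  have hWx : x ∈ W := (mem_Yf.1 hx).1
  have hWy : y ∈ W := (mem_Yf.1 hyQ).1
  have hxy1 : y ≠ x := by
    intro h1
    apply hcx
    calc c * x = (c * x * c⁻¹) * c := by group
      _ = x * c := by rw [← hy, h1]
  have hxy2 : y ≠ x * z := by
    intro h1
    have hodd : Odd (orderOf c) := by
      obtain ⟨m, hm⟩ := h.pg ⟨c, hc⟩
      have hm' : c ^ p ^ m = 1 := congrArg Subtype.val hm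
      obtain ⟨k, -, hk⟩ := (Nat.dvd_prime_pow (Fact.out : p.Prime)).1 (orderOf_dvd_of_pow_eq_one hm')
      rw [hk]
      apply Odd.pow
      exact (Fact.out : p.Prime).odd_of_ne_two h.odd
    exact hzne (odd_stable (e := 1) hodd (by rw [pow_one, pow_two]; exact hzz) hzc.symm h1)
  have hxinv : x⁻¹ = x * z := by
    apply inv_eq_of_mul_eq_one_right
    rw [← mul_assoc, hxx, hzz]
  have hyinv : y⁻¹ = y * z := by
    apply inv_eq_of_mul_eq_one_right
    rw [← mul_assoc, hyy, hzz]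
  have hzx : x * z = z * x := (h.hzc x hWx).symm
  have hzy : y * z = z * y := (h.hzc y hWy).symm
  have hxyz : x * y ∉ Subgroup.zpowers z := by
    intro h1
    rcases h.mem_Zz.1 h1 with h2 | h2
    · apply hxy2
      rw [← hxinv]
      exact eq_inv_of_mul_eq_one_right h2
    · apply hxy1
      have h3 : x * y = x * x := by rw [h2, hxx]
      exact mul_left_cancel h3
  have hxyQ : x * y ∈ Yf W g := (Yf W g).mul_mem hx hyQ
  have hxyxy : (x * y) * (x * y) = z := (h.sq hg hg1 hxyQ hxyz).2.1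
  have hcomm : x * y = z * (y * x) := by
    have h1 : x * y = (x * y) * (x * y) * y⁻¹ * x⁻¹ := by group
    rw [hxyxy, hyinv, hxinv] at h1
    rw [h1]
    calc z * (y * z) * (x * z) = z * (y * (z * x)) * z := by group
      _ = z * (y * (x * z)) * z := by rw [hzx]
      _ = z * (y * x) * (z * z) := by group
      _ = z * (y * x) := by rw [hzz, mul_one]
  refine ⟨hx, hyQ, hxx, hyy, hcomm, fun S hxS hyS => ?_⟩
  -- order of `x`
  have hox : orderOf x = 2 ^ 2 := by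
    apply orderOf_eq_prime_pow (p := 2) (n := 1)
    · rw [pow_one, pow_two, hxx]
      exact hzne
    · show x ^ 2 ^ 2 = 1
      rw [show (2 : ℕ) ^ 2 = 2 + 2 by norm_num, pow_add, pow_two, hxx, hzz]
  set S' := S ⊓ Yf W g with hS'
  have hle : S' ≤ Yf W g := inf_le_right
  have hdvd : Nat.card S' ∣ 8 := h8 ▸ Subgroup.card_dvd_of_le hle
  have hzS : Subgroup.zpowers x ≤ S' := by
    rw [Subgroup.zpowers_le]
    exact ⟨hxS, hx⟩
  have hdvd4 : 4 ∣ Nat.card S' := by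
    have := Subgroup.card_dvd_of_le hzS
    rw [Nat.card_zpowers, hox] at this
    simpa using this
  have hne4 : Nat.card S' ≠ 4 := by
    intro h4
    have h5 : Subgroup.zpowers x = S' :=
      Subgroup.eq_of_le_of_card_ge hzS (by rw [h4, Nat.card_zpowers, hox]; norm_num)
    have h6 : y ∈ Subgroup.zpowers x := h5 ▸ (show y ∈ S' from ⟨hyS, hyQ⟩)
    have h7 : x ^ 4 = 1 := by
      rw [show (4 : ℕ) = 2 + 2 by norm_num, pow_add, pow_two, hxx, hzz]
    obtain ⟨i, hi⟩ := mem_zpowers_four h7 h6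
    fin_cases i
    · apply hxz
      have h8 : y = 1 := by simpa using hi
      rw [h8] at hyQ hyy
      rw [one_mul] at hyy
      exact (hzne hyy.symm).elim
    · exact hxy1 (by simpa using hi)
    · have h8 : y = x ^ 2 := by simpa using hi
      rw [pow_two, hxx] at h8
      rw [h8, hzz] at hyy
      exact (hzne hyy.symm).elim
    · have h8 : y = x ^ 3 := by simpa using hi
      rw [pow_succ, pow_two, hxx, ← hzx] at h8
      exact hxy2 h8
  have h8' : Nat.card S' = 8 := by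
    obtain ⟨k, hk⟩ := hdvd4
    rw [hk] at hdvd hne4
    have hk1 : k ∣ 2 := by
      have : 4 * k ∣ 4 * 2 := hdvd
      exact (Nat.mul_dvd_mul_iff_left (by norm_num)).1 this
    have hk2 : k = 1 ∨ k = 2 := (Nat.dvd_prime Nat.prime_two).1 hk1
    rcases hk2 with rfl | rfl
    · exact absurd rfl hne4
    · rw [hk]
  have h9 : S' = Yf W g := Subgroup.eq_of_le_of_card_ge hle (by rw [h8, h8'])
  rw [← h9]
  exact inf_le_left

theorem exists_omega {C : Subgroup G} (hCW : C ≤ W) (hne : ¬ C ≤ Subgroup.zpowers z) :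
    ∃ m ∈ C, m ∉ Subgroup.zpowers z ∧ m * m ∈ Subgroup.zpowers z ∧
      ∀ u ∈ C, m * u * m⁻¹ * u⁻¹ ∈ Subgroup.zpowers z := by
  haveI : Fact (Nat.Prime 2) := ⟨Nat.prime_two⟩
  set Zz := Subgroup.zpowers z with hZz
  set N : Subgroup C := Zz.subgroupOf C with hN
  have hNmem : ∀ u : C, u ∈ N ↔ (u : G) ∈ Zz := fun u => Subgroup.mem_subgroupOf
  haveI hNn : N.Normal := by
    constructor
    intro n hn g
    rw [hNmem] at hn ⊢
    have h1 : ((g * n * g⁻¹ : C) : G) = n := by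
      have h2 := h.toOneZ.Zz_central hn (hCW g.2)
      show (g : G) * n * (g : G)⁻¹ = n
      rw [← h2]
      group
    rw [h1]
    exact hn
  have h2C : IsPGroup 2 C := h.two.to_le hCW
  have h2Q : IsPGroup 2 (C ⧸ N) := h2C.to_quotient N
  haveI : Nontrivial (C ⧸ N) := by
    obtain ⟨m, hm, hmz⟩ := Set.not_subset.1 hne
    refine ⟨⟨QuotientGroup.mk ⟨m, hm⟩, 1, ?_⟩⟩
    intro h3
    rw [QuotientGroup.eq_one_iff, hNmem] at h3
    exact hmz h3
  haveI hnt := h2Q.center_nontrivial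
  have h2Z : IsPGroup 2 (Subgroup.center (C ⧸ N)) := h2Q.to_subgroup _
  obtain ⟨t, ht⟩ : ∃ t : Subgroup.center (C ⧸ N), orderOf t = 2 := by
    apply exists_prime_orderOf_dvd_card'
    obtain ⟨k, hk⟩ := IsPGroup.iff_card.1 h2Z
    rw [hk]
    have hk0 : k ≠ 0 := by
      rintro rfl
      have h3 : Nat.card (Subgroup.center (C ⧸ N)) = 1 := by simpa using hk
      exact (Finite.one_lt_card).ne' h3
    exact dvd_pow_self 2 hk0
  obtain ⟨m, hm⟩ := QuotientGroup.mk_surjective (s := N) (t : C ⧸ N)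
  have ht2 : t * t = 1 := by
    have := pow_orderOf_eq_one t
    rwa [ht, pow_two] at this
  have ht1 : t ≠ 1 := by
    rintro rfl
    rw [orderOf_one] at ht
    omega
  refine ⟨m, m.2, ?_, ?_, ?_⟩
  · intro h3
    apply ht1
    apply Subtype.ext
    rw [← hm]
    exact (QuotientGroup.eq_one_iff _).2 ((hNmem _).2 h3)
  · have h3 : ((m * m : C) : C ⧸ N) = 1 := by
      rw [QuotientGroup.mk_mul, hm]
      exact congrArg Subtype.val ht2
    exact (hNmem _).1 ((QuotientGroup.eq_one_iff _).1 h3)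
  · intro u hu
    have h3 : ((m * ⟨u, hu⟩ * m⁻¹ * (⟨u, hu⟩ : C)⁻¹ : C) : C ⧸ N) = 1 := by
      rw [QuotientGroup.mk_mul, QuotientGroup.mk_mul, QuotientGroup.mk_mul, QuotientGroup.mk_inv,
        QuotientGroup.mk_inv, hm]
      have h4 := Subgroup.mem_center_iff.1 t.2 (QuotientGroup.mk (⟨u, hu⟩ : C))
      rw [← h4]
      group
    exact (hNmem _).1 ((QuotientGroup.eq_one_iff _).1 h3)

/-- The preimage of `Ω₁(Z(C/⟨z⟩))`. -/
def omegaMod (C : Subgroup G) (hCW : C ≤ W) : Subgroup G where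
  carrier := {m | m ∈ C ∧ m * m ∈ Subgroup.zpowers z ∧
    ∀ u ∈ C, m * u * m⁻¹ * u⁻¹ ∈ Subgroup.zpowers z}
  one_mem' := ⟨C.one_mem, by simp, by simp⟩
  mul_mem' := by
    rintro m n ⟨hm, hm2, hm3⟩ ⟨hn, hn2, hn3⟩
    have hZ := h.toOneZ
    refine ⟨C.mul_mem hm hn, ?_, fun u hu => ?_⟩
    · have h1 : n * m * n⁻¹ * m⁻¹ ∈ Subgroup.zpowers z := hn3 m hm
      have hc := hZ.Zz_central h1 (hCW hm)
      have : m * n * (m * n) = (n * m * n⁻¹ * m⁻¹) * (m * m) * (n * n) := by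
        calc m * n * (m * n) = m * ((n * m * n⁻¹ * m⁻¹) * (m * n * n)) := by group
          _ = (m * (n * m * n⁻¹ * m⁻¹)) * (m * n * n) := by group
          _ = ((n * m * n⁻¹ * m⁻¹) * m) * (m * n * n) := by rw [hc]
          _ = _ := by group
      rw [this]
      exact Subgroup.mul_mem _ (Subgroup.mul_mem _ h1 hm2) hn2
    · have h1 : n * u * n⁻¹ * u⁻¹ ∈ Subgroup.zpowers z := hn3 u hu
      have h2 : m * u * m⁻¹ * u⁻¹ ∈ Subgroup.zpowers z := hm3 u hu
      have hc := hZ.Zz_central h1 (hCW hm)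
      have : m * n * u * (m * n)⁻¹ * u⁻¹ = (n * u * n⁻¹ * u⁻¹) * (m * u * m⁻¹ * u⁻¹) := by
        calc m * n * u * (m * n)⁻¹ * u⁻¹ = (m * (n * u * n⁻¹ * u⁻¹)) * (u * m⁻¹ * u⁻¹) := by group
          _ = ((n * u * n⁻¹ * u⁻¹) * m) * (u * m⁻¹ * u⁻¹) := by rw [hc]
          _ = _ := by group
      rw [this]
      exact Subgroup.mul_mem _ h1 h2
  inv_mem' := by
    rintro m ⟨hm, hm2, hm3⟩
    have hZ := h.toOneZ
    refine ⟨C.inv_mem hm, ?_, fun u hu => ?_⟩
    · have : m⁻¹ * m⁻¹ = (m * m)⁻¹ := by group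
      rw [this]
      exact Subgroup.inv_mem _ hm2
    · have h2 : m * u * m⁻¹ * u⁻¹ ∈ Subgroup.zpowers z := hm3 u hu
      have hc := hZ.Zz_central h2 (hCW (C.inv_mem hm))
      have : m⁻¹ * u * m⁻¹⁻¹ * u⁻¹ = (m⁻¹ * (m * u * m⁻¹ * u⁻¹) * m)⁻¹ := by group
      rw [this, ← hc, mul_assoc, inv_mul_cancel, mul_one]
      exact Subgroup.inv_mem _ h2

theorem mem_omegaMod {C : Subgroup G} {hCW : C ≤ W} {m : G} :
    m ∈ h.omegaMod C hCW ↔ m ∈ C ∧ m * m ∈ Subgroup.zpowers z ∧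
      ∀ u ∈ C, m * u * m⁻¹ * u⁻¹ ∈ Subgroup.zpowers z := Iff.rfl

theorem omegaMod_norm {C : Subgroup G} {hCW : C ≤ W} (hCE : E ≤ Subgroup.normalizer (C : Set G)) :
    E ≤ Subgroup.normalizer ((h.omegaMod C hCW : Subgroup G) : Set G) := by
  intro e he
  apply mem_normalizer_of_map_conj_le
  rintro _ ⟨m, hm, rfl⟩
  obtain ⟨hm1, hm2, hm3⟩ := hm
  have hZ := h.toOneZ
  have hconj : ∀ w ∈ Subgroup.zpowers z, e * w * e⁻¹ ∈ Subgroup.zpowers z := by
    intro w hw
    have := hZ.Zz_comm_E hw he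
    rw [← this]
    simpa using hw
  refine ⟨(Subgroup.mem_normalizer_iff.1 (hCE he) m).1 hm1, ?_, fun u hu => ?_⟩
  · show e * m * e⁻¹ * (e * m * e⁻¹) ∈ _
    have : e * m * e⁻¹ * (e * m * e⁻¹) = e * (m * m) * e⁻¹ := by group
    rw [this]
    exact hconj _ hm2
  · show e * m * e⁻¹ * u * (e * m * e⁻¹)⁻¹ * u⁻¹ ∈ _
    have hu' : e⁻¹ * u * e ∈ C := by
      have := (Subgroup.mem_normalizer_iff.1 (hCE (E.inv_mem he)) u).1 hu
      simpa using this
    have h2 := hconj _ (hm3 _ hu')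
    have : e * m * e⁻¹ * u * (e * m * e⁻¹)⁻¹ * u⁻¹ =
        e * (m * (e⁻¹ * u * e) * m⁻¹ * (e⁻¹ * u * e)⁻¹) * e⁻¹ := by group
    rw [this]
    exact h2

theorem decomp {Q : Subgroup G} {x y u : G} (hQ : Q8Pair Q x y z) (hxW : x ∈ W) (hyW : y ∈ W)
    (h1 : x * u * x⁻¹ * u⁻¹ ∈ Subgroup.zpowers z) (h2 : y * u * y⁻¹ * u⁻¹ ∈ Subgroup.zpowers z) :
    ∃ q ∈ Q, ∀ v ∈ Q, (q⁻¹ * u) * v = v * (q⁻¹ * u) := by
  have hZ := h.toOneZ
  have hzz := hZ.zz
  have hQW : ∀ (q cx cy : G), q ∈ Q → q ∈ W → cx ∈ Subgroup.zpowers z → cy ∈ Subgroup.zpowers z →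
      x * q = cx * (q * x) → y * q = cy * (q * y) → x * u = cx * (u * x) → y * u = cy * (u * y) →
      ∃ q ∈ Q, ∀ v ∈ Q, (q⁻¹ * u) * v = v * (q⁻¹ * u) := by
    intro q cx cy hq hqW hcx hcy hxq hyq hxu hyu
    refine ⟨q, hq, ?_⟩
    have hcc : ∀ c ∈ Subgroup.zpowers z, c * c = 1 := by
      intro c hc
      rcases hZ.mem_Zz.1 hc with rfl | rfl
      · simp
      · exact hzz
    have aux : ∀ (t c : G), c ∈ Subgroup.zpowers z → t * q = c * (q * t) →
        t * u = c * (u * t) → (q⁻¹ * u) * t = t * (q⁻¹ * u) := by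
      intro t c hc htq htu
      have hcq : c * q = q * c := hZ.Zz_central hc hqW
      have h3 : q⁻¹ * t = c * (t * q⁻¹) := by
        apply mul_right_cancel (b := q)
        calc q⁻¹ * t * q = q⁻¹ * (t * q) := by group
          _ = q⁻¹ * (c * q) * t := by rw [htq]; group
          _ = q⁻¹ * (q * c) * t := by rw [hcq]
          _ = c * t := by group
          _ = c * (t * q⁻¹) * q := by group
      have h4 : u * t = c * (t * u) := by
        rw [htu, ← mul_assoc, ← mul_assoc, hcc c hc, one_mul]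
      calc q⁻¹ * u * t = q⁻¹ * (u * t) := by group
        _ = q⁻¹ * (c * (t * u)) := by rw [h4]
        _ = (q⁻¹ * c) * (t * u) := by group
        _ = (c * q⁻¹) * (t * u) := by rw [hZ.Zz_central hc (W.inv_mem hqW)]
        _ = c * (q⁻¹ * t) * u := by group
        _ = c * (c * (t * q⁻¹)) * u := by rw [h3]
        _ = (c * c) * (t * q⁻¹) * u := by group
        _ = t * (q⁻¹ * u) := by rw [hcc c hc]; group
    have h5 := aux x cx hcx hxq hxu
    have h6 := aux y cy hcy hyq hyu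
    have h7 : Q ≤ Subgroup.centralizer ({q⁻¹ * u} : Set G) := by
      apply hQ.span
      · rw [Subgroup.mem_centralizer_singleton_iff]; exact h5.symm
      · rw [Subgroup.mem_centralizer_singleton_iff]; exact h6.symm
    intro v hv
    have h8 := h7 hv
    rw [Subgroup.mem_centralizer_singleton_iff] at h8
    exact h8.symm
  have hxu' : x * u = (x * u * x⁻¹ * u⁻¹) * (u * x) := by group
  have hyu' : y * u = (y * u * y⁻¹ * u⁻¹) * (u * y) := by group
  have hone : (1 : G) ∈ Subgroup.zpowers z := Subgroup.one_mem _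
  have hzm : z ∈ Subgroup.zpowers z := Subgroup.mem_zpowers z
  rcases hZ.mem_Zz.1 h1 with h3 | h3 <;> rcases hZ.mem_Zz.1 h2 with h4 | h4 <;>
    rw [h3] at hxu' <;> rw [h4] at hyu'
  · exact hQW 1 1 1 (Q.one_mem) (W.one_mem) hone hone (by simp) (by simp) hxu' hyu'
  · refine hQW x 1 z hQ.hx hxW hone hzm (by simp) ?_ hxu' hyu'
    have hxy := hQ.xy
    have h9 : z * (x * y) = y * x := by rw [hxy, ← mul_assoc, hzz, one_mul]
    exact h9.symm
  · exact hQW y z 1 hQ.hy hyW hzm hone hQ.xy (by simp) hxu' hyu'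
  · refine hQW (x * y) z z (Q.mul_mem hQ.hx hQ.hy) (W.mul_mem hxW hyW) hzm hzm ?_ ?_ hxu' hyu'
    · have hzx := hZ.hzc x hxW
      calc x * (x * y) = x * (z * (y * x)) := by rw [hQ.xy]
        _ = (x * z) * (y * x) := by group
        _ = (z * x) * (y * x) := by rw [hzx]
        _ = z * (x * y * x) := by group
    · have hxy := hQ.xy
      have h9 : y * x = z * (x * y) := by rw [hxy, ← mul_assoc, hzz, one_mul]
      calc y * (x * y) = (y * x) * y := by group
        _ = z * (x * y) * y := by rw [h9]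
        _ = z * (x * y * y) := by group

/-- The quotient `C/⟨z⟩` is abelian, for every `E`-invariant `C ≤ W` containing `z`. -/
theorem comm_mod : ∀ (n : ℕ) (C : Subgroup G), Nat.card C = n → C ≤ W → z ∈ C →
    E ≤ Subgroup.normalizer (C : Set G) → ∀ u ∈ C, ∀ v ∈ C, u * v * u⁻¹ * v⁻¹ ∈ Subgroup.zpowers z := by
  intro n
  induction n using Nat.strong_induction_on with
  | _ n ih =>
    intro C hn hCW hzC hCE u hu v hv
    have hZ := h.toOneZ
    by_cases hle : C ≤ Subgroup.zpowers z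
    · have := hZ.Zz_central (hle hu) (hCW hv)
      rw [this]
      simp
    set M := h.omegaMod C hCW with hM
    have hMne : ¬ M ≤ Subgroup.zpowers z := by
      intro h1
      obtain ⟨m, hm, hmz, hm2, hm3⟩ := h.exists_omega hCW hle
      exact hmz (h1 ⟨hm, hm2, hm3⟩)
    have hMC : M ≤ C := fun m hm => hm.1
    have hMW : M ≤ W := hMC.trans hCW
    have hME : E ≤ Subgroup.normalizer (M : Set G) := h.omegaMod_norm hCE
    obtain ⟨g, hg, hg1, x, hxM, hxg, hxz⟩ : ∃ g ∈ E, g ≠ 1 ∧ ∃ x ∈ M, x * g = g * x ∧ x ∉ Subgroup.zpowers z := by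
      by_contra hcon
      push Not at hcon
      exact hMne (h.gen hMW hME hcon)
    have hxQ : x ∈ Yf W g := mem_Yf.2 ⟨hMW hxM, hxg⟩
    obtain ⟨h8, c, hc, hP⟩ := h.q8pair hg hg1 hxQ hxz
    set y := c * x * c⁻¹ with hy
    have hyM : y ∈ M := (Subgroup.mem_normalizer_iff.1 (hME hc) x).1 hxM
    have hQM : Yf W g ≤ M := hP.span M hxM hyM
    set Q := Yf W g with hQ
    have hQW : Q ≤ W := inf_le_left
    have hQE : E ≤ Subgroup.normalizer (Q : Set G) := fun e he => h.Yf_norm hg he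
    set D := C ⊓ Subgroup.centralizer (Q : Set G) with hD
    have hDmem : ∀ d, d ∈ D ↔ d ∈ C ∧ ∀ q ∈ Q, q * d = d * q := by
      intro d
      rw [hD, Subgroup.mem_inf, Subgroup.mem_centralizer_iff]
      rfl
    have hDC : D ≤ C := inf_le_left
    have hzD : z ∈ D := (hDmem z).2 ⟨hzC, fun q hq => (hZ.hzc q (hQW hq)).symm⟩
    have hDE : E ≤ Subgroup.normalizer (D : Set G) := by
      intro e he
      apply mem_normalizer_of_map_conj_le
      rintro _ ⟨d, hd, rfl⟩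
      show e * d * e⁻¹ ∈ D
      obtain ⟨hd1, hd2⟩ := (hDmem d).1 hd
      refine (hDmem _).2 ⟨(Subgroup.mem_normalizer_iff.1 (hCE he) d).1 hd1, fun q hq => ?_⟩
      have hq' : e⁻¹ * q * e ∈ Q := by
        have := (Subgroup.mem_normalizer_iff.1 (hQE (E.inv_mem he)) q).1 hq
        simpa using this
      have h2 := hd2 _ hq'
      calc q * (e * d * e⁻¹) = e * ((e⁻¹ * q * e) * d) * e⁻¹ := by group
        _ = e * (d * (e⁻¹ * q * e)) * e⁻¹ := by rw [h2]
        _ = e * d * e⁻¹ * q := by group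
    have hDlt : D < C := by
      refine lt_of_le_of_ne hDC ?_
      intro h1
      have hxD : x ∈ D := h1 ▸ hMC hxM
      have h2 := ((hDmem x).1 hxD).2 y hP.hy
      have h3 := hP.xy
      rw [← h2] at h3
      have h4 : y * x = z * (y * x) := h3
      exact hZ.z_ne (mul_eq_right.1 h4.symm)
    have hcardlt : Nat.card D < n := by
      rw [← hn]
      refine lt_of_le_of_ne (Subgroup.card_le_of_le hDC) fun h1 => hDlt.ne ?_
      exact Subgroup.eq_of_le_of_card_ge hDC h1.ge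
    have hIH := ih _ hcardlt D rfl (hDC.trans hCW) hzD hDE
    have hdec : ∀ w ∈ C, ∃ q ∈ Q, ∃ d ∈ D, w = q * d := by
      intro w hw
      obtain ⟨q, hq, hqd⟩ := h.decomp (u := w) hP (hMW hxM) (hMW hyM) (hxM.2.2 w hw) (hyM.2.2 w hw)
      refine ⟨q, hq, q⁻¹ * w, (hDmem _).2 ⟨C.mul_mem (C.inv_mem (hMC (hQM hq))) hw, fun r hr => ?_⟩, by group⟩
      exact (hqd r hr).symm
    obtain ⟨q, hq, d, hd, rfl⟩ := hdec u hu
    obtain ⟨q', hq', d', hd', rfl⟩ := hdec v hv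
    have hqC : q ∈ C := hMC (hQM hq)
    have hq1 := (hQM hq).2.2 _ hv
    have hdq : q' * d = d * q' := ((hDmem d).1 hd).2 q' hq'
    have hdd := hIH d hd d' hd'
    have hcen1 := hZ.Zz_central hdd (hCW (hMC (hQM hq')))
    have hval : d * (q' * d') * d⁻¹ * (q' * d')⁻¹ = d * d' * d⁻¹ * d'⁻¹ := by
      calc d * (q' * d') * d⁻¹ * (q' * d')⁻¹ = (d * q') * d' * d⁻¹ * (q' * d')⁻¹ := by group
        _ = (q' * d) * d' * d⁻¹ * (q' * d')⁻¹ := by rw [hdq]
        _ = q' * (d * d' * d⁻¹ * d'⁻¹) * q'⁻¹ := by group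
        _ = (d * d' * d⁻¹ * d'⁻¹) * q' * q'⁻¹ := by rw [hcen1]
        _ = d * d' * d⁻¹ * d'⁻¹ := by group
    have hval2 : (q * d) * (q' * d') * (q * d)⁻¹ * (q' * d')⁻¹ =
        q * (d * (q' * d') * d⁻¹ * (q' * d')⁻¹) * q⁻¹ * (q * (q' * d') * q⁻¹ * (q' * d')⁻¹) := by
      group
    rw [hval2, hval]
    have hcen2 := hZ.Zz_central hdd (hCW hqC)
    rw [← hcen2]
    have : d * d' * d⁻¹ * d'⁻¹ * q * q⁻¹ = d * d' * d⁻¹ * d'⁻¹ := by group
    rw [this]
    exact Subgroup.mul_mem _ hdd hq1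

theorem comm_W {u v : G} (hu : u ∈ W) (hv : v ∈ W) : u * v * u⁻¹ * v⁻¹ ∈ Subgroup.zpowers z :=
  h.comm_mod _ W rfl le_rfl h.hzW h.norm u hu v hv

theorem mul_sq_W {u v : G} (hv : v ∈ W) (hu : u ∈ W) :
    u * v * (u * v) = (v * u * v⁻¹ * u⁻¹) * (u * u) * (v * v) := by
  have h1 := h.comm_W hv hu
  have hc := h.toOneZ.Zz_central h1 hu
  calc u * v * (u * v) = (u * (v * u * v⁻¹ * u⁻¹)) * (u * v * v) := by group
    _ = ((v * u * v⁻¹ * u⁻¹) * u) * (u * v * v) := by rw [hc]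
    _ = _ := by group

theorem sq_W {u : G} (hu : u ∈ W) : u * u ∈ Subgroup.zpowers z := by
  have hZ := h.toOneZ
  let X : Subgroup G :=
    { carrier := {w | w ∈ W ∧ w * w ∈ Subgroup.zpowers z}
      one_mem' := ⟨W.one_mem, by simp⟩
      mul_mem' := by
        rintro m n ⟨hm, hm2⟩ ⟨hn, hn2⟩
        refine ⟨W.mul_mem hm hn, ?_⟩
        rw [h.mul_sq_W hn hm]
        exact Subgroup.mul_mem _ (Subgroup.mul_mem _ (h.comm_W hn hm) hm2) hn2
      inv_mem' := by
        rintro m ⟨hm, hm2⟩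
        refine ⟨W.inv_mem hm, ?_⟩
        have : m⁻¹ * m⁻¹ = (m * m)⁻¹ := by group
        rw [this]
        exact Subgroup.inv_mem _ hm2 }
  have hWX : W ≤ X := by
    apply h.gen le_rfl h.norm
    intro g hg hg1 v hv hvg
    refine ⟨hv, ?_⟩
    by_cases hvz : v ∈ Subgroup.zpowers z
    · exact Subgroup.mul_mem _ hvz hvz
    · rw [(h.sq hg hg1 (mem_Yf.2 ⟨hv, hvg⟩) hvz).2.1]
      exact Subgroup.mem_zpowers z
  exact (hWX hu).2

theorem center_W {w : G} (hw : w ∈ W) (hc : ∀ v ∈ W, w * v = v * w) : w ∈ Subgroup.zpowers z := by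
  have hZ := h.toOneZ
  set D := W ⊓ Subgroup.centralizer (W : Set G) with hD
  have hDmem : ∀ d, d ∈ D ↔ d ∈ W ∧ ∀ q ∈ W, q * d = d * q := by
    intro d
    rw [hD, Subgroup.mem_inf, Subgroup.mem_centralizer_iff]
    rfl
  have hDE : E ≤ Subgroup.normalizer (D : Set G) := by
    intro e he
    apply mem_normalizer_of_map_conj_le
    rintro _ ⟨d, hd, rfl⟩
    show e * d * e⁻¹ ∈ D
    obtain ⟨hd1, hd2⟩ := (hDmem d).1 hd
    refine (hDmem _).2 ⟨(Subgroup.mem_normalizer_iff.1 (h.norm he) d).1 hd1, fun q hq => ?_⟩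
    have hq' : e⁻¹ * q * e ∈ W := by
      have := (Subgroup.mem_normalizer_iff.1 (h.norm (E.inv_mem he)) q).1 hq
      simpa using this
    have h2 := hd2 _ hq'
    calc q * (e * d * e⁻¹) = e * ((e⁻¹ * q * e) * d) * e⁻¹ := by group
      _ = e * (d * (e⁻¹ * q * e)) * e⁻¹ := by rw [h2]
      _ = e * d * e⁻¹ * q := by group
  have hDX : D ≤ Subgroup.zpowers z := by
    apply h.gen inf_le_left hDE
    intro g hg hg1 v hv hvg
    by_contra hvz
    obtain ⟨hv1, hv2⟩ := (hDmem v).1 hv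
    obtain ⟨-, c, hc', hP⟩ := h.q8pair hg hg1 (mem_Yf.2 ⟨hv1, hvg⟩) hvz
    have h3 := hP.xy
    have h4 := hv2 _ (mem_Yf.1 hP.hy).1
    rw [← h4] at h3
    exact hZ.z_ne (mul_eq_right.1 h3.symm)
  exact hDX ((hDmem w).2 ⟨hw, fun q hq => (hc q hq).symm⟩)

end OneF

end

end Cfsg.Agent.H13
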