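import Mathlib
import Cfsg.Agent.Lib.H13.OneInv2
import Cfsg.Agent.Lib.H01.Hall
import Cfsg.Agent.Lib.H01.Basic

set_option autoImplicit false
set_option linter.unusedSectionVars false
set_option linter.style.haveILetI false

namespace Cfsg.Agent.H13

open Cfsg
open scoped commutatorElement

/-- Product formula in a group with derived group inside `⟨z⟩`. -/
theorem card_sup_two_le {H : Type*} [Group H] [Finite H] {z : H} (hz1 : z ≠ 1)
    (hcomm : ∀ u v : H, u * v * u⁻¹ * v⁻¹ ∈ Subgroup.zpowers z) (A B : Subgroup H)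
    (hzA : z ∈ A) (hzB : z ∈ B) (hz2 : orderOf z = 2) :
    Nat.card (A ⊔ B : Subgroup H) * 2 ≤ Nat.card A * Nat.card B := by
  haveI hB : B.Normal := by
    constructor
    intro n hn g
    have h1 : g * n * g⁻¹ * n⁻¹ ∈ B := (Subgroup.zpowers_le.2 hzB) (hcomm g n)
    have h2 : g * n * g⁻¹ = (g * n * g⁻¹ * n⁻¹) * n := by group
    rw [h2]
    exact B.mul_mem h1 hn
  rw [← H01.card_sup_mul_card_inf A B]
  apply Nat.mul_le_mul_left
  have h3 : Subgroup.zpowers z ≤ A ⊓ B := Subgroup.zpowers_le.2 ⟨hzA, hzB⟩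
  have h4 := Subgroup.card_le_of_le h3
  rwa [Nat.card_zpowers, hz2] at h4

/-- Criterion for extraspecial `2`-groups. -/
theorem isExtraspecial_of {W : Type*} [Group W] [Finite W] (hW : IsPGroup 2 W) {z : W}
    (hz : orderOf z = 2) (hcomm : ∀ u v : W, u * v * u⁻¹ * v⁻¹ ∈ Subgroup.zpowers z)
    (hsq : ∀ u : W, u * u ∈ Subgroup.zpowers z)
    (hcen : ∀ w : W, w ∈ Subgroup.center W ↔ w ∈ Subgroup.zpowers z)
    (hnab : ∃ u v : W, u * v * u⁻¹ * v⁻¹ = z) : IsExtraspecial 2 W := by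
  haveI : Fact (Nat.Prime 2) := ⟨Nat.prime_two⟩
  have hZ : Subgroup.center W = Subgroup.zpowers z := Subgroup.ext hcen
  haveI hN : (Subgroup.zpowers z).Normal := by
    rw [← hZ]
    infer_instance
  have hc1 : commutator W ≤ Subgroup.zpowers z := by
    rw [commutator_def, Subgroup.commutator_le]
    intro u _ v _
    exact hcomm u v
  have hc2 : Subgroup.zpowers z ≤ commutator W := by
    rw [Subgroup.zpowers_le]
    obtain ⟨u, v, h1⟩ := hnab
    rw [← h1, commutator_def]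
    exact Subgroup.commutator_mem_commutator (Subgroup.mem_top u) (Subgroup.mem_top v)
  have hcomm_eq : commutator W = Subgroup.center W := by
    rw [hZ]
    exact le_antisymm hc1 hc2
  have hfr : frattini W = Subgroup.center W := by
    rw [hZ]
    apply le_antisymm
    · apply H01.frattini_le_of_comm_pow (p := 2) _ hc1
      intro x
      rw [pow_two]
      exact hsq x
    · exact hc2.trans (H01.commutator_le_frattini_of_isPGroup hW)
  refine ⟨⟨hW, hfr, hcomm_eq⟩, ?_⟩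
  rw [hZ, Nat.card_zpowers, hz]

section

variable {G : Type*} [Group G] [Finite G] {p : ℕ} [Fact p.Prime]

namespace OneF

variable {W E : Subgroup G} {a b z : G} (h : OneF p W E a b z)
include h

theorem card_Yf_le {g : G} (hg : g ∈ E) (hg1 : g ≠ 1) : Nat.card ↥(Yf W g) ≤ 8 := by
  by_cases hle : Yf W g ≤ Subgroup.zpowers z
  · have h1 := Subgroup.card_le_of_le hle
    rw [Nat.card_zpowers, h.hz2] at h1
    omega
  · obtain ⟨x, hx, hxz⟩ := Set.not_subset.1 hle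
    exact (h.sq hg hg1 hx hxz).1.le

/-- `W` is generated by four centralizers. -/
theorem four_lines {i j : ℕ} (hij : ¬ (3 ∣ i ∧ 3 ∣ j)) {v : G}
    (hv : v * (a ^ i * b ^ j) = (a ^ i * b ^ j) * v) :
    (v * a = a * v) ∨ (v * b = b * v) ∨ (v * (a * b) = (a * b) * v) ∨
      (v * (a * b ^ 2) = (a * b ^ 2) * v) := by
  have hap : a ^ 3 = 1 := h.hp3 ▸ h.hap
  have hbp : b ^ 3 = 1 := h.hp3 ▸ h.hbp
  have hcab : a * b = b * a := h.comm a h.ha b h.hb
  have step : ∀ g t : G, Commute v g → t ^ 3 = 1 → (g = t ∨ g = t ^ 2) → v * t = t * v := by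
    intro g t hcom ht hor
    rcases hor with h1 | h1
    · rw [← h1]; exact hcom
    · rw [h1] at hcom
      have h2 : Commute v ((t ^ 2) ^ 2) := hcom.pow_right 2
      have h3 : (t ^ 2) ^ 2 = t := by
        rw [← pow_mul, show 2 * 2 = 3 + 1 by norm_num, pow_succ, ht, one_mul]
      rw [h3] at h2
      exact h2
  have hC : Commute a b := hcab
  have hab2 : (a * b) ^ 3 = 1 := by rw [hC.mul_pow, hap, hbp, one_mul]
  have hab3 : (a * b ^ 2) ^ 3 = 1 := by
    rw [(hC.pow_right 2).mul_pow, hap, ← pow_mul, mul_comm, pow_mul, hbp, one_pow, one_mul]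
  have key : ∀ i' j' : ℕ, i' < 3 → j' < 3 → ¬ (i' = 0 ∧ j' = 0) → Commute v (a ^ i' * b ^ j') →
      (v * a = a * v) ∨ (v * b = b * v) ∨ (v * (a * b) = (a * b) * v) ∨
      (v * (a * b ^ 2) = (a * b ^ 2) * v) := by
    intro i' j' hi' hj' hne hcom
    interval_cases i' <;> interval_cases j'
    · exact absurd ⟨rfl, rfl⟩ hne
    · exact Or.inr (Or.inl (step _ b hcom hbp (Or.inl (by simp))))
    · exact Or.inr (Or.inl (step _ b hcom hbp (Or.inr (by simp))))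
    · exact Or.inl (step _ a hcom hap (Or.inl (by simp)))
    · exact Or.inr (Or.inr (Or.inl (step _ _ hcom hab2 (Or.inl (by simp)))))
    · exact Or.inr (Or.inr (Or.inr (step _ _ hcom hab3 (Or.inl (by simp)))))
    · exact Or.inl (step _ a hcom hap (Or.inr (by simp)))
    · refine Or.inr (Or.inr (Or.inr (step _ _ hcom hab3 (Or.inr ?_))))
      rw [(hC.pow_right 2).mul_pow, ← pow_mul, show 2 * 2 = 3 + 1 by norm_num, pow_add b 3 1, hbp,
        one_mul]
    · refine Or.inr (Or.inr (Or.inl (step _ _ hcom hab2 (Or.inr ?_))))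
      rw [hC.mul_pow]
  apply key (i % 3) (j % 3) (Nat.mod_lt _ (by norm_num)) (Nat.mod_lt _ (by norm_num))
  · rintro ⟨h1, h2⟩
    exact hij ⟨Nat.dvd_of_mod_eq_zero h1, Nat.dvd_of_mod_eq_zero h2⟩
  · rw [← pow_eq_pow_mod i hap, ← pow_eq_pow_mod j hbp]
    exact hv

theorem card_W_le : Nat.card W ≤ 512 := by
  have hZ := h.toOneZ
  have hzW : z ∈ W := h.hzW
  haveI : Fact (Nat.Prime 2) := ⟨Nat.prime_two⟩
  let z' : W := ⟨z, hzW⟩
  have hz'ord : orderOf z' = 2 := by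
    rw [← Subgroup.orderOf_coe]; exact h.hz2
  have hz'1 : z' ≠ 1 := fun h1 => hZ.z_ne (congrArg Subtype.val h1)
  have hcomm' : ∀ u v : W, u * v * u⁻¹ * v⁻¹ ∈ Subgroup.zpowers z' := by
    intro u v
    have h1 := h.comm_W u.2 v.2
    rcases hZ.mem_Zz.1 h1 with h2 | h2
    · have h3 : u * v * u⁻¹ * v⁻¹ = 1 := Subtype.ext h2
      rw [h3]
      exact Subgroup.one_mem _
    · have h3 : u * v * u⁻¹ * v⁻¹ = z' := Subtype.ext h2
      rw [h3]
      exact Subgroup.mem_zpowers _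
  let A : G → Subgroup W := fun t => (Yf W t).subgroupOf W
  have hAmem : ∀ t (w : W), w ∈ A t ↔ (w : G) ∈ Yf W t := fun t w => Subgroup.mem_subgroupOf
  have hAz : ∀ t ∈ E, z' ∈ A t := fun t ht => (hAmem t _).2 (hZ.z_mem_Yf ht)
  have hAcard : ∀ t ∈ E, t ≠ 1 → Nat.card (A t) ≤ 8 := by
    intro t ht ht1
    rw [show Nat.card (A t) = Nat.card ↥(Yf W t) from
      Nat.card_congr (Subgroup.subgroupOfEquivOfLe inf_le_left).toEquiv]
    exact h.card_Yf_le ht ht1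
  have ha : a ≠ 1 := h.toOneInv.a_ne_one
  have hb : b ≠ 1 := by
    have h1 := h.ind 0 1 (by
      rintro ⟨-, h2⟩
      exact (Fact.out : p.Prime).one_lt.ne' (Nat.dvd_one.1 h2))
    simpa using h1
  have hab : a * b ≠ 1 := by
    have h1 := h.ind 1 1 (by
      rintro ⟨-, h2⟩
      exact (Fact.out : p.Prime).one_lt.ne' (Nat.dvd_one.1 h2))
    simpa using h1
  have hab2 : a * b ^ 2 ≠ 1 := by
    have h1 := h.ind 1 2 (by
      rintro ⟨h2, -⟩
      exact (Fact.out : p.Prime).one_lt.ne' (Nat.dvd_one.1 h2))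
    simpa using h1
  have hE1 := h.ha
  have hE2 := h.hb
  have hE3 : a * b ∈ E := E.mul_mem h.ha h.hb
  have hE4 : a * b ^ 2 ∈ E := E.mul_mem h.ha (E.pow_mem h.hb 2)
  set S := A a ⊔ A b ⊔ A (a * b) ⊔ A (a * b ^ 2) with hS
  have hXW : W ≤ S.map W.subtype := by
    have hcard : ¬ p ∣ Nat.card W := by
      obtain ⟨k, hk⟩ := IsPGroup.iff_card.1 h.two
      rw [hk]
      intro h2
      have := (Nat.prime_dvd_prime_iff_eq (Fact.out : p.Prime) Nat.prime_two).1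
        ((Fact.out : p.Prime).dvd_of_dvd_pow h2)
      exact h.odd this
    have h1 := H14.le_cgen (x := a) (y := b) (h.comm a h.ha b h.hb) h.hap h.hbp _ W rfl
      (h.norm h.ha) (h.norm h.hb) hcard
    refine h1.trans ((Subgroup.closure_le _).2 ?_)
    rintro v ⟨hv, i, j, hij, hc⟩
    have hij' : ¬ (3 ∣ i ∧ 3 ∣ j) := h.hp3 ▸ hij
    refine ⟨⟨v, hv⟩, ?_, rfl⟩
    rcases h.four_lines hij' hc with h2 | h2 | h2 | h2
    · exact (le_sup_left.trans (le_sup_left.trans le_sup_left) : A a ≤ S) ((hAmem _ _).2 (mem_Yf.2 ⟨hv, h2⟩))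
    · exact (le_sup_right.trans (le_sup_left.trans le_sup_left) : A b ≤ S) ((hAmem _ _).2 (mem_Yf.2 ⟨hv, h2⟩))
    · exact (le_sup_right.trans le_sup_left : A (a * b) ≤ S) ((hAmem _ _).2 (mem_Yf.2 ⟨hv, h2⟩))
    · exact (le_sup_right : A (a * b ^ 2) ≤ S) ((hAmem _ _).2 (mem_Yf.2 ⟨hv, h2⟩))
  have hStop : S = ⊤ := by
    rw [eq_top_iff]
    intro w _
    obtain ⟨w', hw', hww⟩ := hXW w.2
    have : w' = w := Subtype.ext hww
    exact this ▸ hw'
  have hc1 := card_sup_two_le hz'1 hcomm' (A a) (A b) (hAz _ hE1) (hAz _ hE2) hz'ord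
  have hc2 := card_sup_two_le hz'1 hcomm' (A a ⊔ A b) (A (a * b))
    ((le_sup_left : A a ≤ A a ⊔ A b) (hAz _ hE1)) (hAz _ hE3) hz'ord
  have hc3 := card_sup_two_le hz'1 hcomm' (A a ⊔ A b ⊔ A (a * b)) (A (a * b ^ 2))
    ((le_sup_right : A (a * b) ≤ _) (hAz _ hE3)) (hAz _ hE4) hz'ord
  rw [← hS, hStop, Subgroup.card_top] at hc3
  have b1 := hAcard a hE1 ha
  have b2 := hAcard b hE2 hb
  have b3 := hAcard _ hE3 hab
  have b4 := hAcard _ hE4 hab2
  have s1 : Nat.card (A a ⊔ A b : Subgroup W) * 2 ≤ 8 * 8 := hc1.trans (Nat.mul_le_mul b1 b2)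
  have s2 : Nat.card (A a ⊔ A b ⊔ A (a * b) : Subgroup W) * 2 ≤ 32 * 8 :=
    hc2.trans (Nat.mul_le_mul (by omega) b3)
  have s3 : Nat.card W * 2 ≤ 128 * 8 := hc3.trans (Nat.mul_le_mul (by omega) b4)
  omega

theorem index_centralizer_le {Q : Subgroup G} {x : G} (hx : x ∈ Q)
    (hQE : E ≤ Subgroup.normalizer (Q : Set G)) :
    ((Subgroup.centralizer ({x} : Set G)).subgroupOf E).index ≤ Nat.card Q := by
  classical
  set S := (Subgroup.centralizer ({x} : Set G)).subgroupOf E with hS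
  have hmem : ∀ e : E, e ∈ S ↔ (e : G) * x = x * e := by
    intro e
    rw [hS, Subgroup.mem_subgroupOf, Subgroup.mem_centralizer_singleton_iff]
  let f : E → Q := fun e => ⟨(e : G) * x * (e : G)⁻¹, (Subgroup.mem_normalizer_iff.1 (hQE e.2) x).1 hx⟩
  have hf : ∀ e e' : E, f e = f e' ↔ e⁻¹ * e' ∈ S := by
    intro e e'
    rw [hmem]
    constructor
    · intro h1
      have h2 : (e : G) * x * (e : G)⁻¹ = (e' : G) * x * (e' : G)⁻¹ := congrArg Subtype.val h1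
      show (e : G)⁻¹ * e' * x = x * ((e : G)⁻¹ * e')
      have h3 : x = (e : G)⁻¹ * ((e : G) * x * (e : G)⁻¹) * e := by group
      calc (e : G)⁻¹ * e' * x = (e : G)⁻¹ * ((e' : G) * x * (e' : G)⁻¹) * e' := by group
        _ = (e : G)⁻¹ * ((e : G) * x * (e : G)⁻¹) * e' := by rw [h2]
        _ = x * ((e : G)⁻¹ * e') := by group
    · intro h1
      have h1' : (e : G)⁻¹ * e' * x = x * ((e : G)⁻¹ * e') := h1
      apply Subtype.ext
      show (e : G) * x * (e : G)⁻¹ = (e' : G) * x * (e' : G)⁻¹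
      calc (e : G) * x * (e : G)⁻¹ = (e : G) * (x * ((e : G)⁻¹ * e')) * (e' : G)⁻¹ := by group
        _ = (e : G) * ((e : G)⁻¹ * e' * x) * (e' : G)⁻¹ := by rw [h1']
        _ = (e' : G) * x * (e' : G)⁻¹ := by group
  let F : E ⧸ S → Q := Quotient.lift f (by
    intro e e' hee
    exact (hf e e').2 (QuotientGroup.leftRel_apply.1 hee))
  have hF : Function.Injective F := by
    intro u v
    induction u using Quotient.inductionOn with | _ e => ?_
    induction v using Quotient.inductionOn with | _ e' => ?_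
    intro hee
    exact Quotient.sound (QuotientGroup.leftRel_apply.2 ((hf e e').1 hee))
  exact Nat.card_le_card_of_injective F hF

theorem card_E_le : Nat.card E ≤ 9 := by
  have hZ := h.toOneZ
  have hpp : p.Prime := Fact.out
  -- first piece
  obtain ⟨g₀, hg₀, hg₀1, x₀, hx₀W, hx₀g, hx₀z⟩ : ∃ g ∈ E, g ≠ 1 ∧ ∃ x ∈ W, x * g = g * x ∧
      x ∉ Subgroup.zpowers z := by
    by_contra hcon
    push Not at hcon
    have h1 : W ≤ Subgroup.zpowers z := h.gen le_rfl h.norm hcon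
    apply h.toOneInv.a_ne_one
    apply h.faith a h.ha
    intro w hw
    exact (hZ.Zz_comm_E (h1 hw) h.ha).symm
  have hx₀Q : x₀ ∈ Yf W g₀ := mem_Yf.2 ⟨hx₀W, hx₀g⟩
  have h8₀ := (h.sq hg₀ hg₀1 hx₀Q hx₀z).1
  obtain ⟨g₁, hg₁, hg₁1, x₁, hx₁W, hx₁g, hx₁z⟩ : ∃ g ∈ E, g ≠ 1 ∧ ∃ x ∈ W, x * g = g * x ∧
      x ∉ Yf W g₀ := by
    by_contra hcon
    push Not at hcon
    have h1 : W ≤ Yf W g₀ := h.gen le_rfl h.norm hcon
    apply hg₀1
    apply h.faith g₀ hg₀
    intro w hw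
    exact (mem_Yf.1 (h1 hw)).2.symm
  have hx₁Q : x₁ ∈ Yf W g₁ := mem_Yf.2 ⟨hx₁W, hx₁g⟩
  have hx₁z' : x₁ ∉ Subgroup.zpowers z := fun h1 =>
    hx₁z ((Subgroup.zpowers_le.2 (hZ.z_mem_Yf hg₀)) h1)
  have h8₁ := (h.sq hg₁ hg₁1 hx₁Q hx₁z').1
  -- each stabilizer is the centralizer of `Q`
  have hstab : ∀ (g x : G), g ∈ E → x ∈ Yf W g → x ∉ Subgroup.zpowers z → Nat.card ↥(Yf W g) = 8 →
      ∀ e ∈ E, e * x = x * e → ∀ y ∈ Yf W g, e * y = y * e := by
    intro g x hg hx hxz h8 e he hex y hy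
    by_contra hne
    have h2 := (hZ.eight_count (fun e he => hZ.Yf_norm hg he) (hZ.z_mem_Yf hg) h8 he ⟨y, hy, hne⟩).2
    exact hxz (h2 x hx hex.symm)
  set S₀ := (Subgroup.centralizer ({x₀} : Set G)).subgroupOf E with hS₀
  set S₁ := (Subgroup.centralizer ({x₁} : Set G)).subgroupOf E with hS₁
  have hpow : ∀ S : Subgroup E, S.index ≤ 8 → S.index ≤ 3 := by
    intro S hS
    have hd : S.index ∣ Nat.card E := S.index_dvd_card
    obtain ⟨k, hk⟩ := IsPGroup.iff_card.1 h.pg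
    rw [hk, h.hp3] at hd
    obtain ⟨i, hi, hi2⟩ := (Nat.dvd_prime_pow Nat.prime_three).1 hd
    rw [hi2] at hS ⊢
    have hi3 : i < 2 := by
      by_contra hc
      have : 3 ^ 2 ≤ 3 ^ i := Nat.pow_le_pow_right (by norm_num) (by omega)
      omega
    interval_cases i <;> norm_num
  have hi₀ : S₀.index ≤ 3 := hpow _ (h8₀ ▸ h.index_centralizer_le hx₀Q (fun e he => hZ.Yf_norm hg₀ he))
  have hi₁ : S₁.index ≤ 3 := hpow _ (h8₁ ▸ h.index_centralizer_le hx₁Q (fun e he => hZ.Yf_norm hg₁ he))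
  have hbot : S₀ ⊓ S₁ = ⊥ := by
    rw [eq_bot_iff]
    rintro ⟨e, he⟩ ⟨he0, he1⟩
    have he0' : e * x₀ = x₀ * e := Subgroup.mem_centralizer_singleton_iff.1 (Subgroup.mem_subgroupOf.1 he0)
    have he1' : e * x₁ = x₁ * e := Subgroup.mem_centralizer_singleton_iff.1 (Subgroup.mem_subgroupOf.1 he1)
    rw [Subgroup.mem_bot]
    apply Subtype.ext
    show e = 1
    by_contra he2
    have hA := hstab g₀ x₀ hg₀ hx₀Q hx₀z h8₀ e he he0'
    have hB := hstab g₁ x₁ hg₁ hx₁Q hx₁z' h8₁ e he he1'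
    have hle₀ : Yf W g₀ ≤ Yf W e := fun y hy => mem_Yf.2 ⟨(mem_Yf.1 hy).1, (hA y hy).symm⟩
    have hle₁ : Yf W g₁ ≤ Yf W e := fun y hy => mem_Yf.2 ⟨(mem_Yf.1 hy).1, (hB y hy).symm⟩
    have h8e := (h.sq he he2 (hle₀ hx₀Q) hx₀z).1
    have heq₀ : Yf W g₀ = Yf W e := Subgroup.eq_of_le_of_card_ge hle₀ (by rw [h8e, h8₀])
    have heq₁ : Yf W g₁ = Yf W e := Subgroup.eq_of_le_of_card_ge hle₁ (by rw [h8e, h8₁])
    exact hx₁z (heq₀ ▸ hle₁ hx₁Q)
  have h1 : (S₀ ⊓ S₁).index ≤ S₀.index * S₁.index := Subgroup.index_inf_le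
  rw [hbot, Subgroup.index_bot] at h1
  exact h1.trans (Nat.mul_le_mul hi₀ hi₁)

end OneF

namespace OneInv

variable {W E : Subgroup G} {a b : G}

theorem main (h : OneInv p W E a b) (hnc : ¬ IsCyclic E) :
    ∃ z ∈ W, orderOf z = 2 ∧ Nat.card E = 9 ∧
      (∀ u ∈ W, ∀ v ∈ W, u * v * u⁻¹ * v⁻¹ ∈ Subgroup.zpowers z) ∧
      (∀ u ∈ W, u * u ∈ Subgroup.zpowers z) ∧
      (∀ w ∈ W, (∀ v ∈ W, w * v = v * w) → w ∈ Subgroup.zpowers z) ∧
      (∀ w ∈ W, (∀ e ∈ E, w * e = e * w) → w ∈ Subgroup.zpowers z) ∧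
      (∀ e ∈ E, z * e = e * z) ∧ (∀ w ∈ W, z * w = w * z) ∧
      (∃ u ∈ W, ∃ v ∈ W, u * v * u⁻¹ * v⁻¹ = z) ∧ Nat.card W ≤ 512 ∧ Nat.card W ≠ 8 := by
  obtain ⟨z, hzW, hz2, hzc, hzE⟩ := h.exists_z
  have hZ : OneZ p W E a b z := { toOneInv := h, hzW := hzW, hz2 := hz2, hzc := hzc, hzE := hzE }
  obtain ⟨g₀, hg₀, hg₀1, h8, hp3, hF⟩ := hZ.exists_q
  have hF' : OneF p W E a b z := { toOneZ := hZ, hp3 := hp3, hF := hF }
  refine ⟨z, hzW, hz2, ?_, fun u hu v hv => hF'.comm_W hu hv, fun u hu => hF'.sq_W hu,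
    fun w hw hc => hF'.center_W hw hc, hF, hzE, hzc, ?_, hF'.card_W_le, ?_⟩
  · have h1 := hF'.card_E_le
    obtain ⟨k, hk⟩ := IsPGroup.iff_card.1 h.pg
    rw [hk, hp3] at h1 ⊢
    have hk3 : k < 3 := by
      by_contra hc
      have : 3 ^ 3 ≤ 3 ^ k := Nat.pow_le_pow_right (by norm_num) (by omega)
      omega
    interval_cases k
    · exfalso
      apply hnc
      have h2 : Nat.card E = 1 := by rw [hk, hp3]; norm_num
      haveI : Subsingleton E := (Nat.card_eq_one_iff_unique.1 h2).1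
      infer_instance
    · exfalso
      apply hnc
      have h2 : Nat.card E = 3 := by rw [hk, hp3]; norm_num
      haveI : Fact (Nat.Prime 3) := ⟨Nat.prime_three⟩
      exact isCyclic_of_prime_card h2
    · norm_num
  · have hne : ¬ Yf W g₀ ≤ Subgroup.zpowers z := by
      intro h1
      have h2 := Subgroup.card_le_of_le h1
      rw [Nat.card_zpowers, hz2, h8] at h2
      omega
    obtain ⟨x, hx, hxz⟩ := Set.not_subset.1 hne
    obtain ⟨-, c, -, hP⟩ := hF'.q8pair hg₀ hg₀1 hx hxz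
    refine ⟨x, (mem_Yf.1 hP.hx).1, _, (mem_Yf.1 hP.hy).1, ?_⟩
    have h3 := hP.xy
    rw [h3]
    group
  · intro h1
    have h2 : Yf W g₀ = W := Subgroup.eq_of_le_of_card_ge inf_le_left (by rw [h1, h8])
    apply hg₀1
    apply h.faith g₀ hg₀
    intro w hw
    have h3 : w ∈ Yf W g₀ := h2.symm.le hw
    exact (mem_Yf.1 h3).2.symm

end OneInv

end

end Cfsg.Agent.H13
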