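import Mathlib
import Cfsg.Prelude.Def_LocalStructure
import Cfsg.Prelude.Def_CaseTheorems
import Cfsg.Agent.Lib.H13.Basic
import Cfsg.Agent.Lib.H13.Weak
import Cfsg.Agent.Lib.H01.Basic

set_option autoImplicit false

namespace Cfsg.Agent.H13

open Cfsg

variable {L : Type*} [Group L] [Finite L] {p : ℕ} [Fact p.Prime]

theorem ymin_le_coatom {L₀ Y K : Subgroup L} (hL₀ : IsCoatom L₀) (hYL₀ : Y ≤ L₀)
    (hmin : IsMinimalOver Y) (hYK : Y ≤ K) (hK : K ≠ ⊤) : K ≤ L₀ := by
  obtain ⟨M₀, -, huniq⟩ := hmin.2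
  obtain h | ⟨M, hM, hKM⟩ := eq_top_or_exists_le_coatom K
  · exact absurd h hK
  · have h1 := huniq M ⟨hM, hYK.trans hKM⟩
    have h2 := huniq L₀ ⟨hL₀, hYL₀⟩
    rw [h2, ← h1]
    exact hKM

theorem ymin_ne_normal {L₀ Y : Subgroup L} (hL₀ : IsCoatom L₀) (hYL₀ : Y ≤ L₀)
    (hmin : IsMinimalOver Y) : ¬ L₀.Normal := by
  intro h
  have h1 : Subgroup.normalClosure (Y : Set L) ≤ L₀ :=
    Subgroup.normalClosure_le_normal hYL₀
  rw [hmin.1] at h1
  exact hL₀.1 (top_le_iff.1 h1)

theorem ymin_pCore_le {L₀ Y : Subgroup L} (hL₀ : IsCoatom L₀) (hYL₀ : Y ≤ L₀)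
    (hYp : IsPGroup p Y) (hmin : IsMinimalOver Y) : pCore p L ≤ L₀ := by
  have hP : IsPGroup p (pCore p L) := isPGroup_pCore
  by_cases hK : Y ⊔ pCore p L = ⊤
  · exfalso
    have h1 : IsPGroup p (Y ⊔ pCore p L : Subgroup L) := hYp.to_sup_of_normal_right hP
    rw [hK] at h1
    have h2 : IsPGroup p L := by
      intro x
      obtain ⟨k, hk⟩ := h1 ⟨x, Subgroup.mem_top x⟩
      refine ⟨k, ?_⟩
      simpa [Subtype.ext_iff] using hk
    haveI : Group.IsNilpotent L := h2.isNilpotent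
    have h3 := normalizerCondition_of_isNilpotent (G := L)
    have h4 : L₀ < Subgroup.normalizer (L₀ : Set L) := h3 L₀ (lt_top_iff_ne_top.2 hL₀.1)
    have h5 : Subgroup.normalizer (L₀ : Set L) = ⊤ := hL₀.2 _ h4
    exact ymin_ne_normal hL₀ hYL₀ hmin (Subgroup.normalizer_eq_top_iff.1 h5)
  · exact le_trans le_sup_right (ymin_le_coatom hL₀ hYL₀ hmin le_sup_left hK)

theorem ymin_pCore_le_core {L₀ Y : Subgroup L} (hL₀ : IsCoatom L₀) (hYL₀ : Y ≤ L₀)
    (hYp : IsPGroup p Y) (hmin : IsMinimalOver Y) : pCore p L ≤ L₀.normalCore :=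
  (Subgroup.normal_le_normalCore).2 (ymin_pCore_le hL₀ hYL₀ hYp hmin)

/-- The intersection of a Sylow subgroup of `L₀` with a normal subgroup `D ≤ L₀` of `L` is a Sylow subgroup of `D`. -/
theorem sylow_inf_normal_le {L₀ D : Subgroup L} [D.Normal] (T : Sylow p ↥L₀) (hD : D ≤ L₀) :
    ∃ S : Sylow p ↥D, (S : Subgroup ↥D).map D.subtype = (T : Subgroup ↥L₀).map L₀.subtype ⊓ D := by
  set T' := (T : Subgroup ↥L₀).map L₀.subtype with hT'
  have hT'p : IsPGroup p T' := T.2.map _
  have hRp : IsPGroup p (T' ⊓ D : Subgroup L) := hT'p.to_le inf_le_left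
  obtain ⟨S, hS⟩ := exists_sylow_subgroup_le (K := D) (A := T' ⊓ D) inf_le_right hRp
  refine ⟨S, ?_⟩
  -- `S` is conjugate in `L₀` into `T`.
  set S' := (S : Subgroup ↥D).map D.subtype with hS'
  have hS'p : IsPGroup p S' := S.2.map _
  have hS'D : S' ≤ D := Subgroup.map_subtype_le _
  obtain ⟨T₁, hT₁⟩ := exists_sylow_subgroup_le (K := L₀) (A := S') (hS'D.trans hD) hS'p
  obtain ⟨k, hk⟩ := sylow_conj T₁ T
  have h1 : S'.map (MulAut.conj (k : L)).toMonoidHom ≤ T' := by
    have := Subgroup.map_mono (f := (MulAut.conj (k : L)).toMonoidHom) hT₁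
    rwa [← map_subtype_conj, ← hk] at this
  have h2 : S'.map (MulAut.conj (k : L)).toMonoidHom ≤ D :=
    (Subgroup.map_mono hS'D).trans_eq (map_conj_eq_of_normal)
  have h3 : S'.map (MulAut.conj (k : L)).toMonoidHom ≤ T' ⊓ D := le_inf h1 h2
  have hc1 : Nat.card (S'.map (MulAut.conj (k : L)).toMonoidHom) = Nat.card S' :=
    Subgroup.card_map_of_injective (MulAut.conj (k : L)).injective
  have hc2 : Nat.card S' ≤ Nat.card (T' ⊓ D : Subgroup L) := by
    rw [← hc1]
    exact Subgroup.card_le_of_le h3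
  exact (Subgroup.eq_of_le_of_card_ge hS hc2).symm

theorem ymin_inf_core_le_pCore {L₀ Y : Subgroup L} (hL₀ : IsCoatom L₀) (T : Sylow p ↥L₀)
    (hYT : Y ≤ (T : Subgroup ↥L₀).map L₀.subtype) (hmin : IsMinimalOver Y) :
    (T : Subgroup ↥L₀).map L₀.subtype ⊓ L₀.normalCore ≤ pCore p L := by
  set D := L₀.normalCore with hDdef
  haveI hDn : D.Normal := Subgroup.normalCore_normal L₀
  have hD : D ≤ L₀ := Subgroup.normalCore_le L₀
  have hYL₀ : Y ≤ L₀ := hYT.trans (Subgroup.map_subtype_le _)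
  set T' := (T : Subgroup ↥L₀).map L₀.subtype with hT'
  have hT'p : IsPGroup p T' := T.2.map _
  obtain ⟨S, hS⟩ := sylow_inf_normal_le T hD
  have h1 : Subgroup.normalizer ((T' ⊓ D : Subgroup L) : Set L) ⊔ D = ⊤ := by
    rw [hT', ← hS]
    exact Sylow.normalizer_sup_eq_top S
  have h2 : Y ≤ Subgroup.normalizer ((T' ⊓ D : Subgroup L) : Set L) := by
    intro y hy
    rw [Subgroup.mem_normalizer_iff]
    intro r
    have hyT := hYT hy
    simp only [SetLike.mem_coe, Subgroup.mem_inf]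
    constructor
    · rintro ⟨h1, h2⟩
      exact ⟨T'.mul_mem (T'.mul_mem hyT h1) (T'.inv_mem hyT), hDn.conj_mem _ h2 _⟩
    · rintro ⟨h1, h2⟩
      constructor
      · have := T'.mul_mem (T'.mul_mem (T'.inv_mem hyT) h1) hyT
        simpa [mul_assoc] using this
      · have := hDn.conj_mem _ h2 y⁻¹
        simpa [mul_assoc] using this
  by_cases h3 : Subgroup.normalizer ((T' ⊓ D : Subgroup L) : Set L) = ⊤
  · exact le_pCore (Subgroup.normalizer_eq_top_iff.1 h3) (hT'p.to_le inf_le_left)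
  · exfalso
    have h4 := ymin_le_coatom hL₀ hYL₀ hmin h2 h3
    have h5 : (⊤ : Subgroup L) ≤ L₀ := by
      rw [← h1]
      exact sup_le h4 hD
    exact hL₀.1 (top_le_iff.1 h5)

theorem ymin_pGroup_le_pCore {L₀ Y U : Subgroup L} (hL₀ : IsCoatom L₀) (T : Sylow p ↥L₀)
    (hYT : Y ≤ (T : Subgroup ↥L₀).map L₀.subtype) (hmin : IsMinimalOver Y)
    (hUD : U ≤ L₀.normalCore) (hU : IsPGroup p U) : U ≤ pCore p L := by
  set D := L₀.normalCore with hDdef
  haveI hDn : D.Normal := Subgroup.normalCore_normal L₀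
  have hD : D ≤ L₀ := Subgroup.normalCore_le L₀
  obtain ⟨T₁, hT₁⟩ := exists_sylow_subgroup_le (K := L₀) (A := U) (hUD.trans hD) hU
  obtain ⟨k, hk⟩ := sylow_conj T₁ T
  have h1 : U.map (MulAut.conj (k : L)).toMonoidHom ≤ (T : Subgroup ↥L₀).map L₀.subtype := by
    have := Subgroup.map_mono (f := (MulAut.conj (k : L)).toMonoidHom) hT₁
    rwa [← map_subtype_conj, ← hk] at this
  have h2 : U.map (MulAut.conj (k : L)).toMonoidHom ≤ D :=
    (Subgroup.map_mono hUD).trans_eq (map_conj_eq_of_normal)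
  have h3 := (le_inf h1 h2).trans (ymin_inf_core_le_pCore hL₀ T hYT hmin)
  rw [map_conj_le_iff, map_conj_eq_of_normal] at h3
  exact h3

theorem isPClosed_of_forall_le {K P : Subgroup L} [P.Normal] (hP : IsPGroup p P)
    (h : ∀ U : Subgroup L, U ≤ K → IsPGroup p U → U ≤ P) :
    IsPClosed p ↥K ∧ pCore p ↥K = P.subgroupOf K ∧ ¬ p ∣ (P.subgroupOf K).index := by
  have hPp : IsPGroup p (P.subgroupOf K) := isPGroup_subgroupOf hP
  have key : ∀ S : Sylow p ↥K, (S : Subgroup ↥K) = P.subgroupOf K := by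
    intro S
    have h1 : (S : Subgroup ↥K) ≤ P.subgroupOf K := by
      intro x hx
      rw [Subgroup.mem_subgroupOf]
      exact h _ (Subgroup.map_subtype_le _) (S.2.map _) ⟨x, hx, rfl⟩
    exact (S.3 hPp h1).symm
  have hnorm : (P.subgroupOf K).Normal := inferInstance
  refine ⟨fun S => by rw [key S]; exact hnorm, ?_, ?_⟩
  · apply le_antisymm
    · intro x hx
      rw [Subgroup.mem_subgroupOf]
      refine h (Subgroup.map K.subtype (pCore p ↥K)) (Subgroup.map_subtype_le _)
        (isPGroup_pCore.map _) ⟨x, hx, rfl⟩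
    · exact le_pCore hnorm hPp
  · obtain ⟨S⟩ : Nonempty (Sylow p ↥K) := inferInstance
    rw [← key S]
    exact S.not_dvd_index

theorem index_dvd_of_sup_eq_top {X D P : Subgroup L} [D.Normal] (h : X ⊔ D = ⊤) (hP : P ≤ X)
    (hPD : P ≤ D) : X.index ∣ P.relIndex D := by
  have h1 : D.relIndex X = D.index := by
    rw [← Subgroup.relIndex_sup_right, h, Subgroup.relIndex_top_right]
  have h2 : (D ⊓ X).relIndex X * X.relIndex ⊤ = (D ⊓ X).relIndex ⊤ :=
    Subgroup.relIndex_mul_relIndex _ _ _ inf_le_right le_top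
  have h3 : (D ⊓ X).relIndex D * D.relIndex ⊤ = (D ⊓ X).relIndex ⊤ :=
    Subgroup.relIndex_mul_relIndex _ _ _ inf_le_left le_top
  rw [Subgroup.inf_relIndex_right, h1, Subgroup.relIndex_top_right,
    Subgroup.relIndex_top_right] at h2
  rw [Subgroup.inf_relIndex_left, Subgroup.relIndex_top_right, Subgroup.relIndex_top_right] at h3
  have h4 : D.index ≠ 0 := Subgroup.index_ne_zero_of_finite
  have h5 : X.index = X.relIndex D := by
    have : D.index * X.index = D.index * X.relIndex D := by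
      rw [h2, ← h3, mul_comm]
    exact Nat.eq_of_mul_eq_mul_left (Nat.pos_of_ne_zero h4) this
  rw [h5]
  have h6 : P.relIndex (X ⊓ D) * (X ⊓ D).relIndex D = P.relIndex D :=
    Subgroup.relIndex_mul_relIndex _ _ _ (le_inf hP hPD) inf_le_right
  rw [Subgroup.inf_relIndex_right] at h6
  exact ⟨_, by rw [← h6, mul_comm]⟩

theorem isCoatom_map_conj' {X : Subgroup L} (hX : IsCoatom X) (g : L) :
    IsCoatom (X.map (MulAut.conj g).toMonoidHom) := by
  constructor
  · intro h
    apply hX.1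
    have h1 := map_conj_inv_map_conj g X
    rw [h] at h1
    rw [← h1, eq_top_iff]
    intro x _
    rw [mem_map_conj]
    exact Subgroup.mem_top _
  · intro b hb
    have h1 : X < b.map (MulAut.conj g⁻¹).toMonoidHom := by
      refine lt_of_le_of_ne ?_ ?_
      · exact map_conj_le_iff.1 hb.le
      · intro h
        apply hb.ne
        rw [h, map_conj_map_conj_inv]
    have h2 := hX.2 _ h1
    rw [← map_conj_map_conj_inv g b, h2, eq_top_iff]
    intro x _
    rw [mem_map_conj]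
    exact Subgroup.mem_top _

theorem ymin_frattini {L₀ Y : Subgroup L} (hL₀ : IsCoatom L₀) (T : Sylow p ↥L₀)
    (hYT : Y ≤ (T : Subgroup ↥L₀).map L₀.subtype) (hmin : IsMinimalOver Y) :
    (L₀.normalCore).map (QuotientGroup.mk' (pCore p L)) = frattini (L ⧸ pCore p L) := by
  set D := L₀.normalCore with hDdef
  set P := pCore p L with hPdef
  haveI hDn : D.Normal := Subgroup.normalCore_normal L₀
  have hD : D ≤ L₀ := Subgroup.normalCore_le L₀
  have hYL₀ : Y ≤ L₀ := hYT.trans (Subgroup.map_subtype_le _)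
  have hYp : IsPGroup p Y := (T.2.map _).to_le hYT
  have hPp : IsPGroup p P := isPGroup_pCore
  have hPL₀ : P ≤ L₀ := ymin_pCore_le hL₀ hYL₀ hYp hmin
  have hPD : P ≤ D := ymin_pCore_le_core hL₀ hYL₀ hYp hmin
  have hmk : Function.Surjective (QuotientGroup.mk' P) := QuotientGroup.mk'_surjective P
  obtain ⟨-, -, hnd⟩ := isPClosed_of_forall_le (K := D) hPp
    (fun U hU hUp => ymin_pGroup_le_pCore hL₀ T hYT hmin hU hUp)
  apply le_antisymm
  · rintro _ ⟨d, hd, rfl⟩
    rw [Cfsg.Agent.H01.mem_frattini_iff]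
    intro M hM
    set X := M.comap (QuotientGroup.mk' P) with hXdef
    have hX : IsCoatom X := Subgroup.isCoatom_comap_of_surjective hmk hM
    have hPX : P ≤ X := by
      intro x hx
      rw [hXdef, Subgroup.mem_comap]
      have : QuotientGroup.mk' P x = 1 := (QuotientGroup.eq_one_iff x).2 hx
      rw [this]
      exact M.one_mem
    suffices hDX : D ≤ X from hDX hd
    by_contra hDX
    have hsup : X ⊔ D = ⊤ :=
      hX.2 _ (lt_of_le_of_ne le_sup_left (fun h => hDX (h ▸ le_sup_right)))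
    have hindex : ¬ p ∣ X.index := fun hdvd =>
      hnd (hdvd.trans (index_dvd_of_sup_eq_top hsup hPX hPD))
    obtain ⟨q, hq⟩ := hYp.nonempty_fixed_point_of_prime_not_dvd_card (L ⧸ X) hindex
    induction q using QuotientGroup.induction_on with
    | H g =>
      have h1 : Y ≤ X.map (MulAut.conj g).toMonoidHom := by
        intro y hy
        rw [mem_map_conj]
        have h2 : (⟨y⁻¹, Y.inv_mem hy⟩ : Y) • ((g : L) : L ⧸ X) = ((g : L) : L ⧸ X) := hq _
        have h3 : ((y⁻¹ * g : L) : L ⧸ X) = ((g : L) : L ⧸ X) := h2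
        rw [QuotientGroup.eq] at h3
        simpa [mul_assoc] using h3
      have h2 : IsCoatom (X.map (MulAut.conj g).toMonoidHom) := isCoatom_map_conj' hX g
      obtain ⟨M₀, -, huniq⟩ := hmin.2
      have h3 : X.map (MulAut.conj g).toMonoidHom = L₀ := by
        rw [huniq _ ⟨h2, h1⟩, huniq _ ⟨hL₀, hYL₀⟩]
      apply hDX
      have h4 : D ≤ X.map (MulAut.conj g).toMonoidHom := by rw [h3]; exact hD
      have h5 := Subgroup.map_mono (f := (MulAut.conj g⁻¹).toMonoidHom) h4
      rwa [map_conj_inv_map_conj, map_conj_eq_of_normal] at h5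
  · have h1 : IsCoatom (L₀.map (QuotientGroup.mk' P)) := by
      constructor
      · intro h
        have h2 := Subgroup.comap_map_eq_self (f := QuotientGroup.mk' P) (H := L₀)
          (by rw [QuotientGroup.ker_mk']; exact hPL₀)
        rw [h, Subgroup.comap_top] at h2
        exact hL₀.1 h2.symm
      · intro b hb
        have h2 : L₀ ≤ b.comap (QuotientGroup.mk' P) := Subgroup.map_le_iff_le_comap.1 hb.le
        rcases eq_or_lt_of_le h2 with h3 | h3
        · exfalso
          apply hb.ne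
          rw [h3, Subgroup.map_comap_eq_self_of_surjective hmk]
        · have h4 := hL₀.2 _ h3
          rw [← Subgroup.map_comap_eq_self_of_surjective hmk b, h4, ← MonoidHom.range_eq_map,
            MonoidHom.range_eq_top.2 hmk]
    have h2 := frattini_le_coatom h1
    set F := (frattini (L ⧸ P)).comap (QuotientGroup.mk' P) with hF
    haveI : F.Normal := Subgroup.Normal.comap inferInstance _
    have h3 : F ≤ L₀ := by
      have h4 : F ≤ (L₀.map (QuotientGroup.mk' P)).comap (QuotientGroup.mk' P) :=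
        Subgroup.comap_mono h2
      rwa [Subgroup.comap_map_eq_self (by rw [QuotientGroup.ker_mk']; exact hPL₀)] at h4
    have h4 : F ≤ D := (Subgroup.normal_le_normalCore).2 h3
    have h5 := Subgroup.map_mono (f := QuotientGroup.mk' P) h4
    rwa [hF, Subgroup.map_comap_eq_self_of_surjective hmk] at h5

theorem ymin_normal_nilpotent {L₀ Y N : Subgroup L} [N.Normal] (hL₀ : IsCoatom L₀) (T : Sylow p ↥L₀)
    (hYT : Y ≤ (T : Subgroup ↥L₀).map L₀.subtype) (hmin : IsMinimalOver Y) (hN : N ≤ L₀) :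
    IsPClosed p ↥N ∧ Group.IsNilpotent (↥N ⧸ pCore p ↥N) ∧ (Nat.card (↥N ⧸ pCore p ↥N)).Coprime p := by
  have hND : N ≤ L₀.normalCore := (Subgroup.normal_le_normalCore).2 hN
  have hPp : IsPGroup p (pCore p L) := isPGroup_pCore
  obtain ⟨h1, h2, h3⟩ := isPClosed_of_forall_le (K := N) hPp
    (fun U hU hUp => ymin_pGroup_le_pCore hL₀ T hYT hmin (hU.trans hND) hUp)
  refine ⟨h1, ?_, ?_⟩
  · set φ : ↥N →* L ⧸ pCore p L := (QuotientGroup.mk' (pCore p L)).comp N.subtype with hφ
    have hker : pCore p ↥N = φ.ker := by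
      rw [h2]
      ext x
      rw [Subgroup.mem_subgroupOf, MonoidHom.mem_ker, hφ, MonoidHom.comp_apply, Subgroup.subtype_apply,
        QuotientGroup.mk'_apply, QuotientGroup.eq_one_iff]
    have hrange : φ.range ≤ frattini (L ⧸ pCore p L) := by
      rintro _ ⟨x, rfl⟩
      rw [← ymin_frattini hL₀ T hYT hmin]
      exact ⟨x, hND x.2, rfl⟩
    haveI : Group.IsNilpotent (frattini (L ⧸ pCore p L)) := frattini_nilpotent
    have h4 : Group.IsNilpotent φ.range :=
      (Group.isNilpotent_congr (Subgroup.subgroupOfEquivOfLe hrange)).1 inferInstance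
    have h5 : Group.IsNilpotent (↥N ⧸ φ.ker) :=
      (Group.isNilpotent_congr (QuotientGroup.quotientKerEquivRange φ)).2 h4
    exact (Group.isNilpotent_congr (QuotientGroup.quotientMulEquivOfEq hker)).2 h5
  · show ((pCore p ↥N).index).Coprime p
    rw [h2]
    exact ((Nat.Prime.coprime_iff_not_dvd (Fact.out : p.Prime)).2 h3).symm

end Cfsg.Agent.H13
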