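import Mathlib
import Cfsg.Agent.Lib.H13.YMin
import Cfsg.Agent.Lib.H20.Commutators

set_option autoImplicit false

namespace Cfsg.Agent.H13

open Cfsg
open scoped commutatorElement

variable {L : Type*} [Group L] [Finite L] {p : ℕ}

/-- In a `Y`-minimal group, a conjugate of `Y` by an element outside the maximal subgroup generates with `Y`. -/
theorem ymin_sup_conj {L₀ Y : Subgroup L} (hL₀ : IsCoatom L₀) (hYL₀ : Y ≤ L₀)
    (hmin : IsMinimalOver Y) {g : L} (hg : g ∉ L₀) :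
    Y ⊔ Y.map (MulAut.conj g).toMonoidHom = ⊤ := by
  by_contra hK
  have h1 := ymin_le_coatom hL₀ hYL₀ hmin le_sup_left hK
  have h2 : Y.map (MulAut.conj g).toMonoidHom ≤ L₀ := le_sup_right.trans h1
  have h3 : Y ≤ L₀.map (MulAut.conj g⁻¹).toMonoidHom := map_conj_le_iff.1 h2
  obtain ⟨M₀, -, huniq⟩ := hmin.2
  have h4 : L₀.map (MulAut.conj g⁻¹).toMonoidHom = L₀ := by
    rw [huniq _ ⟨isCoatom_map_conj' hL₀ _, h3⟩, huniq _ ⟨hL₀, hYL₀⟩]
  have h5 : g⁻¹ ∈ Subgroup.normalizer (L₀ : Set L) := mem_normalizer_of_map_conj_eq h4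
  have h6 : L₀ ≤ Subgroup.normalizer (L₀ : Set L) := Subgroup.le_normalizer
  have h7 : Subgroup.normalizer (L₀ : Set L) ≠ ⊤ := fun h =>
    ymin_ne_normal hL₀ hYL₀ hmin (Subgroup.normalizer_eq_top_iff.1 h)
  have h8 : Subgroup.normalizer (L₀ : Set L) = L₀ := by
    rcases eq_or_lt_of_le h6 with h | h
    · exact h.symm
    · exact absurd (hL₀.2 _ h) h7
  rw [h8] at h5
  exact hg (by simpa using L₀.inv_mem h5)

theorem comm_mem_inf_of_normalizer {P Z : Subgroup L} [hP : P.Normal]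
    (h : P ≤ Subgroup.normalizer (Z : Set L)) {x y : L} (hx : x ∈ P) (hy : y ∈ Z) :
    x * y * x⁻¹ * y⁻¹ ∈ P ⊓ Z := by
  refine Subgroup.mem_inf.2 ⟨?_, ?_⟩
  · have := P.mul_mem hx (hP.conj_mem _ (P.inv_mem hx) y)
    simpa [mul_assoc] using this
  · exact Z.mul_mem ((Subgroup.mem_normalizer_iff.1 (h hx) y).1 hy) (Z.inv_mem hy)

theorem le_normalizer_inf_sup {P Z W : Subgroup L} [hP : P.Normal]
    (h : P ≤ Subgroup.normalizer (Z : Set L)) (hZ : ∀ a ∈ Z, ∀ b ∈ Z, a * b = b * a) (hW : W ≤ P) :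
    Z ≤ Subgroup.normalizer (((P ⊓ Z) ⊔ W : Subgroup L) : Set L) := by
  intro z hz
  apply mem_normalizer_of_map_conj_le
  rw [map_conj_sup]
  apply sup_le
  · rintro _ ⟨v, hv, rfl⟩
    apply Subgroup.mem_sup_left
    have hv2 := (Subgroup.mem_inf.1 hv).2
    have : (MulAut.conj z).toMonoidHom v = v := by
      show z * v * z⁻¹ = v
      rw [hZ z hz v hv2]
      simp
    rw [this]
    exact hv
  · rintro _ ⟨w, hw, rfl⟩
    have h1 : w * z * w⁻¹ * z⁻¹ ∈ P ⊓ Z := comm_mem_inf_of_normalizer h (hW hw) hz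
    have h2 : (MulAut.conj z).toMonoidHom w = (w * z * w⁻¹ * z⁻¹)⁻¹ * w := by
      show z * w * z⁻¹ = (w * z * w⁻¹ * z⁻¹)⁻¹ * w
      group
    rw [h2]
    exact Subgroup.mul_mem _ (Subgroup.mem_sup_left (Subgroup.inv_mem _ h1)) (Subgroup.mem_sup_right hw)

theorem normal_of_le_center {C : Subgroup L} (h : C ≤ Subgroup.center L) : C.Normal := by
  constructor
  intro n hn g
  have h1 : g * n = n * g := (Subgroup.mem_center_iff.1 (h hn) g)
  rw [h1]
  simpa using hn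

theorem pow_mul_mem_commutator {X : Type*} [Group X] {a b : X} {n : ℕ} (ha : a ^ n = 1)
    (hb : b ^ n = 1) : (a * b) ^ n ∈ commutator X := by
  have h : Abelianization.of ((a * b) ^ n) = 1 := by
    rw [map_pow, map_mul, mul_pow, ← map_pow, ← map_pow, ha, hb, map_one, one_mul]
  rw [← Abelianization.ker_of]
  exact h

end Cfsg.Agent.H13
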