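import Mathlib
import Cfsg.Prelude.Def_LocalEven
import Cfsg.Agent.Lib.H13.YMin2
import Cfsg.Agent.Lib.H13.Residual
import Cfsg.Agent.Lib.H12.Core
import Cfsg.Agent.Lib.H02.Zip
import Cfsg.Agent.Lib.H13.CharP
import Cfsg.Agent.Lib.H01.Coprime3

set_option autoImplicit false

namespace Cfsg.Agent.H13

open Cfsg

variable {P : Type*} [Group P] [Finite P] {p : ℕ} [Fact p.Prime]

theorem pmin_le_coatom (hP : IsPMinimal p P) {S : Sylow p P} {M K : Subgroup P} (hM : IsCoatom M)
    (hSM : (S : Subgroup P) ≤ M) (hSK : (S : Subgroup P) ≤ K) (hK : K ≠ ⊤) : K ≤ M := by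
  obtain ⟨M₀, -, huniq⟩ := (hP S).2
  obtain h | ⟨M', hM', hKM⟩ := eq_top_or_exists_le_coatom K
  · exact absurd h hK
  · rw [huniq M ⟨hM, hSM⟩, ← huniq M' ⟨hM', hSK.trans hKM⟩]
    exact hKM

theorem pmin_isMinimalOver (hP : IsPMinimal p P) (S : Sylow p P) :
    IsMinimalOver (S : Subgroup P) := by
  refine ⟨?_, (hP S).2⟩
  by_contra hne
  obtain ⟨M, ⟨hM, hSM⟩, -⟩ := (hP S).2
  set X := Subgroup.normalClosure ((S : Subgroup P) : Set P) with hX
  haveI hXn : X.Normal := Subgroup.normalClosure_normal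
  have hSX : (S : Subgroup P) ≤ X := Subgroup.le_normalClosure
  have hXM : X ≤ M := pmin_le_coatom hP hM hSM hSX hne
  have h1 : Subgroup.normalizer ((S : Subgroup P) : Set P) ⊔ X = ⊤ := by
    have := Sylow.normalizer_sup_eq_top (S.subtype hSX)
    rwa [Sylow.coe_subtype, Subgroup.map_subgroupOf_eq_of_le hSX] at this
  have h2 : Subgroup.normalizer ((S : Subgroup P) : Set P) ≠ ⊤ := fun h =>
    (hP S).1 (Subgroup.normalizer_eq_top_iff.1 h)
  have h3 := pmin_le_coatom hP hM hSM Subgroup.le_normalizer h2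
  exact hM.1 (top_le_iff.1 (h1 ▸ sup_le h3 hXM))

theorem pmin_normal_alt (hP : IsPMinimal p P) {S : Sylow p P} {M : Subgroup P} (hM : IsCoatom M)
    (hSM : (S : Subgroup P) ≤ M) {N : Subgroup P} (hN : N.Normal) :
    pResidual p P ≤ N ∨ N ≤ M.normalCore := by
  by_cases h : N ≤ M
  · right
    exact (Subgroup.normal_le_normalCore).2 h
  · left
    have h1 : N ⊔ (S : Subgroup P) = ⊤ := by
      by_contra hc
      exact h (le_sup_left.trans (pmin_le_coatom hP hM hSM le_sup_right hc))
    exact H12.pResidual_le_of_sup_sylow N S h1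

theorem pmin_core_lt (hP : IsPMinimal p P) {S : Sylow p P} {M : Subgroup P} (hM : IsCoatom M)
    (hSM : (S : Subgroup P) ≤ M) : M.normalCore < pResidual p P ⊔ M.normalCore := by
  refine lt_of_le_of_ne le_sup_right (fun h => ?_)
  have h1 : pResidual p P ≤ M := by
    have h2 : pResidual p P ≤ M.normalCore := by
      rw [h]
      exact le_sup_left
    exact h2.trans (Subgroup.normalCore_le M)
  have h3 := sylow_sup_pResidual S
  exact hM.1 (top_le_iff.1 (h3 ▸ sup_le hSM h1))

theorem normalClosure_eq_top_isSubnormal {G : Type*} [Group G] {H : Subgroup G} (hH : H.IsSubnormal)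
    (hc : Subgroup.normalClosure (H : Set G) = ⊤) : H = ⊤ := by
  induction hH with
  | top => rfl
  | step H K hle hK hN ih =>
    have h1 : K = ⊤ := by
      apply ih
      rw [eq_top_iff, ← hc]
      exact Subgroup.normalClosure_mono hle
    subst h1
    haveI hHn : H.Normal := by
      constructor
      intro n hn g
      have := hN.conj_mem (⟨n, Subgroup.mem_top n⟩ : (⊤ : Subgroup G))
        (by rw [Subgroup.mem_subgroupOf]; exact hn) ⟨g, Subgroup.mem_top g⟩
      rw [Subgroup.mem_subgroupOf] at this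
      exact this
    rw [← hc]
    exact (Subgroup.normalClosure_eq_self H).symm

/-- A subnormal subgroup inside `M` normalized by `S` lies in the core of `M`. -/
theorem pmin_invariant_subnormal_le_core (hP : IsPMinimal p P) {S : Sylow p P} {M Y : Subgroup P}
    (hM : IsCoatom M) (hSM : (S : Subgroup P) ≤ M) (hY : Y.IsSubnormal) (hYM : Y ≤ M)
    (hSY : (S : Subgroup P) ≤ Subgroup.normalizer (Y : Set P)) : Y ≤ M.normalCore := by
  set Z := Subgroup.normalClosure (Y : Set P) with hZ
  haveI hZn : Z.Normal := Subgroup.normalClosure_normal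
  have hYZ : Y ≤ Z := Subgroup.le_normalClosure
  by_cases hZM : Z ≤ M
  · exact hYZ.trans ((Subgroup.normal_le_normalCore).2 hZM)
  · exfalso
    have hsup : Z ⊔ (S : Subgroup P) = ⊤ := by
      by_contra hc
      exact hZM (le_sup_left.trans (pmin_le_coatom hP hM hSM le_sup_right hc))
    -- the normal closure of `Y` in `Z`
    set W := Subgroup.normalClosure ((Y.subgroupOf Z) : Set ↥Z) with hW
    haveI hWn : W.Normal := Subgroup.normalClosure_normal
    set W' := W.map Z.subtype with hW'
    have hYW' : Y ≤ W' := by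
      intro y hy
      exact ⟨⟨y, hYZ hy⟩, Subgroup.le_normalClosure (by
        rw [Subgroup.mem_subgroupOf]; exact hy), rfl⟩
    have hW'n : W'.Normal := by
      rw [← Subgroup.normalizer_eq_top_iff, eq_top_iff, ← hsup]
      apply sup_le
      · intro z hz
        apply mem_normalizer_of_map_conj_le
        rintro _ ⟨_, ⟨w, hw, rfl⟩, rfl⟩
        exact ⟨_, hWn.conj_mem w hw ⟨z, hz⟩, rfl⟩
      · intro s hs
        apply mem_normalizer_of_map_conj_le
        -- conjugation by `s` induces an automorphism of `Z` fixing `Y`.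
        have hsY : Y.map (MulAut.conj s).toMonoidHom = Y := map_conj_eq_of_mem_normalizer (hSY hs)
        let f : ↥Z →* ↥Z :=
          { toFun := fun z => ⟨s * z * s⁻¹, hZn.conj_mem _ z.2 s⟩
            map_one' := by ext; simp
            map_mul' := by intro a b; ext; simp [mul_assoc] }
        have hf : W.map f ≤ W := by
          rw [hW, Subgroup.map_le_iff_le_comap]
          apply Subgroup.normalClosure_le_normal
          intro z hz
          rw [SetLike.mem_coe, Subgroup.mem_comap]
          apply Subgroup.le_normalClosure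
          rw [Subgroup.mem_subgroupOf]
          have : ((f z : ↥Z) : P) ∈ Y.map (MulAut.conj s).toMonoidHom := ⟨z, hz, rfl⟩
          rwa [hsY] at this
        rintro _ ⟨_, ⟨w, hw, rfl⟩, rfl⟩
        exact ⟨f w, hf ⟨w, hw, rfl⟩, rfl⟩
    have hZW' : Z ≤ W' := Subgroup.normalClosure_le_normal hYW'
    have hWtop : W = ⊤ := by
      rw [eq_top_iff]
      rintro z -
      obtain ⟨w, hw, hwz⟩ := hZW' z.2
      have : w = z := Subtype.ext hwz
      rwa [← this]
    have hsn : (Y.subgroupOf Z).IsSubnormal := hY.subgroupOf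
    have h3 := normalClosure_eq_top_isSubnormal hsn hWtop
    have h4 : Z ≤ Y := by
      intro z hz
      have : (⟨z, hz⟩ : ↥Z) ∈ Y.subgroupOf Z := h3 ▸ Subgroup.mem_top _
      rwa [Subgroup.mem_subgroupOf] at this
    exact hZM (h4.trans hYM)

/-- A subnormal subgroup of a `p`-minimal group inside the maximal subgroup lies in its core. -/
theorem pmin_subnormal_le_core (hP : IsPMinimal p P) {S : Sylow p P} {M N : Subgroup P}
    (hM : IsCoatom M) (hSM : (S : Subgroup P) ≤ M) (hN : N.IsSubnormal) (hNM : N ≤ M) :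
    N ≤ M.normalCore := by
  set 𝒴 : Set (Subgroup P) :=
    Set.range (fun s : (S : Subgroup P) => N.map (MulAut.conj (s : P)).toMonoidHom) with h𝒴
  set Y := sSup 𝒴 with hYdef
  have hYsn : Y.IsSubnormal := by
    apply H02.subnormal_sSup
    rintro _ ⟨s, rfl⟩
    exact hN.map (MulAut.conj (s : P)).surjective
  have hYM : Y ≤ M := by
    apply sSup_le
    rintro _ ⟨s, rfl⟩
    rintro _ ⟨n, hn, rfl⟩
    exact M.mul_mem (M.mul_mem (hSM s.2) (hNM hn)) (M.inv_mem (hSM s.2))
  have hNY : N ≤ Y := by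
    apply le_sSup
    exact ⟨1, by
      show N.map (MulAut.conj ((1 : (S : Subgroup P)) : P)).toMonoidHom = N
      rw [OneMemClass.coe_one, map_conj_one]⟩
  have hSY : (S : Subgroup P) ≤ Subgroup.normalizer (Y : Set P) := by
    intro s hs
    apply mem_normalizer_of_map_conj_le
    rw [Subgroup.map_le_iff_le_comap]
    apply sSup_le
    rintro _ ⟨t, rfl⟩
    intro x hx
    rw [Subgroup.mem_comap]
    have h1 : (N.map (MulAut.conj (t : P)).toMonoidHom) ≤ Y.comap (MulAut.conj s).toMonoidHom := by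
      rw [← Subgroup.map_le_iff_le_comap, map_conj_mul]
      exact le_sSup ⟨⟨s * t, Subgroup.mul_mem _ hs t.2⟩, rfl⟩
    exact h1 hx
  exact hNY.trans (pmin_invariant_subnormal_le_core hP hM hSM hYsn hYM hSY)

theorem pmin_pGroup_le_pCore (hP : IsPMinimal p P) {S : Sylow p P} {M U : Subgroup P}
    (hM : IsCoatom M) (hSM : (S : Subgroup P) ≤ M) (hU : U ≤ M.normalCore) (hUp : IsPGroup p U) :
    U ≤ pCore p P := by
  have h1 : (S : Subgroup P) ≤ ((S.subtype hSM : Sylow p ↥M) : Subgroup ↥M).map M.subtype := by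
    rw [Sylow.coe_subtype, Subgroup.map_subgroupOf_eq_of_le hSM]
  exact ymin_pGroup_le_pCore hM (S.subtype hSM) h1 (pmin_isMinimalOver hP S) hU hUp

theorem pmin_subnormal_inf_le (hP : IsPMinimal p P) {S : Sylow p P} {M N : Subgroup P}
    (hM : IsCoatom M) (hSM : (S : Subgroup P) ≤ M) (hN : N.IsSubnormal) (hNM : N ≤ M) :
    N ⊓ (S : Subgroup P) ≤ pCore p P :=
  pmin_pGroup_le_pCore hP hM hSM (inf_le_left.trans (pmin_subnormal_le_core hP hM hSM hN hNM))
    (S.2.to_le inf_le_right)

theorem pmin_primeFactors (hP : IsPMinimal p P) {S : Sylow p P} {M : Subgroup P}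
    (hM : IsCoatom M) (hSM : (S : Subgroup P) ≤ M)
    (hK : ∀ T : Sylow p ↥(pResidual p P), (T : Subgroup ↥(pResidual p P)).Normal) :
    (Nat.card P).primeFactors.card ≤ 2 := by
  classical
  set K := pResidual p P with hKdef
  haveI hKn : K.Normal := pResidual_normal'
  set T' := pCoreOf p K with hT'
  haveI hT'n : T'.Normal := by
    rw [← Subgroup.normalizer_eq_top_iff, eq_top_iff]
    refine le_trans ?_ (normalizer_le_normalizer_pCoreOf K)
    rw [Subgroup.normalizer_eq_top_iff.2 hKn]
  have hT'p : IsPGroup p T' := isPGroup_pCoreOf K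
  have hT'K : T' ≤ K := pCoreOf_le K
  have hT'S : T' ≤ S := sylow_normal_of_normal_le hT'p S
  have hT'M : T' ≤ M := hT'S.trans hSM
  set π := QuotientGroup.mk' T' with hπ
  have hπs : Function.Surjective π := QuotientGroup.mk'_surjective T'
  set Kb := K.map π with hKb
  set Sb := (S : Subgroup P).map π with hSb
  have hSbp : IsPGroup p Sb := S.2.map π
  have hKbcard : ¬ p ∣ Nat.card Kb := by
    obtain ⟨T₀⟩ : Nonempty (Sylow p ↥K) := inferInstance
    have h1 : (T₀ : Subgroup ↥K) = pCore p ↥K := by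
      apply le_antisymm
      · exact le_pCore (hK T₀) T₀.2
      · exact pCore_le_sylow T₀
    set f : ↥K →* P ⧸ T' := π.comp K.subtype with hf
    have h2 : f.ker = (T₀ : Subgroup ↥K) := by
      rw [h1]
      ext x
      rw [MonoidHom.mem_ker, hf, MonoidHom.comp_apply, Subgroup.subtype_apply, hπ,
        QuotientGroup.mk'_apply, QuotientGroup.eq_one_iff, hT']
      constructor
      · rintro ⟨y, hy, hyx⟩
        have : y = x := Subtype.ext hyx
        rwa [← this]
      · intro hx
        exact ⟨x, hx, rfl⟩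
    have h3 : f.range = Kb := by
      rw [hf, MonoidHom.range_comp, Subgroup.range_subtype]
    have h4 := Subgroup.index_ker f
    rw [h2, h3] at h4
    rw [← h4]
    exact T₀.not_dvd_index
  have hcop : (Nat.card Sb).Coprime (Nat.card Kb) := by
    obtain ⟨n, hn⟩ := IsPGroup.iff_card.1 hSbp
    rw [hn]
    exact Nat.Coprime.pow_left n ((Nat.Prime.coprime_iff_not_dvd Fact.out).2 hKbcard)
  have hSbsolv : Group.IsSolvable Sb := by
    haveI := hSbp.isNilpotent
    infer_instance
  haveI hKbn : Kb.Normal := Subgroup.Normal.map hKn π hπs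
  have hSbN : Sb ≤ Subgroup.normalizer (Kb : Set (P ⧸ T')) := by
    rw [Subgroup.normalizer_eq_top_iff.2 hKbn]
    exact le_top
  by_cases hex : ∃ (q : ℕ) (_ : q.Prime), q ≠ p ∧ ∃ R : Subgroup (P ⧸ T'), IsPGroup q R ∧
      Sb ≤ Subgroup.normalizer (R : Set (P ⧸ T')) ∧ R ⊔ Sb = ⊤
  · obtain ⟨q, hq, hqp, R, hRq, hRN, hRS⟩ := hex
    haveI := Fact.mk hq
    have hcoprime : (Nat.card R).Coprime (Nat.card Sb) :=
      IsPGroup.coprime_card_of_ne q p hqp R Sb hRq hSbp
    have hcard := Cfsg.Agent.H01.card_sup_of_le_normalizer hRN hcoprime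
    rw [hRS, Subgroup.card_top] at hcard
    have hcardP : Nat.card P = Nat.card T' * (Nat.card R * Nat.card Sb) := by
      rw [hcard]
      exact (Subgroup.card_mul_index T').symm
    have hsub : (Nat.card P).primeFactors ⊆ {p, q} := by
      intro r hr
      have hrp := Nat.prime_of_mem_primeFactors hr
      have hrd := Nat.dvd_of_mem_primeFactors hr
      rw [hcardP] at hrd
      obtain ⟨a, ha⟩ := IsPGroup.iff_card.1 hT'p
      obtain ⟨b, hb⟩ := IsPGroup.iff_card.1 hRq
      obtain ⟨c, hc⟩ := IsPGroup.iff_card.1 hSbp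
      rw [ha, hb, hc] at hrd
      have hp : p.Prime := Fact.out
      simp only [Finset.mem_insert, Finset.mem_singleton]
      rcases (Nat.Prime.dvd_mul hrp).1 hrd with h | h
      · exact Or.inl ((Nat.prime_dvd_prime_iff_eq hrp hp).1 (hrp.dvd_of_dvd_pow h))
      · rcases (Nat.Prime.dvd_mul hrp).1 h with h | h
        · exact Or.inr ((Nat.prime_dvd_prime_iff_eq hrp hq).1 (hrp.dvd_of_dvd_pow h))
        · exact Or.inl ((Nat.prime_dvd_prime_iff_eq hrp hp).1 (hrp.dvd_of_dvd_pow h))
    exact (Finset.card_le_card hsub).trans Finset.card_le_two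
  · exfalso
    set Mb := M.map π with hMb
    have hall : ∀ (q : ℕ) [Fact q.Prime], q ≠ p →
        ∃ R : Sylow q ↥Kb, (R : Subgroup ↥Kb).map Kb.subtype ≤ Mb := by
      intro q _ hqp
      obtain ⟨R, hR⟩ := Cfsg.Agent.H01.exists_invariant_sylow hSbN hcop (Or.inl hSbsolv) q
      refine ⟨R, ?_⟩
      set R' := (R : Subgroup ↥Kb).map Kb.subtype with hR'
      have hne : R' ⊔ Sb ≠ ⊤ := fun h =>
        hex ⟨q, Fact.out, hqp, R', R.2.map _, hR, h⟩
      have h1 : (R' ⊔ Sb).comap π ≠ ⊤ := by
        intro h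
        apply hne
        rw [← Subgroup.map_comap_eq_self_of_surjective hπs (R' ⊔ Sb), h, ← MonoidHom.range_eq_map,
          MonoidHom.range_eq_top.2 hπs]
      have h2 : (S : Subgroup P) ≤ (R' ⊔ Sb).comap π :=
        Subgroup.map_le_iff_le_comap.1 le_sup_right
      have h3 := pmin_le_coatom hP hM hSM h2 h1
      calc R' ≤ R' ⊔ Sb := le_sup_left
        _ = ((R' ⊔ Sb).comap π).map π := (Subgroup.map_comap_eq_self_of_surjective hπs _).symm
        _ ≤ Mb := Subgroup.map_mono h3
    set U := Mb.subgroupOf Kb with hUdef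
    have hU : U.index = 1 := by
      by_contra hne
      obtain ⟨r, hr, hdvd⟩ := Nat.exists_prime_and_dvd hne
      by_cases hrp : r = p
      · subst hrp
        exact hKbcard (hdvd.trans (Subgroup.index_dvd_card U))
      · haveI := Fact.mk hr
        obtain ⟨R, hR⟩ := hall r hrp
        have hRU : (R : Subgroup ↥Kb) ≤ U := fun x hx => by
          rw [hUdef, Subgroup.mem_subgroupOf]
          exact hR ⟨x, hx, rfl⟩
        exact R.not_dvd_index (hdvd.trans (Subgroup.index_dvd_of_le hRU))
    have hU' : U = ⊤ := Subgroup.index_eq_one.1 hU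
    have hKbM : Kb ≤ Mb := fun x hx => by
      have : (⟨x, hx⟩ : ↥Kb) ∈ U := hU' ▸ Subgroup.mem_top _
      exact this
    have hKM : K ≤ M := by
      have h1 : K ≤ Kb.comap π := Subgroup.le_comap_map _ _
      have h2 : Mb.comap π = M := Subgroup.comap_map_eq_self (by
        rw [hπ, QuotientGroup.ker_mk']
        exact hT'M)
      exact h1.trans ((Subgroup.comap_mono hKbM).trans_eq h2)
    exact hM.1 (top_le_iff.1 ((sylow_sup_pResidual S) ▸ sup_le hSM hKM))

end Cfsg.Agent.H13
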