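import Mathlib
import Cfsg.Agent.Lib.H13.PMin
import Cfsg.Agent.Lib.H13.KeyChar2
import Cfsg.Agent.Lib.H05.Comp3
import Cfsg.Agent.Lib.H07.FStar
import Cfsg.Agent.Lib.H02.SolvA
import Cfsg.Agent.Lib.H18.Zipper
import Cfsg.Agent.Lib.H20.Commutators
import Cfsg.Agent.Lib.H01.Fitting
import Cfsg.Agent.Lib.H12.Quasi

set_option autoImplicit false

namespace Cfsg.Agent.H13

open Cfsg
open scoped commutatorElement

variable {P : Type*} [Group P] [Finite P] {p : ℕ} [Fact p.Prime]

theorem perfect_le_pResidual {K : Subgroup P} (hK : commutator ↥K = ⊤) : K ≤ pResidual p P := by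
  have hQ : IsPGroup p (P ⧸ pResidual p P) := isPGroup_quotient_pResidual
  set f : ↥K →* P ⧸ pResidual p P := (QuotientGroup.mk' _).comp K.subtype with hf
  set g := f.rangeRestrict with hg
  have hgs : Function.Surjective g := f.rangeRestrict_surjective
  have hY : IsPGroup p f.range := IsPGroup.to_subgroup hQ _
  have h1 : commutator ↥f.range = ⊤ := by
    have h := Subgroup.map_commutator (⊤ : Subgroup ↥K) ⊤ g
    rw [← _root_.commutator_def, hK] at h
    have h2 : (⊤ : Subgroup ↥K).map g = ⊤ := by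
      rw [← MonoidHom.range_eq_map, MonoidHom.range_eq_top.2 hgs]
    rw [h2] at h
    rw [_root_.commutator_def, ← h]
  have h2 : frattini ↥f.range = ⊤ :=
    top_le_iff.1 (h1 ▸ Cfsg.Agent.H01.commutator_le_frattini_of_isPGroup hY)
  have h3 : (⊥ : Subgroup ↥f.range) = ⊤ := frattini_nongenerating (by rw [h2, sup_top_eq])
  intro x hx
  have h4 : g ⟨x, hx⟩ ∈ (⊥ : Subgroup ↥f.range) := h3 ▸ Subgroup.mem_top _
  have h5 : g ⟨x, hx⟩ = 1 := Subgroup.mem_bot.1 h4
  have h6 : f ⟨x, hx⟩ = 1 := congrArg Subtype.val h5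
  exact (QuotientGroup.eq_one_iff x).1 h6

theorem pmin_core_isNilpotent (hP : IsPMinimal p P) (hOp : pCore p P = ⊥) {S : Sylow p P}
    {M : Subgroup P} (hM : IsCoatom M) (hSM : (S : Subgroup P) ≤ M) :
    Group.IsNilpotent ↥M.normalCore := by
  haveI : (M.normalCore).Normal := Subgroup.normalCore_normal M
  have h1 : (S : Subgroup P) ≤ ((S.subtype hSM : Sylow p ↥M) : Subgroup ↥M).map M.subtype := by
    rw [Sylow.coe_subtype, Subgroup.map_subgroupOf_eq_of_le hSM]
  obtain ⟨-, h2, -⟩ := ymin_normal_nilpotent hM (S.subtype hSM) h1 (pmin_isMinimalOver hP S)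
    (Subgroup.normalCore_le M)
  have h3 : pCore p ↥M.normalCore = ⊥ := by
    have := (isPClosed_of_forall_le (K := M.normalCore) (P := pCore p P) isPGroup_pCore
      (fun U hU hUp => pmin_pGroup_le_pCore hP hM hSM hU hUp)).2.1
    rw [this, hOp, Subgroup.bot_subgroupOf]
  have e : (↥M.normalCore ⧸ pCore p ↥M.normalCore) ≃* ↥M.normalCore :=
    (QuotientGroup.quotientMulEquivOfEq h3).trans QuotientGroup.quotientBot
  exact (Group.isNilpotent_congr e).1 h2

theorem pmin_component_not_le (hP : IsPMinimal p P) (hOp : pCore p P = ⊥) {S : Sylow p P}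
    {M K : Subgroup P} (hM : IsCoatom M) (hSM : (S : Subgroup P) ≤ M) (hK : IsComponent K) :
    ¬ K ≤ M := by
  intro hKM
  have hKD := pmin_subnormal_le_core hP hM hSM hK.1 hKM
  haveI := pmin_core_isNilpotent hP hOp hM hSM
  have h1 : Group.IsNilpotent (K.subgroupOf M.normalCore) := inferInstance
  have h2 : Group.IsNilpotent K :=
    (Group.isNilpotent_congr (Subgroup.subgroupOfEquivOfLe hKD)).1 h1
  exact H05.qs_not_nilpotent hK.2 h2

/-- the join of the `S`-conjugates of `H`. -/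
def conjJoin (S H : Subgroup P) : Subgroup P :=
  ⨆ s : ↥S, H.map (MulAut.conj (s : P)).toMonoidHom

omit [Finite P] [Fact p.Prime] in
theorem conj_le_conjJoin (S H : Subgroup P) {s : P} (hs : s ∈ S) :
    H.map (MulAut.conj s).toMonoidHom ≤ conjJoin S H :=
  le_iSup (fun s : ↥S => H.map (MulAut.conj (s : P)).toMonoidHom) ⟨s, hs⟩

omit [Finite P] [Fact p.Prime] in
theorem le_conjJoin (S H : Subgroup P) : H ≤ conjJoin S H := by
  have := conj_le_conjJoin S H S.one_mem
  rwa [map_conj_one] at this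

theorem le_normalizer_conjJoin (S H : Subgroup P) :
    S ≤ Subgroup.normalizer (conjJoin S H : Set P) := by
  intro s hs
  apply mem_normalizer_of_map_conj_le
  rw [Subgroup.map_le_iff_le_comap]
  apply iSup_le
  rintro t
  rw [← Subgroup.map_le_iff_le_comap, map_conj_mul]
  exact conj_le_conjJoin S H (S.mul_mem hs t.2)

/-- `S`-invariant joins not in `M` contain `O^p(P)`. -/
theorem pmin_conjJoin_alt (hP : IsPMinimal p P) {S : Sylow p P} {M H : Subgroup P}
    (hM : IsCoatom M) (hSM : (S : Subgroup P) ≤ M) (hH : ¬ H ≤ M) :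
    pResidual p P ≤ conjJoin S H := by
  set A := conjJoin S H with hA
  have hAS : A ⊔ (S : Subgroup P) = ⊤ := by
    by_contra hc
    exact hH ((le_conjJoin _ _).trans (le_sup_left.trans (pmin_le_coatom hP hM hSM le_sup_right hc)))
  haveI hAn : A.Normal := by
    rw [← Subgroup.normalizer_eq_top_iff, eq_top_iff, ← hAS]
    exact sup_le Subgroup.le_normalizer (le_normalizer_conjJoin _ _)
  exact H12.pResidual_le_of_sup_sylow A S hAS

omit [Fact p.Prime] in
theorem isComponent_map_conj {K : Subgroup P} (hK : IsComponent K) (g : P) :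
    IsComponent (K.map (MulAut.conj g).toMonoidHom) := by
  refine ⟨hK.1.map (MulAut.conj g).surjective, ?_⟩
  exact H07.isQuasisimple_of_mulEquiv (K.equivMapOfInjective _ (MulAut.conj g).injective) hK.2

theorem fitting_le_pResidual (hOp : pCore p P = ⊥) : fittingSubgroup P ≤ pResidual p P := by
  set F := fittingSubgroup P with hF
  haveI hFn : F.Normal := H01.fitting_normal
  haveI hFnil : Group.IsNilpotent F := H01.fitting_nilpotent
  obtain ⟨T⟩ : Nonempty (Sylow p ↥F) := inferInstance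
  have hTn : (T : Subgroup ↥F).Normal := inferInstance
  have h1 : (T : Subgroup ↥F) ≤ pCore p ↥F := le_pCore hTn T.2
  have h2 : pCoreOf p F ≤ pCore p P := by
    apply le_pCore _ (isPGroup_pCoreOf F)
    rw [← Subgroup.normalizer_eq_top_iff, eq_top_iff]
    refine le_trans ?_ (normalizer_le_normalizer_pCoreOf F)
    rw [Subgroup.normalizer_eq_top_iff.2 hFn]
  have h3 : (T : Subgroup ↥F) = ⊥ := by
    rw [eq_bot_iff]
    intro x hx
    have : (x : P) ∈ pCore p P := h2 ⟨x, h1 hx, rfl⟩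
    rw [hOp, Subgroup.mem_bot] at this
    exact Subgroup.mem_bot.2 (Subtype.ext this)
  have h4 := T.not_dvd_index
  rw [h3, Subgroup.index_bot] at h4
  intro x hx
  apply mem_pResidual_of_coprime
  have h5 : orderOf x = orderOf (⟨x, hx⟩ : ↥F) := (Subgroup.orderOf_mk x hx).symm
  rw [h5]
  have h6 : orderOf (⟨x, hx⟩ : ↥F) ∣ Nat.card ↥F := orderOf_dvd_natCard _
  refine Nat.Coprime.symm ?_
  exact (Nat.Prime.coprime_iff_not_dvd Fact.out).2 (fun h => h4 (h.trans h6))

/-- The main structure theorem. -/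
theorem pmin_layer (hP : IsPMinimal p P) (hOp : pCore p P = ⊥) (S : Sylow p P) {K : Subgroup P}
    (hK : IsComponent K) : pResidual p P = generalizedFittingSubgroup P ∧
      generalizedFittingSubgroup P = layer P ∧ layer P = conjJoin (S : Subgroup P) K := by
  obtain ⟨M, ⟨hM, hSM⟩, -⟩ := (hP S).2
  have hKM := pmin_component_not_le hP hOp hM hSM hK
  have h1 : pResidual p P ≤ conjJoin (S : Subgroup P) K := pmin_conjJoin_alt hP hM hSM hKM
  have h2 : conjJoin (S : Subgroup P) K ≤ layer P := by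
    apply iSup_le
    intro s
    exact H05.comp_le_layer (isComponent_map_conj hK _)
  have h3 : layer P ≤ pResidual p P := by
    apply sSup_le
    intro K' hK'
    exact perfect_le_pResidual (H05.qs_perfect hK'.2)
  have h4 : fittingSubgroup P ≤ pResidual p P := fitting_le_pResidual hOp
  have e1 : layer P = pResidual p P := le_antisymm h3 (h1.trans h2)
  have e2 : generalizedFittingSubgroup P = layer P := by
    unfold generalizedFittingSubgroup
    rw [e1]
    exact sup_eq_left.2 h4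
  refine ⟨by rw [e2, e1], e2, ?_⟩
  exact le_antisymm (e1.le.trans h1) h2

theorem isPMinimal_of_sylow {G : Type*} [Group G] [Finite G] (T : Sylow p G)
    (h1 : ¬ (T : Subgroup G).Normal) (h2 : ∃! M : Subgroup G, IsCoatom M ∧ (T : Subgroup G) ≤ M) :
    IsPMinimal p G := by
  intro S₀
  obtain ⟨g, hg⟩ := sylow_conj T S₀
  constructor
  · intro hn
    apply h1
    have h3 : (T : Subgroup G) = (S₀ : Subgroup G).map (MulAut.conj g⁻¹).toMonoidHom := by
      rw [hg, map_conj_inv_map_conj]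
    rw [h3, map_conj_eq_of_normal]
    exact hn
  · obtain ⟨M, ⟨hM, hTM⟩, huniq⟩ := h2
    refine ⟨M.map (MulAut.conj g).toMonoidHom, ⟨isCoatom_map_conj' hM g, ?_⟩, ?_⟩
    · rw [hg]
      exact Subgroup.map_mono hTM
    · rintro A ⟨hA, hSA⟩
      have h3 : A.map (MulAut.conj g⁻¹).toMonoidHom = M := by
        apply huniq _ ⟨isCoatom_map_conj' hA _, ?_⟩
        have h4 := Subgroup.map_mono (f := (MulAut.conj g⁻¹).toMonoidHom) hSA
        rwa [hg, map_conj_inv_map_conj] at h4
      rw [← h3, map_conj_map_conj_inv]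

/-- The crucial lemma: a subgroup `A` with `R ≤ A ≤ K R`, not in `M`, contains `K`. -/
theorem pmin_comp_claim (hP : IsPMinimal p P) {S : Sylow p P} {M K A : Subgroup P}
    (hM : IsCoatom M) (hSM : (S : Subgroup P) ≤ M) (hK : IsComponent K)
    (hRA : (S : Subgroup P) ⊓ Subgroup.normalizer (K : Set P) ≤ A)
    (hAX : A ≤ K ⊔ ((S : Subgroup P) ⊓ Subgroup.normalizer (K : Set P))) (hAM : ¬ A ≤ M) :
    K ≤ A := by
  set R := (S : Subgroup P) ⊓ Subgroup.normalizer (K : Set P) with hR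
  have hRN : R ≤ Subgroup.normalizer (K : Set P) := inf_le_right
  have hRS : R ≤ (S : Subgroup P) := inf_le_left
  set H := A ⊓ K with hH
  have hHM : ¬ H ≤ M := by
    intro hHM
    apply hAM
    intro a ha
    have ha' : a ∈ ((K ⊔ R : Subgroup P) : Set P) := hAX ha
    rw [Subgroup.coe_mul_of_right_le_normalizer_left K R hRN] at ha'
    obtain ⟨k, hk, r, hr, rfl⟩ := ha'
    have hk' : k ∈ H := by
      refine Subgroup.mem_inf.2 ⟨?_, hk⟩
      have := A.mul_mem ha (A.inv_mem (hRA hr))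
      simpa using this
    exact M.mul_mem (hHM hk') (hSM (hRS hr))
  have hRH : R ≤ Subgroup.normalizer (H : Set P) := by
    intro r hr
    exact mem_normalizer_inf (Subgroup.le_normalizer (hRA hr)) (hRN hr)
  have h1 : K ≤ conjJoin (S : Subgroup P) H :=
    (perfect_le_pResidual (H05.qs_perfect hK.2)).trans (pmin_conjJoin_alt hP hM hSM hHM)
  set C := Subgroup.centralizer (K : Set P) with hC
  have h2 : conjJoin (S : Subgroup P) H ≤ H ⊔ C := by
    apply iSup_le
    rintro ⟨s, hs⟩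
    by_cases hsK : s ∈ Subgroup.normalizer (K : Set P)
    · have : H.map (MulAut.conj s).toMonoidHom = H :=
        map_conj_eq_of_mem_normalizer (hRH (Subgroup.mem_inf.2 ⟨hs, hsK⟩))
      show H.map (MulAut.conj s).toMonoidHom ≤ H ⊔ C
      rw [this]
      exact le_sup_left
    · have h3 : K.map (MulAut.conj s).toMonoidHom ≠ K := fun h =>
        hsK (mem_normalizer_of_map_conj_eq h)
      have h4 := H05.comp_eq_or_comm (isComponent_map_conj hK s) hK
      have h5 : ⁅K.map (MulAut.conj s).toMonoidHom, K⁆ = ⊥ := h4.resolve_left h3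
      have h6 : H.map (MulAut.conj s).toMonoidHom ≤ C := by
        rintro _ ⟨h, hh, rfl⟩
        rw [hC, Subgroup.mem_centralizer_iff]
        intro k hk
        have h7 := H05.comm_bot_iff.1 h5 _ ⟨h, (Subgroup.mem_inf.1 hh).2, rfl⟩ k hk
        exact h7.symm
      exact h6.trans le_sup_right
  -- every element of `K` is `h c`
  have h3 : ∀ x ∈ K, ∃ h ∈ H, ∃ c ∈ K ⊓ C, x = h * c := by
    intro x hx
    have hx' := h2 (h1 hx)
    obtain ⟨h, hh, c, hc, rfl⟩ := H05.mem_sup_of_commute (A := H) (B := C)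
      (fun a ha b hb => Subgroup.mem_centralizer_iff.1 hb a (Subgroup.mem_inf.1 ha).2) hx'
    refine ⟨h, hh, c, Subgroup.mem_inf.2 ⟨?_, hc⟩, rfl⟩
    have := K.mul_mem (K.inv_mem (Subgroup.mem_inf.1 hh).2) hx
    simpa using this
  have h4 : ⁅K, K⁆ ≤ H := by
    rw [Subgroup.commutator_le]
    intro x hx y hy
    obtain ⟨h₁, hh₁, c₁, hc₁, rfl⟩ := h3 x hx
    obtain ⟨h₂, hh₂, c₂, hc₂, rfl⟩ := h3 y hy
    obtain ⟨hc₁K, hc₁C⟩ := Subgroup.mem_inf.1 hc₁
    obtain ⟨hc₂K, hc₂C⟩ := Subgroup.mem_inf.1 hc₂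
    have hh₁K := (Subgroup.mem_inf.1 hh₁).2
    have hh₂K := (Subgroup.mem_inf.1 hh₂).2
    have e1 : c₁ * h₂ = h₂ * c₁ := (Subgroup.mem_centralizer_iff.1 hc₁C h₂ hh₂K).symm
    have e2 : c₁ * c₂ = c₂ * c₁ := (Subgroup.mem_centralizer_iff.1 hc₁C c₂ hc₂K).symm
    have e3 : c₂ * h₁ = h₁ * c₂ := (Subgroup.mem_centralizer_iff.1 hc₂C h₁ hh₁K).symm
    have e4 : ⁅h₁ * c₁, h₂ * c₂⁆ = ⁅h₁, h₂⁆ := by
      rw [commutatorElement_def, commutatorElement_def]
      have e5 : c₁ * (h₂ * c₂) = h₂ * c₂ * c₁ := by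
        rw [← mul_assoc, e1, mul_assoc, e2, ← mul_assoc]
      have e6 : c₂ * h₁⁻¹ = h₁⁻¹ * c₂ := by
        rw [eq_inv_mul_iff_mul_eq, ← mul_assoc, ← e3]
        group
      calc h₁ * c₁ * (h₂ * c₂) * (h₁ * c₁)⁻¹ * (h₂ * c₂)⁻¹
          = h₁ * (c₁ * (h₂ * c₂)) * c₁⁻¹ * h₁⁻¹ * c₂⁻¹ * h₂⁻¹ := by group
        _ = h₁ * (h₂ * c₂ * c₁) * c₁⁻¹ * h₁⁻¹ * c₂⁻¹ * h₂⁻¹ := by rw [e5]
        _ = h₁ * h₂ * (c₂ * h₁⁻¹) * c₂⁻¹ * h₂⁻¹ := by group
        _ = h₁ * h₂ * (h₁⁻¹ * c₂) * c₂⁻¹ * h₂⁻¹ := by rw [e6]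
        _ = h₁ * h₂ * h₁⁻¹ * h₂⁻¹ := by group
    rw [e4, commutatorElement_def]
    exact H.mul_mem (H.mul_mem (H.mul_mem hh₁ hh₂) (H.inv_mem hh₁)) (H.inv_mem hh₂)
  rw [H12.qs_perfect_at hK.2] at h4
  exact h4.trans inf_le_left

theorem not_dvd_index_R {K : Subgroup P} (hK : K.IsSubnormal) (S : Sylow p P) :
    ¬ p ∣ (((S : Subgroup P) ⊓ Subgroup.normalizer (K : Set P)).subgroupOf
      (K ⊔ ((S : Subgroup P) ⊓ Subgroup.normalizer (K : Set P)))).index := by
  set R := (S : Subgroup P) ⊓ Subgroup.normalizer (K : Set P) with hR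
  set X := K ⊔ R with hX
  have hRN : R ≤ Subgroup.normalizer (K : Set P) := inf_le_right
  have hKX : K ≤ X := le_sup_left
  have hRX : R ≤ X := le_sup_right
  haveI hDn : (K.subgroupOf X).Normal :=
    (Subgroup.normal_subgroupOf_iff_le_normalizer hKX).2 (sup_le Subgroup.le_normalizer hRN)
  have hsup : R.subgroupOf X ⊔ K.subgroupOf X = ⊤ := by
    rw [← H18.sup_subgroupOf_of_le hRX hKX, sup_comm]
    exact Subgroup.subgroupOf_self X
  have hSK : (S : Subgroup P) ⊓ K ≤ R :=
    le_inf inf_le_left (inf_le_right.trans Subgroup.le_normalizer)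
  have h1 := index_dvd_of_sup_eq_top (P := ((S : Subgroup P) ⊓ K).subgroupOf X) hsup
    (Subgroup.comap_mono hSK) (Subgroup.comap_mono inf_le_right)
  rw [Subgroup.relIndex_subgroupOf hKX, Subgroup.inf_relIndex_right] at h1
  exact fun h => H02.sylow_subgroupOf_index p S hK (h.trans h1)

/-- `K N_S(K)` is `p`-minimal. -/
theorem pmin_component_isPMinimal (hP : IsPMinimal p P) (hOp : pCore p P = ⊥) (S : Sylow p P)
    {K : Subgroup P} (hK : IsComponent K) :
    IsPMinimal p ↥(K ⊔ ((S : Subgroup P) ⊓ Subgroup.normalizer (K : Set P))) := by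
  obtain ⟨M, ⟨hM, hSM⟩, -⟩ := (hP S).2
  have hKM := pmin_component_not_le hP hOp hM hSM hK
  have hnd := not_dvd_index_R hK.1 S
  set R := (S : Subgroup P) ⊓ Subgroup.normalizer (K : Set P) with hR
  set X := K ⊔ R with hX
  have hRS : R ≤ (S : Subgroup P) := inf_le_left
  have hKX : K ≤ X := le_sup_left
  have hRX : R ≤ X := le_sup_right
  have hRp : IsPGroup p (R.subgroupOf X) := isPGroup_subgroupOf (S.2.to_le hRS)
  -- the key property in `X`
  have hkey : ∀ A : Subgroup ↥X, R.subgroupOf X ≤ A → A ≠ ⊤ → A ≤ M.subgroupOf X := by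
    intro A hRA hA x hx
    rw [Subgroup.mem_subgroupOf]
    by_contra hxM
    apply hA
    set A' := A.map X.subtype with hA'
    have h1 : R ≤ A' := by
      intro r hr
      exact ⟨⟨r, hRX hr⟩, hRA (by rw [Subgroup.mem_subgroupOf]; exact hr), rfl⟩
    have h2 : A' ≤ X := Subgroup.map_subtype_le _
    have h3 : ¬ A' ≤ M := fun h => hxM (h ⟨x, hx, rfl⟩)
    have h4 := pmin_comp_claim hP hM hSM hK h1 h2 h3
    rw [eq_top_iff]
    rintro y -
    have hy : (y : P) ∈ A' := (sup_le h4 h1) y.2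
    obtain ⟨z, hz, hzy⟩ := hy
    have : z = y := Subtype.ext hzy
    rwa [← this]
  have hMne : M.subgroupOf X ≠ ⊤ := by
    intro h
    apply hKM
    intro k hk
    have : (⟨k, hKX hk⟩ : ↥X) ∈ M.subgroupOf X := h ▸ Subgroup.mem_top _
    exact this
  have hRM : R.subgroupOf X ≤ M.subgroupOf X := Subgroup.comap_mono (hRS.trans hSM)
  apply isPMinimal_of_sylow (hRp.toSylow hnd)
  · -- not normal
    intro hn
    have hn' : (R.subgroupOf X).Normal := hn
    obtain ⟨x, hxK, hxM⟩ := Set.not_subset.1 hKM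
    set Z := (Subgroup.zpowers x) ⊔ R with hZ
    have h1 : R ≤ Z := le_sup_right
    have h2 : Z ≤ X := sup_le ((Subgroup.zpowers_le.2 hxK).trans hKX) hRX
    have h3 : ¬ Z ≤ M := fun h => hxM (h (Subgroup.mem_sup_left (Subgroup.mem_zpowers x)))
    have h4 := pmin_comp_claim hP hM hSM hK h1 h2 h3
    have h5 : ⁅Z.subgroupOf X, Z.subgroupOf X⁆ ≤ R.subgroupOf X := by
      have e : Z.subgroupOf X = (Subgroup.zpowers x).subgroupOf X ⊔ R.subgroupOf X :=
        H18.sup_subgroupOf_of_le ((Subgroup.zpowers_le.2 hxK).trans hKX) hRX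
      have a1 : ⁅(Subgroup.zpowers x).subgroupOf X, (Subgroup.zpowers x).subgroupOf X⁆
          ≤ R.subgroupOf X := by
        rw [Subgroup.commutator_le]
        intro a ha b hb
        rw [Subgroup.mem_subgroupOf, Subgroup.mem_zpowers_iff] at ha hb
        obtain ⟨i, hi⟩ := ha
        obtain ⟨j, hj⟩ := hb
        have : a * b = b * a := by
          ext
          simp only [Subgroup.coe_mul, ← hi, ← hj]
          exact (Commute.refl x).zpow_zpow i j
        rw [commutatorElement_eq_one_iff_mul_comm.2 this]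
        exact Subgroup.one_mem _
      rw [e]
      apply H20.commutator_sup_right_le
      · rw [Subgroup.commutator_comm]
        apply H20.commutator_sup_right_le
        · exact a1
        · exact Subgroup.commutator_le_right ((Subgroup.zpowers x).subgroupOf X) (R.subgroupOf X)
      · exact Subgroup.commutator_le_right _ (R.subgroupOf X)
    have h6 : ⁅K, K⁆ ≤ R := by
      rw [Subgroup.commutator_le]
      intro a ha b hb
      have a1 := Subgroup.commutator_le.1 h5 ⟨a, hKX ha⟩ (by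
        rw [Subgroup.mem_subgroupOf]; exact h4 ha) ⟨b, hKX hb⟩ (by
        rw [Subgroup.mem_subgroupOf]; exact h4 hb)
      rw [Subgroup.mem_subgroupOf] at a1
      exact a1
    rw [H12.qs_perfect_at hK.2] at h6
    have h7 : IsPGroup p K := S.2.to_le (h6.trans hRS)
    exact H05.qs_not_nilpotent hK.2 h7.isNilpotent
  · refine ⟨M.subgroupOf X, ⟨⟨hMne, ?_⟩, hRM⟩, ?_⟩
    · intro b hb
      by_contra hbt
      exact absurd (hkey b (hRM.trans hb.le) hbt) (not_le_of_gt hb)
    · rintro A ⟨hA, hRA⟩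
      have h1 := hkey A hRA hA.1
      rcases eq_or_lt_of_le h1 with h | h
      · exact h
      · exact absurd (hA.2 _ h) hMne

end Cfsg.Agent.H13
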