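import Cfsg.Agent.Lib.H13.WeakChar
import Cfsg.Agent.Lib.H13.LargeChar2
import Cfsg.Agent.Lib.H13.Residual

/-!
`O^p`, commutators and weak closures.
-/

set_option autoImplicit false
set_option linter.style.haveILetI false

namespace Cfsg.Agent.H13

open Cfsg
open scoped commutatorElement Pointwise

variable {G : Type*} [Group G] {p : ℕ}

theorem pResidual_map_eq_ppGen (D : Subgroup G) : (pResidual p ↥D).map D.subtype = ppGen p D := by
  unfold pResidual ppGen
  rw [MonoidHom.map_closure]
  congr 1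
  ext x
  constructor
  · rintro ⟨y, hy, rfl⟩
    refine ⟨y.2, ?_⟩
    have : orderOf ((D.subtype) y) = orderOf y := Subgroup.orderOf_coe y
    rw [this]
    exact hy
  · rintro ⟨hx, hc⟩
    refine ⟨⟨x, hx⟩, ?_, rfl⟩
    have : orderOf (⟨x, hx⟩ : D) = orderOf x := (Subgroup.orderOf_coe (⟨x, hx⟩ : D)).symm
    show Nat.Coprime (orderOf (⟨x, hx⟩ : D)) p
    rw [this]
    exact hc

theorem ppGen_mono {A B : Subgroup G} (h : A ≤ B) : ppGen p A ≤ ppGen p B := by
  unfold ppGen
  apply Subgroup.closure_mono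
  exact fun x hx => ⟨h hx.1, hx.2⟩

theorem ppGen_idem (D : Subgroup G) : ppGen p (ppGen p D) = ppGen p D := by
  apply le_antisymm (ppGen_le _)
  conv_lhs => unfold ppGen
  apply Subgroup.closure_le _ |>.2
  intro x hx
  exact Subgroup.subset_closure ⟨Subgroup.subset_closure hx, hx.2⟩

theorem mem_normalizer_sup {A B : Subgroup G} {g : G} (hA : g ∈ Subgroup.normalizer (A : Set G))
    (hB : g ∈ Subgroup.normalizer (B : Set G)) : g ∈ Subgroup.normalizer ((A ⊔ B : Subgroup G) : Set G) := by
  rw [mem_normalizer_iff_map_conj] at *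
  rw [map_conj_sup, hA, hB]

section
variable [Finite G] [Fact p.Prime]

theorem mem_of_coprime_of_mem_sup {H Q : Subgroup G} (hQ : IsPGroup p Q)
    (hN : Q ≤ Subgroup.normalizer (H : Set G)) {x : G} (hx : x ∈ H ⊔ Q)
    (hc : Nat.Coprime (orderOf x) p) : x ∈ H := by
  have hp : p.Prime := Fact.out
  have hx' : x ∈ ((H ⊔ Q : Subgroup G) : Set G) := hx
  rw [Subgroup.coe_mul_of_right_le_normalizer_left H Q hN] at hx'
  obtain ⟨h, hh, q, hq, rfl⟩ := Set.mem_mul.mp hx'
  have hpow : ∀ n : ℕ, ∃ h' ∈ H, (h * q) ^ n = h' * q ^ n := by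
    intro n
    induction n with
    | zero => exact ⟨1, H.one_mem, by simp⟩
    | succ n ih =>
      obtain ⟨h', hh', e⟩ := ih
      have hqn : q ^ n ∈ Subgroup.normalizer (H : Set G) := Subgroup.pow_mem _ (hN hq) n
      refine ⟨h' * (q ^ n * h * (q ^ n)⁻¹), H.mul_mem hh' ((Subgroup.mem_normalizer_iff.1 hqn h).1 hh), ?_⟩
      rw [pow_succ, e, pow_succ]
      group
  obtain ⟨h', hh', e⟩ := hpow (orderOf (h * q))
  rw [pow_orderOf_eq_one] at e
  have hqH : q ^ orderOf (h * q) ∈ H := by
    have : q ^ orderOf (h * q) = h'⁻¹ := by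
      have e2 : h' * q ^ orderOf (h * q) = 1 := e.symm
      exact eq_inv_of_mul_eq_one_right e2
    rw [this]
    exact H.inv_mem hh'
  obtain ⟨k, hk⟩ := hQ ⟨q, hq⟩
  have hk' : q ^ p ^ k = 1 := by
    have := congrArg Subtype.val hk
    simpa using this
  have hdvd : orderOf q ∣ p ^ k := orderOf_dvd_of_pow_eq_one hk'
  have hcop : Nat.Coprime (orderOf (h * q)) (orderOf q) :=
    Nat.Coprime.coprime_dvd_right hdvd (Nat.Coprime.pow_right k hc)
  obtain ⟨m, hm⟩ := exists_pow_eq_self_of_coprime hcop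
  have hqH' : q ∈ H := by
    rw [← hm]
    exact H.pow_mem hqH m
  exact H.mul_mem hh hqH'

theorem ppGen_sup_le {H Q : Subgroup G} (hQ : IsPGroup p Q)
    (hN : Q ≤ Subgroup.normalizer (H : Set G)) : ppGen p (H ⊔ Q) ≤ H := by
  unfold ppGen
  apply (Subgroup.closure_le _).2
  intro x hx
  exact mem_of_coprime_of_mem_sup hQ hN hx.1 hx.2

/-! ### Weak closures -/

theorem weakClosure_le (Q L : Subgroup G) : weakClosure Q L ≤ L := iSup_le (fun g => g.2)

theorem conj_le_weakClosure {Q L : Subgroup G} {g : G} (hg : Q.map (MulAut.conj g).toMonoidHom ≤ L) :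
    Q.map (MulAut.conj g).toMonoidHom ≤ weakClosure Q L :=
  le_iSup (fun g : {g : G // Q.map (MulAut.conj g).toMonoidHom ≤ L} => Q.map (MulAut.conj (g : G)).toMonoidHom) ⟨g, hg⟩

theorem le_weakClosure {Q L : Subgroup G} (h : Q ≤ L) : Q ≤ weakClosure Q L := by
  have h1 : Q.map (MulAut.conj (1 : G)).toMonoidHom ≤ L := by
    rw [map_conj_one]
    exact h
  have h2 := conj_le_weakClosure h1
  rwa [map_conj_one] at h2

theorem normalizer_le_normalizer_weakClosure (Q L : Subgroup G) :
    Subgroup.normalizer (L : Set G) ≤ Subgroup.normalizer ((weakClosure Q L : Subgroup G) : Set G) := by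
  intro g hg
  apply mem_normalizer_of_map_conj_le
  unfold weakClosure
  rw [Subgroup.map_iSup]
  apply iSup_le
  rintro ⟨h, hh⟩
  have h1 : (Q.map (MulAut.conj h).toMonoidHom).map (MulAut.conj g).toMonoidHom =
      Q.map (MulAut.conj (g * h)).toMonoidHom := map_conj_mul g h Q
  show (Q.map (MulAut.conj h).toMonoidHom).map (MulAut.conj g).toMonoidHom ≤ _
  rw [h1]
  apply conj_le_weakClosure
  rw [← h1]
  calc _ ≤ L.map (MulAut.conj g).toMonoidHom := Subgroup.map_mono hh
    _ = L := map_conj_eq_of_mem_normalizer hg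

/-- A subgroup normalized by the weak closure and containing `Q` contains the weak closure. -/
theorem weakClosure_le_of_normalized {Q L Y : Subgroup G} (hQp : IsPGroup p Q)
    (hwc : IsWeaklyClosedSubgroup p Q) (hQL : Q ≤ L) (hQY : Q ≤ Y)
    (hN : weakClosure Q L ≤ Subgroup.normalizer (Y : Set G)) : weakClosure Q L ≤ Y := by
  apply iSup_le
  rintro ⟨g, hg⟩
  obtain ⟨k, hk, e⟩ := exists_conj_in hwc hQp (le_weakClosure hQL) (conj_le_weakClosure hg)
  show Q.map (MulAut.conj g).toMonoidHom ≤ Y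
  rw [e]
  calc _ ≤ Y.map (MulAut.conj k).toMonoidHom := Subgroup.map_mono hQY
    _ = Y := map_conj_eq_of_mem_normalizer (hN hk)

theorem left_le_normalizer_sup {K Q : Subgroup G} (hQ : Q ≤ Subgroup.normalizer (K : Set G)) :
    K ≤ Subgroup.normalizer ((K ⊔ Q : Subgroup G) : Set G) := by
  intro k hk
  apply mem_normalizer_of_map_conj_le
  rw [map_conj_sup, map_conj_eq_of_mem_normalizer (Subgroup.le_normalizer hk)]
  apply sup_le le_sup_left
  rintro _ ⟨q, hq, rfl⟩
  have h1 : (MulAut.conj k).toMonoidHom q = ⁅k, q⁆ * q := by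
    simp [commutatorElement_def, MulAut.conj_apply]
  rw [h1]
  exact Subgroup.mul_mem _
    (Subgroup.mem_sup_left (commutator_le_left_of_le_normalizer hQ (Subgroup.commutator_mem_commutator hk hq)))
    (Subgroup.mem_sup_right hq)

theorem ppGen_sup_sylow (X : Subgroup G) (T : Sylow p X) :
    (T : Subgroup X).map X.subtype ⊔ ppGen p X = X := by
  have h1 := sylow_sup_pResidual T
  have h2 := congrArg (fun A : Subgroup X => A.map X.subtype) h1
  simp only [Subgroup.map_sup] at h2
  rw [pResidual_map_eq_ppGen] at h2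
  rw [h2]
  exact MonoidHom.range_eq_map X.subtype ▸ Subgroup.range_subtype X

/-- The structure of `O^p(⟨Q^L⟩)`. -/
theorem wc_structure {Q L : Subgroup G} (hQp : IsPGroup p Q) (hwc : IsWeaklyClosedSubgroup p Q)
    (hQL : Q ≤ L) :
    weakClosure Q L = ppGen p (weakClosure Q L) ⊔ Q ∧
      ⁅ppGen p (weakClosure Q L), Q⁆ = ppGen p (weakClosure Q L) ∧
      L ≤ Subgroup.normalizer ((weakClosure Q L : Subgroup G) : Set G) ∧
      L ≤ Subgroup.normalizer ((ppGen p (weakClosure Q L) : Subgroup G) : Set G) := by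
  set X := weakClosure Q L with hX
  set K := ppGen p X with hK
  have hXL : L ≤ Subgroup.normalizer (X : Set G) :=
    Subgroup.le_normalizer.trans (normalizer_le_normalizer_weakClosure Q L)
  have hKL : Subgroup.normalizer (X : Set G) ≤ Subgroup.normalizer (K : Set G) :=
    normalizer_le_normalizer_ppGen X
  have hKX : K ≤ X := ppGen_le X
  have hQX : Q ≤ X := le_weakClosure hQL
  have hXK : X ≤ Subgroup.normalizer (K : Set G) := Subgroup.le_normalizer.trans hKL
  have hQK : Q ≤ Subgroup.normalizer (K : Set G) := hQX.trans hXK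
  -- `X = K Q`
  have h1 : X = K ⊔ Q := by
    apply le_antisymm _ (sup_le hKX hQX)
    apply weakClosure_le_of_normalized hQp hwc hQL le_sup_right
    obtain ⟨T, hT⟩ := exists_sylow_subgroup_le hQX hQp
    have hTX := ppGen_sup_sylow X T
    have hTQ : (T : Subgroup X).map X.subtype ≤ Subgroup.normalizer (Q : Set G) :=
      pgroup_le_normalizer hwc (isPGroup_map_subtype T) hT
    have hTK : (T : Subgroup X).map X.subtype ≤ X := by
      rintro _ ⟨x, -, rfl⟩
      exact x.2
    show X ≤ _
    conv_lhs => rw [← hTX]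
    apply sup_le
    · intro t ht
      exact mem_normalizer_sup (hXK (hTK ht)) (hTQ ht)
    · exact left_le_normalizer_sup hQK
  refine ⟨h1, ?_, hXL, hXL.trans hKL⟩
  -- `[K,Q] = K`
  apply le_antisymm (commutator_le_left_of_le_normalizer hQK)
  set C := ⁅K, Q⁆ with hC
  have hQC : Q ≤ Subgroup.normalizer (C : Set G) := le_normalizer_commutator_right hQK
  have hKC : K ≤ Subgroup.normalizer (C : Set G) := H05.comm_le_normalizer_left K Q
  have hXY : X ≤ C ⊔ Q := by
    apply weakClosure_le_of_normalized hQp hwc hQL le_sup_right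
    show X ≤ _
    conv_lhs => rw [h1]
    apply sup_le
    · intro k hk
      apply mem_normalizer_of_map_conj_le
      rw [map_conj_sup, map_conj_eq_of_mem_normalizer (hKC hk)]
      apply sup_le le_sup_left
      rintro _ ⟨q, hq, rfl⟩
      have h2 : (MulAut.conj k).toMonoidHom q = ⁅k, q⁆ * q := by
        simp [commutatorElement_def, MulAut.conj_apply]
      rw [h2]
      exact Subgroup.mul_mem _ (Subgroup.mem_sup_left (Subgroup.commutator_mem_commutator hk hq))
        (Subgroup.mem_sup_right hq)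
    · intro q hq
      exact mem_normalizer_sup (hQC hq) (Subgroup.le_normalizer hq)
  calc K ≤ ppGen p (C ⊔ Q) := ppGen_mono hXY
    _ ≤ C := ppGen_sup_le hQp hQC

/-- A normal `p`-subgroup in a subgroup lies in its `O_p`, through a normal subgroup. -/
theorem pCoreOf_le_pCoreOf_of_normal {N D : Subgroup G} (hND : N ≤ D)
    (hD : D ≤ Subgroup.normalizer (N : Set G)) : pCoreOf p N ≤ pCoreOf p D := by
  apply le_pCoreOf ((pCoreOf_le N).trans hND) (isPGroup_pCoreOf N)
  exact hD.trans (normalizer_le_normalizer_pCoreOf N)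

end

end Cfsg.Agent.H13
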