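import Cfsg.Agent.Lib.H12.Quasi
import Cfsg.Agent.Lib.H12.Core
import Cfsg.Agent.Lib.H13.WeakFact
import Cfsg.Agent.Lib.H07.FStar

/-!
Quasisimple `O^p` and central extensions.
-/

set_option autoImplicit false
set_option linter.style.haveILetI false

namespace Cfsg.Agent.H13

open Cfsg
open scoped commutatorElement Pointwise

section map

variable {X Y : Type*} [Group X] [Group Y] [Finite X] [Finite Y] {p : ℕ} [Fact p.Prime]

theorem mem_of_pow_mem_of_coprime {T : Type*} [Group T] {N : Subgroup T} {x : T} {n : ℕ}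
    (hc : Nat.Coprime (orderOf x) n) (h : x ^ n ∈ N) : x ∈ N := by
  obtain ⟨m, hm⟩ := exists_pow_eq_self_of_coprime (x := x) (n := n) hc.symm
  rw [← hm]
  exact N.pow_mem h m

/-- A `p'`-element in the range lies in the image of `O^p`. -/
theorem mem_map_pResidual_of_coprime (f : X →* Y) {x : Y} (hx : x ∈ f.range)
    (hc : Nat.Coprime (orderOf x) p) : x ∈ (pResidual p X).map f := by
  obtain ⟨w, rfl⟩ := hx
  have h1 : IsPGroup p (X ⧸ pResidual p X) := isPGroup_quotient_pResidual
  obtain ⟨k, hk⟩ := h1 ((w : X) : X ⧸ pResidual p X)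
  rw [← QuotientGroup.mk_pow, QuotientGroup.eq_one_iff] at hk
  apply mem_of_pow_mem_of_coprime (n := p ^ k) (Nat.Coprime.pow_right k hc)
  rw [← map_pow]
  exact Subgroup.mem_map_of_mem f hk

theorem pResidual_map_surj (f : X →* Y) (hf : Function.Surjective f) :
    (pResidual p X).map f = pResidual p Y := by
  apply le_antisymm
  · unfold pResidual
    rw [MonoidHom.map_closure]
    apply Subgroup.closure_mono
    rintro _ ⟨g, hg, rfl⟩
    exact Nat.Coprime.coprime_dvd_left (orderOf_map_dvd f g) hg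
  · unfold pResidual
    rw [Subgroup.closure_le]
    intro x hx
    exact mem_map_pResidual_of_coprime f ((MonoidHom.range_eq_top.2 hf) ▸ Subgroup.mem_top x) hx

end map

section qs

variable {X : Type*} [Group X] [Finite X] {p : ℕ} [Fact p.Prime]

/-- With `O_p(X) = 1` and `O^p(X)` quasisimple, a normal subgroup containing a nontrivial
`p`-subgroup contains `O^p(X)`. -/
theorem res_le_of_normal (hO : pCore p X = ⊥) (hq : IsQuasisimple (pResidual p X))
    {N Q : Subgroup X} [hN : N.Normal] (hQ : IsPGroup p Q) (hQ1 : Q ≠ ⊥) (hQN : Q ≤ N) :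
    pResidual p X ≤ N := by
  set R := pResidual p X with hR
  haveI hRn : R.Normal := pResidual_normal'
  have h1 : R ≤ Subgroup.normalizer ((N ⊓ R : Subgroup X) : Set X) := by
    rw [Subgroup.normalizer_eq_top_iff.2 inferInstance]
    exact le_top
  rcases H12.qs_normal_at hq (inf_le_right : N ⊓ R ≤ R) h1 with h | h
  · rw [← h]; exact inf_le_left
  · exfalso
    have h2 : ⁅N, R⁆ ≤ Subgroup.centralizer (R : Set X) :=
      (Subgroup.commutator_le_inf N R).trans h
    have h3 := H12.le_centralizer_of_comm_central hq h2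
    exact hQ1 (H12.eq_bot_of_isPGroup_le_centralizer_res hO hq hQ (hQN.trans h3))

/-- With `O_p(X) = 1` and `O^p(X)` quasisimple, a nontrivial `p`-subgroup `Y` has `[O^p(X), Y] = O^p(X)`. -/
theorem comm_res_eq (hO : pCore p X = ⊥) (hq : IsQuasisimple (pResidual p X))
    {Y : Subgroup X} (hY : IsPGroup p Y) (hY1 : Y ≠ ⊥) :
    ⁅pResidual p X, Y⁆ = pResidual p X := by
  set R := pResidual p X with hR
  haveI hRn : R.Normal := pResidual_normal'
  have h1 : R ≤ Subgroup.normalizer ((⁅R, Y⁆ : Subgroup X) : Set X) := fun a ha =>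
    H12.conj_left_mem_normalizer_commutator ha
  rcases H12.qs_normal_at hq (Subgroup.commutator_le_left R Y) h1 with h | h
  · exact h
  · exfalso
    rw [Subgroup.commutator_comm] at h
    have h3 := H12.le_centralizer_of_comm_central hq h
    exact hY1 (H12.eq_bot_of_isPGroup_le_centralizer_res hO hq hY h3)

end qs

section ext

/-- A perfect central extension of a quasisimple group is quasisimple. -/
theorem isQuasisimple_of_central_ext {A B : Type*} [Group A] [Group B] (hperf : Group.IsPerfect A)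
    (f : A →* B) (hf : Function.Surjective f) (hk : f.ker ≤ Subgroup.center A)
    (hB : IsQuasisimple B) : IsQuasisimple A := by
  refine ⟨hperf, ?_⟩
  obtain ⟨_, hs⟩ := hB
  let g : A →* B ⧸ Subgroup.center B := (QuotientGroup.mk' (Subgroup.center B)).comp f
  have hg : Function.Surjective g := (QuotientGroup.mk'_surjective _).comp hf
  have hker : Subgroup.center A = g.ker := by
    apply le_antisymm
    · intro a ha
      rw [MonoidHom.mem_ker]
      change ((f a : B) : B ⧸ Subgroup.center B) = 1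
      rw [QuotientGroup.eq_one_iff, Subgroup.mem_center_iff]
      intro b
      obtain ⟨a', rfl⟩ := hf b
      rw [← map_mul, ← map_mul, (Subgroup.mem_center_iff.1 ha) a']
    · set P := g.ker with hP
      have h1 : ⁅P, (⊤ : Subgroup A)⁆ ≤ Subgroup.center A := by
        rw [Subgroup.commutator_le]
        intro a ha x _
        apply hk
        rw [MonoidHom.mem_ker, map_commutatorElement]
        have h2 : f a ∈ Subgroup.center B := by
          have : ((f a : B) : B ⧸ Subgroup.center B) = 1 := ha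
          rwa [QuotientGroup.eq_one_iff] at this
        have h3 : f x * f a = f a * f x := (Subgroup.mem_center_iff.1 h2) (f x)
        rw [commutatorElement_def, ← h3]
        group
      have h2 : ⁅⁅P, (⊤ : Subgroup A)⁆, (⊤ : Subgroup A)⁆ = ⊥ := by
        rw [Subgroup.commutator_eq_bot_iff_le_centralizer]
        intro x hx
        rw [Subgroup.mem_centralizer_iff]
        intro y _
        exact (Subgroup.mem_center_iff.1 (h1 hx)) y
      have h3 : ⁅⁅(⊤ : Subgroup A), P⁆, (⊤ : Subgroup A)⁆ = ⊥ := by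
        rw [Subgroup.commutator_comm (⊤ : Subgroup A) P]; exact h2
      have h4 : ⁅⁅(⊤ : Subgroup A), (⊤ : Subgroup A)⁆, P⁆ = ⊥ :=
        Subgroup.commutator_commutator_eq_bot_of_rotate h3 h2
      have h5 : ⁅(⊤ : Subgroup A), (⊤ : Subgroup A)⁆ = ⊤ := by
        rw [← commutator_def]; exact hperf.commutator_eq_top
      rw [h5, Subgroup.commutator_comm, Subgroup.commutator_eq_bot_iff_le_centralizer] at h4
      intro x hx
      rw [Subgroup.mem_center_iff]
      intro y
      exact (Subgroup.mem_centralizer_iff.1 (h4 hx)) y (Subgroup.mem_top y)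
  let e : A ⧸ Subgroup.center A ≃* B ⧸ Subgroup.center B :=
    (QuotientGroup.quotientMulEquivOfEq hker).trans (QuotientGroup.quotientKerEquivOfSurjective g hg)
  exact e.isSimpleGroup

end ext

section perfect

variable {X : Type*} [Group X] [Finite X] {p : ℕ} [Fact p.Prime]

/-- The key perfectness criterion. -/
theorem perfect_residual {ι : Type*} (F : ι → Subgroup X) (hF : ∀ i, IsPGroup p (F i))
    (hgen : ⨆ i, F i = ⊤) {Y : Type*} [Group Y] (f : X →* Y) (K : Subgroup X) (hk : f.ker ≤ K)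
    (hK : ∀ x, ∀ k ∈ K, x * k * x⁻¹ * k⁻¹ ∈ pCore p X)
    (hperf : ⁅(pResidual p X).map f, (pResidual p X).map f⁆ = (pResidual p X).map f) :
    ⁅pResidual p X, pResidual p X⁆ = pResidual p X := by
  classical
  set R := pResidual p X with hR
  haveI hRn : R.Normal := pResidual_normal'
  set O := pCore p X with hO
  haveI hOn : O.Normal := H01.pCore_normal p
  have hOp : IsPGroup p O := isPGroup_pCore
  set R' := ⁅R, R⁆ with hR'
  haveI hR'n : R'.Normal := inferInstance
  set M := R' ⊔ (R ⊓ O) with hM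
  haveI hMn : M.Normal := inferInstance
  have hR'R : R' ≤ R := Subgroup.commutator_le_left R R
  have hMR : M ≤ R := sup_le hR'R inf_le_left
  -- S1
  have hS1 : ∀ r ∈ R, ∃ c ∈ R', c⁻¹ * r ∈ K ∧ c⁻¹ * r ∈ R := by
    intro r hr
    have h1 : f r ∈ ⁅R.map f, R.map f⁆ := by
      rw [hperf]; exact Subgroup.mem_map_of_mem f hr
    rw [← Subgroup.map_commutator] at h1
    obtain ⟨c, hc, hcr⟩ := h1
    refine ⟨c, hc, hk ?_, R.mul_mem (R.inv_mem (hR'R hc)) hr⟩
    rw [MonoidHom.mem_ker, map_mul, map_inv, hcr, inv_mul_cancel]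
  -- S2
  have hS2 : ∀ x, ∀ r ∈ R, x * r * x⁻¹ * r⁻¹ ∈ M := by
    intro x r hr
    obtain ⟨c, hc, hk1, hk2⟩ := hS1 r hr
    set k := c⁻¹ * r with hkdef
    have hrv : r = c * k := by rw [hkdef]; group
    rw [hrv]
    have e : x * (c * k) * x⁻¹ * (c * k)⁻¹ =
        (x * c * x⁻¹ * c⁻¹) * (c * (x * k * x⁻¹ * k⁻¹) * c⁻¹) := by group
    rw [e]
    apply M.mul_mem
    · apply (le_sup_left : R' ≤ M)
      exact R'.mul_mem (hR'n.conj_mem c hc x) (R'.inv_mem hc)
    · apply (le_sup_right : R ⊓ O ≤ M)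
      refine ⟨hRn.conj_mem _ ?_ c, hOn.conj_mem _ (hK x k hk1) c⟩
      have e2 : x * k * x⁻¹ * k⁻¹ = (x * k * x⁻¹) * k⁻¹ := rfl
      rw [e2]
      exact R.mul_mem (hRn.conj_mem k hk2 x) (R.inv_mem hk2)
  -- S3
  have hpq : IsPGroup p (X ⧸ R) := isPGroup_quotient_pResidual
  haveI : Group.IsNilpotent (X ⧸ R) := hpq.isNilpotent
  let h : X ⧸ M →* X ⧸ R := QuotientGroup.map M R (MonoidHom.id X) (fun x hx => hMR hx)
  have hker : h.ker ≤ Subgroup.center (X ⧸ M) := by
    intro t ht
    obtain ⟨y, rfl⟩ := QuotientGroup.mk_surjective t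
    have hy : y ∈ R := by
      have h1 : h (y : X ⧸ M) = ((y : X) : X ⧸ R) := rfl
      rw [MonoidHom.mem_ker, h1, QuotientGroup.eq_one_iff] at ht
      exact ht
    rw [Subgroup.mem_center_iff]
    intro z
    obtain ⟨x, rfl⟩ := QuotientGroup.mk_surjective z
    have h2 := hS2 x y hy
    rw [← QuotientGroup.eq_one_iff] at h2
    have h3 : ((x * y * x⁻¹ * y⁻¹ : X) : X ⧸ M) = (x : X ⧸ M) * y * (x : X ⧸ M)⁻¹ * (y : X ⧸ M)⁻¹ := rfl
    rw [h3] at h2
    have h4 : (x : X ⧸ M) * y = y * (x : X ⧸ M) := by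
      have h5 := mul_inv_eq_one.1 h2
      have h6 := mul_inv_eq_iff_eq_mul.1 h5
      exact h6
    exact h4
  haveI : Group.IsNilpotent (X ⧸ M) := Subgroup.isNilpotent_of_ker_le_center h hker
  -- S4
  have hT : IsPGroup p (X ⧸ M) := by
    have hc : IsPClosed p (X ⧸ M) := fun P => inferInstance
    have h1 : ∀ i, (F i).map (QuotientGroup.mk' M) ≤ pCore p (X ⧸ M) := fun i =>
      H12.le_pCore_of_isPClosed hc ((hF i).map _)
    have h2 : (⊤ : Subgroup X).map (QuotientGroup.mk' M) ≤ pCore p (X ⧸ M) := by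
      rw [← hgen, Subgroup.map_iSup]
      exact iSup_le h1
    have h3 : pCore p (X ⧸ M) = ⊤ := by
      rw [eq_top_iff]
      refine le_trans ?_ h2
      rw [← MonoidHom.range_eq_map, MonoidHom.range_eq_top.2 (QuotientGroup.mk'_surjective M)]
    intro t
    have h4 : t ∈ pCore p (X ⧸ M) := by rw [h3]; trivial
    obtain ⟨k, hk⟩ := (isPGroup_pCore (p := p) (G := X ⧸ M)) ⟨t, h4⟩
    exact ⟨k, congrArg Subtype.val hk⟩
  -- S5
  have hRM : R ≤ M := H12.pResidual_le_of_isPGroup_quotient M hT
  -- S6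
  apply le_antisymm hR'R
  rw [hR]
  conv_lhs => unfold pResidual
  rw [Subgroup.closure_le]
  intro r hr
  have hrR : r ∈ R := Subgroup.subset_closure hr
  have hN : R ⊓ O ≤ Subgroup.normalizer (R' : Set X) := by
    rw [Subgroup.normalizer_eq_top_iff.2 hR'n]
    exact le_top
  exact mem_of_coprime_of_mem_sup (hOp.to_le inf_le_right) hN (hRM hrR) hr

end perfect

end Cfsg.Agent.H13
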