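import Mathlib
import Cfsg.Prelude.Def_LocalStructure
import Cfsg.Agent.Lib.H13.PTrans2
import Cfsg.Agent.Lib.H13.QsAct

set_option autoImplicit false

namespace Cfsg.Agent.H13

open Cfsg
open scoped commutatorElement

variable {H G : Type*} [Group H] [Group G] [Finite H] [Finite G] {p : ℕ} [Fact p.Prime]

theorem map_conj_map_hom (f : H →* G) (E : Subgroup H) (h : H) :
    (E.map (MulAut.conj h).toMonoidHom).map f = (E.map f).map (MulAut.conj (f h)).toMonoidHom := by
  rw [Subgroup.map_map, Subgroup.map_map]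
  congr 1
  ext x
  simp [MulAut.conj_apply]

/-- `O_p(H/O_p(H)) = 1`. -/
theorem pCore_eq_bot_of_hom {f : H →* G} (hf : Function.Surjective f) (hker : f.ker = pCore p H) :
    pCore p G = ⊥ := by
  haveI hN : (pCore p G).Normal := H01.pCore_normal p
  have hQp : IsPGroup p (pCore p H) := isPGroup_pCore
  have hNp : IsPGroup p (pCore p G) := isPGroup_pCore
  have h1 : (pCore p G).comap f ≤ pCore p H := by
    apply le_pCore (Subgroup.Normal.comap hN f)
    rintro ⟨x, hx⟩
    obtain ⟨k, hk⟩ := hNp ⟨f x, hx⟩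
    have h2 : (f x) ^ p ^ k = 1 := congrArg Subtype.val hk
    have h3 : x ^ p ^ k ∈ f.ker := by
      rw [MonoidHom.mem_ker, map_pow, h2]
    rw [hker] at h3
    obtain ⟨m, hm⟩ := hQp ⟨_, h3⟩
    have h4 : (x ^ p ^ k) ^ p ^ m = 1 := congrArg Subtype.val hm
    refine ⟨k + m, Subtype.ext ?_⟩
    show x ^ p ^ (k + m) = 1
    rw [pow_add, pow_mul, h4]
  rw [eq_bot_iff]
  intro y hy
  obtain ⟨x, rfl⟩ := hf y
  have h2 := h1 (show x ∈ (pCore p G).comap f from hy)
  rw [← hker] at h2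
  exact h2

/-- The `p`-core of a member of the family lies in `O_p(H)`. -/
theorem pCoreOf_le_pCore_of_family {E R : Subgroup H} [hR : R.Normal]
    (hER : E ⊔ pCore p H ≤ R)
    (hn : R ≤ Subgroup.normalizer ((E ⊔ pCore p H : Subgroup H) : Set H)) :
    pCoreOf p E ≤ pCore p H := by
  set Q := pCore p H with hQdef
  haveI hQ : Q.Normal := H01.pCore_normal p
  have hQp : IsPGroup p Q := isPGroup_pCore
  set Y := pCoreOf p E ⊔ Q with hY
  have hYp : IsPGroup p Y := (isPGroup_pCoreOf E).to_sup_of_normal_right hQp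
  have hEY : E ≤ Subgroup.normalizer (Y : Set H) := by
    intro e he
    apply mem_normalizer_of_map_conj_eq
    rw [hY, map_conj_sup, map_conj_eq_of_normal (N := Q),
      map_conj_eq_of_mem_normalizer (pCoreOf_normalized E he)]
  have hQY : Q ≤ Subgroup.normalizer (Y : Set H) :=
    (le_sup_right : Q ≤ Y).trans Subgroup.le_normalizer
  have h1 : Y ≤ pCoreOf p (E ⊔ Q) :=
    le_pCoreOf (sup_le_sup_right (pCoreOf_le E) _) hYp (sup_le hEY hQY)
  have h2 : pCoreOf p (E ⊔ Q) ≤ pCoreOf p R :=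
    le_pCoreOf ((pCoreOf_le _).trans hER) (isPGroup_pCoreOf _)
      (hn.trans (normalizer_le_normalizer_pCoreOf _))
  have h3 : pCoreOf p R ≤ Q := by
    apply le_pCore _ (isPGroup_pCoreOf R)
    rw [← Subgroup.normalizer_eq_top_iff, eq_top_iff, ← Subgroup.normalizer_eq_top R]
    exact normalizer_le_normalizer_pCoreOf R
  exact (le_sup_left.trans h1).trans (h2.trans h3)

theorem isSylIn_inf_family {𝒦 : Set (Subgroup H)}
    (hinv : ∀ h : H, ∀ E ∈ 𝒦, E.map (MulAut.conj h).toMonoidHom ∈ 𝒦)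
    (hnorm : ∀ E ∈ 𝒦, sSup 𝒦 ⊔ pCore p H ≤ Subgroup.normalizer ((E ⊔ pCore p H : Subgroup H) : Set H))
    (T : Sylow p H) {E : Subgroup H} (hE : E ∈ 𝒦) : IsSylIn p ((T : Subgroup H) ⊓ E) E := by
  haveI hQ : (pCore p H).Normal := H01.pCore_normal p
  haveI hRn : (sSup 𝒦).Normal := sSup_family_normal hinv
  haveI hRQ : (sSup 𝒦 ⊔ pCore p H).Normal := Subgroup.sup_normal _ _
  have hA : E ⊔ pCore p H ≤ sSup 𝒦 ⊔ pCore p H := sup_le_sup_right (le_sSup hE) _
  have h1 := (IsSylIn.inf_of_normal (X := sSup 𝒦 ⊔ pCore p H) T).inf_normal hA (hnorm E hE)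
  rw [inf_assoc, inf_eq_right.2 hA] at h1
  exact isSylIn_inf_of_sup T.2 (pCore_le_sylow T) h1

section family

variable {𝒦 : Set (Subgroup H)} {f : H →* G}

/-- The family of images in `H/O_p(H)` is an `IrrFamily`. -/
theorem irrFamily_map (hf : Function.Surjective f) (hker : f.ker = pCore p H)
    (hne : 𝒦.Nonempty)
    (hinv : ∀ h : H, ∀ E ∈ 𝒦, E.map (MulAut.conj h).toMonoidHom ∈ 𝒦)
    (htr : ∀ E ∈ 𝒦, ∀ K ∈ 𝒦, ∃ h : H, K = E.map (MulAut.conj h).toMonoidHom)
    (hres : pResidual p H ≤ sSup 𝒦)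
    (hnorm : ∀ E ∈ 𝒦, sSup 𝒦 ⊔ pCore p H ≤ Subgroup.normalizer ((E ⊔ pCore p H : Subgroup H) : Set H))
    (hirr : ∀ E ∈ 𝒦, IsStronglyPIrreducible p ↥E) :
    IrrFamily p (Subgroup.map f '' 𝒦) := by
  set Q := pCore p H with hQdef
  haveI hQ : Q.Normal := H01.pCore_normal p
  haveI hRn : (sSup 𝒦).Normal := sSup_family_normal hinv
  have hQmap : Q.map f = ⊥ := (Subgroup.map_eq_bot_iff _).2 hker.ge
  have hEQmap : ∀ E : Subgroup H, (E ⊔ Q).map f = E.map f := by
    intro E
    rw [Subgroup.map_sup, hQmap, sup_bot_eq]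
  refine ⟨hne.image _, ?_, ?_, ?_, ?_, pCore_eq_bot_of_hom hf hker, ?_, ?_⟩
  · rintro g _ ⟨E, hE, rfl⟩
    obtain ⟨h, rfl⟩ := hf g
    exact ⟨_, hinv h E hE, map_conj_map_hom f E h⟩
  · rintro _ ⟨E, hE, rfl⟩ _ ⟨K, hK, rfl⟩
    obtain ⟨h, rfl⟩ := htr E hE K hK
    exact ⟨f h, map_conj_map_hom f E h⟩
  · rw [← pResidual_map_surj f hf, Subgroup.map_le_iff_le_comap]
    refine hres.trans (sSup_le fun E hE => ?_)
    rw [← Subgroup.map_le_iff_le_comap]
    exact le_sSup ⟨E, hE, rfl⟩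
  · rintro _ ⟨E, hE, rfl⟩
    refine sSup_le ?_
    rintro _ ⟨K, hK, rfl⟩ _ ⟨k, hk, rfl⟩
    apply mem_normalizer_of_map_conj_eq
    have h1 : k ∈ Subgroup.normalizer ((E ⊔ Q : Subgroup H) : Set H) :=
      hnorm E hE (Subgroup.mem_sup_left (le_sSup hK hk))
    rw [← hEQmap E, ← map_conj_map_hom, map_conj_eq_of_mem_normalizer h1]
  · rintro _ ⟨E, hE, rfl⟩ hc
    apply (hirr E hE).1
    obtain ⟨S₀⟩ : Nonempty (Sylow p ↥E) := inferInstance
    have hS := isSylIn_of_sylow S₀
    set S := (S₀ : Subgroup ↥E).map E.subtype with hSdef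
    set A := E.map f with hA
    set P := E ⊓ (pCoreOf p A).comap f with hP
    have hPE : P ≤ E := inf_le_left
    have hPn : E ≤ Subgroup.normalizer (P : Set H) := by
      intro e he
      rw [Subgroup.mem_normalizer_iff]
      have hfe : f e ∈ Subgroup.normalizer ((pCoreOf p A : Subgroup G) : Set G) :=
        pCoreOf_normalized A ⟨e, he, rfl⟩
      rw [Subgroup.mem_normalizer_iff] at hfe
      intro x
      constructor
      · rintro ⟨h1, h2⟩
        refine ⟨E.mul_mem (E.mul_mem he h1) (E.inv_mem he), ?_⟩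
        show f (e * x * e⁻¹) ∈ pCoreOf p A
        rw [map_mul, map_mul, map_inv]
        exact (hfe _).1 h2
      · rintro ⟨h1, h2⟩
        refine ⟨?_, ?_⟩
        · have := E.mul_mem (E.mul_mem (E.inv_mem he) h1) he
          simpa [mul_assoc] using this
        · have h2' : f (e * x * e⁻¹) ∈ pCoreOf p A := h2
          rw [map_mul, map_mul, map_inv] at h2'
          exact (hfe _).2 h2'
    have hPp : IsPGroup p P := by
      rintro ⟨x, hx, hx2⟩
      obtain ⟨k, hk⟩ := isPGroup_pCoreOf (p := p) A ⟨f x, hx2⟩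
      have h2 : (f x) ^ p ^ k = 1 := congrArg Subtype.val hk
      have h3 : x ^ p ^ k ∈ f.ker := by
        rw [MonoidHom.mem_ker, map_pow, h2]
      rw [hker] at h3
      obtain ⟨m, hm⟩ := (isPGroup_pCore : IsPGroup p Q) ⟨_, h3⟩
      have h4 : (x ^ p ^ k) ^ p ^ m = 1 := congrArg Subtype.val hm
      refine ⟨k + m, Subtype.ext ?_⟩
      show x ^ p ^ (k + m) = 1
      rw [pow_add, pow_mul, h4]
    have hSP : S ≤ P := by
      refine le_inf hS.le ?_
      rw [← Subgroup.map_le_iff_le_comap]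
      have hSA : S.map f ≤ A := Subgroup.map_mono hS.le
      have h1 : (S.map f).subgroupOf A ≤ pCore p ↥A :=
        H12.le_pCore_of_isPClosed hc (isPGroup_subgroupOf (hS.pg.map f))
      intro y hy
      exact ⟨⟨y, hSA hy⟩, h1 (by rw [Subgroup.mem_subgroupOf]; exact hy), rfl⟩
    have h2 := hS.eq_of_le hSP hPE hPp
    exact hS.isPClosed (h2 ▸ hPn)
  · rintro _ ⟨E, hE, rfl⟩ N hNA hAN
    set F := f.comp E.subtype with hF
    set N₁ := N.comap F with hN₁
    haveI hN₁n : N₁.Normal := by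
      constructor
      intro n hn g
      rw [hN₁, Subgroup.mem_comap] at hn ⊢
      rw [map_mul, map_mul, map_inv]
      exact (Subgroup.mem_normalizer_iff.1 (hAN ⟨g, g.2, rfl⟩) _).1 hn
    by_cases hc : ⁅N₁, (⊤ : Subgroup ↥E)⁆ ≤ pCore p ↥E
    · left
      apply commutator_bot_of_comm
      intro x hx a ha
      obtain ⟨x₀, hx₀, rfl⟩ := hNA hx
      obtain ⟨a₀, ha₀, rfl⟩ := ha
      have h1 : (⟨x₀, hx₀⟩ : E) ∈ N₁ := by
        rw [hN₁, Subgroup.mem_comap]
        exact hx
      have h2 := hc (Subgroup.commutator_mem_commutator h1 (Subgroup.mem_top ⟨a₀, ha₀⟩))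
      have h3 : ((⁅(⟨x₀, hx₀⟩ : E), (⟨a₀, ha₀⟩ : E)⁆ : E) : H) ∈ pCoreOf p E := ⟨_, h2, rfl⟩
      have h4 := pCoreOf_le_pCore_of_family (E := E) (R := sSup 𝒦 ⊔ Q) (sup_le_sup_right (le_sSup hE) _) (hnorm E hE) h3
      have h4' : ((⁅(⟨x₀, hx₀⟩ : E), (⟨a₀, ha₀⟩ : E)⁆ : E) : H) ∈ Q := h4
      rw [← hker, MonoidHom.mem_ker] at h4'
      have h5 : ⁅f x₀, f a₀⁆ = 1 := by
        rw [← map_commutatorElement]
        exact h4'
      exact commutatorElement_eq_one_iff_mul_comm.1 h5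
    · right
      have h1 := (hirr E hE).2 N₁ hN₁n hc
      apply resIn_le_of_forall
      intro x hx hxc
      have h2 : x ∈ F.range := by
        obtain ⟨e, he, rfl⟩ := hx
        exact ⟨⟨e, he⟩, rfl⟩
      obtain ⟨e, he, rfl⟩ := mem_map_pResidual_of_coprime (p := p) F h2 hxc
      exact h1 he

end family

/-- `S2855`, second part. -/
theorem isPIrreducible_of_family {𝒦 : Set (Subgroup H)}
    (hne : 𝒦.Nonempty)
    (hinv : ∀ h : H, ∀ E ∈ 𝒦, E.map (MulAut.conj h).toMonoidHom ∈ 𝒦)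
    (htr : ∀ E ∈ 𝒦, ∀ K ∈ 𝒦, ∃ h : H, K = E.map (MulAut.conj h).toMonoidHom)
    (hres : pResidual p H ≤ sSup 𝒦)
    (hnorm : ∀ E ∈ 𝒦, sSup 𝒦 ⊔ pCore p H ≤ Subgroup.normalizer ((E ⊔ pCore p H : Subgroup H) : Set H))
    (hirr : ∀ E ∈ 𝒦, IsStronglyPIrreducible p ↥E) :
    IsPIrreducible p H ∧ ∀ E ∈ 𝒦, ∀ K ∈ 𝒦,
      (pResidual p ↥(E ⊔ pCore p H)).map (E ⊔ pCore p H).subtype
        = (pResidual p ↥(K ⊔ pCore p H)).map (K ⊔ pCore p H).subtype ∨ ⁅E, K⁆ ≤ pCore p H := by
  set Q := pCore p H with hQdef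
  haveI hQ : Q.Normal := H01.pCore_normal p
  set f := QuotientGroup.mk' Q with hf
  have hfs : Function.Surjective f := QuotientGroup.mk'_surjective Q
  have hker : f.ker = Q := QuotientGroup.ker_mk' Q
  have hfam := irrFamily_map (p := p) hfs hker hne hinv htr hres hnorm hirr
  have hQmap : Q.map f = ⊥ := (Subgroup.map_eq_bot_iff _).2 hker.ge
  have hEQmap : ∀ E : Subgroup H, (E ⊔ Q).map f = E.map f := by
    intro E
    rw [Subgroup.map_sup, hQmap, sup_bot_eq]
  refine ⟨⟨?_, ?_⟩, ?_⟩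
  · intro hc
    obtain ⟨E, hE⟩ := hne
    apply (hirr E hE).1
    obtain ⟨T⟩ : Nonempty (Sylow p H) := inferInstance
    haveI hT := hc T
    apply (isSylIn_inf_family hinv hnorm T hE).isPClosed
    intro e _
    apply mem_normalizer_of_map_conj_eq
    rw [map_conj_inf, map_conj_eq_of_normal (N := (T : Subgroup H)),
      map_conj_eq_of_mem_normalizer (Subgroup.le_normalizer ‹_›)]
  · intro N hN hNc
    haveI hNb : (N.map f).Normal := Subgroup.Normal.map hN f hfs
    obtain h1 | h1 := hfam.normal_alt (N.map f)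
    · obtain ⟨T⟩ : Nonempty (Sylow p H) := inferInstance
      apply H12.pResidual_le_of_sup_sylow N T
      rw [eq_top_iff, ← sylow_sup_pResidual T]
      refine sup_le le_sup_right ?_
      have h2 : pResidual p H ≤ (N.map f).comap f := by
        rw [← Subgroup.map_le_iff_le_comap, pResidual_map_surj f hfs]
        exact h1
      rw [Subgroup.comap_map_eq, hker] at h2
      exact h2.trans (sup_le_sup_left (pCore_le_sylow T) _)
    · exfalso
      apply hNc
      obtain ⟨P⟩ : Nonempty (Sylow p ↥N) := inferInstance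
      have hS := isSylIn_of_sylow P
      set S := (P : Subgroup ↥N).map N.subtype with hSdef
      have hSQ : S ≤ Q := by
        obtain ⟨Tb, hTb⟩ := (hS.pg.map f).exists_le_sylow
        have h2 : S.map f ≤ N.map f ⊓ (Tb : Subgroup (H ⧸ Q)) :=
          le_inf (Subgroup.map_mono hS.le) hTb
        rw [h1 Tb, le_bot_iff] at h2
        rw [← hker]
        exact (Subgroup.map_eq_bot_iff _).1 h2
      have h3 := hS.eq_of_le (le_inf hS.le hSQ) inf_le_left
        ((isPGroup_pCore : IsPGroup p Q).to_le inf_le_right)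
      apply hS.isPClosed
      rw [← h3]
      intro n _
      apply mem_normalizer_of_map_conj_eq
      rw [map_conj_inf, map_conj_eq_of_normal (N := N), map_conj_eq_of_normal (N := Q)]
  · intro E hE K hK
    obtain h1 | h1 := hfam.comm_alt (⟨E, hE, rfl⟩ : E.map f ∈ Subgroup.map f '' 𝒦)
      (⟨K, hK, rfl⟩ : K.map f ∈ Subgroup.map f '' 𝒦)
    · left
      have key : ∀ E K : Subgroup H, resIn p (E.map f) = resIn p (K.map f) →
          resIn p (E ⊔ Q) ≤ resIn p (K ⊔ Q) := by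
        intro E K h2
        apply resIn_le_of_forall
        intro x hx hc
        apply mem_resIn_of_coprime _ hc
        have h3 : f x ∈ E.map f := by
          rw [← hEQmap E]
          exact Subgroup.mem_map_of_mem f hx
        have h4 : Nat.Coprime (orderOf (f x)) p :=
          Nat.Coprime.coprime_dvd_left (orderOf_map_dvd f x) hc
        have h5 := mem_resIn_of_coprime h3 h4
        rw [h2] at h5
        have h6 := resIn_le (K.map f) h5
        have h7 : x ∈ (K.map f).comap f := h6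
        rwa [Subgroup.comap_map_eq, hker] at h7
      exact le_antisymm (key E K h1) (key K E h1.symm)
    · right
      rw [Subgroup.commutator_le]
      intro e he k hk
      rw [← hker, MonoidHom.mem_ker, map_commutatorElement]
      have h2 := Subgroup.commutator_mem_commutator (Subgroup.mem_map_of_mem f he)
        (Subgroup.mem_map_of_mem f hk)
      rwa [h1, Subgroup.mem_bot] at h2

end Cfsg.Agent.H13
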