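import Cfsg.Agent.Lib.H13.Q8Act

/-!
The Sylow shapes and the action on the three cyclic subgroups of order four in `Q₈`.
-/

set_option autoImplicit false

open Cfsg

namespace Cfsg.Agent.H13

open Subgroup

section transfer

variable {G : Type*} [Group G]

theorem mem_zpowers_coe {T : Subgroup G} (x u : T) :
    (u : G) ∈ zpowers (x : G) ↔ u ∈ zpowers x := by
  constructor
  · intro h
    obtain ⟨k, hk⟩ := mem_zpowers_iff.1 h
    refine mem_zpowers_iff.2 ⟨k, Subtype.ext ?_⟩
    simpa using hk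
  · intro h
    obtain ⟨k, rfl⟩ := mem_zpowers_iff.1 h
    refine mem_zpowers_iff.2 ⟨k, ?_⟩
    simp

/-- Transfer from the subgroup to the ambient group. -/
theorem TwoMaxCyc.of_subgroup {T : Subgroup G} {x : T} (h : TwoMaxCyc (⊤ : Subgroup T) x) :
    TwoMaxCyc T (x : G) := by
  refine ⟨?_, ?_, ?_, ?_, ?_⟩
  · obtain ⟨n, hn⟩ := h.two
    exact ⟨n, by simpa using congrArg Subtype.val hn⟩
  · intro t ht hta
    have h1 := h.out4 ⟨t, ht⟩ trivial (fun h' => hta ((mem_zpowers_coe x ⟨t, ht⟩).2 h'))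
    simpa using congrArg Subtype.val h1
  · intro t ht hta c hc hc4
    have hcT : c ∈ T := by
      obtain ⟨k, rfl⟩ := mem_zpowers_iff.1 hc
      exact T.zpow_mem x.2 k
    have h1 := h.inv ⟨t, ht⟩ trivial (fun h' => hta ((mem_zpowers_coe x ⟨t, ht⟩).2 h'))
      ⟨c, hcT⟩ ((mem_zpowers_coe x ⟨c, hcT⟩).1 hc) (Subtype.ext (by simpa using hc4))
    simpa using congrArg Subtype.val h1
  · intro t ht hta t' ht' hta'
    have h1 := h.prod ⟨t, ht⟩ trivial (fun h' => hta ((mem_zpowers_coe x ⟨t, ht⟩).2 h'))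
      ⟨t', ht'⟩ trivial (fun h' => hta' ((mem_zpowers_coe x ⟨t', ht'⟩).2 h'))
    have h2 := (mem_zpowers_coe x (⟨t, ht⟩⁻¹ * ⟨t', ht'⟩)).2 h1
    simpa using h2
  · obtain ⟨c, hc, hc2, hc4⟩ := h.c4
    refine ⟨c, (mem_zpowers_coe x c).2 hc, ?_, by simpa using congrArg Subtype.val hc4⟩
    intro h'
    apply hc2
    exact Subtype.ext (by simpa using h')

/-- Transfer along an isomorphism. -/
theorem TwoMaxCyc.of_mulEquiv {S S' : Type*} [Group S] [Group S'] (e : S ≃* S') {x : S'}
    (h : TwoMaxCyc (⊤ : Subgroup S') x) : TwoMaxCyc (⊤ : Subgroup S) (e.symm x) := by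
  have hmem : ∀ u : S, u ∈ zpowers (e.symm x) ↔ e u ∈ zpowers x := by
    intro u
    constructor
    · intro h'
      obtain ⟨k, rfl⟩ := mem_zpowers_iff.1 h'
      exact mem_zpowers_iff.2 ⟨k, by simp⟩
    · intro h'
      obtain ⟨k, hk⟩ := mem_zpowers_iff.1 h'
      refine mem_zpowers_iff.2 ⟨k, ?_⟩
      apply e.injective
      simpa using hk
  refine ⟨?_, ?_, ?_, ?_, ?_⟩
  · obtain ⟨n, hn⟩ := h.two
    exact ⟨n, by rw [← map_pow, hn, map_one]⟩
  · intro t _ hta
    have h1 := h.out4 (e t) trivial (fun h' => hta ((hmem t).2 h'))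
    apply e.injective
    rw [map_pow, h1, map_one]
  · intro t _ hta c hc hc4
    have h1 := h.inv (e t) trivial (fun h' => hta ((hmem t).2 h')) (e c) ((hmem c).1 hc)
      (by rw [← map_pow, hc4, map_one])
    apply e.injective
    simpa using h1
  · intro t _ hta t' _ hta'
    have h1 := h.prod (e t) trivial (fun h' => hta ((hmem t).2 h')) (e t') trivial
      (fun h' => hta' ((hmem t').2 h'))
    rw [hmem]
    simpa using h1
  · obtain ⟨c, hc, hc2, hc4⟩ := h.c4
    refine ⟨e.symm c, (hmem _).2 (by simpa using hc), ?_, by rw [← map_pow, hc4, map_one]⟩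
    intro h'
    apply hc2
    apply e.symm.injective
    rw [map_pow, h', map_one]

end transfer

section dihedral

open DihedralGroup

theorem twoMaxCyc_dihedral {n : ℕ} (hn : 4 ≤ n) (h2 : IsPGroup 2 (DihedralGroup n)) :
    TwoMaxCyc (⊤ : Subgroup (DihedralGroup n)) (r 1) := by
  haveI : NeZero n := ⟨by omega⟩
  have hmem : ∀ i : ZMod n, r i ∈ zpowers (r (1 : ZMod n)) := by
    intro i
    refine mem_zpowers_iff.2 ⟨(i.val : ℤ), ?_⟩
    rw [r_one_zpow]
    simp
  have hnot : ∀ t : DihedralGroup n, t ∉ zpowers (r (1 : ZMod n)) → ∃ i, t = sr i := by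
    intro t ht
    cases t with
    | r i => exact absurd (hmem i) ht
    | sr i => exact ⟨i, rfl⟩
  have hrm : ∀ c : DihedralGroup n, c ∈ zpowers (r (1 : ZMod n)) → ∃ i, c = r i := by
    intro c hc
    obtain ⟨k, rfl⟩ := mem_zpowers_iff.1 hc
    rw [r_one_zpow]
    exact ⟨_, rfl⟩
  refine ⟨?_, ?_, ?_, ?_, ?_⟩
  · obtain ⟨k, hk⟩ := h2 (r 1)
    exact ⟨k, hk⟩
  · intro t _ ht
    obtain ⟨i, rfl⟩ := hnot t ht
    have : (sr i : DihedralGroup n) ^ 4 = (sr i * sr i) * (sr i * sr i) := by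
      simp only [pow_succ, pow_zero, one_mul, mul_assoc]
    rw [this, sr_mul_self, one_mul]
  · intro t _ ht c hc _
    obtain ⟨i, rfl⟩ := hnot t ht
    obtain ⟨k, rfl⟩ := hrm c hc
    rw [inv_sr, sr_mul_r, sr_mul_sr, inv_r]
    congr 1
    ring
  · intro t _ ht t' _ ht'
    obtain ⟨i, rfl⟩ := hnot t ht
    obtain ⟨j, rfl⟩ := hnot t' ht'
    rw [inv_sr, sr_mul_sr]
    exact hmem _
  · obtain ⟨k, hk⟩ := (IsPGroup.iff_card).1 h2
    rw [nat_card] at hk
    have hk3 : 3 ≤ k := by
      by_contra hlt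
      have : 2 ^ k ≤ 2 ^ 2 := Nat.pow_le_pow_right (by norm_num) (by omega)
      omega
    obtain ⟨l, rfl⟩ : ∃ l, k = l + 3 := ⟨k - 3, by omega⟩
    have hnv : n = 4 * 2 ^ l := by
      have : 2 ^ (l + 3) = 2 * (4 * 2 ^ l) := by ring
      omega
    refine ⟨r ((2 ^ l : ℕ) : ZMod n), hmem _, ?_, ?_⟩
    · rw [r_pow]
      intro h
      have h1 : ((2 ^ l : ℕ) : ZMod n) * ((2 : ℕ) : ZMod n) = 0 := r.inj h
      rw [← Nat.cast_mul, ZMod.natCast_eq_zero_iff] at h1
      have h2' := Nat.le_of_dvd (by positivity) h1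
      have hpos : 0 < 2 ^ l := by positivity
      omega
    · rw [r_pow, one_def]
      congr 1
      have : ((2 ^ l : ℕ) : ZMod n) * ((4 : ℕ) : ZMod n) = ((n : ℕ) : ZMod n) := by
        rw [← Nat.cast_mul, hnv]
        congr 1
        ring
      rw [this]
      simp

end dihedral

section quasi

theorem twoMaxCyc_quasi {S : Type*} [Group S] (h : IsQuasiDihedral S) :
    ∃ x : S, TwoMaxCyc (⊤ : Subgroup S) x := by
  obtain ⟨n, hn, hcard, x, y, hx, hy, hxy⟩ := h
  obtain ⟨k, rfl⟩ : ∃ k, n = k + 3 := ⟨n - 3, by omega⟩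
  haveI : Finite S := Nat.finite_of_card_ne_zero (by rw [hcard]; positivity)
  set N := 2 ^ k with hN
  have hNpos : 0 < N := by positivity
  have h1 : 2 ^ (k + 3) = 8 * N := by rw [hN]; ring
  have h2 : 2 ^ (k + 3 + 1) = 16 * N := by rw [hN]; ring
  have h3 : 2 ^ (k + 3 - 1) = 4 * N := by
    have : k + 3 - 1 = k + 2 := by omega
    rw [this, hN]; ring
  rw [h1] at hx
  rw [h2] at hcard
  rw [h3] at hxy
  set m := 4 * N - 1 with hm
  have hm1 : m + 1 = 4 * N := by omega
  have hy1 : y * y = 1 := by rw [← sq, ← hy]; exact pow_orderOf_eq_one y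
  have hyinv : y⁻¹ = y := inv_eq_of_mul_eq_one_left hy1
  have hx8 : x ^ (8 * N) = 1 := by rw [← hx]; exact pow_orderOf_eq_one x
  set A := zpowers x with hA
  have hAcard : Nat.card A = 8 * N := by rw [hA, Nat.card_zpowers, hx]
  have hindex : A.index = 2 := by
    have h4 := A.card_mul_index
    rw [hAcard, hcard] at h4
    have h5 : 8 * N * A.index = 8 * N * 2 := by rw [h4]; ring
    exact Nat.eq_of_mul_eq_mul_left (by omega) h5
  have hyA : y ∉ A := by
    intro hyin
    have hcomm : y * x = x * y := by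
      obtain ⟨l, rfl⟩ := mem_zpowers_iff.1 hyin
      exact (Commute.zpow_left (Commute.refl x) l).eq
    have h4 : y * x * y⁻¹ = x := by rw [hcomm]; group
    rw [hxy] at h4
    have h5 : x ^ (m - 1) = 1 := by
      have h6 : x ^ (m - 1) * x = x := by
        rw [← pow_succ]
        have : m - 1 + 1 = m := by omega
        rw [this]; exact h4
      exact mul_eq_right.1 h6
    have h7 := orderOf_dvd_of_pow_eq_one h5
    rw [hx] at h7
    have h8 : 0 < m - 1 := by omega
    have h9 := Nat.le_of_dvd h8 h7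
    omega
  have hconj : ∀ s : ℕ, y * x ^ s * y⁻¹ = (x ^ s) ^ m := by
    intro s
    rw [← conj_pow, hxy, ← pow_mul, ← pow_mul, mul_comm]
  have hout : ∀ t, t ∉ A → ∃ s : ℕ, t = x ^ s * y := by
    intro t ht
    have h4 : t * y⁻¹ ∈ A := by
      rw [mul_mem_iff_of_index_two hindex]
      constructor
      · intro h5; exact absurd h5 ht
      · intro h5; exact absurd (by simpa using A.inv_mem h5) hyA
    obtain ⟨s, hs⟩ := mem_powers_iff_mem_zpowers.2 h4
    have hs' : x ^ s = t * y⁻¹ := hs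
    exact ⟨s, by rw [hs']; group⟩
  refine ⟨x, ?_, ?_, ?_, ?_, ?_⟩
  · exact ⟨k + 3, by rw [h1]; exact hx8⟩
  · intro t _ ht
    obtain ⟨s, rfl⟩ := hout t ht
    have h4 : (x ^ s * y) * (x ^ s * y) = x ^ (s * (4 * N)) := by
      calc (x ^ s * y) * (x ^ s * y) = x ^ s * (y * x ^ s * y⁻¹) * (y * y) := by
            group
        _ = x ^ s * (x ^ s) ^ m := by rw [hconj, hy1, mul_one]
        _ = x ^ (s * (4 * N)) := by
            rw [← pow_mul, ← pow_add, ← hm1]
            congr 1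
            ring
    have h5 : (x ^ s * y) ^ 4 = ((x ^ s * y) * (x ^ s * y)) * ((x ^ s * y) * (x ^ s * y)) := by
      simp only [pow_succ, pow_zero, one_mul, mul_assoc]
    rw [h5, h4, ← pow_add]
    have h6 : s * (4 * N) + s * (4 * N) = (8 * N) * s := by ring
    rw [h6, pow_mul, hx8, one_pow]
  · intro t _ ht c hc hc4
    obtain ⟨s, rfl⟩ := hout t ht
    obtain ⟨l, hl⟩ := mem_powers_iff_mem_zpowers.2 hc
    have hl' : x ^ l = c := hl
    have h4 : y * c * y⁻¹ = c ^ m := by rw [← hl', hconj]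
    have h5 : c ^ m = c⁻¹ := by
      have h6 : c ^ m * c = 1 := by
        rw [← pow_succ, hm1, pow_mul, hc4, one_pow]
      exact eq_inv_of_mul_eq_one_left h6
    have h7 : x ^ s * c = c * x ^ s := by
      rw [← hl']
      exact ((Commute.refl x).pow_pow s l).eq
    have h8 : x ^ s * c⁻¹ * (x ^ s)⁻¹ = c⁻¹ := by
      have h9 : x ^ s * c⁻¹ = c⁻¹ * x ^ s := by
        have := (Commute.inv_right (show Commute (x ^ s) c from h7)).eq
        exact this
      rw [h9]; group
    calc (x ^ s * y) * c * (x ^ s * y)⁻¹ = x ^ s * (y * c * y⁻¹) * (x ^ s)⁻¹ := by group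
      _ = c⁻¹ := by rw [h4, h5, h8]
  · intro t _ ht t' _ ht'
    rw [mul_mem_iff_of_index_two hindex]
    constructor
    · intro h5; exact absurd (by simpa using A.inv_mem h5) ht
    · intro h5; exact absurd h5 ht'
  · refine ⟨x ^ (2 * N), (zpowers x).pow_mem (mem_zpowers x) _, ?_, ?_⟩
    · rw [← pow_mul]
      intro h4
      have h5 := orderOf_dvd_of_pow_eq_one h4
      rw [hx] at h5
      have h6 := Nat.le_of_dvd (by positivity) h5
      omega
    · rw [← pow_mul]
      have : 2 * N * 4 = 8 * N := by ring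
      rw [this]; exact hx8

end quasi

section action

variable {G : Type*} [Group G]

/-- Conjugation action on an invariant set of subgroups. -/
def conjPermHom (X : Set (Subgroup G))
    (hX : ∀ g : G, ∀ S ∈ X, S.map (MulAut.conj g).toMonoidHom ∈ X) : G →* Equiv.Perm X where
  toFun g :=
    { toFun := fun S => ⟨S.1.map (MulAut.conj g).toMonoidHom, hX g _ S.2⟩
      invFun := fun S => ⟨S.1.map (MulAut.conj g⁻¹).toMonoidHom, hX _ _ S.2⟩
      left_inv := fun S => Subtype.ext (map_conj_inv_map_conj g S.1)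
      right_inv := fun S => Subtype.ext (map_conj_map_conj_inv g S.1) }
  map_one' := by
    ext S : 2
    exact map_conj_one S.1
  map_mul' g h := by
    ext S : 2
    exact (map_conj_mul g h S.1).symm

theorem mem_ker_conjPermHom {X : Set (Subgroup G)}
    {hX : ∀ g : G, ∀ S ∈ X, S.map (MulAut.conj g).toMonoidHom ∈ X} {g : G} :
    g ∈ (conjPermHom X hX).ker ↔ ∀ S ∈ X, S.map (MulAut.conj g).toMonoidHom = S := by
  rw [MonoidHom.mem_ker]
  constructor
  · intro h S hS
    have := congrArg (fun σ : Equiv.Perm X => (σ ⟨S, hS⟩).1) h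
    exact this
  · intro h
    ext S : 2
    exact h S.1 S.2

variable [Finite G]

theorem index_dvd_six_of_q8 {F : Subgroup G} [hFn : F.Normal] (hF2 : IsPGroup 2 F)
    (hFmax : ∀ N : Subgroup G, N.Normal → IsPGroup 2 N → N ≤ F)
    (hCF : centralizer (F : Set G) ≤ F) {c j : G} (hcF : c ∈ F) (hjF : j ∈ F)
    (hc4 : c ^ 4 = 1) (hc2 : c ^ 2 ≠ 1) (hjj : j * j = c * c) (hjc : j * c * j⁻¹ = c⁻¹)
    (hNF : ∀ f ∈ F, ∃ i : Fin 4, ∃ b : Fin 2, f = c ^ i.val * j ^ b.val) : F.index ∣ 6 := by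
  classical
  -- basic relations
  have hjc' : j * c = c⁻¹ * j := by
    rw [← hjc]; group
  have hc3 : c ^ 3 = c⁻¹ := (eq_inv_of_mul_eq_one_left (by rw [← pow_succ]; exact hc4))
  have hcc : c * c = c ^ 2 := (sq c).symm
  have hj2 : j ^ 2 = c ^ 2 := by rw [sq, sq, hjj]
  have hj4 : j ^ 4 = 1 := by
    have : j ^ 4 = (j ^ 2) ^ 2 := by rw [← pow_mul]
    rw [this, hj2, ← pow_mul]; exact hc4
  have hcjsq : (c * j) ^ 2 = c ^ 2 := by
    rw [sq]
    calc (c * j) * (c * j) = c * (j * c) * j := by simp only [mul_assoc]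
      _ = c * (c⁻¹ * j) * j := by rw [hjc']
      _ = j * j := by group
      _ = c ^ 2 := by rw [hjj, sq]
  set X : Set (Subgroup G) := {zpowers c, zpowers j, zpowers (c * j)} with hXdef
  have hXmem : ∀ w ∈ F, w ^ 2 ≠ 1 → zpowers w ∈ X := by
    intro w hw hw2
    obtain ⟨i, b, rfl⟩ := hNF w hw
    fin_cases i <;> fin_cases b
    · exfalso; apply hw2; simp
    · right; left; simp
    · left; simp
    · right; right; simp
    · exfalso; apply hw2
      have : ((c ^ 2 * j ^ 0) ^ 2 : G) = c ^ 4 := by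
        simp only [pow_zero, mul_one, ← pow_mul]
      exact this.trans hc4
    · right; left
      have hv : (c ^ 2 * j ^ 1 : G) = j⁻¹ := by
        have h5 : j⁻¹ = j ^ 3 := (eq_inv_of_mul_eq_one_left (by rw [← pow_succ]; exact hj4)).symm
        rw [h5, pow_one, ← hj2]
        simp only [pow_succ, pow_zero, one_mul, mul_assoc]
      show zpowers (c ^ 2 * j ^ 1 : G) = zpowers j
      rw [hv, zpowers_inv]
    · left
      have hv : (c ^ 3 * j ^ 0 : G) = c⁻¹ := by rw [pow_zero, mul_one, hc3]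
      show zpowers (c ^ 3 * j ^ 0 : G) = zpowers c
      rw [hv, zpowers_inv]
    · right; right
      have hv : (c ^ 3 * j ^ 1 : G) = (c * j)⁻¹ := by
        apply eq_inv_of_mul_eq_one_left
        calc c ^ 3 * j ^ 1 * (c * j) = c ^ 3 * (j * c) * j := by simp only [pow_one, mul_assoc]
          _ = c ^ 3 * (c⁻¹ * j) * j := by rw [hjc']
          _ = c ^ 3 * c⁻¹ * (j * j) := by simp only [mul_assoc]
          _ = 1 := by rw [hjj, hc3]; group
      show zpowers (c ^ 3 * j ^ 1 : G) = zpowers (c * j)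
      rw [hv, zpowers_inv]
  have hcjF : c * j ∈ F := F.mul_mem hcF hjF
  have hw3 : ∀ S ∈ X, ∃ w ∈ F, w ^ 2 ≠ 1 ∧ S = zpowers w := by
    rintro S (rfl | rfl | hS)
    · exact ⟨c, hcF, hc2, rfl⟩
    · exact ⟨j, hjF, by rw [hj2]; exact hc2, rfl⟩
    · exact ⟨c * j, hcjF, by rw [hcjsq]; exact hc2, Set.mem_singleton_iff.1 hS⟩
  have hX : ∀ g : G, ∀ S ∈ X, S.map (MulAut.conj g).toMonoidHom ∈ X := by
    intro g S hS
    obtain ⟨w, hw, hw2, rfl⟩ := hw3 S hS
    rw [MonoidHom.map_zpowers]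
    apply hXmem
    · exact hFn.conj_mem w hw g
    · intro h
      apply hw2
      have h1 : (MulAut.conj g).toMonoidHom (w ^ 2) = 1 := by rw [map_pow]; exact h
      exact (map_eq_one_iff _ (MulAut.conj g).injective).1 h1
  set π := conjPermHom X hX with hπ
  have hker : π.ker ≤ F := by
    apply hFmax _ inferInstance
    rintro ⟨g, hg⟩
    have hg' := mem_ker_conjPermHom.1 hg
    obtain ⟨k, q, hq, hkq⟩ := Nat.exists_eq_two_pow_mul_odd (orderOf_pos g).ne'
    set h := g ^ 2 ^ k with hh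
    have hodd : Odd (orderOf h) := by
      have h1 : orderOf h ∣ q := by
        apply orderOf_dvd_of_pow_eq_one
        rw [hh, ← pow_mul, ← hkq, pow_orderOf_eq_one]
      exact Odd.of_dvd_nat hq h1
    have hh' : h ∈ π.ker := π.ker.pow_mem hg _
    have hh2 := mem_ker_conjPermHom.1 hh'
    have hcommc : h * c = c * h := by
      apply odd_comm_of_conj_mem_zpowers hodd (e := 2) (by simpa using hc4)
      have h1 := hh2 (zpowers c) (by simp [hXdef])
      rw [← h1]
      exact ⟨c, mem_zpowers c, rfl⟩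
    have hcommj : h * j = j * h := by
      apply odd_comm_of_conj_mem_zpowers hodd (e := 2) (by simpa using hj4)
      have h1 := hh2 (zpowers j) (by simp [hXdef])
      rw [← h1]
      exact ⟨j, mem_zpowers j, rfl⟩
    have hcen : h ∈ centralizer (F : Set G) := by
      rw [mem_centralizer_iff]
      intro f hf
      obtain ⟨i, b, rfl⟩ := hNF f hf
      have h1 : Commute h (c ^ i.val * j ^ b.val) :=
        (Commute.pow_right hcommc _).mul_right (Commute.pow_right hcommj _)
      exact h1.eq.symm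
    have hhF : h ∈ F := hCF hcen
    obtain ⟨e, he⟩ := hF2 ⟨h, hhF⟩
    have he' : h ^ 2 ^ e = 1 := congrArg Subtype.val he
    have h1 : orderOf h ∣ Nat.gcd (2 ^ e) (orderOf h) :=
      Nat.dvd_gcd (orderOf_dvd_of_pow_eq_one he') dvd_rfl
    have h5 : Nat.gcd (2 ^ e) (orderOf h) = 1 :=
      Nat.Coprime.pow_left e (Nat.coprime_two_left.2 hodd)
    rw [h5, Nat.dvd_one, orderOf_eq_one_iff] at h1
    refine ⟨k, Subtype.ext ?_⟩
    simpa using h1
  have hXcard : Nat.card X ≤ 3 := by
    rw [Nat.card_coe_set_eq]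
    have h1 := Set.ncard_insert_le (zpowers c) ({zpowers j, zpowers (c * j)} : Set (Subgroup G))
    have h2 := Set.ncard_insert_le (zpowers j) ({zpowers (c * j)} : Set (Subgroup G))
    rw [Set.ncard_singleton] at h2
    refine le_trans h1 ?_
    omega
  have h6 : π.ker.index ∣ 6 := by
    rw [Subgroup.index_ker]
    have h1 : Nat.card π.range ∣ Nat.card (Equiv.Perm X) := Subgroup.card_subgroup_dvd_card _
    rw [Nat.card_perm] at h1
    refine h1.trans ?_
    interval_cases Nat.card X <;> decide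
  exact (Subgroup.index_dvd_of_le hker).trans h6

end action

end Cfsg.Agent.H13
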