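import Mathlib
import Cfsg.Agent.Lib.H13.CycOdd

/-!
Abstract lemma on a group acting with vanishing norms (used for Itô's theorem on three class sizes).
-/

set_option autoImplicit false

namespace Cfsg.Agent.H13.RT

open Cfsg

section XL

variable {X R : Type*} [Group X] [Finite X] [Ring R] (ρ : X →* R)

theorem conj_order (g t : X) : orderOf (g * t * g⁻¹) = orderOf t :=
  orderOf_injective (MulAut.conj g).toMonoidHom (MulAut.conj g).injective t

variable (hN : ∀ x : X, x ≠ 1 → ∑ i ∈ Finset.range (orderOf x), ρ x ^ i = 0)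
  (hT : ∀ f : ℕ, f.Prime → (f : R) ≠ 0)

include hN hT in
theorem eq_one_of_rho_eq_one {x : X} (h : ρ x = 1) : x = 1 := by
  by_contra hx
  have h1 : orderOf x ≠ 1 := fun h2 => hx (orderOf_eq_one_iff.mp h2)
  obtain ⟨f, hf, hd⟩ := Nat.exists_prime_and_dvd h1
  have h2 : orderOf (x ^ (orderOf x / f)) = f := orderOf_pow_orderOf_div (orderOf_pos x).ne' hd
  have h3 : x ^ (orderOf x / f) ≠ 1 := by
    intro h4
    rw [h4, orderOf_one] at h2
    exact hf.one_lt.ne h2
  have h4 := hN _ h3
  rw [h2, map_pow, h] at h4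
  simp only [one_pow, pow_one, Finset.sum_const, Finset.card_range, nsmul_eq_mul, mul_one] at h4
  exact hT f hf h4

include hN hT in
theorem rho_eq_neg_one {t : X} (ht : orderOf t = 2) : ρ t = -1 := by
  have h1 : t ≠ 1 := by
    rintro rfl
    rw [orderOf_one] at ht
    omega
  have h2 := hN t h1
  rw [ht, Finset.sum_range_succ, Finset.sum_range_one] at h2
  simp only [pow_zero, pow_one] at h2
  exact (neg_eq_of_add_eq_zero_right h2).symm

include hN hT in
theorem involution_central {t : X} (ht : orderOf t = 2) (g : X) : Commute g t := by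
  have h1 := rho_eq_neg_one ρ hN hT ht
  have h2 := rho_eq_neg_one ρ hN hT (t := g * t * g⁻¹) (by rw [conj_order, ht])
  have h3 : ρ (t * (g * t * g⁻¹)) = 1 := by
    rw [map_mul, h1, h2]; simp
  have h4 := eq_one_of_rho_eq_one ρ hN hT h3
  have h5 : t * t = 1 := by
    rw [← pow_two, ← ht]
    exact pow_orderOf_eq_one t
  have h6 : g * t * g⁻¹ = t := by
    have : t⁻¹ = g * t * g⁻¹ := (eq_inv_of_mul_eq_one_right h4).symm ▸ by simp
    rw [← this]
    exact inv_eq_of_mul_eq_one_left h5
  show g * t = t * g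
  calc g * t = g * t * g⁻¹ * g := by group
    _ = t * g := by rw [h6]

include hN hT in
theorem no_rank_two {f : ℕ} (hf : f.Prime) {e₁ e₂ : X} (hc : Commute e₁ e₂) (h₁ : orderOf e₁ = f)
    (h₂ : orderOf e₂ = f) (hn : e₁ ∉ Subgroup.zpowers e₂) : False := by
  haveI : Fact f.Prime := ⟨hf⟩
  have hzero : ∑ j ∈ Finset.range f, ∑ i ∈ Finset.range f, ρ (e₁ * e₂ ^ j) ^ i = 0 := by
    apply Finset.sum_eq_zero
    intro j _
    have hne : e₁ * e₂ ^ j ≠ 1 := by
      intro h
      apply hn
      have h3 : e₁ = (e₂ ^ j)⁻¹ := eq_inv_of_mul_eq_one_left h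
      rw [h3]
      exact Subgroup.inv_mem _ (Subgroup.pow_mem _ (Subgroup.mem_zpowers e₂) j)
    have hord : orderOf (e₁ * e₂ ^ j) = f := by
      apply orderOf_eq_prime _ hne
      rw [(hc.pow_right j).mul_pow, ← h₁, pow_orderOf_eq_one, one_mul, ← pow_mul, mul_comm, pow_mul,
        h₁, ← h₂, pow_orderOf_eq_one, one_pow]
    have := hN _ hne
    rwa [hord] at this
  rw [Finset.sum_comm] at hzero
  have hterm : ∀ i ∈ Finset.range f, ∑ j ∈ Finset.range f, ρ (e₁ * e₂ ^ j) ^ i =
      ρ e₁ ^ i * ∑ j ∈ Finset.range f, ρ (e₂ ^ i) ^ j := by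
    intro i _
    rw [Finset.mul_sum]
    apply Finset.sum_congr rfl
    intro j _
    rw [← map_pow, (hc.pow_right j).mul_pow, map_mul, map_pow, ← pow_mul, mul_comm j i, pow_mul, map_pow,
      map_pow]
  rw [Finset.sum_congr rfl hterm, Finset.sum_eq_single 0] at hzero
  · simp only [pow_zero, one_mul, one_pow, map_one, Finset.sum_const, Finset.card_range, nsmul_eq_mul,
      mul_one] at hzero
    exact hT f hf hzero
  · intro i hi hi0
    have hi' : i < f := Finset.mem_range.mp hi
    have hne : e₂ ^ i ≠ 1 := by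
      intro h
      have := orderOf_dvd_of_pow_eq_one h
      rw [h₂] at this
      exact absurd (Nat.le_of_dvd (Nat.pos_of_ne_zero hi0) this) (by omega)
    have hord : orderOf (e₂ ^ i) = f := by
      apply orderOf_eq_prime _ hne
      rw [← pow_mul, mul_comm, pow_mul, ← h₂, pow_orderOf_eq_one, one_pow]
    have := hN _ hne
    rw [hord] at this
    rw [this, mul_zero]
  · intro h
    exact absurd (Finset.mem_range.mpr hf.pos) h

theorem conj_pow_mem_zpowers {r w : X} (h : w * r * w⁻¹ ∈ Subgroup.zpowers r) (j : ℕ) :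
    w ^ j * r * (w ^ j)⁻¹ ∈ Subgroup.zpowers r := by
  induction j with
  | zero => simp
  | succ j ih =>
    obtain ⟨k, hk⟩ := ih
    have h1 : w ^ (j + 1) * r * (w ^ (j + 1))⁻¹ = w * (w ^ j * r * (w ^ j)⁻¹) * w⁻¹ := by
      rw [pow_succ']
      group
    rw [h1, ← hk]
    have h2 : w * r ^ k * w⁻¹ = (w * r * w⁻¹) ^ k := by
      rw [conj_zpow]
    show w * r ^ k * w⁻¹ ∈ _
    rw [h2]
    exact Subgroup.zpow_mem _ h k

include hN hT in
theorem no_nonabelian {e f : ℕ} (he : e.Prime) (hf : f.Prime) {r w : X} (hr : orderOf r = e)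
    (hw : orderOf w = f) (hnorm : w * r * w⁻¹ ∈ Subgroup.zpowers r) (hnc : ¬ Commute w r) : False := by
  haveI : Fact e.Prime := ⟨he⟩
  haveI : Fact f.Prime := ⟨hf⟩
  have hg : ∀ i : ℕ, ∑ j ∈ Finset.range f, ρ ((r⁻¹) ^ i * w * ((r⁻¹) ^ i)⁻¹) ^ j = 0 := by
    intro i
    have hne : (r⁻¹) ^ i * w * ((r⁻¹) ^ i)⁻¹ ≠ 1 := by
      intro h
      have h1 := conj_order ((r⁻¹) ^ i) w
      rw [h, orderOf_one, hw] at h1
      exact hf.one_lt.ne h1
    have := hN _ hne
    rwa [conj_order, hw] at this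
  have hzero : ∑ i ∈ Finset.range e, ∑ j ∈ Finset.range f, ρ ((r⁻¹) ^ i * w * ((r⁻¹) ^ i)⁻¹) ^ j = 0 :=
    Finset.sum_eq_zero fun i _ => hg i
  rw [Finset.sum_comm] at hzero
  have hterm : ∀ j ∈ Finset.range f, 0 < j →
      ∑ i ∈ Finset.range e, ρ ((r⁻¹) ^ i * w * ((r⁻¹) ^ i)⁻¹) ^ j = 0 := by
    intro j hj hj0
    have hj' : j < f := Finset.mem_range.mp hj
    set y := w ^ j with hy
    have hyn : y * r * y⁻¹ ∈ Subgroup.zpowers r := conj_pow_mem_zpowers hnorm j
    have hyc : ¬ Commute y r := by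
      intro hc
      apply hnc
      have h1 : w ∈ Subgroup.zpowers y := by
        have h2 : j.Coprime (orderOf w) := by
          rw [hw]
          exact (Nat.coprime_of_lt_prime hj0.ne' hj' hf).symm
        obtain ⟨k, hk⟩ := exists_pow_eq_self_of_coprime h2
        exact ⟨k, by simp only [zpow_natCast, hy, hk]⟩
      obtain ⟨k, hk⟩ := h1
      have h5 : Commute (y ^ k) r := hc.zpow_left k
      have h6 : y ^ k = w := hk
      rwa [h6] at h5
    set r' := r⁻¹ * (y * r * y⁻¹) with hr'
    have hr'mem : r' ∈ Subgroup.zpowers r :=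
      Subgroup.mul_mem _ (Subgroup.inv_mem _ (Subgroup.mem_zpowers r)) hyn
    have hr'ne : r' ≠ 1 := by
      intro h
      apply hyc
      have h1 : y * r * y⁻¹ = r := by
        have := eq_of_inv_mul_eq_one h
        exact this.symm
      show y * r = r * y
      calc y * r = y * r * y⁻¹ * y := by group
        _ = r * y := by rw [h1]
    have hr'ord : orderOf r' = e := by
      apply orderOf_eq_prime _ hr'ne
      obtain ⟨k, hk⟩ := hr'mem
      rw [← hk, ← zpow_natCast, ← zpow_mul, mul_comm, zpow_mul, zpow_natCast, ← hr, pow_orderOf_eq_one,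
        one_zpow]
    have hcomm : Commute (r⁻¹) (y * r * y⁻¹) := by
      obtain ⟨k, hk⟩ := hyn
      rw [← hk]
      exact ((Commute.refl r).inv_left).zpow_right k
    have hsum := hN _ hr'ne
    rw [hr'ord] at hsum
    have h3 : ∀ i ∈ Finset.range e, ρ ((r⁻¹) ^ i * w * ((r⁻¹) ^ i)⁻¹) ^ j = ρ r' ^ i * ρ y := by
      intro i _
      rw [← map_pow, conj_pow, ← hy, ← map_pow, ← map_mul]
      congr 1
      rw [hr', hcomm.mul_pow, conj_pow]
      simp only [inv_pow, inv_inv]
      group
    rw [Finset.sum_congr rfl h3, ← Finset.sum_mul, hsum, zero_mul]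
  have hf' : f = (f - 1) + 1 := by
    have := hf.pos
    omega
  rw [hf', Finset.sum_range_succ', Finset.sum_eq_zero, zero_add] at hzero
  · simp only [pow_zero, Finset.sum_const, Finset.card_range, nsmul_eq_mul, mul_one] at hzero
    exact hT e he hzero
  · intro j hj
    exact hterm (j + 1) (Finset.mem_range.mpr (by
      have := Finset.mem_range.mp hj
      omega)) (Nat.succ_pos j)

include hN hT in
theorem isCyclic_sylow_of_odd {p : ℕ} [Fact p.Prime] (hp2 : p ≠ 2) (P : Sylow p X) :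
    IsCyclic (P : Subgroup X) := by
  have hpp : p.Prime := Fact.out
  apply H13.isCyclic_of_pRankLE_one hp2 P.isPGroup'
  intro A hAc hAe
  by_contra hcard
  have hAc' : ∀ a b : A, a * b = b * a := fun a b => hAc.is_comm.comm a b
  have hAe' : ∀ a : A, (a : (P : Subgroup X)) ^ p = 1 := fun a => hAe a a.2
  have hcard' : p < Nat.card A := by
    rw [pow_one] at hcard
    omega
  have hA1 : Nontrivial A := by
    rw [← Finite.one_lt_card_iff_nontrivial]
    exact hpp.one_lt.trans hcard'
  obtain ⟨a, ha⟩ := exists_ne (1 : A)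
  have hao : orderOf a = p := by
    apply orderOf_eq_prime _ ha
    exact Subtype.ext (by simpa using hAe' a)
  have hz : Nat.card (Subgroup.zpowers a) = p := by rw [Nat.card_zpowers, hao]
  obtain ⟨b, hb⟩ : ∃ b : A, b ∉ Subgroup.zpowers a := by
    by_contra hno
    push Not at hno
    have h1 : Subgroup.zpowers a = ⊤ := eq_top_iff.mpr fun x _ => hno x
    rw [h1, Subgroup.card_top] at hz
    omega
  have hb1 : b ≠ 1 := by
    rintro rfl
    exact hb (Subgroup.one_mem _)
  have hbo : orderOf b = p := by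
    apply orderOf_eq_prime _ hb1
    exact Subtype.ext (by simpa using hAe' b)
  have hinj : Function.Injective (fun x : A => ((x : (P : Subgroup X)) : X)) :=
    Subtype.val_injective.comp Subtype.val_injective
  let φ : A →* X := (P : Subgroup X).subtype.comp A.subtype
  have hφ : Function.Injective φ := hinj
  apply no_rank_two ρ hN hT hpp (e₁ := φ b) (e₂ := φ a)
  · show φ b * φ a = φ a * φ b
    rw [← map_mul, ← map_mul, hAc' b a]
  · rw [orderOf_injective φ hφ, hbo]
  · rw [orderOf_injective φ hφ, hao]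
  · rintro ⟨k, hk⟩
    apply hb
    refine ⟨k, hφ ?_⟩
    simpa [map_zpow] using hk

theorem cyc_unique' {C : Type*} [Group C] [Finite C] [IsCyclic C] {p : ℕ} (hp : p.Prime) (x y : C)
    (hx : orderOf x = p) (hy : y ^ p = 1) : y ∈ Subgroup.zpowers x := by
  classical
  haveI := Fintype.ofFinite C
  have h1 := IsCyclic.card_pow_eq_one_le (α := C) hp.pos
  have h2 : (Finset.univ.filter (· ∈ Subgroup.zpowers x)).card = p := by
    rw [← hx, ← Nat.card_zpowers, Nat.card_eq_fintype_card, Fintype.card_subtype]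
  have h3 : (Finset.univ.filter (· ∈ Subgroup.zpowers x)) ⊆ (Finset.univ.filter fun a : C => a ^ p = 1) := by
    intro a ha
    simp only [Finset.mem_filter, Finset.mem_univ, true_and] at ha ⊢
    obtain ⟨k, rfl⟩ := Subgroup.mem_zpowers_iff.1 ha
    rw [← zpow_natCast, zpow_comm, zpow_natCast, ← hx, pow_orderOf_eq_one, one_zpow]
  have h4 := Finset.eq_of_subset_of_card_le h3 (by rw [h2]; exact h1)
  have h5 : y ∈ (Finset.univ.filter fun a : C => a ^ p = 1) := by simp [hy]
  rw [← h4] at h5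
  simpa using h5

/-- The abstract two-prime contradiction. -/
theorem x_lemma {q₁ q₂ : ℕ} (hq₁ : q₁.Prime) (hq₂ : q₂.Prime) (hne : q₁ ≠ q₂) {g₁ g₂ : X}
    (hg₁ : orderOf g₁ = q₁) (hg₂ : orderOf g₂ = q₂)
    (hP₁ : ∀ w : X, (orderOf w).Prime → orderOf w ≠ q₁ → ¬ Commute w g₁)
    (hP₂ : ∀ w : X, (orderOf w).Prime → orderOf w ≠ q₂ → ¬ Commute w g₂)
    (hN : ∀ x : X, x ≠ 1 → ∑ i ∈ Finset.range (orderOf x), ρ x ^ i = 0)
    (hT : ∀ f : ℕ, f.Prime → (f : R) ≠ 0) : False := by
  classical
  have hodd : ¬ 2 ∣ Nat.card X := by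
    intro h2
    haveI : Fact (Nat.Prime 2) := ⟨Nat.prime_two⟩
    obtain ⟨t, ht⟩ := exists_prime_orderOf_dvd_card' 2 h2
    by_cases h : q₁ = 2
    · refine hP₂ t (by rw [ht]; exact Nat.prime_two) (by rw [ht]; intro h3; exact hne (by omega)) ?_
      exact (involution_central ρ hN hT ht g₂).symm
    · refine hP₁ t (by rw [ht]; exact Nat.prime_two) (by rw [ht]; intro h3; exact h h3.symm) ?_
      exact (involution_central ρ hN hT ht g₁).symm
  haveI hZ : IsZGroup X := by
    refine ⟨fun p hp P => ?_⟩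
    haveI : Fact p.Prime := ⟨hp⟩
    by_cases h2 : p = 2
    · subst h2
      obtain ⟨n, hn⟩ := IsPGroup.iff_card.mp P.isPGroup'
      have hn0 : n = 0 := by
        by_contra h0
        apply hodd
        have h3 : 2 ∣ Nat.card (P : Subgroup X) := by
          rw [hn]
          exact dvd_pow_self 2 h0
        exact h3.trans (Subgroup.card_subgroup_dvd_card _)
      rw [hn0, pow_zero] at hn
      haveI : Subsingleton (P : Subgroup X) := (Nat.card_eq_one_iff_unique.mp hn).1
      exact isCyclic_of_subsingleton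
    · exact isCyclic_sylow_of_odd ρ hN hT h2 P
  obtain ⟨r, e, he, hr, hnr⟩ : ∃ (r : X) (e : ℕ), e.Prime ∧ orderOf r = e ∧
      ∀ g : X, g * r * g⁻¹ ∈ Subgroup.zpowers r := by
    by_cases hC : commutator X = ⊥
    · refine ⟨g₁, q₁, hq₁, hg₁, fun g => ?_⟩
      have h1 : g * g₁ * g⁻¹ * g₁⁻¹ ∈ commutator X :=
        Subgroup.commutator_mem_commutator (Subgroup.mem_top g) (Subgroup.mem_top g₁)
      rw [hC, Subgroup.mem_bot] at h1
      have h2 : g * g₁ * g⁻¹ = g₁ := eq_of_mul_inv_eq_one h1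
      rw [h2]
      exact Subgroup.mem_zpowers g₁
    · haveI hcyc : IsCyclic (commutator X) := IsZGroup.isCyclic_commutator X
      have h1 : Nat.card (commutator X) ≠ 1 := by
        intro h
        exact hC (Subgroup.eq_bot_of_card_eq _ h)
      obtain ⟨e, he, hd⟩ := Nat.exists_prime_and_dvd h1
      haveI : Fact e.Prime := ⟨he⟩
      obtain ⟨r₀, hr₀⟩ := exists_prime_orderOf_dvd_card' e hd
      refine ⟨(r₀ : X), e, he, by rw [Subgroup.orderOf_coe, hr₀], fun g => ?_⟩
      have hmem : g * (r₀ : X) * g⁻¹ ∈ commutator X :=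
        (inferInstance : (commutator X).Normal).conj_mem _ r₀.2 g
      have hpow : (⟨g * (r₀ : X) * g⁻¹, hmem⟩ : commutator X) ^ e = 1 := by
        apply Subtype.ext
        show (g * (r₀ : X) * g⁻¹) ^ e = 1
        rw [conj_pow, ← Subgroup.coe_pow, ← hr₀, pow_orderOf_eq_one]
        simp
      obtain ⟨k, hk⟩ := cyc_unique' he r₀ _ hr₀ hpow
      refine ⟨k, ?_⟩
      have := congrArg Subtype.val hk
      simpa using this
  by_cases hq : e = q₁
  · have hne2 : orderOf r ≠ q₂ := by
      rw [hr, hq]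
      exact hne
    have hnc : ¬ Commute g₂ r := fun hc => hP₂ r (by rw [hr]; exact he) hne2 hc.symm
    exact no_nonabelian ρ hN hT he hq₂ hr hg₂ (hnr g₂) hnc
  · have hne2 : orderOf r ≠ q₁ := by
      rw [hr]
      exact hq
    have hnc : ¬ Commute g₁ r := fun hc => hP₁ r (by rw [hr]; exact he) hne2 hc.symm
    exact no_nonabelian ρ hN hT he hq₁ hr hg₁ (hnr g₁) hnc

end XL

end Cfsg.Agent.H13.RT
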