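import Mathlib
import Cfsg.Agent.Lib.H13.RT1
import Cfsg.Agent.Lib.H19.Lifts
import Cfsg.Agent.Lib.H19.Basic

/-!
The two prime contradiction (used for Itô's theorem on three class sizes).
-/

set_option autoImplicit false
set_option linter.style.haveILetI false
set_option linter.unusedSectionVars false
set_option linter.unusedVariables false

namespace Cfsg.Agent.H13.RT

open Cfsg
open scoped commutatorElement

theorem x_lemma_act {X A : Type*} [Group X] [Finite X] [CommGroup A] (α : X →* Monoid.End A)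
    {q₁ q₂ : ℕ} (hq₁ : q₁.Prime) (hq₂ : q₂.Prime) (hne : q₁ ≠ q₂) {g₁ g₂ : X}
    (hg₁ : orderOf g₁ = q₁) (hg₂ : orderOf g₂ = q₂)
    (hP₁ : ∀ w : X, (orderOf w).Prime → orderOf w ≠ q₁ → ¬ Commute w g₁)
    (hP₂ : ∀ w : X, (orderOf w).Prime → orderOf w ≠ q₂ → ¬ Commute w g₂)
    (hN : ∀ x : X, x ≠ 1 → ∀ a : A, ∏ i ∈ Finset.range (orderOf x), (α (x ^ i)) a = 1)
    (hT : ∀ f : ℕ, f.Prime → ∃ a : A, a ^ f ≠ 1) : False := by
  let ρ₀ : Monoid.End A →* AddMonoid.End (Additive A) :=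
    { toFun := fun φ => MonoidHom.toAdditive φ
      map_one' := rfl
      map_mul' := fun _ _ => rfl }
  let ρ : X →* AddMonoid.End (Additive A) := ρ₀.comp α
  refine x_lemma ρ hq₁ hq₂ hne hg₁ hg₂ hP₁ hP₂ ?_ ?_
  · intro x hx
    apply AddMonoidHom.ext
    intro a
    have h1 := hN x hx (Additive.toMul a)
    refine (AddMonoidHom.finsetSum_apply (fun i => (ρ x ^ i : AddMonoid.End (Additive A))) (Finset.range (orderOf x)) a).trans ?_
    calc ∑ i ∈ Finset.range (orderOf x), ((ρ x) ^ i) a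
        = ∑ i ∈ Finset.range (orderOf x), Additive.ofMul ((α (x ^ i)) (Additive.toMul a)) :=
          Finset.sum_congr rfl (fun i _ => by rw [← map_pow]; rfl)
      _ = Additive.ofMul (∏ i ∈ Finset.range (orderOf x), (α (x ^ i)) (Additive.toMul a)) :=
          (ofMul_prod _ _).symm
      _ = 0 := by rw [h1]; rfl
  · intro f hf h0
    obtain ⟨a, ha⟩ := hT f hf
    apply ha
    have h1 : ((f : AddMonoid.End (Additive A))) (Additive.ofMul a) = 0 := by rw [h0]; rfl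
    rw [AddMonoid.End.natCast_apply, ← ofMul_pow] at h1
    exact h1

/-- Iterated commutators in a nilpotent group. -/
theorem exists_fix_mod {P : Type*} [Group P] [Group.IsNilpotent P] (g : P) (S : P → Prop) (T : Subgroup P)
    (hS : ∀ x, S x → S ⁅x, g⁆) {a₀ : P} (h₀ : S a₀) (h₀' : a₀ ∉ T) : ∃ a, S a ∧ a ∉ T ∧ ⁅a, g⁆ ∈ T := by
  classical
  let c : ℕ → P := fun n => Nat.rec a₀ (fun _ x => ⁅x, g⁆) n
  have hc0 : c 0 = a₀ := rfl
  have hcs : ∀ n, c (n + 1) = ⁅c n, g⁆ := fun n => rfl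
  have hcS : ∀ n, S (c n) := by
    intro n
    induction n with
    | zero => exact h₀
    | succ n ih =>
      rw [hcs]
      exact hS _ ih
  have hcl : ∀ n, c n ∈ (⊤ : Subgroup P).lowerCentralSeries n := by
    intro n
    induction n with
    | zero => simp
    | succ n ih =>
      rw [hcs]
      exact Subgroup.commutator_mem_commutator ih (Subgroup.mem_top g)
  obtain ⟨N, hN⟩ := Subgroup.nilpotent_iff_lowerCentralSeries.mp (inferInstance : Group.IsNilpotent P)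
  have hex : ∃ n, c n ∈ T := by
    refine ⟨N, ?_⟩
    have := hcl N
    rw [hN, Subgroup.mem_bot] at this
    rw [this]
    exact T.one_mem
  have hfind := Nat.find_spec hex
  have hpos : Nat.find hex ≠ 0 := by
    intro h0
    rw [h0, hc0] at hfind
    exact h₀' hfind
  obtain ⟨i, hi⟩ := Nat.exists_eq_succ_of_ne_zero hpos
  have hmin := Nat.find_min hex (m := i) (by omega)
  refine ⟨c i, hcS i, hmin, ?_⟩
  rw [← hcs, show i + 1 = Nat.find hex from hi.symm]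
  exact hfind

/-- The norm of `a` along the powers of `g`. -/
def nm {H : Type*} [Group H] (g a : H) : ℕ → H
  | 0 => 1
  | k + 1 => nm g a k * (g ^ k * a * (g ^ k)⁻¹)

theorem mul_pow_nm {H : Type*} [Group H] (g a : H) (k : ℕ) : (a * g) ^ k = nm g a k * g ^ k := by
  induction k with
  | zero => simp [nm]
  | succ k ih =>
    rw [pow_succ, ih, nm]
    group

theorem nm_one {H : Type*} [Group H] (g : H) (k : ℕ) : nm g 1 k = 1 := by
  induction k with
  | zero => rfl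
  | succ k ih => simp [nm, ih]

variable {H : Type*} [Group H] [Finite H]

theorem exists_pow_mul_eq_left' {x y : H} (hc : Commute x y) (hco : (orderOf x).Coprime (orderOf y)) :
    ∃ k : ℕ, (x * y) ^ k = x := by
  refine ⟨(Nat.chineseRemainder hco 1 0 : ℕ), ?_⟩
  set k := (Nat.chineseRemainder hco 1 0 : ℕ) with hk
  have h1 : k ≡ 1 [MOD orderOf x] := (Nat.chineseRemainder hco 1 0).2.1
  have h2 : k ≡ 0 [MOD orderOf y] := (Nat.chineseRemainder hco 1 0).2.2
  rw [hc.mul_pow, (pow_eq_pow_iff_modEq.mpr h1), (pow_eq_pow_iff_modEq.mpr h2), pow_one, pow_zero, mul_one]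

/-- Structure of the subgroups to which the two prime lemma applies. -/
structure Struct (r : ℕ) (B : Subgroup H) : Prop where
  central : ∀ a ∈ B, (orderOf a).Coprime r → ∀ b ∈ B, a * b = b * a
  cz : ∀ a ∈ B, (orderOf a).Coprime r → a ∉ Subgroup.center H → ∀ g : H, g * a = a * g → g ∈ B

/-- The `r'`-elements of `B`. -/
def MM {r : ℕ} {B : Subgroup H} (hS : Struct r B) : Subgroup H where
  carrier := {a | a ∈ B ∧ (orderOf a).Coprime r}
  mul_mem' := by
    rintro a b ⟨ha, ha'⟩ ⟨hb, hb'⟩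
    refine ⟨B.mul_mem ha hb, ?_⟩
    have hc : Commute a b := hS.central a ha ha' b hb
    exact Nat.Coprime.of_dvd_left hc.orderOf_mul_dvd_mul_orderOf (Nat.Coprime.mul_left ha' hb')
  one_mem' := ⟨B.one_mem, by simp⟩
  inv_mem' := by
    rintro a ⟨ha, ha'⟩
    exact ⟨B.inv_mem ha, by rwa [orderOf_inv]⟩

theorem mem_MM {r : ℕ} {B : Subgroup H} (hS : Struct r B) {a : H} :
    a ∈ MM hS ↔ a ∈ B ∧ (orderOf a).Coprime r := Iff.rfl

theorem MM_comm {r : ℕ} {B : Subgroup H} (hS : Struct r B) {a b : H} (ha : a ∈ MM hS) (hb : b ∈ B) :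
    a * b = b * a := hS.central a ha.1 ha.2 b hb

theorem conj_mem_MM {r : ℕ} {B : Subgroup H} (hS : Struct r B) {g a : H}
    (hg : g ∈ Subgroup.normalizer (B : Set H)) (ha : a ∈ MM hS) : g * a * g⁻¹ ∈ MM hS := by
  refine ⟨(Subgroup.mem_normalizer_iff.mp hg a).mp ha.1, ?_⟩
  rw [conj_order]
  exact ha.2

theorem nm_mem {r : ℕ} {B : Subgroup H} (hS : Struct r B) {g a : H}
    (hg : g ∈ Subgroup.normalizer (B : Set H)) (ha : a ∈ MM hS) (k : ℕ) : nm g a k ∈ MM hS := by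
  induction k with
  | zero => exact (MM hS).one_mem
  | succ k ih =>
    exact (MM hS).mul_mem ih (conj_mem_MM hS (Subgroup.pow_mem _ hg k) ha)

theorem norm_lemma {r : ℕ} [Fact r.Prime] {B : Subgroup H} (hS : Struct r B) {g : H}
    (hgB : g ∉ B) {κ : ℕ} (hκ : g ^ κ ∈ B)
    (hg : g ∈ Subgroup.normalizer (B : Set H)) {a : H} (ha : a ∈ MM hS) :
    nm g a κ ∈ Subgroup.center H := by
  obtain ⟨br, b', hb, hcomm, ⟨k, hk⟩, hb', hbr, hbz⟩ := H19.exists_primary_decomp r (g ^ κ)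
  have hzle : Subgroup.zpowers (g ^ κ) ≤ B := Subgroup.zpowers_le.mpr hκ
  have hb'M : b' ∈ MM hS := ⟨hzle hbz, hb'⟩
  have hbrB : br ∈ B := hzle hbr
  have key : ∀ x ∈ MM hS, nm g x κ * b' ∈ Subgroup.center H := by
    intro x hx
    have hxnm := nm_mem hS hg hx κ
    set c' := nm g x κ * b' with hc'
    have hc'M : c' ∈ MM hS := (MM hS).mul_mem hxnm hb'M
    have hcomm' : Commute c' br := MM_comm hS hc'M hbrB
    have hpow : (x * g) ^ κ = c' * br := by
      rw [mul_pow_nm, hb, hc', mul_assoc, hcomm.eq, ← mul_assoc]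
    have hco : (orderOf c').Coprime (orderOf br) := by
      rw [hk]
      exact Nat.Coprime.pow_right k hc'M.2
    obtain ⟨j, hj⟩ := exists_pow_mul_eq_left' hcomm' hco
    by_contra hnc
    have h1 : (x * g) * c' = c' * (x * g) := by
      rw [← hj, ← hpow, ← pow_mul]
      exact ((Commute.refl (x * g)).pow_right _).eq
    have h2 := hS.cz c' hc'M.1 hc'M.2 hnc (x * g) h1
    apply hgB
    have h3 : g = x⁻¹ * (x * g) := by group
    rw [h3]
    exact B.mul_mem (B.inv_mem hx.1) h2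
  have h1 := key 1 (MM hS).one_mem
  rw [nm_one, one_mul] at h1
  have h2 := key a ha
  have h3 : nm g a κ = (nm g a κ * b') * b'⁻¹ := by group
  rw [h3]
  exact Subgroup.mul_mem _ h2 (Subgroup.inv_mem _ h1)

theorem p_lemma {r : ℕ} {B : Subgroup H} (hS : Struct r B) {g a w z : H}
    (hg : g ∈ Subgroup.normalizer (B : Set H)) (hgB : g ∉ B) (ha : a ∈ MM hS) (haZ : a ∉ Subgroup.center H)
    (hz : z ∈ Subgroup.center H) (hga : g * a * g⁻¹ = z * a) {q k f : ℕ} (hq : q.Prime) (hak : orderOf a = q ^ k)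
    (hf : f.Prime) (hfq : f ≠ q) (hw : w ∈ Subgroup.normalizer (B : Set H)) (hwf : w ^ f ∈ B)
    (hwg : w * g * w⁻¹ * g⁻¹ ∈ B) : w ∈ B := by
  set h := w * g * w⁻¹ * g⁻¹ with hh
  set a' := w * a * w⁻¹ with ha'
  have ha'M : a' ∈ MM hS := conj_mem_MM hS hw ha
  have hzc : ∀ x : H, x * z = z * x := fun x => (Subgroup.mem_center_iff.mp hz x)
  have hwgw : w * g * w⁻¹ = h * g := by rw [hh]; group
  have h1 : (h * g) * a' * (h * g)⁻¹ = z * a' := by
    rw [← hwgw, ha']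
    calc w * g * w⁻¹ * (w * a * w⁻¹) * (w * g * w⁻¹)⁻¹ = w * (g * a * g⁻¹) * w⁻¹ := by group
      _ = w * (z * a) * w⁻¹ := by rw [hga]
      _ = (w * z) * a * w⁻¹ := by group
      _ = z * (w * a * w⁻¹) := by rw [hzc w]; group
  have h2 : g * a' * g⁻¹ ∈ MM hS := conj_mem_MM hS hg ha'M
  have h3 : g * a' * g⁻¹ = z * a' := by
    calc g * a' * g⁻¹ = (g * a' * g⁻¹) * h * h⁻¹ := by group
      _ = h * (g * a' * g⁻¹) * h⁻¹ := by rw [MM_comm hS h2 hwg]
      _ = (h * g) * a' * (h * g)⁻¹ := by group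
      _ = z * a' := h1
  set e := a⁻¹ * a' with he
  have heM : e ∈ MM hS := (MM hS).mul_mem ((MM hS).inv_mem ha) ha'M
  have heg : g * e = e * g := by
    have h4 : g * e * g⁻¹ = e := by
      calc g * e * g⁻¹ = (g * a * g⁻¹)⁻¹ * (g * a' * g⁻¹) := by rw [he]; group
        _ = (z * a)⁻¹ * (z * a') := by rw [hga, h3]
        _ = e := by rw [he]; group
    calc g * e = g * e * g⁻¹ * g := by group
      _ = e * g := by rw [h4]
  have heZ : e ∈ Subgroup.center H := by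
    by_contra hc
    exact hgB (hS.cz e heM.1 heM.2 hc g heg)
  have hec : ∀ x : H, x * e = e * x := fun x => Subgroup.mem_center_iff.mp heZ x
  have ha'e : a' = a * e := by rw [he]; group
  have hiter : ∀ j : ℕ, w ^ j * a * (w ^ j)⁻¹ = a * e ^ j := by
    intro j
    induction j with
    | zero => simp
    | succ j ih =>
      have hecj : ∀ x : H, x * e ^ j = e ^ j * x := fun x => (Commute.pow_right (show Commute x e from hec x) j).eq
      calc w ^ (j + 1) * a * (w ^ (j + 1))⁻¹ = w * (w ^ j * a * (w ^ j)⁻¹) * w⁻¹ := by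
            rw [pow_succ']; group
        _ = w * (a * e ^ j) * w⁻¹ := by rw [ih]
        _ = (w * a) * e ^ j * w⁻¹ := by group
        _ = (w * a) * w⁻¹ * e ^ j := by
            rw [mul_assoc (w * a), (hecj w⁻¹).symm, mul_assoc (w * a)]
        _ = a' * e ^ j := by rw [ha']
        _ = a * e ^ (j + 1) := by rw [ha'e, pow_succ']; group
  have hef : e ^ f = 1 := by
    have h4 := hiter f
    have h5 : w ^ f * a = a * w ^ f := (MM_comm hS ha hwf).symm
    have h6 : w ^ f * a * (w ^ f)⁻¹ = a := by rw [h5]; group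
    rw [h6] at h4
    exact (mul_eq_left.mp h4.symm)
  have heq : e ^ q ^ k = 1 := by
    have hcomm : Commute a⁻¹ a' := (Commute.inv_left (show Commute a a' from MM_comm hS ha ha'M.1))
    rw [he, hcomm.mul_pow, inv_pow, ← hak, pow_orderOf_eq_one, inv_one, one_mul]
    have h7 : orderOf a' = orderOf a := conj_order w a
    rw [← h7, pow_orderOf_eq_one]
  have he1 : e = 1 := by
    have h8 : orderOf e ∣ Nat.gcd f (q ^ k) := Nat.dvd_gcd (orderOf_dvd_of_pow_eq_one hef) (orderOf_dvd_of_pow_eq_one heq)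
    have h9 : Nat.gcd f (q ^ k) = 1 := Nat.Coprime.pow_right k ((Nat.coprime_primes hf hq).mpr hfq)
    rw [h9] at h8
    exact orderOf_eq_one_iff.mp (Nat.dvd_one.mp h8)
  have h10 : a' = a := by rw [ha'e, he1, mul_one]
  apply hS.cz a ha.1 ha.2 haZ w
  calc w * a = w * a * w⁻¹ * w := by group
    _ = a * w := by rw [← ha', h10]

theorem elt_of_pgroup {q : ℕ} (hq : q.Prime) {Q : Subgroup H} (hQ : IsPGroup q Q) {a : H} (ha : a ∈ Q) :
    ∃ k, orderOf a = q ^ k := by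
  obtain ⟨k, hk⟩ := hQ ⟨a, ha⟩
  have h1 : a ^ q ^ k = 1 := by simpa using congrArg Subtype.val hk
  obtain ⟨j, -, hj⟩ := (Nat.dvd_prime_pow hq).mp (orderOf_dvd_of_pow_eq_one h1)
  exact ⟨j, hj⟩

theorem exists_g {r : ℕ} (hr : r.Prime) {B : Subgroup H} (hS : Struct r B) {q : ℕ} (hq : q.Prime) (hqr : q ≠ r)
    {Q : Subgroup H} (hQ : IsPGroup q Q) (hQB : ¬ Q ≤ B) {a₀ : H} (ha₀Q : a₀ ∈ Q) (ha₀B : a₀ ∈ B)
    (ha₀Z : a₀ ∉ Subgroup.center H) :
    ∃ (g a z : H) (k : ℕ), g ∈ Subgroup.normalizer (B : Set H) ∧ g ∉ B ∧ g ^ q ∈ B ∧ a ∈ MM hS ∧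
      a ∉ Subgroup.center H ∧ z ∈ Subgroup.center H ∧ g * a * g⁻¹ = z * a ∧ orderOf a = q ^ k := by
  classical
  haveI : Fact q.Prime := ⟨hq⟩
  have hco : ∀ x ∈ Q, (orderOf x).Coprime r := by
    intro x hx
    obtain ⟨k, hk⟩ := elt_of_pgroup hq hQ hx
    rw [hk]
    exact Nat.Coprime.pow_left k ((Nat.coprime_primes hq hr).mpr hqr)
  have hlt : Q ⊓ B < Q := by
    refine lt_of_le_of_ne inf_le_left ?_
    intro h
    exact hQB (inf_eq_left.mp h)
  have hnil : Group.IsNilpotent Q := hQ.isNilpotent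
  obtain ⟨g₀, hg₀Q, hg₀V, hg₀N⟩ := H19.exists_mem_normalizer_of_lt hlt hnil
  have hg₀B : g₀ ∉ B := fun h => hg₀V ⟨hg₀Q, h⟩
  have ha₁ : g₀ * a₀ * g₀⁻¹ ∈ Q ⊓ B := (Subgroup.mem_normalizer_iff.mp hg₀N a₀).mp ⟨ha₀Q, ha₀B⟩
  have ha₁Z : g₀ * a₀ * g₀⁻¹ ∉ Subgroup.center H := by
    intro h
    apply ha₀Z
    have := (inferInstance : (Subgroup.center H).Normal).conj_mem _ h g₀⁻¹
    simpa [mul_assoc] using this
  have hg₀NB : g₀ ∈ Subgroup.normalizer (B : Set H) := by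
    apply H19.mem_normalizer_of_conj_le
    intro x hx
    apply hS.cz _ ha₁.2 (hco _ ha₁.1) ha₁Z
    have h1 : x * a₀ = a₀ * x := (hS.central a₀ ha₀B (hco _ ha₀Q) x hx).symm
    calc g₀ * x * g₀⁻¹ * (g₀ * a₀ * g₀⁻¹) = g₀ * (x * a₀) * g₀⁻¹ := by group
      _ = g₀ * (a₀ * x) * g₀⁻¹ := by rw [h1]
      _ = g₀ * a₀ * g₀⁻¹ * (g₀ * x * g₀⁻¹) := by group
  obtain ⟨n, hn⟩ := elt_of_pgroup hq hQ hg₀Q
  have hex : ∃ i, g₀ ^ q ^ i ∈ B := ⟨n, by rw [← hn, pow_orderOf_eq_one]; exact B.one_mem⟩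
  have hfind := Nat.find_spec hex
  have hpos : Nat.find hex ≠ 0 := by
    intro h0
    rw [h0, pow_zero, pow_one] at hfind
    exact hg₀B hfind
  obtain ⟨j, hj⟩ := Nat.exists_eq_succ_of_ne_zero hpos
  have hmin := Nat.find_min hex (m := j) (by omega)
  set g := g₀ ^ q ^ j with hg
  have hgQ : g ∈ Q := Subgroup.pow_mem _ hg₀Q _
  have hgN : g ∈ Subgroup.normalizer (B : Set H) := Subgroup.pow_mem _ hg₀NB _
  have hgq : g ^ q ∈ B := by
    rw [hg, ← pow_mul, ← pow_succ, show j + 1 = Nat.find hex from hj.symm]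
    exact hfind
  let T : Subgroup Q := (Subgroup.center H).subgroupOf Q
  obtain ⟨a, haB, haT, hat⟩ := exists_fix_mod (P := Q) ⟨g, hgQ⟩ (fun x => (x : H) ∈ B) T (by
    intro x hx
    show ((⁅x, (⟨g, hgQ⟩ : Q)⁆ : Q) : H) ∈ B
    have h1 : ((⁅x, (⟨g, hgQ⟩ : Q)⁆ : Q) : H) = (x : H) * (g * (x : H)⁻¹ * g⁻¹) := by
      simp [commutatorElement_def, mul_assoc]
    rw [h1]
    exact B.mul_mem hx ((Subgroup.mem_normalizer_iff.mp hgN _).mp (B.inv_mem hx)))
    (a₀ := ⟨a₀, ha₀Q⟩) ha₀B (by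
    intro h
    exact ha₀Z h)
  have hc : (a : H) * g * (a : H)⁻¹ * g⁻¹ ∈ Subgroup.center H := by
    have h1 : ((⁅a, (⟨g, hgQ⟩ : Q)⁆ : Q) : H) = (a : H) * g * (a : H)⁻¹ * g⁻¹ := by
      simp [commutatorElement_def]
    rw [← h1]
    exact hat
  obtain ⟨k, hk⟩ := elt_of_pgroup hq hQ a.2
  refine ⟨g, a, ((a : H) * g * (a : H)⁻¹ * g⁻¹)⁻¹, k, hgN, hmin, hgq, ⟨haB, hco _ a.2⟩, haT,
    Subgroup.inv_mem _ hc, by group, hk⟩

/-- The two prime contradiction. -/
theorem two_prime {r : ℕ} (hr : r.Prime) {B : Subgroup H} (hS : Struct r B) {q₁ q₂ : ℕ} (hq₁ : q₁.Prime)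
    (hq₂ : q₂.Prime) (hne : q₁ ≠ q₂) (h1r : q₁ ≠ r) (h2r : q₂ ≠ r) {Q₁ Q₂ : Subgroup H}
    (hQ₁ : IsPGroup q₁ Q₁) (hQ₂ : IsPGroup q₂ Q₂) (hQ₁B : ¬ Q₁ ≤ B) (hQ₂B : ¬ Q₂ ≤ B) {a₁ a₂ : H}
    (ha₁Q : a₁ ∈ Q₁) (ha₁B : a₁ ∈ B) (ha₁Z : a₁ ∉ Subgroup.center H)
    (ha₂Q : a₂ ∈ Q₂) (ha₂B : a₂ ∈ B) (ha₂Z : a₂ ∉ Subgroup.center H) : False := by
  classical
  haveI : Fact r.Prime := ⟨hr⟩
  obtain ⟨g₁, b₁, z₁, k₁, hg₁N, hg₁B, hg₁q, hb₁M, hb₁Z, hz₁, hgb₁, hb₁k⟩ := exists_g hr hS hq₁ h1r hQ₁ hQ₁B ha₁Q ha₁B ha₁Z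
  obtain ⟨g₂, b₂, z₂, k₂, hg₂N, hg₂B, hg₂q, hb₂M, hb₂Z, hz₂, hgb₂, hb₂k⟩ := exists_g hr hS hq₂ h2r hQ₂ hQ₂B ha₂Q ha₂B ha₂Z
  let π : H →* H ⧸ Subgroup.center H := QuotientGroup.mk' (Subgroup.center H)
  have hπ : ∀ x : H, π x = 1 ↔ x ∈ Subgroup.center H := fun x => QuotientGroup.eq_one_iff x
  let A₀ : Subgroup (H ⧸ Subgroup.center H) := (MM hS).map π
  have hcA : ∀ x ∈ A₀, ∀ y ∈ A₀, x * y = y * x := by
    rintro _ ⟨a, ha, rfl⟩ _ ⟨b, hb, rfl⟩
    rw [← map_mul, ← map_mul, MM_comm hS ha hb.1]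
  letI cgA : CommGroup A₀ :=
    { (inferInstance : Group A₀) with mul_comm := fun a b => Subtype.ext (hcA a a.2 b b.2) }
  have hconj : ∀ (g : H), g ∈ Subgroup.normalizer (B : Set H) → ∀ x ∈ A₀, π g * x * (π g)⁻¹ ∈ A₀ := by
    rintro g hg _ ⟨a, ha, rfl⟩
    exact ⟨g * a * g⁻¹, conj_mem_MM hS hg ha, by simp [map_mul]⟩
  let N : Subgroup H := Subgroup.normalizer (B : Set H)
  haveI hBN : (B.subgroupOf N).Normal := Subgroup.normal_in_normalizer
  let αN : N →* Monoid.End A₀ :=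
    { toFun := fun g =>
        { toFun := fun x => ⟨π g * x * (π g)⁻¹, hconj g g.2 x x.2⟩
          map_one' := by
            apply Subtype.ext
            show π g * 1 * (π g)⁻¹ = 1
            group
          map_mul' := by
            intro x y
            apply Subtype.ext
            show π g * ((x : H ⧸ Subgroup.center H) * (y : H ⧸ Subgroup.center H)) * (π g)⁻¹ =
              (π g * x * (π g)⁻¹) * (π g * y * (π g)⁻¹)
            group }
      map_one' := by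
        apply MonoidHom.ext
        intro x
        apply Subtype.ext
        show π ((1 : N) : H) * (x : H ⧸ Subgroup.center H) * (π ((1 : N) : H))⁻¹ = x
        simp
      map_mul' := by
        intro g h
        apply MonoidHom.ext
        intro x
        apply Subtype.ext
        show π ((g : H) * (h : H)) * (x : H ⧸ Subgroup.center H) * (π ((g : H) * (h : H)))⁻¹ =
          π g * (π h * (x : H ⧸ Subgroup.center H) * (π h)⁻¹) * (π g)⁻¹
        rw [map_mul]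
        group }
  have hαN : ∀ (g : N) (x : A₀), (((αN g) x : A₀) : H ⧸ Subgroup.center H) = π g * x * (π g)⁻¹ :=
    fun _ _ => rfl
  have hbot : ∀ b ∈ B.subgroupOf N, αN b = 1 := by
    intro b hb
    apply MonoidHom.ext
    rintro ⟨_, a, ha, rfl⟩
    apply Subtype.ext
    show π b * π a * (π b)⁻¹ = π a
    have h1 : (b : H) * a = a * b := (MM_comm hS ha hb).symm
    rw [← map_mul, h1, map_mul]
    group
  let α : (N ⧸ B.subgroupOf N) →* Monoid.End A₀ := QuotientGroup.lift (B.subgroupOf N) αN hbot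
  have hαmk : ∀ g : N, α (g : N ⧸ B.subgroupOf N) = αN g := fun g => rfl
  have hmk1 : ∀ g : N, ((g : N ⧸ B.subgroupOf N) = 1) ↔ (g : H) ∈ B := by
    intro g
    rw [QuotientGroup.eq_one_iff, Subgroup.mem_subgroupOf]
  have hP : ∀ {q k : ℕ} {g a z : H} (hgN : g ∈ N), q.Prime → g ∉ B → a ∈ MM hS → a ∉ Subgroup.center H →
      z ∈ Subgroup.center H → g * a * g⁻¹ = z * a → orderOf a = q ^ k →
      ∀ w : N ⧸ B.subgroupOf N, (orderOf w).Prime → orderOf w ≠ q →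
        ¬ Commute w ((⟨g, hgN⟩ : N) : N ⧸ B.subgroupOf N) := by
    intro q k g a z hgN hq hgB haM haZ hz hga hak w hw hwq hc
    obtain ⟨w₀, rfl⟩ := QuotientGroup.mk_surjective w
    have h1 : ((w₀ ^ orderOf (w₀ : N ⧸ B.subgroupOf N) : N) : N ⧸ B.subgroupOf N) = 1 := by
      rw [QuotientGroup.mk_pow]
      exact pow_orderOf_eq_one _
    rw [hmk1] at h1
    have h2 : ((w₀ * ⟨g, hgN⟩ * w₀⁻¹ * (⟨g, hgN⟩ : N)⁻¹ : N) : N ⧸ B.subgroupOf N) = 1 := by
      rw [QuotientGroup.mk_mul, QuotientGroup.mk_mul, QuotientGroup.mk_mul, QuotientGroup.mk_inv,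
        QuotientGroup.mk_inv]
      rw [hc.eq]
      group
    rw [hmk1] at h2
    have h3 := p_lemma hS hgN hgB haM haZ hz hga hq hak hw hwq w₀.2 (by simpa using h1) (by simpa using h2)
    have h4 : ((w₀ : N) : N ⧸ B.subgroupOf N) = 1 := (hmk1 w₀).mpr h3
    rw [h4, orderOf_one] at hw
    exact Nat.not_prime_one hw
  have hord : ∀ {q : ℕ} {g : H} (hgN : g ∈ N), q.Prime → g ∉ B → g ^ q ∈ B →
      orderOf ((⟨g, hgN⟩ : N) : N ⧸ B.subgroupOf N) = q := by
    intro q g hgN hq hgB hgq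
    haveI : Fact q.Prime := ⟨hq⟩
    apply orderOf_eq_prime
    · rw [← QuotientGroup.mk_pow, hmk1]
      simpa using hgq
    · intro h
      exact hgB ((hmk1 ⟨g, hgN⟩).mp h)
  refine x_lemma_act α hq₁ hq₂ hne (hord hg₁N hq₁ hg₁B hg₁q) (hord hg₂N hq₂ hg₂B hg₂q)
    (hP hg₁N hq₁ hg₁B hb₁M hb₁Z hz₁ hgb₁ hb₁k) (hP hg₂N hq₂ hg₂B hb₂M hb₂Z hz₂ hgb₂ hb₂k) ?_ ?_
  · intro x hx a
    obtain ⟨g, rfl⟩ := QuotientGroup.mk_surjective x
    obtain ⟨_, a₀, ha₀, rfl⟩ := a
    have hgB : (g : H) ∉ B := fun h => hx ((hmk1 g).mpr h)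
    set κ := orderOf (g : N ⧸ B.subgroupOf N) with hκ
    have hgκ : (g : H) ^ κ ∈ B := by
      have h1 : ((g ^ κ : N) : N ⧸ B.subgroupOf N) = 1 := by
        rw [QuotientGroup.mk_pow]
        exact pow_orderOf_eq_one _
      rw [hmk1] at h1
      simpa using h1
    have hnm := norm_lemma hS hgB hgκ g.2 ha₀
    have hprod : ∀ k : ℕ, ((∏ i ∈ Finset.range k, (α ((g : N ⧸ B.subgroupOf N) ^ i))
        (⟨π a₀, a₀, ha₀, rfl⟩ : A₀) : A₀) : H ⧸ Subgroup.center H) = π (nm (g : H) a₀ k) := by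
      intro k
      induction k with
      | zero =>
        simp only [Finset.range_zero, Finset.prod_empty]
        exact (map_one π).symm
      | succ k ih =>
        rw [Finset.prod_range_succ, nm, map_mul, ← ih]
        show _ * _ = _ * _
        congr 1
    apply Subtype.ext
    rw [hprod κ]
    exact (hπ _).mpr hnm
  · intro f hf
    have hkey : ∀ {q k : ℕ} {b : H}, q.Prime → f ≠ q → b ∈ MM hS → b ∉ Subgroup.center H → orderOf b = q ^ k →
        ∃ a : A₀, a ^ f ≠ 1 := by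
      intro q k b hq hfq hbM hbZ hbk
      refine ⟨⟨π b, b, hbM, rfl⟩, ?_⟩
      intro h
      have h1 := congrArg (Subtype.val) h
      have h2 : π (b ^ f) = 1 := by
        rw [map_pow]
        exact h1
      rw [hπ] at h2
      apply hbZ
      have h3 : (orderOf b).Coprime f := by
        rw [hbk]
        exact Nat.Coprime.pow_left k ((Nat.coprime_primes hq hf).mpr (Ne.symm hfq))
      obtain ⟨j, hj⟩ := H19.mem_zpowers_pow_of_coprime h3
      have : (b ^ f) ^ j = b := hj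
      rw [← this]
      exact Subgroup.zpow_mem _ h2 j
    by_cases h : f = q₁
    · exact hkey hq₂ (by rw [h]; exact hne) hb₂M hb₂Z hb₂k
    · exact hkey hq₁ h hb₁M hb₁Z hb₁k

end Cfsg.Agent.H13.RT
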