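import Mathlib
import Cfsg.Agent.Lib.H13.RT2
import Cfsg.Agent.Lib.H19.Kazarin2
import Cfsg.Agent.Lib.H19.Ito

/-!
Groups whose `r`-regular classes have sizes `1` and `k`: basic facts.
-/

set_option autoImplicit false
set_option linter.style.haveILetI false
set_option linter.unusedSectionVars false
set_option linter.unusedVariables false

namespace Cfsg.Agent.H13.RT

open Cfsg H19

universe u

variable {H : Type u} [Group H] [Finite H]

theorem exists_sylow_le_of_not_dvd {D : Subgroup H} {t : ℕ} [ht : Fact t.Prime] (hD : ¬ t ∣ D.index) :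
    ∃ T : Sylow t H, (T : Subgroup H) ≤ D := by
  obtain ⟨S⟩ : Nonempty (Sylow t D) := inferInstance
  set T : Subgroup H := (S : Subgroup D).map D.subtype with hT
  have hTle : T ≤ D := Subgroup.map_subtype_le _
  have hTp : IsPGroup t T := S.isPGroup'.map _
  have hTi : ¬ t ∣ T.index := by
    rw [hT, Subgroup.index_map_subtype]
    intro h3
    rcases (Nat.Prime.dvd_mul ht.out).mp h3 with h3 | h3
    · exact S.not_dvd_index h3
    · exact hD h3
  exact ⟨hTp.toSylow hTi, hTle⟩

theorem exists_conj_mem_of_not_dvd {D : Subgroup H} {t : ℕ} [ht : Fact t.Prime] (hD : ¬ t ∣ D.index) {y : H} {e : ℕ}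
    (hy : orderOf y = t ^ e) : ∃ x : H, x * y * x⁻¹ ∈ D := by
  obtain ⟨T', hT'⟩ := exists_sylow_le_of_not_dvd hD
  obtain ⟨Q, hQ⟩ := exists_sylow_of_orderOf hy
  obtain ⟨x, hx⟩ := MulAction.exists_smul_eq H Q T'
  refine ⟨x, hT' ?_⟩
  rw [← hx, Sylow.coe_subgroup_smul]
  exact ⟨y, hQ, rfl⟩

theorem exists_nc_elt {t : ℕ} [ht : Fact t.Prime] {D : Subgroup H} (hD : t ∣ D.index) :
    ∃ (y : H) (e : ℕ), orderOf y = t ^ e ∧ y ∉ D := by
  obtain ⟨P⟩ : Nonempty (Sylow t H) := inferInstance
  have h1 : ¬ (P : Subgroup H) ≤ D := by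
    intro h2
    exact P.not_dvd_index (hD.trans (Subgroup.index_dvd_of_le h2))
  obtain ⟨y, hy, hyD⟩ := SetLike.not_le_iff_exists.mp h1
  obtain ⟨e, he⟩ := elt_of_pgroup ht.out P.isPGroup' hy
  exact ⟨y, e, he, hyD⟩

theorem center_le_cz (x : H) : Subgroup.center H ≤ cz x := by
  intro z hz
  rw [mem_cz]
  exact (Subgroup.mem_center_iff.mp hz x).symm

theorem mem_center_of_cz_eq_top {x : H} (h : cz x = ⊤) : x ∈ Subgroup.center H := by
  rw [← cz_index_eq_one_iff, Subgroup.index_eq_one]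
  exact h

theorem cz_eq_top_of_mem_center {x : H} (h : x ∈ Subgroup.center H) : cz x = ⊤ := by
  rw [← Subgroup.index_eq_one]
  exact cz_index_eq_one_iff.mpr h

/-- The hypothesis: `r`-regular classes have size `1` or `k`. -/
def Cl (r k : ℕ) (H : Type u) [Group H] : Prop :=
  ∀ x : H, (orderOf x).Coprime r → (cz x).index = 1 ∨ (cz x).index = k

section inner

variable {r k : ℕ} (hcl : Cl r k H)
include hcl

theorem cl_nc {x : H} (hr : (orderOf x).Coprime r) (hx : x ∉ Subgroup.center H) : (cz x).index = k :=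
  (hcl x hr).resolve_left fun h => hx (cz_index_eq_one_iff.mp h)

theorem cz_eq_of_comm {x v : H} (hxr : (orderOf x).Coprime r) (hvr : (orderOf v).Coprime r)
    (hxZ : x ∉ Subgroup.center H) (hvZ : v ∉ Subgroup.center H) (hc : Commute x v)
    (hco : (orderOf x).Coprime (orderOf v)) : cz x = cz v := by
  have hxv : (orderOf (x * v)).Coprime r := by
    rw [hc.orderOf_mul_eq_mul_orderOf_of_coprime hco]
    exact Nat.Coprime.mul_left hxr hvr
  obtain ⟨a, ha⟩ := exists_pow_mul_eq_left hc hco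
  obtain ⟨b, hb⟩ := exists_pow_mul_eq_left hc.symm hco.symm
  rw [hc.symm.eq] at hb
  have h1 : cz (x * v) ≤ cz x := by
    have := cz_le_cz_pow (x * v) a
    rwa [ha] at this
  have h2 : cz (x * v) ≤ cz v := by
    have := cz_le_cz_pow (x * v) b
    rwa [hb] at this
  have hnc : x * v ∉ Subgroup.center H := by
    intro h
    apply hxZ
    rw [← ha]
    exact Subgroup.pow_mem _ h a
  have hk1 := cl_nc hcl hxv hnc
  have e1 := eq_of_le_of_index_eq h1 (hk1.trans (cl_nc hcl hxr hxZ).symm)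
  have e2 := eq_of_le_of_index_eq h2 (hk1.trans (cl_nc hcl hvr hvZ).symm)
  rw [← e1, e2]

/-- Structure from two commuting non-central elements of different prime power orders. -/
theorem mkStruct {t s e f : ℕ} (ht : t.Prime) (hs : s.Prime) (hts : t ≠ s) (htr : t ≠ r) (hsr : s ≠ r)
    (hrp : r.Prime) {v a₀ : H} (hv : orderOf v = t ^ e) (ha₀ : orderOf a₀ = s ^ f) (hvZ : v ∉ Subgroup.center H)
    (ha₀Z : a₀ ∉ Subgroup.center H) (hc : a₀ ∈ cz v) : Struct r (cz v) := by
  haveI : Fact t.Prime := ⟨ht⟩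
  have hvr : (orderOf v).Coprime r := by
    rw [hv]; exact Nat.Coprime.pow_left e ((Nat.coprime_primes ht hrp).mpr htr)
  have ha₀r : (orderOf a₀).Coprime r := by
    rw [ha₀]; exact Nat.Coprime.pow_left f ((Nat.coprime_primes hs hrp).mpr hsr)
  have hcomm : Commute a₀ v := (mem_cz.mp hc)
  have hE : cz a₀ = cz v := cz_eq_of_comm hcl ha₀r hvr ha₀Z hvZ hcomm (by
    rw [hv, ha₀]
    exact Nat.Coprime.pow _ _ ((Nat.coprime_primes hs ht).mpr hts.symm))
  -- the two kinds of parts
  have part1 : ∀ w ∈ cz v, (orderOf w).Coprime r → (orderOf w).Coprime t → w ∉ Subgroup.center H →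
      cz w = cz v := by
    intro w hw hwr hwt hwZ
    exact cz_eq_of_comm hcl hwr hvr hwZ hvZ (mem_cz.mp hw) (by
      rw [hv]; exact Nat.Coprime.pow_right e hwt)
  have part2 : ∀ w ∈ cz v, (orderOf w).Coprime r → (∃ j, orderOf w = t ^ j) → w ∉ Subgroup.center H →
      cz w = cz v := by
    rintro w hw hwr ⟨j, hj⟩ hwZ
    rw [← hE]
    have hw' : w ∈ cz a₀ := hE ▸ hw
    exact cz_eq_of_comm hcl hwr ha₀r hwZ ha₀Z (mem_cz.mp hw') (by
      rw [hj, ha₀]
      exact Nat.Coprime.pow _ _ ((Nat.coprime_primes ht hs).mpr hts))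
  have hdec : ∀ a ∈ cz v, (orderOf a).Coprime r → ∃ b c : H, a = b * c ∧ Commute b c ∧ b ∈ Subgroup.zpowers a ∧
      c ∈ Subgroup.zpowers a ∧ (b ∈ Subgroup.center H ∨ cz b = cz v) ∧ (c ∈ Subgroup.center H ∨ cz c = cz v) := by
    intro a ha har
    obtain ⟨b, c, e1, hcm, hb, hc', hbz, hcz⟩ := exists_primary_decomp t a
    have hle : Subgroup.zpowers a ≤ cz v := Subgroup.zpowers_le.mpr ha
    have hbr : (orderOf b).Coprime r := Nat.Coprime.of_dvd_left (orderOf_dvd_of_mem_zpowers hbz) har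
    have hcr : (orderOf c).Coprime r := Nat.Coprime.of_dvd_left (orderOf_dvd_of_mem_zpowers hcz) har
    refine ⟨b, c, e1, hcm, hbz, hcz, ?_, ?_⟩
    · by_cases h : b ∈ Subgroup.center H
      · exact Or.inl h
      · exact Or.inr (part2 b (hle hbz) hbr hb h)
    · by_cases h : c ∈ Subgroup.center H
      · exact Or.inl h
      · exact Or.inr (part1 c (hle hcz) hcr hc' h)
  have hcm : ∀ w x : H, (w ∈ Subgroup.center H ∨ cz w = cz v) → x ∈ cz v → w * x = x * w := by
    intro w x hw hx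
    rcases hw with hw | hw
    · exact (Subgroup.mem_center_iff.mp hw x).symm
    · rw [← hw] at hx
      exact (mem_cz.mp hx).symm
  refine ⟨?_, ?_⟩
  · intro a ha har x hx
    obtain ⟨b, c, e1, -, -, -, h1, h2⟩ := hdec a ha har
    rw [e1, mul_assoc, hcm c x h2 hx, ← mul_assoc, hcm b x h1 hx, mul_assoc]
  · intro a ha har haZ g hg
    obtain ⟨b, c, e1, -, hbz, hcz, h1, h2⟩ := hdec a ha har
    have hga : g ∈ cz a := mem_cz.mpr hg
    have hle : ∀ w ∈ Subgroup.zpowers a, cz a ≤ cz w := fun w hw => cz_le_cz_of_mem_zpowers hw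
    by_cases hb : b ∈ Subgroup.center H
    · have hc1 : c ∉ Subgroup.center H := by
        intro hc1
        apply haZ
        rw [e1]
        exact Subgroup.mul_mem _ hb hc1
      have hc2 := h2.resolve_left hc1
      rw [← hc2]
      exact hle c hcz hga
    · have hb2 := h1.resolve_left hb
      rw [← hb2]
      exact hle b hbz hga

/-- There are non-central `s`-elements in the centralizer of a non-central regular element. -/
theorem exists_nc_in_cz {s : ℕ} (hs : s.Prime) (hsr : s ≠ r) (hrp : r.Prime) (hsk : s ∣ k) {v : H}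
    (hvr : (orderOf v).Coprime r) (hvZ : v ∉ Subgroup.center H) :
    ∃ (a : H) (f : ℕ), a ∈ cz v ∧ a ∉ Subgroup.center H ∧ orderOf a = s ^ f := by
  classical
  haveI : Fact s.Prime := ⟨hs⟩
  have hcoS : ∀ y : H, ∀ e, orderOf y = s ^ e → (orderOf y).Coprime r := by
    intro y e hy
    rw [hy]
    exact Nat.Coprime.pow_left e ((Nat.coprime_primes hs hrp).mpr hsr)
  obtain ⟨P⟩ : Nonempty (Sylow s (cz v)) := inferInstance
  set A : Subgroup H := (P : Subgroup (cz v)).map (cz v).subtype with hA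
  have hAle : A ≤ cz v := Subgroup.map_subtype_le _
  have hAp : IsPGroup s A := P.isPGroup'.map _
  by_cases hAZ : A ≤ Subgroup.center H
  · exfalso
    have hidx : (cz v).index = k := cl_nc hcl hvr hvZ
    obtain ⟨y, e, hye, hyD⟩ := exists_nc_elt (t := s) (D := cz v) (hidx ▸ hsk)
    have hyZ : y ∉ Subgroup.center H := fun h => hyD (center_le_cz v h)
    have hidy : (cz y).index = k := cl_nc hcl (hcoS y e hye) hyZ
    have hcard : Nat.card (cz y) = Nat.card (cz v) := by
      have h1 := (cz y).card_mul_index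
      have h2 := (cz v).card_mul_index
      rw [hidy] at h1
      rw [hidx] at h2
      have hk0 : 0 < k := by
        rw [← hidx]
        exact Nat.pos_of_ne_zero Subgroup.FiniteIndex.index_ne_zero
      exact Nat.eq_of_mul_eq_mul_right hk0 (h1.trans h2.symm)
    haveI hAn : A.Normal := by
      constructor
      intro a ha g
      have := Subgroup.mem_center_iff.mp (hAZ ha) g
      rw [this]
      simpa using ha
    have hKp : IsPGroup s ↥(A ⊔ Subgroup.zpowers y) := by
      apply hAp.to_sup_of_normal_left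
      exact IsPGroup.of_card (n := e) (by rw [Nat.card_zpowers, hye])
    have hKle : A ⊔ Subgroup.zpowers y ≤ cz y := by
      apply sup_le (hAZ.trans (center_le_cz y))
      rw [Subgroup.zpowers_le]
      exact mem_cz.mpr rfl
    have hlt : A < A ⊔ Subgroup.zpowers y := by
      refine lt_of_le_of_ne le_sup_left ?_
      intro h
      have h1 : y ∈ A := by
        rw [h]
        exact (le_sup_right : Subgroup.zpowers y ≤ _) (Subgroup.mem_zpowers y)
      exact hyZ (hAZ h1)
    have hc1 : Nat.card A < Nat.card ↥(A ⊔ Subgroup.zpowers y) := by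
      by_contra hge
      exact hlt.ne (Subgroup.eq_of_le_of_card_ge hlt.le (not_lt.mp hge))
    obtain ⟨j, hj⟩ := IsPGroup.iff_card.mp hKp
    have hd : Nat.card ↥(A ⊔ Subgroup.zpowers y) ∣ Nat.card (cz y) := Subgroup.card_dvd_of_le hKle
    rw [hj, hcard] at hd
    have hcA : Nat.card A = s ^ (Nat.card (cz v)).factorization s := by
      rw [hA, Subgroup.card_map_of_injective (Subgroup.subtype_injective _)]
      exact Sylow.card_eq_multiplicity P
    have hle : j ≤ (Nat.card (cz v)).factorization s :=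
      (hs.pow_dvd_iff_le_factorization Nat.card_pos.ne').mp hd
    rw [hj, hcA] at hc1
    have := Nat.pow_le_pow_right hs.pos hle
    omega
  · obtain ⟨a, haA, haZ⟩ := SetLike.not_le_iff_exists.mp hAZ
    obtain ⟨f, hf⟩ := elt_of_pgroup hs hAp haA
    exact ⟨a, f, hAle haA, haZ, hf⟩

/-- Two primes different from `r` cannot divide `k` if `k` occurs. -/
theorem no_two_primes {s t : ℕ} (hs : s.Prime) (ht : t.Prime) (hst : s ≠ t) (hsr : s ≠ r) (htr : t ≠ r) (hrp : r.Prime)
    (hsk : s ∣ k) (htk : t ∣ k) {x₀ : H} (hx₀ : (orderOf x₀).Coprime r) (hx₀Z : x₀ ∉ Subgroup.center H) : False := by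
  classical
  haveI : Fact s.Prime := ⟨hs⟩
  haveI : Fact t.Prime := ⟨ht⟩
  have hidx := cl_nc hcl hx₀ hx₀Z
  obtain ⟨v, e, hve, hvD⟩ := exists_nc_elt (t := t) (D := cz x₀) (hidx ▸ htk)
  have hvZ : v ∉ Subgroup.center H := fun h => hvD (center_le_cz x₀ h)
  have hvr : (orderOf v).Coprime r := by
    rw [hve]; exact Nat.Coprime.pow_left e ((Nat.coprime_primes ht hrp).mpr htr)
  obtain ⟨a, f, haD, haZ, haf⟩ := exists_nc_in_cz hcl hs hsr hrp hsk hvr hvZ
  have hS := mkStruct hcl ht hs hst.symm htr hsr hrp hve haf hvZ haZ haD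
  have hidv := cl_nc hcl hvr hvZ
  obtain ⟨Q₁, hQ₁⟩ := exists_sylow_of_orderOf haf
  obtain ⟨Q₂, hQ₂⟩ := exists_sylow_of_orderOf hve
  refine two_prime hrp hS hs ht hst hsr htr Q₁.isPGroup' Q₂.isPGroup' ?_ ?_ hQ₁ haD haZ hQ₂ (mem_cz.mpr rfl) hvZ
  · intro h
    exact Q₁.not_dvd_index ((hidv ▸ hsk).trans (Subgroup.index_dvd_of_le h))
  · intro h
    exact Q₂.not_dvd_index ((hidv ▸ htk).trans (Subgroup.index_dvd_of_le h))

end inner

end Cfsg.Agent.H13.RT
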