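import Mathlib
import Cfsg.Agent.Lib.H13.RT3
import Cfsg.Agent.Lib.H01.Solv2

/-!
Groups whose `r`-regular classes have sizes `1` and `k`: solvability and central elements.
-/

set_option autoImplicit false
set_option linter.style.haveILetI false
set_option linter.unusedSectionVars false
set_option linter.unusedVariables false

namespace Cfsg.Agent.H13.RT

open Cfsg H19

universe u

variable {H : Type u} [Group H] [Finite H]

theorem no_solvable_normal {R : Subgroup H} [R.Normal] (hRs : Group.IsSolvable R)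
    (hR : ∀ K : Subgroup H, K.Normal → Group.IsSolvable K → K ≤ R) (y : H ⧸ R)
    (hy : Group.IsSolvable (Subgroup.normalClosure ({y} : Set (H ⧸ R)))) : y = 1 := by
  set N := Subgroup.normalClosure ({y} : Set (H ⧸ R)) with hN
  haveI : N.Normal := Subgroup.normalClosure_normal
  let K : Subgroup H := N.comap (QuotientGroup.mk' R)
  have hKn : K.Normal := Subgroup.Normal.comap inferInstance _
  have hRK : R ≤ K := by
    intro x hx
    show (QuotientGroup.mk' R) x ∈ N
    rw [show (QuotientGroup.mk' R) x = 1 from (QuotientGroup.eq_one_iff x).mpr hx]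
    exact N.one_mem
  have hKs : Group.IsSolvable K := by
    refine Group.isSolvable_of_ker_le_range (Subgroup.inclusion hRK)
      ((QuotientGroup.mk' R).subgroupComap N) ?_
    intro x hx
    have h1 : (QuotientGroup.mk' R) (x : H) = 1 := by
      exact congrArg Subtype.val (MonoidHom.mem_ker.mp hx)
    have h2 : (x : H) ∈ R := (QuotientGroup.eq_one_iff _).mp h1
    exact ⟨⟨x, h2⟩, rfl⟩
  have h1 := hR K hKn hKs
  obtain ⟨x, rfl⟩ := QuotientGroup.mk_surjective y
  have h2 : x ∈ K := by
    show (QuotientGroup.mk' R) x ∈ N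
    exact Subgroup.subset_normalClosure rfl
  exact (QuotientGroup.eq_one_iff x).mpr (h1 h2)

/-- Peeling: regular classes which are `{r,s}`-numbers force solvability. -/
theorem peel {r s : ℕ} (hr : r.Prime) (hs : s.Prime) (hsr : s ≠ r)
    (h : ∀ x : H, (orderOf x).Coprime r → ∀ p : ℕ, p.Prime → p ∣ (cz x).index → p = r ∨ p = s) :
    Group.IsSolvable H := by
  classical
  haveI : Fact s.Prime := ⟨hs⟩
  haveI : Fact r.Prime := ⟨hr⟩
  obtain ⟨R, hRn, hRs, hR⟩ := exists_max_normal_solvable H
  set W := H ⧸ R with hW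
  have hmk : Function.Surjective (QuotientGroup.mk' R) := QuotientGroup.mk'_surjective R
  -- a lift with control of the class size
  have hlift : ∀ (π : Set ℕ) (y : W), (∀ t : ℕ, t.Prime → t ∣ orderOf y → t ∈ π) → r ∉ π →
      ∀ p : ℕ, p.Prime → p ∣ (cz y).index → p = r ∨ p = s := by
    intro π y hy hrπ p hp hd
    obtain ⟨x, hxy, hx⟩ := exists_pi_lift (QuotientGroup.mk' R) hmk π y hy
    have hxc : (orderOf x).Coprime r := by
      refine ((Nat.Prime.coprime_iff_not_dvd hr).mpr ?_).symm
      intro hd'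
      exact hrπ (hx r hr hd')
    have h1 := H21.index_centralizer_eq_fibCount_mul R x
    have h2 : (cz y).index ∣ (cz x).index := by
      rw [h1, ← hxy]
      exact Dvd.intro_left _ rfl
    exact h x hxc p hp (hd.trans h2)
  have hns : ¬ s ∣ Nat.card W := by
    intro hd
    obtain ⟨S⟩ : Nonempty (Sylow s W) := inferInstance
    have hSne : (S : Subgroup W) ≠ ⊥ := S.ne_bot_of_dvd_card hd
    haveI hnt : Nontrivial (S : Subgroup W) := by
      rw [Subgroup.nontrivial_iff_ne_bot]
      exact hSne
    haveI := S.isPGroup'.center_nontrivial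
    obtain ⟨z, hz⟩ := exists_ne (1 : Subgroup.center (S : Subgroup W))
    set y : W := ((z : (S : Subgroup W)) : W) with hy
    have hy1 : y ≠ 1 := by
      intro h1
      apply hz
      apply Subtype.ext
      apply Subtype.ext
      exact h1
    have hys : y ∈ (S : Subgroup W) := (z : (S : Subgroup W)).2
    obtain ⟨e, he⟩ := elt_of_pgroup hs S.isPGroup' hys
    have hSle : (S : Subgroup W) ≤ cz y := by
      intro g hg
      rw [mem_cz]
      have := (Subgroup.mem_center_iff.mp z.2) ⟨g, hg⟩
      exact congrArg Subtype.val this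
    have hnd : ¬ s ∣ (cz y).index := fun h1 => S.not_dvd_index (h1.trans (Subgroup.index_dvd_of_le hSle))
    have hpr : ∀ {d : ℕ}, d.Prime → d ∣ (cz y).index → d = r := by
      intro d hd1 hd2
      rcases hlift {s} y (by
        intro t ht htd
        rw [he] at htd
        exact (Nat.prime_dvd_prime_iff_eq ht hs).mp (ht.dvd_of_dvd_pow htd)) (by
        intro h2
        exact hsr h2.symm) d hd1 hd2 with h1 | h1
      · exact h1
      · exact absurd (h1 ▸ hd2) hnd
    have h0 : (cz y).index ≠ 0 := Subgroup.FiniteIndex.index_ne_zero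
    have hidx := Nat.eq_prime_pow_of_unique_prime_dvd h0 hpr
    have hsol := kazarin y hr hidx
    exact hy1 (no_solvable_normal hRs hR y hsol)
  have hWs : Group.IsSolvable W := by
    apply isSolvable_of_regular_classes hr
    intro y hyr
    have hpr : ∀ {d : ℕ}, d.Prime → d ∣ (cz y).index → d = r := by
      intro d hd1 hd2
      rcases hlift {t | t ≠ r} y (by
        intro t ht htd htr
        have h3 : r ∣ orderOf y := htr ▸ htd
        exact hr.one_lt.ne' (Nat.Coprime.eq_one_of_dvd hyr.symm h3)) (by simp) d hd1 hd2 with h1 | h1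
      · exact h1
      · exfalso
        apply hns
        rw [← h1]
        have h3 := Subgroup.card_mul_index (cz y)
        exact hd2.trans (Dvd.intro_left _ h3)
    have h0 : (cz y).index ≠ 0 := Subgroup.FiniteIndex.index_ne_zero
    exact ⟨_, Nat.eq_prime_pow_of_unique_prime_dvd h0 hpr⟩
  refine Group.isSolvable_of_ker_le_range R.subtype (QuotientGroup.mk' R) ?_
  rw [QuotientGroup.ker_mk', Subgroup.range_subtype]

/-- An element of `S` central modulo the centre. -/
theorem exists_z2 {s : ℕ} [Fact s.Prime] {S : Subgroup H} (hS : IsPGroup s S) (hSZ : ¬ S ≤ Subgroup.center H) :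
    ∃ a ∈ S, a ∉ Subgroup.center H ∧ ∀ g ∈ S, g * a * g⁻¹ * a⁻¹ ∈ Subgroup.center H := by
  classical
  let T : Subgroup S := (Subgroup.center H).subgroupOf S
  haveI hTn : T.Normal := by
    constructor
    intro n hn g
    have h1 : (n : H) ∈ Subgroup.center H := hn
    show ((g * n * g⁻¹ : S) : H) ∈ Subgroup.center H
    have h2 : ((g * n * g⁻¹ : S) : H) = n := by
      have h3 := Subgroup.mem_center_iff.mp h1 g
      simp only [Subgroup.coe_mul, Subgroup.coe_inv]
      rw [h3]
      group
    rw [h2]
    exact h1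
  have hQp : IsPGroup s (S ⧸ T) := hS.to_quotient T
  haveI hnt : Nontrivial (S ⧸ T) := by
    obtain ⟨a, ha, haZ⟩ := SetLike.not_le_iff_exists.mp hSZ
    refine ⟨⟨((⟨a, ha⟩ : S) : S ⧸ T), 1, ?_⟩⟩
    intro h
    exact haZ ((QuotientGroup.eq_one_iff (⟨a, ha⟩ : S)).mp h)
  haveI := hQp.center_nontrivial
  obtain ⟨z, hz⟩ := exists_ne (1 : Subgroup.center (S ⧸ T))
  obtain ⟨a, ha⟩ := QuotientGroup.mk_surjective (z : S ⧸ T)
  have haT : (a : H) ∉ Subgroup.center H := by
    intro h
    apply hz
    apply Subtype.ext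
    rw [← ha]
    exact (QuotientGroup.eq_one_iff a).mpr h
  refine ⟨a, a.2, haT, ?_⟩
  intro g hg
  have h1 := Subgroup.mem_center_iff.mp z.2 ((⟨g, hg⟩ : S) : S ⧸ T)
  rw [← ha] at h1
  have h2 : (((⟨g, hg⟩ : S) * a * (⟨g, hg⟩ : S)⁻¹ * a⁻¹ : S) : S ⧸ T) = 1 := by
    simp only [QuotientGroup.mk_mul, QuotientGroup.mk_inv]
    rw [h1]
    group
  have h3 := (QuotientGroup.eq_one_iff _).mp h2
  exact h3

end Cfsg.Agent.H13.RT
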