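import Mathlib
import Cfsg.Agent.Lib.H13.RT4
import Cfsg.Agent.Lib.H01.Fitting

/-!
Groups whose `r`-regular classes have sizes `1` and `k`: elements of order prime to `k` are central.
-/

set_option autoImplicit false
set_option linter.style.haveILetI false
set_option linter.unusedSectionVars false
set_option linter.unusedVariables false

namespace Cfsg.Agent.H13.RT

open Cfsg H19

universe u

variable {H : Type u} [Group H] [Finite H]

theorem pp_pow_eq_one {t j : ℕ} {x : H} (hj : orderOf x = t ^ j) : x ^ (t ^ j) = 1 := by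
  rw [← hj]; exact pow_orderOf_eq_one x

/-- `t`-elements of `B` normalised by a Sylow `t`-subgroup lie in it. -/
theorem mem_sylow_of_norm {r t : ℕ} (hrp : r.Prime) (ht : t.Prime) (htr : t ≠ r) {B : Subgroup H} (hS : Struct r B)
    (T : Sylow t H) (hT : (T : Subgroup H) ≤ Subgroup.normalizer (B : Set H)) {x : H} (hx : x ∈ B) {j : ℕ} (hj : orderOf x = t ^ j) :
    x ∈ (T : Subgroup H) := by
  classical
  haveI : Fact t.Prime := ⟨ht⟩
  have hcop : ∀ y : H, ∀ i : ℕ, y ^ (t ^ i) = 1 → (orderOf y).Coprime r := by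
    intro y i hy
    exact Nat.Coprime.of_dvd_left (orderOf_dvd_of_pow_eq_one hy)
      (Nat.Coprime.pow_left i ((Nat.coprime_primes ht hrp).mpr htr))
  let A : Subgroup H :=
    { carrier := {y | y ∈ B ∧ ∃ i : ℕ, y ^ (t ^ i) = 1}
      mul_mem' := by
        rintro a b ⟨ha, i, hi⟩ ⟨hb, i', hi'⟩
        refine ⟨B.mul_mem ha hb, i + i', ?_⟩
        have hc : Commute a b := hS.central a ha (hcop a i hi) b hb
        rw [hc.mul_pow, pow_add, pow_mul, hi, one_pow, mul_comm (t ^ i), pow_mul, hi', one_pow, one_mul]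
      one_mem' := ⟨B.one_mem, 0, by simp⟩
      inv_mem' := by
        rintro a ⟨ha, i, hi⟩
        exact ⟨B.inv_mem ha, i, by rw [inv_pow, hi, inv_one]⟩ }
  have hAp : IsPGroup t A := by
    intro a
    obtain ⟨i, hi⟩ := a.2.2
    exact ⟨i, Subtype.ext hi⟩
  have hTA : (T : Subgroup H) ≤ Subgroup.normalizer (A : Set H) := by
    have hmem : ∀ g ∈ (T : Subgroup H), ∀ y ∈ A, g * y * g⁻¹ ∈ A := by
      rintro g hg y ⟨hy, i, hi⟩
      refine ⟨(Subgroup.mem_normalizer_iff.mp (hT hg) y).mp hy, i, ?_⟩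
      rw [conj_pow, hi]
      group
    intro g hg
    exact mem_normalizer_of_conj_le (hmem g hg)
  have h1 := T.is_maximal' (T.isPGroup'.to_sup_of_normal_right' hAp hTA) le_sup_left
  have h2 : x ∈ A := ⟨hx, j, pp_pow_eq_one hj⟩
  rw [← h1]
  exact (le_sup_right : A ≤ _) h2

theorem pCore_quotient_bot (r : ℕ) [Fact r.Prime] : pCore r (H ⧸ pCore r H) = ⊥ := by
  set V := pCore r H with hV
  haveI : V.Normal := H01.pCore_normal r
  let L : Subgroup H := (pCore r (H ⧸ V)).comap (QuotientGroup.mk' V)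
  haveI hcn : (pCore r (H ⧸ V)).Normal := H01.pCore_normal r
  have hLn : L.Normal := Subgroup.Normal.comap inferInstance _
  have hLp : IsPGroup r L := by
    apply (H01.pCore_isPGroup r).comap_of_ker_isPGroup
    rw [QuotientGroup.ker_mk']
    exact H01.pCore_isPGroup r
  have hLV : L ≤ V := H01.le_pCore hLn hLp
  rw [eq_bot_iff]
  intro y hy
  obtain ⟨x, rfl⟩ := QuotientGroup.mk_surjective y
  have : x ∈ L := hy
  have h2 : x ∈ V := hLV this
  rw [Subgroup.mem_bot]
  exact (QuotientGroup.eq_one_iff x).mpr h2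

/-- The Fitting step. -/
theorem fit_step {r s u : ℕ} (hrp : r.Prime) (hs : s.Prime) (hu : u.Prime) (hsr : s ≠ r) (hur : u ≠ r) (hus : u ≠ s)
    (hsol : Group.IsSolvable H) {B : Subgroup H} (hS : Struct r B) (S : Sylow s H)
    (hSB : (S : Subgroup H) ≤ Subgroup.normalizer (B : Set H)) (U : Sylow u H) (hU : (U : Subgroup H) ≤ B)
    (hp : ∀ p : ℕ, p.Prime → p ≠ r → p ≠ s → ¬ p ∣ B.index) :
    ∀ h : H, ∃ w ∈ pCore r H, ∃ n ∈ Subgroup.normalizer (U : Set H), h = w * n := by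
  classical
  haveI : Fact r.Prime := ⟨hrp⟩
  haveI : Fact s.Prime := ⟨hs⟩
  haveI : Fact u.Prime := ⟨hu⟩
  set V := pCore r H with hV
  haveI hVn : V.Normal := H01.pCore_normal r
  set q : H →* H ⧸ V := QuotientGroup.mk' V with hq
  have hqs : Function.Surjective q := QuotientGroup.mk'_surjective V
  haveI hsol1 : Group.IsSolvable (H ⧸ V) := inferInstance
  have hcore : pCore r (H ⧸ V) = ⊥ := pCore_quotient_bot r
  set Ub : Sylow u (H ⧸ V) := Sylow.mapSurjective hqs U with hUb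
  have hUbc : (Ub : Subgroup (H ⧸ V)) = (U : Subgroup H).map q := Sylow.coe_mapSurjective hqs U
  have hr' : ∀ g : H, (∃ i, g ^ (u ^ i) = 1) → (orderOf g).Coprime r := by
    rintro g ⟨i, hi⟩
    exact Nat.Coprime.of_dvd_left (orderOf_dvd_of_pow_eq_one hi)
      (Nat.Coprime.pow_left i ((Nat.coprime_primes hu hrp).mpr hur))
  have hUr : ∀ x ∈ (U : Subgroup H), (orderOf x).Coprime r := by
    intro x hx
    obtain ⟨j, hj⟩ := elt_of_pgroup hu U.isPGroup' hx
    rw [hj]
    exact Nat.Coprime.pow_left j ((Nat.coprime_primes hu hrp).mpr hur)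
  -- the Fitting subgroup commutes with the image of `U`
  have hFc : fittingSubgroup (H ⧸ V) ≤ Subgroup.centralizer ((Ub : Subgroup (H ⧸ V)) : Set (H ⧸ V)) := by
    rw [H01.fitting_eq_iSup_pCore]
    apply iSup_le
    rintro ⟨p, hpp⟩
    show pCore p (H ⧸ V) ≤ _
    haveI : Fact p.Prime := ⟨hpp⟩
    by_cases hpr : p = r
    · subst hpr
      rw [hcore]
      exact bot_le
    by_cases hps : p = s
    · subst hps
      intro y hy
      rw [Subgroup.mem_centralizer_iff]
      intro x' hx'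
      rw [SetLike.mem_coe, hUbc] at hx'
      obtain ⟨x, hx, rfl⟩ := hx'
      have hy2 : y ∈ ((Sylow.mapSurjective hqs S : Sylow p (H ⧸ V)) : Subgroup (H ⧸ V)) :=
        H01.pCore_le_sylow p _ hy
      rw [Sylow.coe_mapSurjective] at hy2
      obtain ⟨g, hg, rfl⟩ := hy2
      -- the commutator lies in `U`
      have hgx : g * x * g⁻¹ ∈ (U : Subgroup H) := by
        obtain ⟨j, hj⟩ := elt_of_pgroup hu U.isPGroup' hx
        refine mem_sylow_of_norm hrp hu hur hS U (hU.trans (Subgroup.le_normalizer)) ?_ (j := j) (by rw [conj_order, hj])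
        exact (Subgroup.mem_normalizer_iff.mp (hSB hg) x).mp (hU hx)
      have hc : x⁻¹ * (g * x * g⁻¹) ∈ (U : Subgroup H) := U.toSubgroup.mul_mem (U.toSubgroup.inv_mem hx) hgx
      have hc1 : q (x⁻¹ * (g * x * g⁻¹)) ∈ (Ub : Subgroup (H ⧸ V)) := by
        rw [hUbc]
        exact ⟨_, hc, rfl⟩
      have hc2 : q (x⁻¹ * (g * x * g⁻¹)) ∈ pCore p (H ⧸ V) := by
        have hn : (pCore p (H ⧸ V)).Normal := H01.pCore_normal p
        have h1 : q (x⁻¹) * q g * (q (x⁻¹))⁻¹ ∈ pCore p (H ⧸ V) := hn.conj_mem _ hy _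
        have h2 : q (x⁻¹ * (g * x * g⁻¹)) = (q (x⁻¹) * q g * (q (x⁻¹))⁻¹) * (q g)⁻¹ := by
          simp only [map_mul, map_inv]
          group
        rw [h2]
        exact Subgroup.mul_mem _ h1 (Subgroup.inv_mem _ hy)
      have hdis := IsPGroup.disjoint_of_ne u p (fun h => hus (h.trans rfl)) (Ub : Subgroup (H ⧸ V)) (pCore p (H ⧸ V))
        Ub.isPGroup' (H01.pCore_isPGroup p)
      have hc3 : q (x⁻¹ * (g * x * g⁻¹)) = 1 := by
        have := Subgroup.disjoint_def.mp hdis hc1 hc2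
        exact this
      have hc4 : q x⁻¹ * (q g * q x * (q g)⁻¹) = 1 := by
        simpa only [map_mul, map_inv] using hc3
      rw [map_inv] at hc4
      have hc5 : q g * q x * (q g)⁻¹ = q x := by
        have := congrArg (fun z => q x * z) hc4
        simpa using this
      have hc6 : q g * q x = q x * q g := by
        calc q g * q x = (q g * q x * (q g)⁻¹) * q g := by group
          _ = q x * q g := by rw [hc5]
      exact hc6.symm
    · intro y hy
      rw [Subgroup.mem_centralizer_iff]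
      intro x' hx'
      rw [SetLike.mem_coe, hUbc] at hx'
      obtain ⟨x, hx, rfl⟩ := hx'
      obtain ⟨P, hP⟩ := exists_sylow_le_of_not_dvd (t := p) (hp p hpp hpr hps)
      have hy2 : y ∈ ((Sylow.mapSurjective hqs P : Sylow p (H ⧸ V)) : Subgroup (H ⧸ V)) :=
        H01.pCore_le_sylow p _ hy
      rw [Sylow.coe_mapSurjective] at hy2
      obtain ⟨g, hg, rfl⟩ := hy2
      have hcm : x * g = g * x := by
        apply hS.central x (hU hx) (hUr x hx) g (hP hg)
      rw [← map_mul, ← map_mul, hcm]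
  have h1 : (Ub : Subgroup (H ⧸ V)) ≤ Subgroup.centralizer ((fittingSubgroup (H ⧸ V) : Subgroup _) : Set (H ⧸ V)) :=
    Subgroup.le_centralizer_iff.mp hFc
  have hUF : (Ub : Subgroup (H ⧸ V)) ≤ fittingSubgroup (H ⧸ V) := h1.trans H01.centralizer_fitting_le
  -- hence it is normal
  set F := fittingSubgroup (H ⧸ V) with hF
  haveI hFn : F.Normal := H01.fitting_normal
  haveI hFnil : Group.IsNilpotent F := H01.fitting_nilpotent
  have hUbF : IsPGroup u ((Ub : Subgroup (H ⧸ V)).subgroupOf F) :=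
    IsPGroup.comap_of_injective Ub.isPGroup' F.subtype (Subgroup.subtype_injective _)
  obtain ⟨P₀, hP₀⟩ := hUbF.exists_le_sylow
  set Q : Subgroup (H ⧸ V) := (P₀ : Subgroup F).map F.subtype with hQ
  have hQnorm : Subgroup.normalizer (Q : Set (H ⧸ V)) = ⊤ := by
    have h2 := Sylow.normalizer_sup_eq_top (N := F) P₀
    have h3 : F ≤ Subgroup.normalizer (Q : Set (H ⧸ V)) := by
      intro g hg
      have hnor : (P₀ : Subgroup F).Normal := inferInstance
      apply mem_normalizer_of_conj_le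
      rintro x ⟨y, hy, rfl⟩
      refine ⟨⟨g, hg⟩ * y * (⟨g, hg⟩ : F)⁻¹, hnor.conj_mem y hy ⟨g, hg⟩, ?_⟩
      simp
    rwa [sup_eq_left.mpr h3] at h2
  have hQn : Q.Normal := Subgroup.normalizer_eq_top_iff.mp hQnorm
  have hQp : IsPGroup u Q := P₀.isPGroup'.map _
  have hQU : (Ub : Subgroup (H ⧸ V)) ≤ Q := by
    intro x hx
    exact ⟨⟨x, hUF hx⟩, hP₀ hx, rfl⟩
  have hUbn : (Ub : Subgroup (H ⧸ V)) = Q := (Ub.is_maximal' hQp hQU).symm
  have hUbN : (Ub : Subgroup (H ⧸ V)).Normal := by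
    rw [hUbn]
    exact hQn
  -- pull back
  set N₀ : Subgroup H := (Ub : Subgroup (H ⧸ V)).comap q with hN₀
  haveI hN₀n : N₀.Normal := Subgroup.Normal.comap hUbN q
  have hUN₀ : (U : Subgroup H) ≤ N₀ := by
    intro x hx
    show q x ∈ (Ub : Subgroup (H ⧸ V))
    rw [hUbc]
    exact ⟨x, hx, rfl⟩
  have htop := Sylow.normalizer_sup_eq_top' (N := N₀) U hUN₀
  have hN₀le : N₀ ≤ Subgroup.normalizer ((U : Subgroup H) : Set H) ⊔ V := by
    intro x hx
    have hx' : q x ∈ (Ub : Subgroup (H ⧸ V)) := hx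
    rw [hUbc] at hx'
    obtain ⟨y, hy, hyx⟩ := hx'
    have h3 : y⁻¹ * x ∈ V := by
      have : q (y⁻¹ * x) = 1 := by
        rw [map_mul, map_inv, hyx]
        group
      exact (QuotientGroup.eq_one_iff _).mp this
    have h4 : x = y * (y⁻¹ * x) := by group
    rw [h4]
    exact Subgroup.mul_mem _ ((le_sup_left : _ ≤ Subgroup.normalizer ((U : Subgroup H) : Set H) ⊔ V) (Subgroup.le_normalizer hy))
      ((le_sup_right : V ≤ _) h3)
  have htop2 : Subgroup.normalizer ((U : Subgroup H) : Set H) ⊔ V = ⊤ := by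
    rw [eq_top_iff, ← htop]
    exact sup_le le_sup_left hN₀le
  intro h
  have hmem : h⁻¹ ∈ ((Subgroup.normalizer ((U : Subgroup H) : Set H) ⊔ V : Subgroup H) : Set H) := by
    rw [htop2]
    trivial
  rw [Subgroup.mul_normal] at hmem
  obtain ⟨n, hn, w, hw, hnw⟩ := hmem
  refine ⟨w⁻¹, V.inv_mem hw, n⁻¹, Subgroup.inv_mem _ hn, ?_⟩
  have hnw' : n * w = h⁻¹ := hnw
  rw [← mul_inv_rev, hnw', inv_inv]

theorem conj_mem_cz_conj {g a x : H} (hx : x ∈ cz a) : g * x * g⁻¹ ∈ cz (g * a * g⁻¹) := by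
  rw [mem_cz] at hx ⊢
  calc g * x * g⁻¹ * (g * a * g⁻¹) = g * (x * a) * g⁻¹ := by group
    _ = g * (a * x) * g⁻¹ := by rw [hx]
    _ = g * a * g⁻¹ * (g * x * g⁻¹) := by group

theorem conj_notMem_center {g a : H} (ha : a ∉ Subgroup.center H) : g * a * g⁻¹ ∉ Subgroup.center H := by
  intro h
  apply ha
  have h1 := (inferInstance : (Subgroup.center H).Normal).conj_mem _ h g⁻¹
  have h2 : g⁻¹ * (g * a * g⁻¹) * g⁻¹⁻¹ = a := by group
  rwa [h2] at h1

/-- The main result on `r`-regular classes. -/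
theorem inner_central {r k s u e : ℕ} (hcl : Cl r k H) (hrp : r.Prime) (hs : s.Prime) (hsr : s ≠ r) (hsk : s ∣ k)
    (hu : u.Prime) (hur : u ≠ r) (hus : u ≠ s) {v : H} (hv : orderOf v = u ^ e) : v ∈ Subgroup.center H := by
  classical
  by_contra hvZ
  haveI : Fact r.Prime := ⟨hrp⟩
  haveI : Fact s.Prime := ⟨hs⟩
  haveI : Fact u.Prime := ⟨hu⟩
  have hcoS : ∀ {t : ℕ} (ht : t.Prime), t ≠ r → ∀ {y : H} {j : ℕ}, orderOf y = t ^ j → (orderOf y).Coprime r := by
    intro t ht htr y j hy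
    rw [hy]
    exact Nat.Coprime.pow_left j ((Nat.coprime_primes ht hrp).mpr htr)
  have hvr := hcoS hu hur hv
  have hidv : (cz v).index = k := cl_nc hcl hvr hvZ
  have hkp : ∀ p : ℕ, p.Prime → p ∣ k → p = r ∨ p = s := by
    intro p hp hpk
    by_contra hcon
    push Not at hcon
    exact no_two_primes hcl hs hp hcon.2.symm hsr hcon.1 hrp hsk hpk hvr hvZ
  have huk : ¬ u ∣ k := fun h => (hkp u hu h).elim hur hus
  have hk1 : k ≠ 1 := by
    rintro rfl
    exact hs.one_lt.ne' (Nat.dvd_one.mp hsk)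
  have hsol : Group.IsSolvable H := by
    apply peel hrp hs hsr
    intro x hx p hp hd
    rcases hcl x hx with h1 | h1
    · rw [h1] at hd
      exact absurd (Nat.dvd_one.mp hd) hp.ne_one
    · rw [h1] at hd
      exact hkp p hp hd
  obtain ⟨S⟩ : Nonempty (Sylow s H) := inferInstance
  have hSZ : ¬ (S : Subgroup H) ≤ Subgroup.center H := by
    intro h
    exact S.not_dvd_index ((hidv ▸ hsk).trans (Subgroup.index_dvd_of_le (h.trans (center_le_cz v))))
  obtain ⟨a, haS, haZ, hacomm⟩ := exists_z2 S.isPGroup' hSZ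
  obtain ⟨f, haf⟩ := elt_of_pgroup hs S.isPGroup' haS
  have har := hcoS hs hsr haf
  have hidB : (cz a).index = k := cl_nc hcl har haZ
  have hSB : (S : Subgroup H) ≤ Subgroup.normalizer ((cz a : Subgroup H) : Set H) := by
    intro g hg
    apply mem_normalizer_of_conj_le
    intro x hx
    have hz := hacomm g hg
    have hz' := Subgroup.mem_center_iff.mp hz
    have h1 := conj_mem_cz_conj (g := g) hx
    rw [mem_cz] at h1 ⊢
    have h2 : g * a * g⁻¹ = (g * a * g⁻¹ * a⁻¹) * a := by group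
    rw [h2] at h1
    have h3 := hz' (g * x * g⁻¹)
    set X := g * x * g⁻¹ with hX
    set z := g * a * g⁻¹ * a⁻¹ with hzdef
    have h4 : z * (X * a) = z * (a * X) := by
      calc z * (X * a) = (z * X) * a := by group
        _ = (X * z) * a := by rw [h3]
        _ = X * (z * a) := by group
        _ = (z * a) * X := h1
        _ = z * (a * X) := by group
    exact mul_left_cancel h4
  obtain ⟨h₀, hh₀⟩ := exists_conj_mem_of_not_dvd (D := cz a) (t := u) (by rw [hidB]; exact huk) hv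
  set v₁ := h₀ * v * h₀⁻¹ with hv₁
  have hv₁o : orderOf v₁ = u ^ e := by rw [hv₁, conj_order, hv]
  have hv₁Z : v₁ ∉ Subgroup.center H := conj_notMem_center hvZ
  have hSt : Struct r (cz a) := mkStruct hcl hs hu hus.symm hsr hur hrp haf hv₁o haZ hv₁Z hh₀
  obtain ⟨U, hU⟩ := exists_sylow_le_of_not_dvd (t := u) (D := cz a) (by rw [hidB]; exact huk)
  have hstep := fit_step hrp hs hu hsr hur hus hsol hSt S hSB U hU (by
    intro p hp hpr hps hd
    rw [hidB] at hd
    exact (hkp p hp hd).elim hpr hps)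
  have hcz : ∀ b ∈ cz a, (orderOf b).Coprime r → b ∉ Subgroup.center H → cz b = cz a := by
    intro b hb hbr hbZ
    apply le_antisymm
    · intro g hg
      exact hSt.cz b hb hbr hbZ g (mem_cz.mp hg)
    · intro g hg
      exact mem_cz.mpr (hSt.central b hb hbr g hg).symm
  have hv₁U : v₁ ∈ (U : Subgroup H) :=
    mem_sylow_of_norm hrp hu hur hSt U (hU.trans Subgroup.le_normalizer) hh₀ hv₁o
  have hcv₁ : cz v₁ = cz a := hcz v₁ hh₀ (hcoS hu hur hv₁o) hv₁Z
  -- the normalizer of `U` normalizes `cz a`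
  have hNN : ∀ n ∈ Subgroup.normalizer ((U : Subgroup H) : Set H), ∀ x ∈ cz a, n * x * n⁻¹ ∈ cz a := by
    intro n hn x hx
    have h1 : n * v₁ * n⁻¹ ∈ (U : Subgroup H) := (Subgroup.mem_normalizer_iff.mp hn v₁).mp hv₁U
    have h2 : orderOf (n * v₁ * n⁻¹) = u ^ e := by rw [conj_order, hv₁o]
    have h3 := hcz _ (hU h1) (hcoS hu hur h2) (conj_notMem_center hv₁Z)
    rw [← h3]
    exact conj_mem_cz_conj (by rw [hcv₁]; exact hx)
  -- an element of `S` outside `cz a`
  have hSnle : ¬ (S : Subgroup H) ≤ cz a := by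
    intro h
    exact S.not_dvd_index ((hidB ▸ hsk).trans (Subgroup.index_dvd_of_le h))
  obtain ⟨g, hgS, hgB⟩ := SetLike.not_le_iff_exists.mp hSnle
  have hgZ : g ∉ Subgroup.center H := fun h => hgB (center_le_cz a h)
  obtain ⟨j, hj⟩ := elt_of_pgroup hs S.isPGroup' hgS
  have hgr := hcoS hs hsr hj
  have hidg : (cz g).index = k := cl_nc hcl hgr hgZ
  obtain ⟨h', hh'⟩ := exists_conj_mem_of_not_dvd (D := cz g) (t := u) (by rw [hidg]; exact huk) hv
  set v₂ := h' * v * h'⁻¹ with hv₂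
  have hv₂o : orderOf v₂ = u ^ e := by rw [hv₂, conj_order, hv]
  have hv₂Z : v₂ ∉ Subgroup.center H := conj_notMem_center hvZ
  have hE : cz g = cz v₂ := cz_eq_of_comm hcl hgr (hcoS hu hur hv₂o) hgZ hv₂Z (mem_cz.mp hh').symm (by
    rw [hj, hv₂o]
    exact Nat.Coprime.pow _ _ ((Nat.coprime_primes hs hu).mpr hus.symm))
  set h := h' * h₀⁻¹ with hh
  have hv₂₁ : v₂ = h * v₁ * h⁻¹ := by
    rw [hv₂, hv₁, hh]
    group
  have hg₁ : g ∈ cz v₂ := by
    rw [← hE]
    exact mem_cz.mpr rfl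
  have hg₂ : h⁻¹ * g * h ∈ cz a := by
    rw [← hcv₁]
    have h1 := conj_mem_cz_conj (g := h⁻¹) hg₁
    have h2 : h⁻¹ * v₂ * h⁻¹⁻¹ = v₁ := by
      rw [hv₂₁]
      group
    rw [h2] at h1
    simpa using h1
  obtain ⟨w, hw, n, hn, hwn⟩ := hstep h
  have hg₃ : w⁻¹ * g * w ∈ cz a := by
    have h1 := hNN n hn _ hg₂
    have h2 : n * (h⁻¹ * g * h) * n⁻¹ = w⁻¹ * g * w := by
      rw [hwn]
      group
    rwa [h2] at h1
  have hg₄ : w⁻¹ * g * w ∈ (S : Subgroup H) := by
    have h2 : orderOf (w⁻¹ * g * w) = s ^ j := by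
      have := conj_order w⁻¹ g
      rw [inv_inv] at this
      rw [this, hj]
    exact mem_sylow_of_norm hrp hs hsr hSt S hSB hg₃ h2
  have hg₅ : w⁻¹ * g * w * g⁻¹ ∈ (S : Subgroup H) :=
    Subgroup.mul_mem _ hg₄ (Subgroup.inv_mem _ hgS)
  have hVn : (pCore r H).Normal := H01.pCore_normal r
  have hg₆ : w⁻¹ * g * w * g⁻¹ ∈ pCore r H := by
    have h1 := hVn.conj_mem w hw g
    have h2 : w⁻¹ * g * w * g⁻¹ = w⁻¹ * (g * w * g⁻¹) := by group
    rw [h2]
    exact Subgroup.mul_mem _ (Subgroup.inv_mem _ hw) h1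
  have hdis := IsPGroup.disjoint_of_ne s r hsr (S : Subgroup H) (pCore r H) S.isPGroup' (H01.pCore_isPGroup r)
  have hg₇ := Subgroup.disjoint_def.mp hdis hg₅ hg₆
  have hg₈ : w⁻¹ * g * w = g := by
    have := congrArg (fun z => z * g) hg₇
    simpa using this
  apply hgB
  rw [← hg₈]
  exact hg₃

end Cfsg.Agent.H13.RT
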