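import Mathlib
import Cfsg.Agent.Lib.H13.RT5
import Cfsg.Agent.Lib.Lead.Burnside

/-!
Groups with three class sizes: general lemmas, and the case where the smaller size divides the larger one.
-/

set_option autoImplicit false
set_option linter.style.haveILetI false
set_option linter.unusedSectionVars false
set_option linter.unusedVariables false

namespace Cfsg.Agent.H13.RT

open Cfsg H19

universe u

variable {G : Type u} [Group G] [Finite G]

/-- A non-central element has a non-central prime-power part. -/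
theorem exists_pp_part (g : G) (hg : g ∉ Subgroup.center G) :
    ∃ (t e : ℕ) (x : G), t.Prime ∧ orderOf x = t ^ e ∧ x ∈ Subgroup.zpowers g ∧ x ∉ Subgroup.center G := by
  classical
  induction' h : orderOf g using Nat.strong_induction_on with d ih generalizing g
  have hg1 : g ≠ 1 := fun h1 => hg (h1 ▸ Subgroup.one_mem _)
  have hd1 : orderOf g ≠ 1 := fun h1 => hg1 (orderOf_eq_one_iff.mp h1)
  obtain ⟨t, ht, htd⟩ := Nat.exists_prime_and_dvd hd1
  haveI : Fact t.Prime := ⟨ht⟩
  obtain ⟨a, b, e1, hcm, ⟨k, hk⟩, hb, haz, hbz⟩ := exists_primary_decomp t g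
  by_cases haZ : a ∈ Subgroup.center G
  · have hbZ : b ∉ Subgroup.center G := by
      intro hbZ
      apply hg
      rw [e1]
      exact Subgroup.mul_mem _ haZ hbZ
    have hlt : orderOf b < d := by
      rw [← h]
      have hdv : orderOf b ∣ orderOf g := orderOf_dvd_of_mem_zpowers hbz
      refine lt_of_le_of_ne (Nat.le_of_dvd (orderOf_pos g) hdv) ?_
      intro heq
      rw [← heq] at htd
      exact ht.one_lt.ne' (Nat.Coprime.eq_one_of_dvd hb.symm htd)
    obtain ⟨t', e', x, ht', hx, hxz, hxZ⟩ := ih _ hlt b hbZ rfl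
    exact ⟨t', e', x, ht', hx, (Subgroup.zpowers_le.mpr hbz) hxz, hxZ⟩
  · exact ⟨t, k, a, ht, hk, haz, haZ⟩

theorem index_dvd_of_mem_zpowers {g x : G} (hx : x ∈ Subgroup.zpowers g) : (cz x).index ∣ (cz g).index :=
  Subgroup.index_dvd_of_le (cz_le_cz_of_mem_zpowers hx)

/-- Class of a conjugate. -/
theorem mem_cz_conj_iff {g a x : G} : x ∈ cz (g * a * g⁻¹) ↔ g⁻¹ * x * g ∈ cz a := by
  constructor
  · intro hx
    have h1 := conj_mem_cz_conj (g := g⁻¹) hx
    have h2 : g⁻¹ * (g * a * g⁻¹) * g⁻¹⁻¹ = a := by group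
    rw [h2] at h1
    simpa using h1
  · intro hx
    have h1 := conj_mem_cz_conj (g := g) hx
    have h2 : g * (g⁻¹ * x * g) * g⁻¹ = x := by group
    rwa [h2] at h1

theorem index_cz_conj (g a : G) : (cz (g * a * g⁻¹)).index = (cz a).index := by
  have h : cz (g * a * g⁻¹) = (cz a).map (MulAut.conj g).toMonoidHom := by
    ext x
    rw [mem_cz_conj_iff]
    constructor
    · intro hx
      exact ⟨g⁻¹ * x * g, hx, by simp [MulAut.conj_apply]; group⟩
    · rintro ⟨y, hy, rfl⟩
      have : g⁻¹ * ((MulAut.conj g).toMonoidHom y) * g = y := by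
        simp [MulAut.conj_apply]
        group
      rwa [this]
  rw [h]
  exact Subgroup.index_map_of_bijective (MulAut.conj g).bijective _

theorem sol_of_cl {r k : ℕ} (hr : r.Prime) (hcl : Cl r k G) : Group.IsSolvable G := by
  classical
  by_cases hx : ∃ x₀ : G, (orderOf x₀).Coprime r ∧ x₀ ∉ Subgroup.center G
  · obtain ⟨x₀, hx₀, hx₀Z⟩ := hx
    by_cases hs : ∃ s : ℕ, s.Prime ∧ s ≠ r ∧ s ∣ k
    · obtain ⟨s, hs, hsr, hsk⟩ := hs
      apply peel hr hs hsr
      intro x hxr p hp hd
      rcases hcl x hxr with h1 | h1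
      · rw [h1] at hd
        exact absurd (Nat.dvd_one.mp hd) hp.ne_one
      · rw [h1] at hd
        by_contra hcon
        push Not at hcon
        exact no_two_primes hcl hs hp hcon.2.symm hsr hcon.1 hr hsk hd hx₀ hx₀Z
    · apply isSolvable_of_regular_classes hr
      intro x hxr
      rcases hcl x hxr with h1 | h1
      · exact ⟨0, by simpa using h1⟩
      · have h0 : k ≠ 0 := by
          rw [← h1]
          exact Subgroup.FiniteIndex.index_ne_zero
        refine ⟨_, h1.trans (Nat.eq_prime_pow_of_unique_prime_dvd h0 ?_)⟩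
        intro d hd hdk
        by_contra hne
        exact hs ⟨d, hd, hne, hdk⟩
  · apply isSolvable_of_regular_classes hr
    intro x hxr
    have hxZ : x ∈ Subgroup.center G := by
      by_contra hxZ
      exact hx ⟨x, hxr, hxZ⟩
    exact ⟨0, by simpa using cz_index_eq_one_iff.mpr hxZ⟩

/-- A non-central `t`-element whose centralizer order divides that of `D` produces one in `D`. -/
theorem exists_nc_of_card_dvd {t e : ℕ} (ht : t.Prime) {x : G} (hx : orderOf x = t ^ e)
    (hxZ : x ∉ Subgroup.center G) (D : Subgroup G) (hd : Nat.card (cz x) ∣ Nat.card D) :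
    ∃ a ∈ D, a ∉ Subgroup.center G ∧ ∃ f : ℕ, orderOf a = t ^ f := by
  classical
  haveI : Fact t.Prime := ⟨ht⟩
  obtain ⟨P⟩ : Nonempty (Sylow t D) := inferInstance
  set A : Subgroup G := (P : Subgroup D).map D.subtype with hA
  have hAle : A ≤ D := Subgroup.map_subtype_le _
  have hAp : IsPGroup t A := P.isPGroup'.map _
  by_cases hAZ : A ≤ Subgroup.center G
  · exfalso
    haveI hAn : A.Normal := by
      constructor
      intro a ha g
      have := Subgroup.mem_center_iff.mp (hAZ ha) g
      rw [this]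
      simpa using ha
    have hKp : IsPGroup t ↥(A ⊔ Subgroup.zpowers x) := by
      apply hAp.to_sup_of_normal_left
      exact IsPGroup.of_card (n := e) (by rw [Nat.card_zpowers, hx])
    have hKle : A ⊔ Subgroup.zpowers x ≤ cz x := by
      apply sup_le (hAZ.trans (center_le_cz x))
      rw [Subgroup.zpowers_le]
      exact mem_cz.mpr rfl
    have hlt : A < A ⊔ Subgroup.zpowers x := by
      refine lt_of_le_of_ne le_sup_left ?_
      intro h
      have h1 : x ∈ A := by
        rw [h]
        exact (le_sup_right : Subgroup.zpowers x ≤ _) (Subgroup.mem_zpowers x)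
      exact hxZ (hAZ h1)
    have hc1 : Nat.card A < Nat.card ↥(A ⊔ Subgroup.zpowers x) := by
      by_contra hge
      exact hlt.ne (Subgroup.eq_of_le_of_card_ge hlt.le (not_lt.mp hge))
    obtain ⟨j, hj⟩ := IsPGroup.iff_card.mp hKp
    have hd2 : Nat.card ↥(A ⊔ Subgroup.zpowers x) ∣ Nat.card D := (Subgroup.card_dvd_of_le hKle).trans hd
    rw [hj] at hd2
    have hcA : Nat.card A = t ^ (Nat.card D).factorization t := by
      rw [hA, Subgroup.card_map_of_injective (Subgroup.subtype_injective _)]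
      exact Sylow.card_eq_multiplicity P
    have hle : j ≤ (Nat.card D).factorization t :=
      (ht.pow_dvd_iff_le_factorization Nat.card_pos.ne').mp hd2
    rw [hj, hcA] at hc1
    have := Nat.pow_le_pow_right ht.pos hle
    omega
  · obtain ⟨a, haA, haZ⟩ := SetLike.not_le_iff_exists.mp hAZ
    obtain ⟨f, hf⟩ := elt_of_pgroup ht hAp haA
    exact ⟨a, hAle haA, haZ, f, hf⟩

/-- If `t` divides no class size, `t`-elements are central. -/
theorem central_of_forall_not_dvd {t e : ℕ} (ht : t.Prime) (h : ∀ g : G, ¬ t ∣ (cz g).index) {x : G}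
    (hx : orderOf x = t ^ e) : x ∈ Subgroup.center G := by
  classical
  haveI : Fact t.Prime := ⟨ht⟩
  obtain ⟨P, hP⟩ := exists_sylow_of_orderOf hx
  have htop := eq_top_of_conj_cover (Subgroup.centralizer ((P : Subgroup G) : Set G)) (by
    intro g
    obtain ⟨T, hT⟩ := exists_sylow_le_of_not_dvd (h g)
    obtain ⟨c, hc⟩ := MulAction.exists_smul_eq G T P
    refine ⟨c, ?_⟩
    rw [Subgroup.mem_centralizer_iff]
    intro p hp
    have hp' : p ∈ ((c • T : Sylow t G) : Subgroup G) := by
      rw [hc]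
      exact hp
    rw [Sylow.coe_subgroup_smul] at hp'
    obtain ⟨y, hy, hpy⟩ := hp'
    have hpy' : c * y * c⁻¹ = p := hpy
    rw [← hpy']
    have hy' := mem_cz.mp (hT hy)
    calc c * y * c⁻¹ * (c * g * c⁻¹) = c * (y * g) * c⁻¹ := by group
      _ = c * (g * y) * c⁻¹ := by rw [hy']
      _ = c * g * c⁻¹ * (c * y * c⁻¹) := by group)
  rw [Subgroup.mem_center_iff]
  intro g
  have hg : g ∈ Subgroup.centralizer ((P : Subgroup G) : Set G) := htop ▸ Subgroup.mem_top g
  exact (Subgroup.mem_centralizer_iff.mp hg x hP).symm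

/-- An element commuting with a prime-power-central family. -/
theorem central_of_pp {C : Subgroup G} (P : ℕ → Prop)
    (hpp : ∀ t e : ℕ, t.Prime → P t → ∀ v ∈ C, orderOf v = t ^ e → ∀ g ∈ C, g * v = v * g) :
    ∀ a ∈ C, (∀ t : ℕ, t.Prime → t ∣ orderOf a → P t) → ∀ g ∈ C, g * a = a * g := by
  classical
  intro a
  induction' h : orderOf a using Nat.strong_induction_on with d ih generalizing a
  intro ha hP g hg
  by_cases hd1 : orderOf a = 1
  · rw [orderOf_eq_one_iff.mp hd1]
    group
  obtain ⟨t, ht, htd⟩ := Nat.exists_prime_and_dvd hd1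
  haveI : Fact t.Prime := ⟨ht⟩
  obtain ⟨b, c, e1, hcm, ⟨k, hk⟩, hc, hbz, hcz⟩ := exists_primary_decomp t a
  have hlt : orderOf c < d := by
    rw [← h]
    have hdv : orderOf c ∣ orderOf a := orderOf_dvd_of_mem_zpowers hcz
    refine lt_of_le_of_ne (Nat.le_of_dvd (orderOf_pos a) hdv) ?_
    intro heq
    rw [← heq] at htd
    exact ht.one_lt.ne' (Nat.Coprime.eq_one_of_dvd hc.symm htd)
  have hle : Subgroup.zpowers a ≤ C := Subgroup.zpowers_le.mpr ha
  have h1 := ih _ hlt c rfl (hle hcz) (fun t' ht' hd' => hP t' ht' (hd'.trans (h ▸ orderOf_dvd_of_mem_zpowers hcz))) g hg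
  have h2 := hpp t k ht (hP t ht (h ▸ htd)) b (hle hbz) hk g hg
  rw [e1, ← mul_assoc, h2, mul_assoc, h1, mul_assoc]

end Cfsg.Agent.H13.RT
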