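import Mathlib
import Cfsg.Agent.Lib.H13.RT6

/-!
Groups with three class sizes: the case where the smaller size divides the larger one.
-/

set_option autoImplicit false
set_option linter.style.haveILetI false
set_option linter.unusedSectionVars false
set_option linter.unusedVariables false

namespace Cfsg.Agent.H13.RT

open Cfsg H19

universe u

variable {G : Type u} [Group G] [Finite G]

/-- Three class sizes. -/
def Cls (m n : ℕ) (G : Type u) [Group G] : Prop :=
  ∀ x : G, (cz x).index = 1 ∨ (cz x).index = m ∨ (cz x).index = n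

theorem cz_mul_eq_inf {x y : G} (hc : Commute x y) (hco : (orderOf x).Coprime (orderOf y)) :
    cz (x * y) = cz x ⊓ cz y := by
  apply le_antisymm
  · obtain ⟨a, ha⟩ := exists_pow_mul_eq_left hc hco
    obtain ⟨b, hb⟩ := exists_pow_mul_eq_left hc.symm hco.symm
    rw [hc.symm.eq] at hb
    apply le_inf
    · have := cz_le_cz_pow (x * y) a
      rwa [ha] at this
    · have := cz_le_cz_pow (x * y) b
      rwa [hb] at this
  · rintro g ⟨h1, h2⟩
    have h1' := mem_cz.mp h1
    have h2' := mem_cz.mp h2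
    rw [mem_cz, ← mul_assoc, h1', mul_assoc, h2', mul_assoc]

theorem cl_of_class_m {r e k m : ℕ} (hr : r.Prime) (hm : 1 < m) (hcls : Cls m (m * k) G) {y : G}
    (hy : orderOf y = r ^ e) (hym : (cz y).index = m) : Cl r k ↥(cz y) := by
  intro x hx
  set X : G := x.1 with hX
  have hXc : Commute X y := mem_cz.mp x.2
  have hXo : (orderOf X).Coprime r := by
    rw [hX, Subgroup.orderOf_coe]
    exact hx
  have hco : (orderOf X).Coprime (orderOf y) := by
    rw [hy]
    exact Nat.Coprime.pow_right e hXo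
  have hE := cz_mul_eq_inf hXc hco
  have h1 : (cz x : Subgroup ↥(cz y)) = (cz X).subgroupOf (cz y) := by
    ext g
    rw [Subgroup.mem_subgroupOf, mem_cz, mem_cz, Subtype.ext_iff]
    simp [hX]
  rw [h1]
  show (cz X).relIndex (cz y) = 1 ∨ (cz X).relIndex (cz y) = k
  have h2 : (cz X ⊓ cz y).relIndex (cz y) = (cz X).relIndex (cz y) := Subgroup.inf_relIndex_right _ _
  have h3 := Subgroup.relIndex_mul_index (inf_le_right : cz X ⊓ cz y ≤ cz y)
  rw [h2, hym, ← hE] at h3
  have hm0 : 0 < m := by omega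
  rcases hcls (X * y) with h4 | h4 | h4
  · rw [h4] at h3
    have := Nat.eq_one_of_mul_eq_one_left h3
    omega
  · left
    rw [h4] at h3
    exact Nat.eq_of_mul_eq_mul_right hm0 (h3.trans (one_mul m).symm)
  · right
    rw [h4, mul_comm m k] at h3
    exact Nat.eq_of_mul_eq_mul_right hm0 h3

theorem central_in_cz {r e k m s t f : ℕ} (hr : r.Prime) (hm : 1 < m) (hcls : Cls m (m * k) G) {y : G}
    (hy : orderOf y = r ^ e) (hym : (cz y).index = m) (hs : s.Prime) (hsr : s ≠ r) (hsk : s ∣ k)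
    (ht : t.Prime) (htr : t ≠ r) (hts : t ≠ s) {v : G} (hv : v ∈ cz y) (hvo : orderOf v = t ^ f) :
    ∀ g ∈ cz y, g * v = v * g := by
  have h := inner_central (H := ↥(cz y)) (cl_of_class_m hr hm hcls hy hym) hr hs hsr hsk ht htr hts (v := ⟨v, hv⟩)
    (by rw [Subgroup.orderOf_mk]; exact hvo)
  intro g hg
  have := Subgroup.mem_center_iff.mp h ⟨g, hg⟩
  exact congrArg Subtype.val this

theorem cz_eq_of_central {m n : ℕ} (hcls : Cls m n G) (hm : 0 < m) (hmn : m < n) {y a : G} (hym : (cz y).index = m)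
    (hle : cz y ≤ cz a) (haZ : a ∉ Subgroup.center G) : cz a = cz y := by
  have hd : (cz a).index ∣ m := hym ▸ Subgroup.index_dvd_of_le hle
  rcases hcls a with h | h | h
  · exact absurd (cz_index_eq_one_iff.mp h) haZ
  · exact (eq_of_le_of_index_eq hle (hym.trans h.symm)).symm
  · rw [h] at hd
    have := Nat.le_of_dvd hm hd
    omega

theorem not_pp_part {s e : ℕ} (hs : s.Prime) {x x' : G} (hxs : (orderOf x).Coprime s) (hxz : x' ∈ Subgroup.zpowers x)
    (hx' : orderOf x' = s ^ e) (hx'Z : x' ∉ Subgroup.center G) : False := by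
  have h1 : orderOf x' ∣ orderOf x := orderOf_dvd_of_mem_zpowers hxz
  have h2 : (orderOf x').Coprime s := Nat.Coprime.of_dvd_left h1 hxs
  have h3 : orderOf x' = 1 := by
    have he : e = 0 := by
      by_contra he
      have hd : s ∣ orderOf x' := hx' ▸ dvd_pow_self s he
      exact hs.one_lt.ne' (Nat.Coprime.eq_one_of_dvd h2.symm hd)
    rw [hx', he, pow_zero]
  exact hx'Z (by rw [orderOf_eq_one_iff.mp h3]; exact Subgroup.one_mem _)

theorem card_two_prime {c r s : ℕ} (hc : c ≠ 0) (hr : r.Prime) (hs : s.Prime)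
    (h : ∀ p : ℕ, p.Prime → p ∣ c → p = r ∨ p = s) : ∃ a b : ℕ, c = r ^ a * s ^ b := by
  have h1 := Nat.ordProj_mul_ordCompl_eq_self c r
  have h2 : c / r ^ c.factorization r ≠ 0 := by
    intro h3
    rw [h3, mul_zero] at h1
    exact hc h1.symm
  have h3 := Nat.eq_prime_pow_of_unique_prime_dvd (p := s) h2 (by
    intro d hd hdc
    have hdc' : d ∣ c := hdc.trans (Nat.div_dvd_of_dvd (Nat.ordProj_dvd c r))
    rcases h d hd hdc' with h4 | h4
    · exfalso
      rw [h4] at hdc
      exact Nat.not_dvd_ordCompl hr hc hdc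
    · exact h4)
  obtain ⟨b, hb⟩ : ∃ b, c / r ^ c.factorization r = s ^ b := ⟨_, h3⟩
  exact ⟨_, b, by rw [← hb]; exact h1.symm⟩

theorem sol_of_center_quot (h : Group.IsSolvable (G ⧸ Subgroup.center G)) : Group.IsSolvable G := by
  haveI : Group.IsSolvable (Subgroup.center G) := Group.isSolvable_of_comm (fun a b => by
    apply Subtype.ext
    exact Subgroup.mem_center_iff.mp b.2 a)
  refine Group.isSolvable_of_ker_le_range (Subgroup.center G).subtype (QuotientGroup.mk' (Subgroup.center G)) ?_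
  rw [QuotientGroup.ker_mk', Subgroup.range_subtype]

/-- The case where the smaller class size divides the larger one. -/
theorem case_B {m k : ℕ} (hm : 1 < m) (hk : 1 < k) (hcls : Cls m (m * k) G) : Group.IsSolvable G := by
  classical
  have hmn : m < m * k := by nlinarith
  have hm0 : 0 < m := by omega
  obtain ⟨s, hs, hsk⟩ := Nat.exists_prime_and_dvd (show k ≠ 1 by omega)
  haveI : Fact s.Prime := ⟨hs⟩
  by_cases hSig : ∃ (r : ℕ) (y : G) (e : ℕ), r.Prime ∧ r ≠ s ∧ orderOf y = r ^ e ∧ (cz y).index = m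
  swap
  · apply sol_of_cl hs (k := m * k)
    intro x hxs
    by_cases hxZ : x ∈ Subgroup.center G
    · left
      exact cz_index_eq_one_iff.mpr hxZ
    right
    obtain ⟨t, e, x', ht, hx', hxz, hx'Z⟩ := exists_pp_part x hxZ
    have hts : t ≠ s := by
      rintro rfl
      exact not_pp_part hs hxs hxz hx' hx'Z
    have hx'm : (cz x').index = m * k := by
      rcases hcls x' with h | h | h
      · exact absurd (cz_index_eq_one_iff.mp h) hx'Z
      · exact absurd ⟨t, x', e, ht, hts, hx', h⟩ hSig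
      · exact h
    have hd := index_dvd_of_mem_zpowers hxz
    rw [hx'm] at hd
    rcases hcls x with h | h | h
    · exact absurd (cz_index_eq_one_iff.mp h) hxZ
    · rw [h] at hd
      have := Nat.le_of_dvd hm0 hd
      omega
    · exact h
  obtain ⟨r, y, e, hr, hrs, hy, hym⟩ := hSig
  haveI : Fact r.Prime := ⟨hr⟩
  have hyZ : y ∉ Subgroup.center G := by
    intro h
    rw [cz_index_eq_one_iff.mpr h] at hym
    omega
  have hcent : ∀ t f : ℕ, t.Prime → t ≠ r → t ≠ s → ∀ v ∈ cz y, orderOf v = t ^ f → ∀ g ∈ cz y, g * v = v * g :=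
    fun t f ht htr hts v hv hvo => central_in_cz hr hm hcls hy hym hs hrs.symm hsk ht htr hts hv hvo
  by_cases hu : ∃ (u : ℕ) (w : G) (e' : ℕ), u.Prime ∧ u ≠ r ∧ u ≠ s ∧ orderOf w = u ^ e' ∧ w ∉ Subgroup.center G
  swap
  · -- Burnside
    have hpr : ∀ p : ℕ, p.Prime → p ∣ Nat.card (G ⧸ Subgroup.center G) → p = r ∨ p = s := by
      intro p hp hd
      haveI : Fact p.Prime := ⟨hp⟩
      obtain ⟨y₀, hy₀⟩ := exists_prime_orderOf_dvd_card' p hd
      obtain ⟨x₀, hx₀, hx₀p⟩ := exists_pi_lift (QuotientGroup.mk' (Subgroup.center G))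
        (QuotientGroup.mk'_surjective _) {p} y₀ (by
          intro t ht htd
          rw [hy₀] at htd
          exact (Nat.prime_dvd_prime_iff_eq ht hp).mp htd)
      have hx₀Z : x₀ ∉ Subgroup.center G := by
        intro h
        have h1 : (QuotientGroup.mk' (Subgroup.center G)) x₀ = 1 := (QuotientGroup.eq_one_iff x₀).mpr h
        rw [hx₀] at h1
        rw [h1, orderOf_one] at hy₀
        exact hp.ne_one hy₀.symm
      have h0 := Nat.eq_prime_pow_of_unique_prime_dvd (p := p) (orderOf_pos x₀).ne' (by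
        intro d hd hdc
        exact hx₀p d hd hdc)
      by_contra hne
      push Not at hne
      exact hu ⟨p, x₀, _, hp, hne.1, hne.2, h0, hx₀Z⟩
    obtain ⟨a, b, hab⟩ := card_two_prime Nat.card_pos.ne' hr hs hpr
    exact sol_of_center_quot (Lead.burnside_two_prime r s a b hr hs hab)
  obtain ⟨u, w, e', hu, hur, hus, hw, hwZ⟩ := hu
  haveI : Fact u.Prime := ⟨hu⟩
  have hcdvd : ∀ w : G, w ∉ Subgroup.center G → Nat.card (cz w) ∣ Nat.card (cz y) := by
    intro w hwZ
    have h1 := (cz w).card_mul_index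
    have h2 := (cz y).card_mul_index
    rw [hym] at h2
    rcases hcls w with h | h | h
    · exact absurd (cz_index_eq_one_iff.mp h) hwZ
    · rw [h, ← h2] at h1
      rw [Nat.eq_of_mul_eq_mul_right hm0 h1]
    · rw [h] at h1
      have h3 : Nat.card (cz w) * k * m = Nat.card (cz y) * m := by
        calc Nat.card (cz w) * k * m = Nat.card (cz w) * (m * k) := by ring
          _ = Nat.card (cz y) * m := h1.trans h2.symm
      exact ⟨k, (Nat.eq_of_mul_eq_mul_right hm0 h3).symm⟩
  obtain ⟨x, hxy, hxZ, f, hx⟩ := exists_nc_of_card_dvd hu hw hwZ (cz y) (hcdvd w hwZ)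
  have hxc := hcent u f hu hur hus x hxy hx
  have hstr : ∀ a ∈ cz y, a ∉ Subgroup.center G → (∀ g ∈ cz y, g * a = a * g) → cz a = cz y := by
    intro a ha haZ hcm
    exact cz_eq_of_central hcls hm0 hmn hym (fun g hg => mem_cz.mpr (hcm g hg)) haZ
  have hczx : cz x = cz y := hstr x hxy hxZ hxc
  have hxm : (cz x).index = m := by rw [hczx]; exact hym
  have hcent2 : ∀ t f : ℕ, t.Prime → t ≠ u → t ≠ s → ∀ v ∈ cz y, orderOf v = t ^ f → ∀ g ∈ cz y, g * v = v * g := by
    intro t f ht htu hts v hv hvo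
    have := central_in_cz hu hm hcls hx hxm hs hus.symm hsk ht htu hts (v := v) (by rw [hczx]; exact hv) hvo
    intro g hg
    exact this g (by rw [hczx]; exact hg)
  have hP1 : ∀ t f : ℕ, t.Prime → t ≠ s → ∀ v ∈ cz y, orderOf v = t ^ f → ∀ g ∈ cz y, g * v = v * g := by
    intro t f ht hts
    by_cases htr : t = r
    · subst htr
      exact hcent2 _ f ht hur.symm hts
    · exact hcent t f ht htr hts
  have hcs : ∀ a ∈ cz y, (orderOf a).Coprime s → ∀ g ∈ cz y, g * a = a * g := by
    intro a ha has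
    apply central_of_pp (fun t => t ≠ s) (fun t f ht hts v hv hvo => hP1 t f ht hts v hv hvo) a ha
    rintro t ht htd rfl
    exact ht.one_lt.ne' (Nat.Coprime.eq_one_of_dvd has.symm htd)
  have hSt : Struct s (cz y) := by
    refine ⟨fun a ha has b hb => (hcs a ha has b hb).symm, fun a ha has haZ g hg => ?_⟩
    have h := hstr a ha haZ (hcs a ha has)
    rw [← h]
    exact mem_cz.mpr hg
  by_cases hk2 : ∃ s' : ℕ, s'.Prime ∧ s' ≠ s ∧ s' ∣ k
  · obtain ⟨s', hs', hss', hs'k⟩ := hk2
    have hsc : ∀ f : ℕ, ∀ v ∈ cz y, orderOf v = s ^ f → ∀ g ∈ cz y, g * v = v * g := by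
      by_cases hrs' : r = s'
      · intro f v hv hvo
        have hs'u : s' ≠ u := fun h => hur (by rw [hrs', h])
        have := central_in_cz hu hm hcls hx hxm hs' hs'u hs'k hs hus.symm hss'.symm (v := v)
          (by rw [hczx]; exact hv) hvo
        intro g hg
        exact this g (by rw [hczx]; exact hg)
      · intro f v hv hvo
        exact central_in_cz hr hm hcls hy hym hs' (Ne.symm hrs') hs'k hs hrs.symm hss'.symm hv hvo
    have hab : ∀ a ∈ cz y, ∀ g ∈ cz y, g * a = a * g := by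
      intro a ha
      apply central_of_pp (fun _ => True) _ a ha (fun _ _ _ => trivial)
      intro t f ht _ v hv hvo
      by_cases hts : t = s
      · subst hts
        exact hsc f v hv hvo
      · exact hP1 t f ht hts v hv hvo
    obtain ⟨r₀, hr₀gt, hr₀⟩ := Nat.exists_infinite_primes (Nat.card G + 1)
    have hS₀ : Struct r₀ (cz y) := by
      refine ⟨fun a ha _ b hb => (hab a ha b hb).symm, fun a ha _ haZ g hg => ?_⟩
      have h := hstr a ha haZ (hab a ha)
      rw [← h]
      exact mem_cz.mpr hg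
    have hmG : m ∣ Nat.card G := hym ▸ (cz y).index_dvd_card
    have hqdata : ∀ q : ℕ, q.Prime → q ∣ m → q ≠ r₀ ∧ ∃ (Q : Subgroup G) (a : G), IsPGroup q Q ∧ ¬ Q ≤ cz y ∧ a ∈ Q ∧ a ∈ cz y ∧
        a ∉ Subgroup.center G := by
      intro q hq hqm
      haveI : Fact q.Prime := ⟨hq⟩
      constructor
      · rintro rfl
        have := Nat.le_of_dvd Nat.card_pos (hqm.trans hmG)
        omega
      obtain ⟨z, e₁, hz, hzD⟩ := exists_nc_elt (t := q) (D := cz y) (hym ▸ hqm)
      have hzZ : z ∉ Subgroup.center G := fun h => hzD (center_le_cz y h)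
      obtain ⟨a, ha, haZ, f₁, hf₁⟩ := exists_nc_of_card_dvd hq hz hzZ (cz y) (hcdvd z hzZ)
      obtain ⟨Q, hQ⟩ := exists_sylow_of_orderOf hf₁
      refine ⟨Q, a, Q.isPGroup', ?_, hQ, ha, haZ⟩
      intro h
      exact Q.not_dvd_index ((hym ▸ hqm).trans (Subgroup.index_dvd_of_le h))
    have huniq : ∀ q₁ q₂ : ℕ, q₁.Prime → q₂.Prime → q₁ ∣ m → q₂ ∣ m → q₁ = q₂ := by
      intro q₁ q₂ h1 h2 hd1 hd2
      by_contra hne
      obtain ⟨hr1, Q₁, a₁, hQ₁, hn₁, ha₁Q, ha₁, ha₁Z⟩ := hqdata q₁ h1 hd1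
      obtain ⟨hr2, Q₂, a₂, hQ₂, hn₂, ha₂Q, ha₂, ha₂Z⟩ := hqdata q₂ h2 hd2
      exact two_prime hr₀ hS₀ h1 h2 hne hr1 hr2 hQ₁ hQ₂ hn₁ hn₂ ha₁Q ha₁ ha₁Z ha₂Q ha₂ ha₂Z
    have hq : (m.minFac).Prime := Nat.minFac_prime (by omega)
    have hmq := Nat.eq_prime_pow_of_unique_prime_dvd (p := m.minFac) hm0.ne' (by
      intro d hd hdm
      exact huniq d _ hd hq hdm (Nat.minFac_dvd m))
    set q := m.minFac with hqdef
    haveI : Fact q.Prime := ⟨hq⟩
    apply isSolvable_of_regular_classes hq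
    intro x' hx'q
    by_cases hZ : x' ∈ Subgroup.center G
    · exact ⟨0, by simpa using cz_index_eq_one_iff.mpr hZ⟩
    obtain ⟨t, e₁, x₁, ht, hx₁, hx₁z, hx₁Z⟩ := exists_pp_part x' hZ
    have htq : t ≠ q := by
      rintro rfl
      exact not_pp_part hq hx'q hx₁z hx₁ hx₁Z
    have htm : ¬ t ∣ (cz y).index := by
      rw [hym, hmq]
      intro hd
      exact htq ((Nat.prime_dvd_prime_iff_eq ht hq).mp (ht.dvd_of_dvd_pow hd))
    haveI : Fact t.Prime := ⟨ht⟩
    obtain ⟨g, hg⟩ := exists_conj_mem_of_not_dvd (D := cz y) htm hx₁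
    have h1 : cz (g * x₁ * g⁻¹) = cz y := hstr _ hg (conj_notMem_center hx₁Z) (hab _ hg)
    have h2 : g * x' * g⁻¹ ∈ cz y := by
      rw [← h1]
      exact conj_mem_cz_conj (cz_le_cz_of_mem_zpowers hx₁z (mem_cz.mpr rfl))
    have h3 := hstr _ h2 (conj_notMem_center hZ) (hab _ h2)
    have h4 : (cz x').index = m := by rw [← index_cz_conj g x', h3, hym]
    exact ⟨_, h4.trans hmq⟩
  · have hdv : ∀ (q : ℕ), q.Prime → q ≠ s → ∀ (v : G) (f : ℕ), orderOf v = q ^ f → v ∉ Subgroup.center G → q ∣ m := by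
      intro q hq hqs v f hv hvZ
      by_contra hqm
      have hqk : ¬ q ∣ k := fun h => hk2 ⟨q, hq, hqs, h⟩
      have hqn : ∀ g : G, ¬ q ∣ (cz g).index := by
        intro g
        rcases hcls g with h | h | h
        · rw [h]
          exact fun hd => hq.ne_one (Nat.dvd_one.mp hd)
        · rw [h]
          exact hqm
        · rw [h]
          intro hd
          rcases (Nat.Prime.dvd_mul hq).mp hd with h1 | h1
          · exact hqm h1
          · exact hqk h1
      exact hvZ (central_of_forall_not_dvd hq hqn hv)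
    obtain ⟨Qr, hQr⟩ := exists_sylow_of_orderOf hy
    obtain ⟨Qu, hQu⟩ := exists_sylow_of_orderOf hx
    exfalso
    refine two_prime hs hSt hr hu hur.symm hrs hus Qr.isPGroup' Qu.isPGroup' ?_ ?_ hQr (mem_cz.mpr rfl) hyZ hQu hxy hxZ
    · intro h
      exact Qr.not_dvd_index ((hym ▸ hdv r hr hrs y e hy hyZ).trans (Subgroup.index_dvd_of_le h))
    · intro h
      exact Qu.not_dvd_index ((hym ▸ hdv u hu hus x f hx hxZ).trans (Subgroup.index_dvd_of_le h))

end Cfsg.Agent.H13.RT
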