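import Mathlib
import Cfsg.Agent.Lib.H13.RT7
import Cfsg.Agent.Lib.H19.Ito2

/-!
Groups with three class sizes, the second case: counting in centralizer-abelian groups.
-/

set_option autoImplicit false
set_option linter.style.haveILetI false
set_option linter.unusedSectionVars false
set_option linter.unusedVariables false

namespace Cfsg.Agent.H13.RT

open Cfsg H19

universe u

variable {G : Type u} [Group G] [Finite G]

/-- A variant of `mkStruct` with the commuting property as a hypothesis. -/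
theorem mkStruct' {r t s e f : ℕ}
    (hce : ∀ x v : G, x ∉ Subgroup.center G → v ∉ Subgroup.center G → Commute x v →
      (orderOf x).Coprime (orderOf v) → cz x = cz v)
    (ht : t.Prime) (hs : s.Prime) (hts : t ≠ s) {v a₀ : G} (hv : orderOf v = t ^ e) (ha₀ : orderOf a₀ = s ^ f)
    (hvZ : v ∉ Subgroup.center G) (ha₀Z : a₀ ∉ Subgroup.center G) (hc : a₀ ∈ cz v) : Struct r (cz v) := by
  haveI : Fact t.Prime := ⟨ht⟩
  have hcomm : Commute a₀ v := (mem_cz.mp hc)
  have hE : cz a₀ = cz v := hce a₀ v ha₀Z hvZ hcomm (by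
    rw [hv, ha₀]
    exact Nat.Coprime.pow _ _ ((Nat.coprime_primes hs ht).mpr hts.symm))
  have part1 : ∀ w ∈ cz v, (orderOf w).Coprime t → w ∉ Subgroup.center G → cz w = cz v := by
    intro w hw hwt hwZ
    exact hce w v hwZ hvZ (mem_cz.mp hw) (by
      rw [hv]; exact Nat.Coprime.pow_right e hwt)
  have part2 : ∀ w ∈ cz v, (∃ j, orderOf w = t ^ j) → w ∉ Subgroup.center G → cz w = cz v := by
    rintro w hw ⟨j, hj⟩ hwZ
    rw [← hE]
    have hw' : w ∈ cz a₀ := hE ▸ hw
    exact hce w a₀ hwZ ha₀Z (mem_cz.mp hw') (by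
      rw [hj, ha₀]
      exact Nat.Coprime.pow _ _ ((Nat.coprime_primes ht hs).mpr hts))
  have hdec : ∀ a ∈ cz v, ∃ b c : G, a = b * c ∧ Commute b c ∧ b ∈ Subgroup.zpowers a ∧
      c ∈ Subgroup.zpowers a ∧ (b ∈ Subgroup.center G ∨ cz b = cz v) ∧ (c ∈ Subgroup.center G ∨ cz c = cz v) := by
    intro a ha
    obtain ⟨b, c, e1, hcm, hb, hc', hbz, hcz⟩ := exists_primary_decomp t a
    have hle : Subgroup.zpowers a ≤ cz v := Subgroup.zpowers_le.mpr ha
    refine ⟨b, c, e1, hcm, hbz, hcz, ?_, ?_⟩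
    · by_cases h : b ∈ Subgroup.center G
      · exact Or.inl h
      · exact Or.inr (part2 b (hle hbz) hb h)
    · by_cases h : c ∈ Subgroup.center G
      · exact Or.inl h
      · exact Or.inr (part1 c (hle hcz) hc' h)
  have hcm : ∀ w x : G, (w ∈ Subgroup.center G ∨ cz w = cz v) → x ∈ cz v → w * x = x * w := by
    intro w x hw hx
    rcases hw with hw | hw
    · exact (Subgroup.mem_center_iff.mp hw x).symm
    · rw [← hw] at hx
      exact (mem_cz.mp hx).symm
  refine ⟨?_, ?_⟩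
  · intro a ha har x hx
    obtain ⟨b, c, e1, -, -, -, h1, h2⟩ := hdec a ha
    rw [e1, mul_assoc, hcm c x h2 hx, ← mul_assoc, hcm b x h1 hx, mul_assoc]
  · intro a ha har haZ g hg
    obtain ⟨b, c, e1, -, hbz, hcz, h1, h2⟩ := hdec a ha
    have hga : g ∈ cz a := mem_cz.mpr hg
    have hle : ∀ w ∈ Subgroup.zpowers a, cz a ≤ cz w := fun w hw => cz_le_cz_of_mem_zpowers hw
    by_cases hb : b ∈ Subgroup.center G
    · have hc1 : c ∉ Subgroup.center G := by
        intro hc1
        apply haZ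
        rw [e1]
        exact Subgroup.mul_mem _ hb hc1
      have hc2 := h2.resolve_left hc1
      rw [← hc2]
      exact hle c hcz hga
    · have hb2 := h1.resolve_left hb
      rw [← hb2]
      exact hle b hbz hga

theorem comm_eq_A {m n : ℕ} (hcls : Cls m n G) (hm : 1 < m) (hmn : m < n) (hA : ¬ m ∣ n) {x y : G}
    (hxZ : x ∉ Subgroup.center G) (hyZ : y ∉ Subgroup.center G) (hc : Commute x y)
    (hco : (orderOf x).Coprime (orderOf y)) : cz x = cz y := by
  have hE := cz_mul_eq_inf hc hco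
  have hle1 : cz (x * y) ≤ cz x := hE ▸ inf_le_left
  have hle2 : cz (x * y) ≤ cz y := hE ▸ inf_le_right
  have hZ : x * y ∉ Subgroup.center G := by
    intro h
    have h1 : (cz (x * y)).index = 1 := cz_index_eq_one_iff.mpr h
    have h2 := Subgroup.index_dvd_of_le hle1
    rw [h1] at h2
    exact hxZ (cz_index_eq_one_iff.mp (Nat.dvd_one.mp h2))
  have hanti : ∀ a b : G, a ∉ Subgroup.center G → b ∉ Subgroup.center G → cz b ≤ cz a → cz b = cz a := by
    intro a b ha hb hle
    have hd := Subgroup.index_dvd_of_le hle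
    apply eq_of_le_of_index_eq hle
    rcases hcls a with h | h | h
    · exact absurd (cz_index_eq_one_iff.mp h) ha
    · rcases hcls b with h' | h' | h'
      · exact absurd (cz_index_eq_one_iff.mp h') hb
      · rw [h, h']
      · rw [h, h'] at hd
        exact absurd hd hA
    · rcases hcls b with h' | h' | h'
      · exact absurd (cz_index_eq_one_iff.mp h') hb
      · rw [h, h'] at hd
        have := Nat.le_of_dvd (by omega) hd
        omega
      · rw [h, h']
  rw [← hanti x _ hxZ hZ hle1, ← hanti y _ hyZ hZ hle2]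

theorem relIndex_dvd_index_of_normal_right (L K : Subgroup G) [K.Normal] : L.relIndex K ∣ L.index := by
  set J := L ⊔ K with hJ
  have h1 : K.relIndex J = K.relIndex L := Subgroup.relIndex_sup_right _ _
  have h2 := Subgroup.relIndex_mul_index (le_sup_right : K ≤ J)
  have h3 := Subgroup.relIndex_mul_index (inf_le_right : K ⊓ L ≤ L)
  rw [Subgroup.inf_relIndex_right] at h3
  have h4 := Subgroup.relIndex_mul_index (inf_le_left : K ⊓ L ≤ K)
  rw [Subgroup.inf_relIndex_left] at h4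
  have h5 := Subgroup.relIndex_mul_index (le_sup_left : L ≤ J)
  rw [h1] at h2
  have hk0 : K.index ≠ 0 := Subgroup.FiniteIndex.index_ne_zero
  have hx0 : K.relIndex L ≠ 0 := fun h => hk0 (by rw [← h2, h, zero_mul])
  have hj0 : J.index ≠ 0 := Subgroup.FiniteIndex.index_ne_zero
  have h6 : L.relIndex K * (K.relIndex L * J.index) = L.relIndex J * (K.relIndex L * J.index) := by
    calc L.relIndex K * (K.relIndex L * J.index) = L.relIndex K * K.index := by rw [h2]
      _ = K.relIndex L * L.index := by rw [h4, h3]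
      _ = K.relIndex L * (L.relIndex J * J.index) := by rw [h5]
      _ = _ := by ring
  have h7 := Nat.eq_of_mul_eq_mul_right (Nat.pos_of_ne_zero (mul_ne_zero hx0 hj0)) h6
  rw [h7, ← h5]
  exact dvd_mul_right _ _

theorem card_nc {B : Subgroup G} (hZB : Subgroup.center G ≤ B) :
    Nat.card {b : G // b ∈ B ∧ b ∉ Subgroup.center G} + Nat.card (Subgroup.center G) = Nat.card B := by
  classical
  haveI := Fintype.ofFinite G
  have h1 := card_split (fun g : G => g ∈ B) (fun g => g ∈ Subgroup.center G)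
  rw [card_filter_eq, card_filter_eq, card_filter_eq] at h1
  have h2 : Nat.card {g : G // g ∈ Subgroup.center G ∧ g ∈ B} = Nat.card (Subgroup.center G) :=
    Nat.card_congr (Equiv.subtypeEquivRight (fun g => ⟨fun h => h.1, fun h => ⟨h, hZB h⟩⟩))
  have h3 : Nat.card {g : G // ¬ g ∈ Subgroup.center G ∧ g ∈ B} = Nat.card {b : G // b ∈ B ∧ b ∉ Subgroup.center G} :=
    Nat.card_congr (Equiv.subtypeEquivRight (fun g => ⟨fun h => ⟨h.2, h.1⟩, fun h => ⟨h.2, h.1⟩⟩))
  have h4 : Nat.card {g : G // g ∈ B} = Nat.card B := rfl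
  rw [h2, h3, h4] at h1
  omega

/-- Counting the elements conjugate into a subgroup all of whose noncentral elements have it as centralizer. -/
theorem conj_count {B : Subgroup G} (hB : ∀ b ∈ B, b ∉ Subgroup.center G → cz b = B) :
    Nat.card {x : G // x ∉ Subgroup.center G ∧ ∃ g : G, g * x * g⁻¹ ∈ B} =
      (Subgroup.normalizer (B : Set G)).index * Nat.card {b : G // b ∈ B ∧ b ∉ Subgroup.center G} := by
  classical
  set N := Subgroup.normalizer (B : Set G) with hN
  rw [Subgroup.index_eq_card, ← Nat.card_prod]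
  symm
  let φ : (G ⧸ N) × {b : G // b ∈ B ∧ b ∉ Subgroup.center G} →
      {x : G // x ∉ Subgroup.center G ∧ ∃ g : G, g * x * g⁻¹ ∈ B} := fun p =>
    ⟨p.1.out * p.2.1 * p.1.out⁻¹, conj_notMem_center p.2.2.2, p.1.out⁻¹, by
      have h : p.1.out⁻¹ * (p.1.out * p.2.1 * p.1.out⁻¹) * p.1.out⁻¹⁻¹ = p.2.1 := by group
      rw [h]
      exact p.2.2.1⟩
  apply Nat.card_congr
  refine Equiv.ofBijective φ ⟨?_, ?_⟩
  · rintro ⟨c₁, b₁⟩ ⟨c₂, b₂⟩ h
    have h1 : c₁.out * b₁.1 * c₁.out⁻¹ = c₂.out * b₂.1 * c₂.out⁻¹ := congrArg Subtype.val h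
    have hn : c₂.out⁻¹ * c₁.out ∈ N := by
      apply mem_normalizer_of_conj_le
      intro x hx
      have h2 : b₂.1 = (c₂.out⁻¹ * c₁.out) * b₁.1 * (c₂.out⁻¹ * c₁.out)⁻¹ := by
        have : b₂.1 = c₂.out⁻¹ * (c₂.out * b₂.1 * c₂.out⁻¹) * c₂.out := by group
        rw [this, ← h1]
        group
      have h3 : x ∈ cz b₁.1 := by rw [hB _ b₁.2.1 b₁.2.2]; exact hx
      have h4 := conj_mem_cz_conj (g := c₂.out⁻¹ * c₁.out) h3
      rw [← h2, hB _ b₂.2.1 b₂.2.2] at h4
      exact h4
    have hc : c₂ = c₁ := by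
      have h2 : ((c₂.out : G) : G ⧸ N) = ((c₁.out : G) : G ⧸ N) := QuotientGroup.eq.mpr hn
      rwa [QuotientGroup.out_eq', QuotientGroup.out_eq'] at h2
    subst hc
    have h3 : b₁.1 = b₂.1 := by
      have h4 := mul_left_cancel (mul_right_cancel h1)
      exact h4
    exact Prod.ext rfl (Subtype.ext h3)
  · rintro ⟨x, hxZ, g, hg⟩
    obtain ⟨n, hn⟩ := QuotientGroup.mk_out_eq_mul N g⁻¹
    set c : G ⧸ N := ((g⁻¹ : G) : G ⧸ N) with hc
    have hnN : (n : G) ∈ N := n.2
    have hnin : (n : G)⁻¹ ∈ N := N.inv_mem hnN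
    have hb' : (n : G)⁻¹ * (g * x * g⁻¹) * ((n : G)⁻¹)⁻¹ ∈ B := (Subgroup.mem_normalizer_iff.mp hnin _).mp hg
    have hbZ : (n : G)⁻¹ * (g * x * g⁻¹) * ((n : G)⁻¹)⁻¹ ∉ Subgroup.center G :=
      conj_notMem_center (conj_notMem_center hxZ)
    refine ⟨(c, ⟨_, hb', hbZ⟩), ?_⟩
    apply Subtype.ext
    show c.out * ((n : G)⁻¹ * (g * x * g⁻¹) * ((n : G)⁻¹)⁻¹) * c.out⁻¹ = x
    rw [hn]
    group

end Cfsg.Agent.H13.RT
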