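import Mathlib
import Cfsg.Agent.Lib.H13.RT8
import Cfsg.Agent.Lib.H01.Frobenius

/-!
Groups with three class sizes, the second case: the Frobenius step.
-/

set_option autoImplicit false
set_option linter.style.haveILetI false
set_option linter.unusedSectionVars false
set_option linter.unusedVariables false

namespace Cfsg.Agent.H13.RT

open Cfsg H19
open scoped Pointwise

universe u

variable {G : Type u} [Group G] [Finite G]

theorem ab_of_self {A : Subgroup G} (hA : ∀ a ∈ A, a ∉ Subgroup.center G → cz a = A) :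
    ∀ a₁ ∈ A, ∀ a₂ ∈ A, a₁ * a₂ = a₂ * a₁ := by
  intro a₁ h₁ a₂ h₂
  by_cases hZ : a₁ ∈ Subgroup.center G
  · exact (Subgroup.mem_center_iff.mp hZ a₂).symm
  · have : a₂ ∈ cz a₁ := by rw [hA a₁ h₁ hZ]; exact h₂
    exact (mem_cz.mp this).symm

/-- The final step: a self-normalizing `A`. -/
theorem ca_final {A B : Subgroup G} (hZA : Subgroup.center G ≤ A) (hZB : Subgroup.center G ≤ B)
    (hA : ∀ a ∈ A, a ∉ Subgroup.center G → cz a = A) (hB : ∀ b ∈ B, b ∉ Subgroup.center G → cz b = B)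
    (hcov : ∀ x : G, x ∉ Subgroup.center G → (∃ g : G, g * x * g⁻¹ ∈ A) ∨ (∃ g : G, g * x * g⁻¹ ∈ B))
    (hnc : ∀ b ∈ B, b ∉ Subgroup.center G → ∀ g : G, g * b * g⁻¹ ∉ A)
    (hN : Subgroup.normalizer (A : Set G) ≤ A) (ha : ∃ a ∈ A, a ∉ Subgroup.center G) (hAt : A ≠ ⊤) :
    Group.IsSolvable G := by
  classical
  set Z := Subgroup.center G with hZ
  set q : G →* G ⧸ Z := QuotientGroup.mk' Z with hq
  have hqs : Function.Surjective q := QuotientGroup.mk'_surjective Z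
  have hq1 : ∀ x : G, q x = 1 ↔ x ∈ Z := fun x => QuotientGroup.eq_one_iff x
  have hqeq : ∀ x y : G, q x = q y → ∃ z ∈ Z, x = y * z := by
    intro x y h
    refine ⟨y⁻¹ * x, ?_, by group⟩
    rw [← hq1, map_mul, map_inv, h]
    group
  have hZc : ∀ z ∈ Z, ∀ g : G, g * z = z * g := fun z hz g => Subgroup.mem_center_iff.mp hz g
  set Ab : Subgroup (G ⧸ Z) := A.map q with hAb
  have hconjmem : ∀ (g x : G) (S : Subgroup (G ⧸ Z)), q x ∈ MulAut.conj (q g) • S ↔ q (g⁻¹ * x * g) ∈ S := by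
    intro g x S
    rw [Subgroup.mem_pointwise_smul_iff_inv_smul_mem]
    have : (MulAut.conj (q g))⁻¹ • q x = q (g⁻¹ * x * g) := by
      rw [MulAut.smul_def, ← MulAut.conj_inv_apply]
      simp
    rw [this]
  have hmemAb : ∀ x : G, q x ∈ Ab ↔ x ∈ A := by
    intro x
    constructor
    · rintro ⟨a, ha, hax⟩
      obtain ⟨z, hz, hz'⟩ := hqeq x a hax.symm
      rw [hz']
      exact A.mul_mem ha (hZA hz)
    · intro hx
      exact ⟨x, hx, rfl⟩
  have hFrob : IsFrobeniusComplement Ab := by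
    refine ⟨?_, ?_, ?_⟩
    · obtain ⟨a, haA, haZ⟩ := ha
      intro h
      have h1 : q a ∈ Ab := (hmemAb a).mpr haA
      rw [h, Subgroup.mem_bot, hq1] at h1
      exact haZ h1
    · intro h
      apply hAt
      rw [eq_top_iff]
      intro x _
      rw [← hmemAb, h]
      trivial
    · intro g' hg'
      obtain ⟨g, rfl⟩ := hqs g'
      have hgA : g ∉ A := fun h => hg' ((hmemAb g).mpr h)
      rw [eq_bot_iff]
      rintro x' ⟨hx1, hx2⟩
      obtain ⟨x, rfl⟩ := hqs x'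
      have hxA : x ∈ A := (hmemAb x).mp hx1
      have hxA' : g⁻¹ * x * g ∈ A := (hmemAb _).mp ((hconjmem g x Ab).mp hx2)
      rw [Subgroup.mem_bot, hq1]
      by_contra hxZ
      apply hgA
      apply hN
      apply mem_normalizer_of_conj_le
      intro y hy
      have h1 : cz x = A := hA x hxA hxZ
      have h2 : g⁻¹ * x * g ∉ Z := by
        have := conj_notMem_center (g := g⁻¹) hxZ
        rwa [inv_inv] at this
      have h3 : cz (g⁻¹ * x * g) = A := hA _ hxA' h2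
      have h4 : y ∈ cz (g⁻¹ * x * g) := by rw [h3]; exact hy
      have h5 := conj_mem_cz_conj (g := g) h4
      have h6 : g * (g⁻¹ * x * g) * g⁻¹ = x := by group
      rw [h6, h1] at h5
      exact h5
  obtain ⟨Kb, hKb, hKbn, hcomp⟩ := H01.frobenius_theorem Ab hFrob
  set K : Subgroup G := Kb.comap q with hK
  haveI hKn : K.Normal := Subgroup.Normal.comap hKbn q
  have hZK : Z ≤ K := by
    intro z hz
    show q z ∈ Kb
    rw [(hq1 z).mpr hz]
    exact Kb.one_mem
  have hKmem : ∀ x : G, x ∉ Z → (x ∈ K ↔ ∀ g : G, g * x * g⁻¹ ∉ A) := by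
    intro x hxZ
    have h1 : x ∈ K ↔ q x ∈ (Kb : Set (G ⧸ Z)) := Iff.rfl
    rw [h1, hKb]
    constructor
    · rintro (h | h) g hg
      · exact hxZ ((hq1 x).mp h)
      · apply h (q g⁻¹)
        rw [hconjmem, inv_inv]
        exact (hmemAb _).mpr hg
    · intro h
      right
      intro g' hg'
      obtain ⟨g, rfl⟩ := hqs g'
      have h2 := (hmemAb _).mp ((hconjmem g x Ab).mp hg')
      have := h g⁻¹
      rw [inv_inv] at this
      exact this h2
  have hBK : B ≤ K := by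
    intro b hb
    by_cases hbZ : b ∈ Z
    · exact hZK hbZ
    · exact (hKmem b hbZ).mpr (hnc b hb hbZ)
  have hKcov : ∀ x ∈ K, x ∉ Z → ∃ g : G, g * x * g⁻¹ ∈ B := by
    intro x hx hxZ
    rcases hcov x hxZ with ⟨g, hg⟩ | h
    · exact absurd hg ((hKmem x hxZ).mp hx g)
    · exact h
  -- the count
  set N := Subgroup.normalizer (B : Set G) with hNdef
  have hcount := conj_count hB
  have hKcard := card_nc hZK
  have hBcard := card_nc hZB
  have hset : Nat.card {x : G // x ∈ K ∧ x ∉ Z} =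
      Nat.card {x : G // x ∉ Z ∧ ∃ g : G, g * x * g⁻¹ ∈ B} := by
    apply Nat.card_congr
    apply Equiv.subtypeEquivRight
    intro x
    constructor
    · rintro ⟨h1, h2⟩
      exact ⟨h2, hKcov x h1 h2⟩
    · rintro ⟨h1, g, hg⟩
      refine ⟨?_, h1⟩
      have h2 := hKn.conj_mem _ (hBK hg) g⁻¹
      have h3 : g⁻¹ * (g * x * g⁻¹) * g⁻¹⁻¹ = x := by group
      rwa [h3] at h2
  rw [hset, hcount] at hKcard
  set z := Nat.card Z with hzdef
  have hz0 : 0 < z := Nat.card_pos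
  have hcardrel : ∀ L : Subgroup G, Z ≤ L → Z.relIndex L * z = Nat.card L := by
    intro L hL
    have h1 := (Z.subgroupOf L).card_mul_index
    have h2 : Nat.card (Z.subgroupOf L) = z := Nat.card_congr (Subgroup.subgroupOfEquivOfLe hL).toEquiv
    rw [h2] at h1
    rw [mul_comm]
    exact h1
  have hKw := hcardrel K hZK
  have hBv := hcardrel B hZB
  set w := Z.relIndex K with hw
  set v := Z.relIndex B with hv
  set β := N.index with hβ
  set c := Nat.card {b : G // b ∈ B ∧ b ∉ Z} with hc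
  have hv0 : 0 < v := by
    apply Nat.pos_of_ne_zero
    intro h
    rw [h, zero_mul] at hBv
    exact Nat.card_pos.ne' hBv.symm
  obtain ⟨v', hv'⟩ : ∃ v', v = v' + 1 := ⟨v - 1, by omega⟩
  have hcv : c = v' * z := by
    rw [hv', add_mul, one_mul] at hBv
    omega
  have hwβ : w = β * v' + 1 := by
    have h1 : w * z = (β * v' + 1) * z := by
      rw [hKw, ← hKcard, hcv]
      ring
    exact Nat.eq_of_mul_eq_mul_right hz0 h1
  have hZN : Z ≤ N := fun x hx => Subgroup.le_normalizer (hZB hx)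
  have hd1 : N.relIndex K ∣ w := Subgroup.relIndex_dvd_of_le_left K hZN
  have hd2 : N.relIndex K ∣ β := relIndex_dvd_index_of_normal_right N K
  have hd3 : N.relIndex K = 1 := by
    have h1 : N.relIndex K ∣ 1 := by
      have h2 : N.relIndex K ∣ β * v' := hd2.trans (dvd_mul_right _ _)
      rw [hwβ] at hd1
      exact (Nat.dvd_add_right h2).mp hd1
    exact Nat.dvd_one.mp h1
  have hKN : K ≤ N := Subgroup.relIndex_eq_one.mp hd3
  have hconj : ∀ g x k : G, k ∈ K → g * x * g⁻¹ ∈ B → g * (k * x * k⁻¹) * g⁻¹ ∈ B := by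
    intro g x k hk hx
    have h1 : g * k * g⁻¹ ∈ K := hKn.conj_mem k hk g
    have h2 := (Subgroup.mem_normalizer_iff.mp (hKN h1) _).mp hx
    have h3 : g * k * g⁻¹ * (g * x * g⁻¹) * (g * k * g⁻¹)⁻¹ = g * (k * x * k⁻¹) * g⁻¹ := by group
    rwa [h3] at h2
  have hBab := ab_of_self hB
  have hinv : ∀ g x : G, g * x * g⁻¹ ∈ B → g * x⁻¹ * g⁻¹ ∈ B := by
    intro g x h
    have h1 := B.inv_mem h
    have h2 : (g * x * g⁻¹)⁻¹ = g * x⁻¹ * g⁻¹ := by group
    rwa [h2] at h1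
  have hcomm : ∀ x ∈ K, ∀ y ∈ K, x * y * x⁻¹ * y⁻¹ ∈ Z := by
    intro x hx y hy
    by_cases hxZ : x ∈ Z
    · have : x * y * x⁻¹ * y⁻¹ = 1 := by
        rw [(hZc x hxZ y).symm]
        group
      rw [this]
      exact Z.one_mem
    by_cases hyZ : y ∈ Z
    · have : x * y * x⁻¹ * y⁻¹ = 1 := by
        rw [hZc y hyZ x]
        group
      rw [this]
      exact Z.one_mem
    by_contra hcZ
    obtain ⟨g₁, hg₁⟩ := hKcov x hx hxZ
    obtain ⟨g₂, hg₂⟩ := hKcov y hy hyZ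
    set c' := x * y * x⁻¹ * y⁻¹ with hc'
    have h1 : g₁ * c' * g₁⁻¹ ∈ B := by
      have h2 := hconj g₁ x⁻¹ y hy (hinv g₁ x hg₁)
      have h3 := B.mul_mem hg₁ h2
      have h4 : g₁ * x * g₁⁻¹ * (g₁ * (y * x⁻¹ * y⁻¹) * g₁⁻¹) = g₁ * c' * g₁⁻¹ := by
        rw [hc']
        group
      rwa [h4] at h3
    have h2 : g₂ * c' * g₂⁻¹ ∈ B := by
      have h2 := hconj g₂ y x hx hg₂
      have h3 := B.mul_mem h2 (hinv g₂ y hg₂)
      have h4 : g₂ * (x * y * x⁻¹) * g₂⁻¹ * (g₂ * y⁻¹ * g₂⁻¹) = g₂ * c' * g₂⁻¹ := by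
        rw [hc']
        group
      rwa [h4] at h3
    have h3 : cz (g₁ * c' * g₁⁻¹) = B := hB _ h1 (conj_notMem_center hcZ)
    have h4 : cz (g₂ * c' * g₂⁻¹) = B := hB _ h2 (conj_notMem_center hcZ)
    have hyc : y ∈ cz c' := by
      have h5 : g₂ * y * g₂⁻¹ ∈ cz (g₂ * c' * g₂⁻¹) := by rw [h4]; exact hg₂
      rw [mem_cz_conj_iff] at h5
      have h6 : g₂⁻¹ * (g₂ * y * g₂⁻¹) * g₂ = y := by group
      rwa [h6] at h5
    have hg₁y : g₁ * y * g₁⁻¹ ∈ B := by
      rw [← h3]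
      exact conj_mem_cz_conj hyc
    have hxy : x * y = y * x := by
      have h5 := hBab _ hg₁ _ hg₁y
      have h6 : g₁ * (x * y) * g₁⁻¹ = g₁ * (y * x) * g₁⁻¹ := by
        calc g₁ * (x * y) * g₁⁻¹ = g₁ * x * g₁⁻¹ * (g₁ * y * g₁⁻¹) := by group
          _ = g₁ * y * g₁⁻¹ * (g₁ * x * g₁⁻¹) := h5
          _ = g₁ * (y * x) * g₁⁻¹ := by group
      exact mul_left_cancel (mul_right_cancel h6)
    apply hcZ
    have : c' = 1 := by
      rw [hc', hxy]
      group
    rw [this]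
    exact Z.one_mem
  -- the quotient by `K` is abelian
  have hAK : ∀ x : G, ∃ a ∈ A, QuotientGroup.mk' K x = QuotientGroup.mk' K a := by
    intro x
    obtain ⟨⟨k', a'⟩, hka⟩ := hcomp.2 (q x)
    obtain ⟨k, hk⟩ := hqs k'.1
    obtain ⟨a, ha⟩ := hqs a'.1
    have hkK : k ∈ K := by
      show q k ∈ Kb
      rw [hk]
      exact k'.2
    have haA : a ∈ A := by
      rw [← hmemAb, ha]
      exact a'.2
    have hka2 : q x = q (k * a) := by
      rw [map_mul, hk, ha]
      exact hka.symm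
    obtain ⟨z', hz', hxz⟩ := hqeq _ _ hka2
    refine ⟨a * z', A.mul_mem haA (hZA hz'), ?_⟩
    rw [QuotientGroup.mk'_apply, QuotientGroup.mk'_apply, QuotientGroup.eq]
    have h1 : x⁻¹ * (a * z') = (a * z')⁻¹ * k⁻¹ * ((a * z')⁻¹)⁻¹ := by
      rw [hxz]
      group
    rw [h1]
    exact hKn.conj_mem _ (K.inv_mem hkK) _
  have hAab := ab_of_self hA
  haveI hGK : Group.IsSolvable (G ⧸ K) := Group.isSolvable_of_comm (by
    intro x' y'
    obtain ⟨x, rfl⟩ := QuotientGroup.mk'_surjective K x'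
    obtain ⟨y, rfl⟩ := QuotientGroup.mk'_surjective K y'
    obtain ⟨a₁, h₁, e₁⟩ := hAK x
    obtain ⟨a₂, h₂, e₂⟩ := hAK y
    rw [e₁, e₂, ← map_mul, ← map_mul, hAab a₁ h₁ a₂ h₂])
  haveI hZKn : (Z.subgroupOf K).Normal := Subgroup.normal_subgroupOf
  haveI hZKs : Group.IsSolvable (Z.subgroupOf K) := Group.isSolvable_of_comm (by
    intro a b
    apply Subtype.ext
    apply Subtype.ext
    have hb : ((b : K) : G) ∈ Z := b.2
    exact hZc _ hb _)
  haveI hKKs : Group.IsSolvable (K ⧸ Z.subgroupOf K) := Group.isSolvable_of_comm (by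
    intro x' y'
    obtain ⟨x, rfl⟩ := QuotientGroup.mk'_surjective (Z.subgroupOf K) x'
    obtain ⟨y, rfl⟩ := QuotientGroup.mk'_surjective (Z.subgroupOf K) y'
    rw [← map_mul, ← map_mul, QuotientGroup.mk'_apply, QuotientGroup.mk'_apply, QuotientGroup.eq]
    show ((x * y)⁻¹ * (y * x) : K).1 ∈ Z
    have h1 := hcomm (y.1)⁻¹ (K.inv_mem y.2) (x.1)⁻¹ (K.inv_mem x.2)
    have h2 : (y.1)⁻¹ * (x.1)⁻¹ * (y.1)⁻¹⁻¹ * (x.1)⁻¹⁻¹ = ((x * y)⁻¹ * (y * x) : K).1 := by
      simp only [Subgroup.coe_mul, Subgroup.coe_inv]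
      group
    rwa [h2] at h1)
  haveI hKs : Group.IsSolvable K := by
    refine Group.isSolvable_of_ker_le_range (Z.subgroupOf K).subtype (QuotientGroup.mk' (Z.subgroupOf K)) ?_
    rw [QuotientGroup.ker_mk', Subgroup.range_subtype]
  refine Group.isSolvable_of_ker_le_range K.subtype (QuotientGroup.mk' K) ?_
  rw [QuotientGroup.ker_mk', Subgroup.range_subtype]

end Cfsg.Agent.H13.RT
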