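import Mathlib
import Cfsg.Agent.Lib.H13.RT9

/-!
Groups with three class sizes: the second case.
-/

set_option autoImplicit false
set_option linter.style.haveILetI false
set_option linter.unusedSectionVars false
set_option linter.unusedVariables false

namespace Cfsg.Agent.H13.RT

open Cfsg H19

universe u

variable {G : Type u} [Group G] [Finite G]

theorem nc_of_index {x : G} {m : ℕ} (hm : 1 < m) (h : (cz x).index = m) : x ∉ Subgroup.center G := by
  intro hZ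
  rw [cz_index_eq_one_iff.mpr hZ] at h
  omega

theorem card_cz_eq_of_index {x y : G} (h : (cz x).index = (cz y).index) : Nat.card (cz x) = Nat.card (cz y) := by
  have h1 := (cz x).card_mul_index
  have h2 := (cz y).card_mul_index
  rw [h] at h1
  exact Nat.eq_of_mul_eq_mul_right (Nat.pos_of_ne_zero Subgroup.FiniteIndex.index_ne_zero) (h1.trans h2.symm)

theorem coprime_big {r₀ : ℕ} (hr₀ : r₀.Prime) (hgt : Nat.card G + 1 ≤ r₀) (a : G) : (orderOf a).Coprime r₀ := by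
  refine ((Nat.Prime.coprime_iff_not_dvd hr₀).mpr ?_).symm
  intro hd
  have h1 := Nat.le_of_dvd (orderOf_pos a) hd
  have h2 := Nat.le_of_dvd Nat.card_pos (orderOf_dvd_natCard a)
  omega

theorem ca_case {m n : ℕ} (hm : 1 < m) (hmn : m < n) (hAnd : ¬ m ∣ n) (hcls : Cls m n G)
    (hCA : ∀ x : G, x ∉ Subgroup.center G → ∀ a ∈ cz x, a ∉ Subgroup.center G → cz a = cz x)
    {t₁ t₂ e₁ e₂ : ℕ} {y₁ y₂ : G} (ht₁ : t₁.Prime) (ht₂ : t₂.Prime) (ht : t₁ ≠ t₂) (hy₁ : orderOf y₁ = t₁ ^ e₁)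
    (hy₂ : orderOf y₂ = t₂ ^ e₂) (hy₁m : (cz y₁).index = m) (hy₂m : (cz y₂).index = m)
    {u₁ u₂ f₁ f₂ : ℕ} {w₁ w₂ : G} (hu₁ : u₁.Prime) (hu₂ : u₂.Prime) (hu : u₁ ≠ u₂) (hw₁ : orderOf w₁ = u₁ ^ f₁)
    (hw₂ : orderOf w₂ = u₂ ^ f₂) (hw₁n : (cz w₁).index = n) (hw₂n : (cz w₂).index = n) :
    Group.IsSolvable G := by
  classical
  have hn : 1 < n := by omega
  set Z := Subgroup.center G with hZ
  have hy₁Z : y₁ ∉ Z := nc_of_index hm hy₁m
  have hy₂Z : y₂ ∉ Z := nc_of_index hm hy₂m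
  have hw₁Z : w₁ ∉ Z := nc_of_index hn hw₁n
  have hw₂Z : w₂ ∉ Z := nc_of_index hn hw₂n
  set A := cz y₁ with hA
  set B := cz w₁ with hB
  have hAc : ∀ a ∈ A, a ∉ Z → cz a = A := hCA y₁ hy₁Z
  have hBc : ∀ a ∈ B, a ∉ Z → cz a = B := hCA w₁ hw₁Z
  obtain ⟨r₀, hr₀gt, hr₀⟩ := Nat.exists_infinite_primes (Nat.card G + 1)
  have hS : ∀ {C : Subgroup G}, (∀ a ∈ C, a ∉ Z → cz a = C) → Struct r₀ C := by
    intro C hC
    refine ⟨fun a ha _ b hb => ab_of_self hC a ha b hb, fun a ha _ haZ g hg => ?_⟩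
    rw [← hC a ha haZ]
    exact mem_cz.mpr hg
  have hnoteq : ∀ q : ℕ, q.Prime → q ∣ Nat.card G → q ≠ r₀ := by
    rintro q hq hd rfl
    have := Nat.le_of_dvd Nat.card_pos hd
    omega
  have hmG : m ∣ Nat.card G := hy₁m ▸ (cz y₁).index_dvd_card
  have hnG : n ∣ Nat.card G := hw₁n ▸ (cz w₁).index_dvd_card
  have hprime : ∀ (t e : ℕ) (v : G), t.Prime → orderOf v = t ^ e → v ∉ Z → t ∣ m ∨ t ∣ n := by
    intro t e v ht hv hvZ
    by_contra hcon
    push Not at hcon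
    apply hvZ
    apply central_of_forall_not_dvd ht _ hv
    intro g
    rcases hcls g with h | h | h
    · rw [h]
      exact fun hd => ht.ne_one (Nat.dvd_one.mp hd)
    · rw [h]
      exact hcon.1
    · rw [h]
      exact hcon.2
  -- two primes in a member give a contradiction
  have htwo : ∀ {C : Subgroup G} {c : ℕ} {q₁ q₂ e₁' e₂' : ℕ} {z₁ z₂ : G}, (∀ a ∈ C, a ∉ Z → cz a = C) → C.index = c →
      c ∣ Nat.card G → q₁.Prime → q₂.Prime → q₁ ≠ q₂ → q₁ ∣ c → q₂ ∣ c → z₁ ∈ C → orderOf z₁ = q₁ ^ e₁' → z₁ ∉ Z →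
      z₂ ∈ C → orderOf z₂ = q₂ ^ e₂' → z₂ ∉ Z → False := by
    intro C c q₁ q₂ e₁' e₂' z₁ z₂ hC hCi hcG hq₁ hq₂ hq hd₁ hd₂ hz₁C hz₁ hz₁Z hz₂C hz₂ hz₂Z
    haveI : Fact q₁.Prime := ⟨hq₁⟩
    haveI : Fact q₂.Prime := ⟨hq₂⟩
    obtain ⟨Q₁, hQ₁⟩ := exists_sylow_of_orderOf hz₁
    obtain ⟨Q₂, hQ₂⟩ := exists_sylow_of_orderOf hz₂
    refine two_prime hr₀ (hS hC) hq₁ hq₂ hq (hnoteq _ hq₁ (hd₁.trans hcG)) (hnoteq _ hq₂ (hd₂.trans hcG)) Q₁.isPGroup'
      Q₂.isPGroup' ?_ ?_ hQ₁ hz₁C hz₁Z hQ₂ hz₂C hz₂Z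
    · intro h
      exact Q₁.not_dvd_index ((hCi ▸ hd₁).trans (Subgroup.index_dvd_of_le h))
    · intro h
      exact Q₂.not_dvd_index ((hCi ▸ hd₂).trans (Subgroup.index_dvd_of_le h))
  have hT₂ : ∃ p : ℕ, p.Prime ∧ ¬ p ∣ m ∧ p ∣ n := by
    by_contra hcon
    push Not at hcon
    have hd : ∀ (t e : ℕ) (v : G), t.Prime → orderOf v = t ^ e → v ∉ Z → t ∣ m := by
      intro t e v ht hv hvZ
      rcases hprime t e v ht hv hvZ with h | h
      · exact h
      · by_contra h'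
        exact hcon t ht h' h
    obtain ⟨a, haA, haZ, f, hf⟩ := exists_nc_of_card_dvd ht₂ hy₂ hy₂Z A (by
      rw [card_cz_eq_of_index (hy₂m.trans hy₁m.symm)])
    exact htwo hAc hy₁m hmG ht₁ ht₂ ht (hd t₁ e₁ y₁ ht₁ hy₁ hy₁Z) (hd t₂ e₂ y₂ ht₂ hy₂ hy₂Z) (mem_cz.mpr rfl) hy₁ hy₁Z
      haA hf haZ
  have hT₁ : ∃ q : ℕ, q.Prime ∧ q ∣ m ∧ ¬ q ∣ n := by
    by_contra hcon
    push Not at hcon
    have hd : ∀ (t e : ℕ) (v : G), t.Prime → orderOf v = t ^ e → v ∉ Z → t ∣ n := by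
      intro t e v ht hv hvZ
      rcases hprime t e v ht hv hvZ with h | h
      · exact hcon t ht h
      · exact h
    obtain ⟨a, haA, haZ, f, hf⟩ := exists_nc_of_card_dvd hu₂ hw₂ hw₂Z B (by
      rw [card_cz_eq_of_index (hw₂n.trans hw₁n.symm)])
    exact htwo hBc hw₁n hnG hu₁ hu₂ hu (hd u₁ f₁ w₁ hu₁ hw₁ hw₁Z) (hd u₂ f₂ w₂ hu₂ hw₂ hw₂Z) (mem_cz.mpr rfl) hw₁ hw₁Z
      haA hf haZ
  obtain ⟨p, hp, hpm, hpn⟩ := hT₂
  obtain ⟨q, hq, hqm, hqn⟩ := hT₁
  haveI : Fact p.Prime := ⟨hp⟩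
  haveI : Fact q.Prime := ⟨hq⟩
  -- conjugacy of the members
  have hmembers : ∀ {C : Subgroup G} {c t : ℕ} [Fact t.Prime] {v : G} (j : ℕ), (∀ a ∈ C, a ∉ Z → cz a = C) → C.index = c →
      ¬ t ∣ c → orderOf v = t ^ j → v ∉ Z → ∀ x : G, x ∉ Z → (cz x).index = c → ∃ g : G, g * x * g⁻¹ ∈ C := by
    intro C c t _ v j hC hCi htc hv hvZ x hxZ hxc
    obtain ⟨h, hh⟩ := exists_conj_mem_of_not_dvd (D := cz x) (t := t) (by rw [hxc]; exact htc) hv
    obtain ⟨g, hg⟩ := exists_conj_mem_of_not_dvd (D := C) (t := t) (by rw [hCi]; exact htc) hv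
    have h1 : cz (h * v * h⁻¹) = cz x := hCA x hxZ _ hh (conj_notMem_center hvZ)
    have h2 : cz (g * v * g⁻¹) = C := hC _ hg (conj_notMem_center hvZ)
    refine ⟨g * h⁻¹, ?_⟩
    have h3 : x ∈ cz (h * v * h⁻¹) := by rw [h1]; exact mem_cz.mpr rfl
    have h4 := conj_mem_cz_conj (g := g * h⁻¹) h3
    have h5 : (g * h⁻¹) * (h * v * h⁻¹) * (g * h⁻¹)⁻¹ = g * v * g⁻¹ := by group
    rw [h5, h2] at h4
    exact h4
  obtain ⟨a₀, i₀, ha₀, ha₀B⟩ := exists_nc_elt (t := p) (D := B) (by rw [hw₁n]; exact hpn)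
  have ha₀Z : a₀ ∉ Z := fun h => ha₀B (center_le_cz w₁ h)
  obtain ⟨b₀, j₀, hb₀, hb₀A⟩ := exists_nc_elt (t := q) (D := A) (by rw [hy₁m]; exact hqm)
  have hb₀Z : b₀ ∉ Z := fun h => hb₀A (center_le_cz y₁ h)
  have hconjA := hmembers i₀ hAc hy₁m hpm ha₀ ha₀Z
  have hconjB := hmembers j₀ hBc hw₁n hqn hb₀ hb₀Z
  have hcov : ∀ x : G, x ∉ Z → (∃ g : G, g * x * g⁻¹ ∈ A) ∨ (∃ g : G, g * x * g⁻¹ ∈ B) := by
    intro x hx
    rcases hcls x with h | h | h
    · exact absurd (cz_index_eq_one_iff.mp h) hx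
    · exact Or.inl (hconjA x hx h)
    · exact Or.inr (hconjB x hx h)
  have hcov' : ∀ x : G, x ∉ Z → (∃ g : G, g * x * g⁻¹ ∈ B) ∨ (∃ g : G, g * x * g⁻¹ ∈ A) :=
    fun x hx => (hcov x hx).symm
  have hnc : ∀ b ∈ B, b ∉ Z → ∀ g : G, g * b * g⁻¹ ∉ A := by
    intro b hb hbZ g hg
    have h1 := hAc _ hg (conj_notMem_center hbZ)
    have h2 : (cz b).index = m := by
      rw [← index_cz_conj g b, h1]
      exact hy₁m
    rw [hBc b hb hbZ, hw₁n] at h2
    omega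
  have hnc' : ∀ a ∈ A, a ∉ Z → ∀ g : G, g * a * g⁻¹ ∉ B := by
    intro a ha haZ g hg
    have h1 := hBc _ hg (conj_notMem_center haZ)
    have h2 : (cz a).index = n := by
      rw [← index_cz_conj g a, h1]
      exact hw₁n
    rw [hAc a ha haZ, hy₁m] at h2
    omega
  have hAtop : A ≠ ⊤ := by
    intro h
    exact hy₁Z (mem_center_of_cz_eq_top h)
  have hBtop : B ≠ ⊤ := by
    intro h
    exact hw₁Z (mem_center_of_cz_eq_top h)
  have hZA : Z ≤ A := center_le_cz y₁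
  have hZB : Z ≤ B := center_le_cz w₁
  by_cases hNA : Subgroup.normalizer (A : Set G) ≤ A
  · exact ca_final hZA hZB hAc hBc hcov hnc hNA ⟨y₁, mem_cz.mpr rfl, hy₁Z⟩ hAtop
  by_cases hNB : Subgroup.normalizer (B : Set G) ≤ B
  · exact ca_final hZB hZA hBc hAc hcov' hnc' hNB ⟨w₁, mem_cz.mpr rfl, hw₁Z⟩ hBtop
  exfalso
  haveI := Fintype.ofFinite G
  have hcover : Nat.card G ≤ Nat.card Z + Nat.card {x : G // x ∉ Z ∧ ∃ g : G, g * x * g⁻¹ ∈ A} +
      Nat.card {x : G // x ∉ Z ∧ ∃ g : G, g * x * g⁻¹ ∈ B} := by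
    have h1 : (Finset.univ : Finset G) ⊆ (Finset.univ.filter (fun x : G => x ∈ Z)) ∪
        (Finset.univ.filter (fun x : G => x ∉ Z ∧ ∃ g : G, g * x * g⁻¹ ∈ A)) ∪
        (Finset.univ.filter (fun x : G => x ∉ Z ∧ ∃ g : G, g * x * g⁻¹ ∈ B)) := by
      intro x _
      simp only [Finset.mem_union, Finset.mem_filter, Finset.mem_univ, true_and]
      by_cases hx : x ∈ Z
      · exact Or.inl (Or.inl hx)
      · rcases hcov x hx with h | h
        · exact Or.inl (Or.inr ⟨hx, h⟩)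
        · exact Or.inr ⟨hx, h⟩
    have h2 := Finset.card_le_card h1
    have h3 := Finset.card_union_le ((Finset.univ.filter (fun x : G => x ∈ Z)) ∪
        (Finset.univ.filter (fun x : G => x ∉ Z ∧ ∃ g : G, g * x * g⁻¹ ∈ A)))
        (Finset.univ.filter (fun x : G => x ∉ Z ∧ ∃ g : G, g * x * g⁻¹ ∈ B))
    have h4 := Finset.card_union_le (Finset.univ.filter (fun x : G => x ∈ Z))
        (Finset.univ.filter (fun x : G => x ∉ Z ∧ ∃ g : G, g * x * g⁻¹ ∈ A))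
    rw [card_filter_eq] at h3
    rw [card_filter_eq, card_filter_eq] at h4
    rw [Finset.card_univ, ← Nat.card_eq_fintype_card] at h2
    have h5 : Nat.card {g : G // g ∈ Z} = Nat.card Z := rfl
    omega
  have hcA := conj_count hAc
  have hcB := conj_count hBc
  have hnA := card_nc hZA
  have hnB := card_nc hZB
  have hidx : ∀ (C : Subgroup G) (c : ℕ), C.index = c → 0 < c → ¬ Subgroup.normalizer (C : Set G) ≤ C →
      2 * (Subgroup.normalizer (C : Set G)).index ≤ c := by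
    intro C c hC hc hN
    have h1 := Subgroup.relIndex_mul_index (Subgroup.le_normalizer : C ≤ Subgroup.normalizer (C : Set G))
    rw [hC] at h1
    have h2 : C.relIndex (Subgroup.normalizer (C : Set G)) ≠ 1 := fun h => hN (Subgroup.relIndex_eq_one.mp h)
    have h3 : C.relIndex (Subgroup.normalizer (C : Set G)) ≠ 0 := by
      intro h
      rw [h, zero_mul] at h1
      omega
    have h4 : 2 ≤ C.relIndex (Subgroup.normalizer (C : Set G)) := by omega
    rw [← h1]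
    exact Nat.mul_le_mul_right _ h4
  have h2α := hidx A m hy₁m (by omega) hNA
  have h2β := hidx B n hw₁n (by omega) hNB
  have hcardA := A.card_mul_index
  have hcardB := B.card_mul_index
  rw [hy₁m] at hcardA
  rw [hw₁n] at hcardB
  set α := (Subgroup.normalizer (A : Set G)).index with hα
  set β := (Subgroup.normalizer (B : Set G)).index with hβ
  set cA := Nat.card {b : G // b ∈ A ∧ b ∉ Z} with hcAdef
  set cB := Nat.card {b : G // b ∈ B ∧ b ∉ Z} with hcBdef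
  set z := Nat.card Z with hz
  have hz0 : 0 < z := Nat.card_pos
  rw [hcA, hcB] at hcover
  have k1 : 2 * (α * cA) ≤ m * cA := by
    rw [← mul_assoc]
    exact Nat.mul_le_mul_right _ h2α
  have k2 : 2 * (β * cB) ≤ n * cB := by
    rw [← mul_assoc]
    exact Nat.mul_le_mul_right _ h2β
  have k3 : m * cA + m * z = Nat.card G := by
    rw [← mul_add, hnA, mul_comm]
    exact hcardA
  have k4 : n * cB + n * z = Nat.card G := by
    rw [← mul_add, hnB, mul_comm]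
    exact hcardB
  have k5 : 2 * z ≤ m * z := Nat.mul_le_mul_right _ (by omega)
  have k6 : 2 * z ≤ n * z := Nat.mul_le_mul_right _ (by omega)
  omega

/-- The case where the smaller class size does not divide the larger one. -/
theorem case_A {m n : ℕ} (hm : 1 < m) (hmn : m < n) (hAnd : ¬ m ∣ n) (hcls : Cls m n G)
    (hexm : ∃ x : G, (cz x).index = m) (hexn : ∃ x : G, (cz x).index = n) : Group.IsSolvable G := by
  classical
  have hn : 1 < n := by omega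
  have hndm : ¬ n ∣ m := fun h => by
    have := Nat.le_of_dvd (by omega) h
    omega
  by_cases h1 : ∃ r : ℕ, r.Prime ∧ ∀ (t e : ℕ) (y : G), t.Prime → orderOf y = t ^ e → (cz y).index = m → t = r
  · obtain ⟨r, hr, hrr⟩ := h1
    apply sol_of_cl hr (k := n)
    intro x hxr
    by_cases hxZ : x ∈ Subgroup.center G
    · left
      exact cz_index_eq_one_iff.mpr hxZ
    right
    obtain ⟨t, e, x', ht, hx', hxz, hx'Z⟩ := exists_pp_part x hxZ
    have htr : t ≠ r := by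
      rintro rfl
      exact not_pp_part hr hxr hxz hx' hx'Z
    have hx'n : (cz x').index = n := by
      rcases hcls x' with h | h | h
      · exact absurd (cz_index_eq_one_iff.mp h) hx'Z
      · exact absurd (hrr t e x' ht hx' h) htr
      · exact h
    have hd := index_dvd_of_mem_zpowers hxz
    rw [hx'n] at hd
    rcases hcls x with h | h | h
    · exact absurd (cz_index_eq_one_iff.mp h) hxZ
    · rw [h] at hd
      exact absurd hd hndm
    · exact h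
  by_cases h2 : ∃ r : ℕ, r.Prime ∧ ∀ (t e : ℕ) (y : G), t.Prime → orderOf y = t ^ e → (cz y).index = n → t = r
  · obtain ⟨r, hr, hrr⟩ := h2
    apply sol_of_cl hr (k := m)
    intro x hxr
    by_cases hxZ : x ∈ Subgroup.center G
    · left
      exact cz_index_eq_one_iff.mpr hxZ
    right
    obtain ⟨t, e, x', ht, hx', hxz, hx'Z⟩ := exists_pp_part x hxZ
    have htr : t ≠ r := by
      rintro rfl
      exact not_pp_part hr hxr hxz hx' hx'Z
    have hx'n : (cz x').index = m := by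
      rcases hcls x' with h | h | h
      · exact absurd (cz_index_eq_one_iff.mp h) hx'Z
      · exact h
      · exact absurd (hrr t e x' ht hx' h) htr
    have hd := index_dvd_of_mem_zpowers hxz
    rw [hx'n] at hd
    rcases hcls x with h | h | h
    · exact absurd (cz_index_eq_one_iff.mp h) hxZ
    · exact h
    · rw [h] at hd
      exact absurd hd hAnd
  push Not at h1 h2
  obtain ⟨t₁, e₁, y₁, ht₁, hy₁, hy₁m, -⟩ := h1 2 Nat.prime_two
  obtain ⟨t₂, e₂, y₂, ht₂, hy₂, hy₂m, h12⟩ := h1 t₁ ht₁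
  obtain ⟨u₁, f₁, w₁, hu₁, hw₁, hw₁n, -⟩ := h2 2 Nat.prime_two
  obtain ⟨u₂, f₂, w₂, hu₂, hw₂, hw₂n, h12'⟩ := h2 u₁ hu₁
  obtain ⟨r₀, hr₀gt, hr₀⟩ := Nat.exists_infinite_primes (Nat.card G + 1)
  have hy₁Z := nc_of_index hm hy₁m
  have hy₂Z := nc_of_index hm hy₂m
  have hw₁Z := nc_of_index hn hw₁n
  have hw₂Z := nc_of_index hn hw₂n
  have hCA : ∀ x : G, x ∉ Subgroup.center G → ∀ a ∈ cz x, a ∉ Subgroup.center G → cz a = cz x := by
    intro x hxZ
    obtain ⟨t, e, x', ht, hx', hxz, hx'Z⟩ := exists_pp_part x hxZ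
    have hother : ∃ (s f : ℕ) (a₀ : G), s.Prime ∧ t ≠ s ∧ orderOf a₀ = s ^ f ∧ a₀ ∉ Subgroup.center G ∧ a₀ ∈ cz x' := by
      rcases hcls x' with h | h | h
      · exact absurd (cz_index_eq_one_iff.mp h) hx'Z
      · by_cases htt : t = t₁
        · obtain ⟨a, ha, haZ, f, hf⟩ := exists_nc_of_card_dvd ht₂ hy₂ hy₂Z (cz x') (by
            rw [card_cz_eq_of_index (hy₂m.trans h.symm)])
          exact ⟨t₂, f, a, ht₂, fun h => h12 (h ▸ htt), hf, haZ, ha⟩
        · obtain ⟨a, ha, haZ, f, hf⟩ := exists_nc_of_card_dvd ht₁ hy₁ hy₁Z (cz x') (by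
            rw [card_cz_eq_of_index (hy₁m.trans h.symm)])
          exact ⟨t₁, f, a, ht₁, htt, hf, haZ, ha⟩
      · by_cases htt : t = u₁
        · obtain ⟨a, ha, haZ, f, hf⟩ := exists_nc_of_card_dvd hu₂ hw₂ hw₂Z (cz x') (by
            rw [card_cz_eq_of_index (hw₂n.trans h.symm)])
          exact ⟨u₂, f, a, hu₂, fun h => h12' (h ▸ htt), hf, haZ, ha⟩
        · obtain ⟨a, ha, haZ, f, hf⟩ := exists_nc_of_card_dvd hu₁ hw₁ hw₁Z (cz x') (by
            rw [card_cz_eq_of_index (hw₁n.trans h.symm)])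
          exact ⟨u₁, f, a, hu₁, htt, hf, haZ, ha⟩
    obtain ⟨s, f, a₀, hs, hts, ha₀, ha₀Z, ha₀m⟩ := hother
    have hSt : Struct r₀ (cz x') := mkStruct' (fun x v hx hv hc hco => comm_eq_A hcls hm hmn hAnd hx hv hc hco)
      ht hs hts hx' ha₀ hx'Z ha₀Z ha₀m
    have hS2 : ∀ a ∈ cz x', a ∉ Subgroup.center G → cz a = cz x' := by
      intro a ha haZ
      apply le_antisymm
      · intro g hg
        exact hSt.cz a ha (coprime_big hr₀ hr₀gt a) haZ g (mem_cz.mp hg)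
      · intro g hg
        exact mem_cz.mpr (hSt.central a ha (coprime_big hr₀ hr₀gt a) g hg).symm
    have hxm : x ∈ cz x' := cz_le_cz_of_mem_zpowers hxz (mem_cz.mpr rfl)
    have h3 := hS2 x hxm hxZ
    intro a ha haZ
    rw [h3] at ha ⊢
    exact hS2 a ha haZ
  exact ca_case hm hmn hAnd hcls hCA ht₁ ht₂ h12.symm hy₁ hy₂ hy₁m hy₂m hu₁ hu₂ h12'.symm hw₁ hw₂ hw₁n hw₂n

/-- Itô's theorem on three class sizes. -/
theorem three_class_sizes {m n : ℕ} (hm : 1 < m) (hmn : m < n) (hcls : Cls m n G)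
    (hexm : ∃ x : G, (cz x).index = m) (hexn : ∃ x : G, (cz x).index = n) : Group.IsSolvable G := by
  by_cases hd : m ∣ n
  · obtain ⟨k, rfl⟩ := hd
    have hk : 1 < k := by
      by_contra h
      have h0 : k = 0 ∨ k = 1 := by omega
      rcases h0 with rfl | rfl <;> omega
    exact case_B hm hk hcls
  · exact case_A hm hmn hd hcls hexm hexn

end Cfsg.Agent.H13.RT
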