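import Mathlib
import Cfsg.Agent.Lib.H13.FrobFusion
import Cfsg.Agent.Lib.H01.NormalComp
import Cfsg.Agent.Lib.H09.ThCore
import Cfsg.Agent.Lib.H19.Sp2
import Cfsg.Agent.Lib.H13.RT2

/-!
Groups in which every proper subgroup mixing `q` with another prime has order divisible by `p`:
orbit lemmas and the Frobenius step.
-/

set_option autoImplicit false
set_option linter.unusedSectionVars false
set_option linter.unusedVariables false

namespace Cfsg.Agent.H13.TP

open Cfsg

universe u
variable {G : Type u} [Group G] [Finite G]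

theorem iterate_conj (x a : G) (n : ℕ) :
    (fun b => x * b * x⁻¹)^[n] a = x ^ n * a * (x ^ n)⁻¹ := by
  induction n with
  | zero => simp
  | succ n ih =>
    rw [Function.iterate_succ_apply', ih, pow_succ']
    group

theorem conj_fix_of_card_lt {p k : ℕ} (hp : p.Prime) {x : G} (hx : orderOf x = p ^ k) (S : Set G)
    (hS : ∀ a ∈ S, x * a * x⁻¹ ∈ S) (hcard : S.ncard < p) {a : G} (ha : a ∈ S) :
    x * a * x⁻¹ = a := by
  classical
  set f : G → G := fun b => x * b * x⁻¹ with hf
  have hper : f^[p ^ k] a = a := by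
    rw [iterate_conj, ← hx, pow_orderOf_eq_one]; simp
  have hdvd : Function.minimalPeriod f a ∣ p ^ k := Function.IsPeriodicPt.minimalPeriod_dvd hper
  obtain ⟨j, -, hj⟩ := (Nat.dvd_prime_pow hp).mp hdvd
  rcases Nat.eq_zero_or_pos j with rfl | hjpos
  · have h1 : Function.minimalPeriod f a = 1 := by simpa using hj
    exact Function.minimalPeriod_eq_one_iff_isFixedPt.mp h1
  · exfalso
    have hge : p ≤ Function.minimalPeriod f a := by
      rw [hj]; exact Nat.le_self_pow hjpos.ne' p
    have hinj : Set.InjOn (fun i => f^[i] a) (Set.Iio (Function.minimalPeriod f a)) :=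
      Function.iterate_injOn_Iio_minimalPeriod
    have hmem : ∀ i, f^[i] a ∈ S := by
      intro i
      induction i with
      | zero => exact ha
      | succ n ih => rw [Function.iterate_succ_apply']; exact hS _ ih
    have hfin : S.Finite := Set.toFinite S
    have h3 : p ≤ S.ncard := by
      rw [Set.ncard_eq_toFinset_card _ hfin]
      have h2 : (Finset.range p).card ≤ hfin.toFinset.card := by
        apply Finset.card_le_card_of_injOn (fun i => f^[i] a)
        · intro i _; simp [hmem i]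
        · intro i hi j hj hij
          exact hinj (lt_of_lt_of_le (Finset.mem_range.mp hi) hge)
            (lt_of_lt_of_le (Finset.mem_range.mp hj) hge) hij
      simpa using h2
    omega

/-- `Star p q G`: subgroups of order prime to `p` and divisible by `q` are `q`-groups. -/
def Star (p q : ℕ) (G : Type u) [Group G] : Prop :=
  ∀ H : Subgroup G, ¬ p ∣ Nat.card H → q ∣ Nat.card H → IsPGroup q H

theorem card_sup_dvd {X Y : Subgroup G} (hY : Y ≤ Subgroup.normalizer (X : Set G)) :
    Nat.card (X ⊔ Y : Subgroup G) ∣ Nat.card X * Nat.card Y :=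
  Dvd.intro _ (Cfsg.Agent.H09.card_sup_mul_inf_of_normalizer hY)

theorem star_eq_one {p q : ℕ} (hp : p.Prime) (hq : q.Prime) (hpq : p ≠ q) (hs : Star p q G)
    {T : Subgroup G} (hT : IsPGroup q T) (hT1 : T ≠ ⊥) {z : G}
    (hz : z ∈ Subgroup.normalizer (T : Set G)) (hzp : (orderOf z).Coprime p)
    (hzq : (orderOf z).Coprime q) : z = 1 := by
  haveI : Fact q.Prime := ⟨hq⟩
  have hzN : Subgroup.zpowers z ≤ Subgroup.normalizer (T : Set G) := by
    rw [Subgroup.zpowers_le]; exact hz
  have hd := card_sup_dvd hzN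
  obtain ⟨n, hn⟩ := IsPGroup.iff_card.mp hT
  have h1 : ¬ p ∣ Nat.card (T ⊔ Subgroup.zpowers z : Subgroup G) := by
    intro h
    have h2 := h.trans hd
    rw [Nat.card_zpowers] at h2
    rcases (Nat.Prime.dvd_mul hp).mp h2 with h3 | h3
    · rw [hn] at h3
      exact hpq ((Nat.prime_dvd_prime_iff_eq hp hq).mp (hp.dvd_of_dvd_pow h3))
    · exact (Nat.Prime.coprime_iff_not_dvd hp).mp hzp.symm h3
  have h2 : q ∣ Nat.card (T ⊔ Subgroup.zpowers z : Subgroup G) := by
    have h3 : Nat.card T ∣ Nat.card (T ⊔ Subgroup.zpowers z : Subgroup G) :=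
      Subgroup.card_dvd_of_le le_sup_left
    refine dvd_trans ?_ h3
    rw [hn]
    rcases Nat.eq_zero_or_pos n with rfl | h
    · exfalso
      apply hT1
      rw [← Subgroup.card_eq_one]
      simpa using hn
    · exact dvd_pow_self q h.ne'
  have h3 := hs _ h1 h2
  obtain ⟨k, hk⟩ := RT.elt_of_pgroup hq h3 (Subgroup.mem_sup_right (Subgroup.mem_zpowers z))
  have h4 : orderOf z = 1 := by
    rw [hk] at hzq ⊢
    rcases Nat.eq_zero_or_pos k with rfl | hpos
    · simp
    · exfalso
      have h5 := (Nat.coprime_pow_left_iff hpos q q).mp hzq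
      have h6 := hq.one_lt
      simp at h5
      omega
  exact orderOf_eq_one_iff.mp h4

theorem pelt_of_norm {p q : ℕ} (hp : p.Prime) (hq : q.Prime) (hpq : p ≠ q) (hs : Star p q G)
    {T : Subgroup G} (hT : IsPGroup q T) (hT1 : T ≠ ⊥) {g : G}
    (hg : g ∈ Subgroup.normalizer (T : Set G)) (hgq : (orderOf g).Coprime q) :
    ∃ k, orderOf g = p ^ k := by
  have ho : orderOf g ≠ 0 := (orderOf_pos g).ne'
  obtain ⟨a, m, hm, hom⟩ := Nat.exists_eq_pow_mul_and_not_dvd ho p hp.ne_one
  have h1 : orderOf (g ^ p ^ a) = m := by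
    rw [orderOf_pow_of_dvd (pow_ne_zero _ hp.ne_zero) ⟨m, hom⟩, hom]
    exact Nat.mul_div_cancel_left _ (pow_pos hp.pos _)
  have h2 : g ^ p ^ a = 1 := by
    apply star_eq_one hp hq hpq hs hT hT1 (pow_mem hg _)
    · rw [h1]; exact ((Nat.Prime.coprime_iff_not_dvd hp).mpr hm).symm
    · rw [h1]
      exact Nat.Coprime.coprime_dvd_left ⟨p ^ a, by rw [hom, mul_comm]⟩ hgq
  have h3 : m = 1 := by rw [← h1, h2]; exact orderOf_one
  exact ⟨a, by rw [hom, h3, mul_one]⟩

theorem star_no_r {p q r : ℕ} (hp : p.Prime) (hq : q.Prime) (hr : r.Prime) (hpq : p ≠ q)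
    (hrp : r ≠ p) (hrq : r ≠ q) (hs : Star p q G) {R : Subgroup G} (hR : IsPGroup r R)
    (hR1 : R ≠ ⊥) {τ : G} (hτ : orderOf τ = q) (hτN : τ ∈ Subgroup.normalizer (R : Set G)) :
    False := by
  haveI : Fact r.Prime := ⟨hr⟩
  have hzN : Subgroup.zpowers τ ≤ Subgroup.normalizer (R : Set G) := by
    rw [Subgroup.zpowers_le]; exact hτN
  have hd := card_sup_dvd hzN
  obtain ⟨n, hn⟩ := IsPGroup.iff_card.mp hR
  have h1 : ¬ p ∣ Nat.card (R ⊔ Subgroup.zpowers τ : Subgroup G) := by
    intro h
    have h2 := h.trans hd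
    rw [Nat.card_zpowers, hτ, hn] at h2
    rcases (Nat.Prime.dvd_mul hp).mp h2 with h3 | h3
    · exact hrp ((Nat.prime_dvd_prime_iff_eq hp hr).mp (hp.dvd_of_dvd_pow h3)).symm
    · exact hpq ((Nat.prime_dvd_prime_iff_eq hp hq).mp h3)
  have h2 : q ∣ Nat.card (R ⊔ Subgroup.zpowers τ : Subgroup G) := by
    have h3 : Nat.card (Subgroup.zpowers τ) ∣ Nat.card (R ⊔ Subgroup.zpowers τ : Subgroup G) :=
      Subgroup.card_dvd_of_le le_sup_right
    rwa [Nat.card_zpowers, hτ] at h3
  have h3 := hs _ h1 h2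
  have h4 : r ∣ Nat.card R := by
    rw [hn]
    rcases Nat.eq_zero_or_pos n with rfl | h
    · exfalso
      apply hR1
      rw [← Subgroup.card_eq_one]
      simpa using hn
    · exact dvd_pow_self r h.ne'
  obtain ⟨x, hx⟩ := exists_prime_orderOf_dvd_card' (G := R) r h4
  obtain ⟨k, hk⟩ := RT.elt_of_pgroup hq h3 (Subgroup.mem_sup_left x.2)
  have h5 : r ∣ q ^ k := by
    rw [← hk, Subgroup.orderOf_coe, hx]
  exact hrq ((Nat.prime_dvd_prime_iff_eq hr hq).mp (hr.dvd_of_dvd_pow h5))

/-- The Frobenius step: if every `p`-element normalizing a `q`-subgroup centralizes it, then only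
`p` and `q` divide the order. -/
theorem conclusion_of_central {p q : ℕ} (hp : p.Prime) (hq : q.Prime) (hpq : p ≠ q)
    (hs : Star p q G) (hqG : q ∣ Nat.card G)
    (hc : ∀ T : Subgroup G, IsPGroup q T → ∀ x ∈ Subgroup.normalizer (T : Set G),
      (∃ k, orderOf x = p ^ k) → x ∈ Subgroup.centralizer (T : Set G))
    (r : ℕ) (hr : r.Prime) (hrG : r ∣ Nat.card G) : r = p ∨ r = q := by
  classical
  haveI : Fact q.Prime := ⟨hq⟩
  haveI : Fact r.Prime := ⟨hr⟩
  by_contra hcon
  push Not at hcon
  obtain ⟨hrp, hrq⟩ := hcon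
  have hF : FrobCond q G := by
    intro T hT g hg hgc
    by_cases hT1 : T = ⊥
    · subst hT1
      rw [Subgroup.mem_centralizer_iff]
      intro h hh
      have : h = 1 := by simpa using hh
      simp [this]
    · exact hc T hT g hg (pelt_of_norm hp hq hpq hs hT hT1 hg hgc)
  obtain ⟨Q, N, hN, hcN⟩ := hasNormalPComplement_of_frobCond hF
  have hqN : ¬ q ∣ Nat.card N := Cfsg.Agent.H01.not_dvd_card_of_complement Q hcN
  have hmul := hcN.card_mul
  have hrN : r ∣ Nat.card N := by
    rw [← hmul] at hrG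
    rcases (Nat.Prime.dvd_mul hr).mp hrG with h | h
    · exact h
    · exfalso
      obtain ⟨n, hn⟩ := IsPGroup.iff_card.mp Q.2
      rw [hn] at h
      exact hrq ((Nat.prime_dvd_prime_iff_eq hr hq).mp (hr.dvd_of_dvd_pow h))
  let T : Sylow r N := default
  set R : Subgroup G := (T : Subgroup N).map N.subtype with hR
  have hRp : IsPGroup r R := T.2.map _
  have hR1 : R ≠ ⊥ := by
    intro h
    have h1 : Nat.card (T : Subgroup N) = 1 := by
      have h2 : (T : Subgroup N) = ⊥ := by
        rw [eq_bot_iff]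
        intro x hx
        have h3 : (x : G) ∈ R := ⟨x, hx, rfl⟩
        rw [h] at h3
        have h4 : (x : G) = 1 := by simpa using h3
        simpa using Subtype.ext h4
      rw [h2]; simp
    have h2 : ¬ r ∣ T.index := T.not_dvd_index
    have h3 := (T : Subgroup N).card_mul_index
    rw [h1, one_mul] at h3
    exact h2 (h3 ▸ hrN)
  have hfr : (Subgroup.normalizer (R : Set G)) ⊔ N = ⊤ := by
    have := Sylow.normalizer_sup_eq_top T
    exact this
  have hqNR : q ∣ Nat.card (Subgroup.normalizer (R : Set G)) := by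
    have h1 : Subgroup.normalizer (R : Set G) ≤ Subgroup.normalizer (N : Set G) := by
      intro x _
      rw [Subgroup.mem_normalizer_iff]
      intro n
      constructor
      · intro h; exact hN.conj_mem _ h _
      · intro h
        have := hN.conj_mem _ h x⁻¹
        simpa [mul_assoc] using this
    have h2 := card_sup_dvd h1
    have h3 : (N ⊔ Subgroup.normalizer (R : Set G) : Subgroup G) = ⊤ := by
      rw [sup_comm]; exact hfr
    rw [h3, Subgroup.card_top] at h2
    rcases (Nat.Prime.dvd_mul hq).mp (hqG.trans h2) with h | h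
    · exact absurd h hqN
    · exact h
  obtain ⟨τ, hτ⟩ := exists_prime_orderOf_dvd_card' (G := Subgroup.normalizer (R : Set G)) q hqNR
  exact star_no_r hp hq hr hpq hrp hrq hs hRp hR1 (τ := (τ : G))
    (by rw [Subgroup.orderOf_coe, hτ]) τ.2

end Cfsg.Agent.H13.TP
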