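import Cfsg.Agent.Lib.H13.TP1

/-!
The exceptional configuration: an elementary abelian Sylow 2-subgroup `Q` of order `p + 1`, with a
`p`-element `y` acting nontrivially; abelian Sylow `p`-subgroups; subgroups of even order prime to
`p` are 2-groups.
-/

set_option autoImplicit false
set_option linter.unusedSectionVars false
set_option linter.unusedVariables false
set_option linter.style.haveILetI false

namespace Cfsg.Agent.H13.TP

open Cfsg

universe u
variable {G : Type u} [Group G] [Finite G]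

/-- The centralizer of one element. -/
abbrev cz (v : G) : Subgroup G := Subgroup.centralizer ({v} : Set G)

theorem mem_cz {v x : G} : x ∈ cz v ↔ x * v = v * x := Subgroup.mem_centralizer_singleton_iff

theorem mem_smul_sylow {p : ℕ} [Fact p.Prime] (P : Sylow p G) (g x : G) :
    x ∈ ((g • P : Sylow p G) : Subgroup G) ↔ g⁻¹ * x * g ∈ (P : Subgroup G) := by
  rw [Sylow.coe_subgroup_smul, Subgroup.mem_pointwise_smul_iff_inv_smul_mem]
  simp [MulAut.smul_def]

theorem ncard_nonone (T : Subgroup G) : ({a | a ∈ T ∧ a ≠ 1} : Set G).ncard = Nat.card T - 1 := by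
  have h1 : ({a | a ∈ T ∧ a ≠ 1} : Set G) = (T : Set G) \ {1} := by
    ext a; simp
  rw [h1, Set.ncard_diff_singleton_of_mem (by simp), ← Nat.card_coe_set_eq]
  rfl

theorem pelt_central_small {p k : ℕ} (hp : p.Prime) {T : Subgroup G} (hT : Nat.card T < p + 1)
    {x : G} (hx : orderOf x = p ^ k) (hN : x ∈ Subgroup.normalizer (T : Set G)) {a : G}
    (ha : a ∈ T) : x * a * x⁻¹ = a := by
  by_cases h1 : a = 1
  · subst h1; simp
  · have hnc := ncard_nonone T
    have hp0 := hp.pos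
    refine conj_fix_of_card_lt hp hx {a | a ∈ T ∧ a ≠ 1} ?_ (by rw [hnc]; omega) ⟨ha, h1⟩
    rintro b ⟨hb, hb1⟩
    refine ⟨(Subgroup.mem_normalizer_iff.mp hN b).mp hb, ?_⟩
    intro h
    apply hb1
    have : b = x⁻¹ * (x * b * x⁻¹) * x := by group
    rw [this, h]; group

theorem pelt_central_fix {p k : ℕ} (hp : p.Prime) {T : Subgroup G} (hT : Nat.card T ≤ p + 1)
    {x : G} (hx : orderOf x = p ^ k) (hN : x ∈ Subgroup.normalizer (T : Set G)) {e : G}
    (he : e ∈ T) (he1 : e ≠ 1) (hxe : x * e * x⁻¹ = e) {a : G} (ha : a ∈ T) : x * a * x⁻¹ = a := by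
  by_cases h1 : a = 1
  · subst h1; simp
  by_cases h2 : a = e
  · rw [h2, hxe]
  have hnc := ncard_nonone T
  have hS : ({a | a ∈ T ∧ a ≠ 1 ∧ a ≠ e} : Set G) = ({a | a ∈ T ∧ a ≠ 1} : Set G) \ {e} := by
    ext b; simp [and_assoc]
  have hn2 : ({a | a ∈ T ∧ a ≠ 1 ∧ a ≠ e} : Set G).ncard + 1 = Nat.card T - 1 := by
    rw [hS, ← hnc]
    exact Set.ncard_diff_singleton_add_one (show e ∈ ({a | a ∈ T ∧ a ≠ 1} : Set G) from ⟨he, he1⟩)
      (Set.toFinite _)
  have hp0 := hp.pos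
  refine conj_fix_of_card_lt hp hx {a | a ∈ T ∧ a ≠ 1 ∧ a ≠ e} ?_ (by omega) ⟨ha, h1, h2⟩
  rintro b ⟨hb, hb1, hb2⟩
  refine ⟨(Subgroup.mem_normalizer_iff.mp hN b).mp hb, ?_, ?_⟩
  · intro h
    apply hb1
    have : b = x⁻¹ * (x * b * x⁻¹) * x := by group
    rw [this, h]; group
  · intro h
    apply hb2
    have h3 : x * b * x⁻¹ = x * e * x⁻¹ := by rw [h, hxe]
    simpa using h3

theorem odd_eq_one {x : G} (hx : Odd (orderOf x)) (h : x * x = 1) : x = 1 := by
  have h1 : orderOf x ∣ 2 := orderOf_dvd_of_pow_eq_one (by rw [pow_two, h])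
  have h2 : orderOf x = 1 := by
    rcases (Nat.dvd_prime Nat.prime_two).mp h1 with h3 | h3
    · exact h3
    · rw [h3] at hx; exact absurd hx (by decide)
  exact orderOf_eq_one_iff.mp h2

theorem conj_order' (g a : G) : orderOf (g * a * g⁻¹) = orderOf a := by
  have h1 : g * a * g⁻¹ = MulAut.conj g a := rfl
  rw [h1]
  exact MulEquiv.orderOf_eq _ a

theorem comm_conj_of_inv {x v t : G} (hinv : t * v * t⁻¹ = v⁻¹) (h : x * v = v * x) :
    (t * x * t⁻¹) * v = v * (t * x * t⁻¹) := by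
  have h1 : (t * x * t⁻¹) * (t * v * t⁻¹) = (t * v * t⁻¹) * (t * x * t⁻¹) := by
    calc (t * x * t⁻¹) * (t * v * t⁻¹) = t * (x * v) * t⁻¹ := by group
      _ = t * (v * x) * t⁻¹ := by rw [h]
      _ = (t * v * t⁻¹) * (t * x * t⁻¹) := by group
  rw [hinv] at h1
  calc t * x * t⁻¹ * v = v * (v⁻¹ * (t * x * t⁻¹)) * v := by group
    _ = v * ((t * x * t⁻¹) * v⁻¹) * v := by rw [h1]
    _ = v * (t * x * t⁻¹) := by group

theorem norm_cz_of_inv {v t : G} (ht : t * t = 1) (hinv : t * v * t⁻¹ = v⁻¹) :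
    t ∈ Subgroup.normalizer ((cz v : Subgroup G) : Set G) := by
  rw [Subgroup.mem_normalizer_iff]
  intro x
  rw [mem_cz, mem_cz]
  refine ⟨comm_conj_of_inv hinv, fun h => ?_⟩
  have ht' : t⁻¹ = t := inv_eq_of_mul_eq_one_left ht
  have h1 : t⁻¹ * v * t⁻¹⁻¹ = v⁻¹ := by
    rw [ht', ← hinv, ht']
  have h2 := comm_conj_of_inv h1 h
  have h3 : t⁻¹ * (t * x * t⁻¹) * t⁻¹⁻¹ = x := by group
  rwa [h3] at h2

/-- The configuration. -/
structure Cfg (p : ℕ) (G : Type u) [Group G] (Q : Sylow 2 G) (y : G) : Prop where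
  hp : p.Prime
  hodd : p ≠ 2
  hcard : Nat.card (Q : Subgroup G) = p + 1
  hyN : y ∈ Subgroup.normalizer ((Q : Subgroup G) : Set G)
  hyo : ∃ k, orderOf y = p ^ k
  hyC : y ∉ Subgroup.centralizer ((Q : Subgroup G) : Set G)
  hab : ∀ P : Sylow p G, ∀ a ∈ (P : Subgroup G), ∀ b ∈ (P : Subgroup G), a * b = b * a
  star : Star p 2 G

namespace Cfg

variable {p : ℕ} {Q : Sylow 2 G} {y : G} (C : Cfg p G Q y)
include C

theorem odd_p : Odd p := C.hp.odd_of_ne_two C.hodd

theorem y_ne {a : G} (ha : a ∈ (Q : Subgroup G)) (ha1 : a ≠ 1) : y * a * y⁻¹ ≠ a := by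
  intro h
  obtain ⟨k, hk⟩ := C.hyo
  apply C.hyC
  rw [Subgroup.mem_centralizer_iff]
  intro b hb
  have h2 := pelt_central_fix C.hp (T := (Q : Subgroup G)) C.hcard.le hk C.hyN ha ha1 h hb
  calc b * y = (y * b * y⁻¹) * y := by rw [h2]
    _ = y * b := by group

theorem trans {a b : G} (ha : a ∈ (Q : Subgroup G)) (ha1 : a ≠ 1) (hb : b ∈ (Q : Subgroup G))
    (hb1 : b ≠ 1) : ∃ i : ℤ, y ^ i * a * (y ^ i)⁻¹ = b := by
  classical
  by_contra hcon
  push Not at hcon
  obtain ⟨k, hk⟩ := C.hyo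
  set S : Set G := {c | c ∈ (Q : Subgroup G) ∧ c ≠ 1 ∧ ∀ i : ℤ, y ^ i * a * (y ^ i)⁻¹ ≠ c} with hS
  have hinv : ∀ c ∈ S, y * c * y⁻¹ ∈ S := by
    rintro c ⟨hc, hc1, hc2⟩
    refine ⟨(Subgroup.mem_normalizer_iff.mp C.hyN c).mp hc, ?_, ?_⟩
    · intro h
      apply hc1
      have : c = y⁻¹ * (y * c * y⁻¹) * y := by group
      rw [this, h]; group
    · intro i h
      apply hc2 (-1 + i)
      rw [zpow_add, zpow_neg_one]
      have h3 : c = y⁻¹ * (y * c * y⁻¹) * y := by group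
      rw [h3, ← h]; group
  have hlt : S.ncard < p := by
    have hss : S ⊂ ({a | a ∈ (Q : Subgroup G) ∧ a ≠ 1} : Set G) := by
      refine ⟨fun c hc => ⟨hc.1, hc.2.1⟩, fun h => ?_⟩
      have h3 := (h ⟨ha, ha1⟩ : a ∈ S).2.2 0
      simp at h3
    have h4 := Set.ncard_lt_ncard hss (Set.toFinite _)
    rw [ncard_nonone, C.hcard] at h4
    simpa using h4
  have h5 := conj_fix_of_card_lt C.hp hk S hinv hlt (show b ∈ S from ⟨hb, hb1, hcon⟩)
  exact C.y_ne hb hb1 h5

theorem sq_of_mem {a : G} (ha : a ∈ (Q : Subgroup G)) : a * a = 1 := by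
  have h2 : 2 ∣ Nat.card (Q : Subgroup G) := by
    rw [C.hcard]
    exact (C.odd_p.add_one).two_dvd
  obtain ⟨a₀, ha₀⟩ := exists_prime_orderOf_dvd_card' (G := (Q : Subgroup G)) 2 h2
  by_cases h1 : a = 1
  · subst h1; simp
  have ha₀1 : (a₀ : G) ≠ 1 := by
    intro h
    have h3 : orderOf (a₀ : G) = 2 := by rw [Subgroup.orderOf_coe, ha₀]
    rw [h, orderOf_one] at h3
    omega
  obtain ⟨i, hi⟩ := C.trans a₀.2 ha₀1 ha h1
  have h4 : (a₀ : G) * a₀ = 1 := by
    have h5 : orderOf (a₀ : G) = 2 := by rw [Subgroup.orderOf_coe, ha₀]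
    have h6 := pow_orderOf_eq_one (a₀ : G)
    rwa [h5, pow_two] at h6
  rw [← hi]
  calc y ^ i * a₀ * (y ^ i)⁻¹ * (y ^ i * a₀ * (y ^ i)⁻¹) = y ^ i * ((a₀ : G) * a₀) * (y ^ i)⁻¹ := by
        group
    _ = 1 := by rw [h4]; group

theorem comm_of_sq {a b : G} (ha : a * a = 1) (hb : b * b = 1) (hab : (a * b) * (a * b) = 1) :
    a * b = b * a := by
  have h1 : a⁻¹ = a := inv_eq_of_mul_eq_one_left ha
  have h2 : b⁻¹ = b := inv_eq_of_mul_eq_one_left hb
  have h3 : (a * b)⁻¹ = a * b := inv_eq_of_mul_eq_one_left hab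
  rw [mul_inv_rev, h1, h2] at h3
  exact h3.symm

theorem conj_into_Q {T : Subgroup G} (hT : IsPGroup 2 T) :
    ∃ g : G, ∀ a ∈ T, g * a * g⁻¹ ∈ (Q : Subgroup G) := by
  obtain ⟨S, hS⟩ := hT.exists_le_sylow
  obtain ⟨g, hg⟩ := MulAction.exists_smul_eq G S Q
  refine ⟨g, fun a ha => ?_⟩
  rw [← hg, mem_smul_sylow]
  have : g⁻¹ * (g * a * g⁻¹) * g = a := by group
  rw [this]
  exact hS ha

theorem two_sq {T : Subgroup G} (hT : IsPGroup 2 T) {a : G} (ha : a ∈ T) : a * a = 1 := by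
  obtain ⟨g, hg⟩ := C.conj_into_Q hT
  have h1 := C.sq_of_mem (hg a ha)
  have h2 : g * a * g⁻¹ * (g * a * g⁻¹) = g * (a * a) * g⁻¹ := by group
  rw [h2] at h1
  have h3 : a * a = g⁻¹ * (g * (a * a) * g⁻¹) * g := by group
  rw [h3, h1]; group

theorem two_comm {T : Subgroup G} (hT : IsPGroup 2 T) {a b : G} (ha : a ∈ T) (hb : b ∈ T) :
    a * b = b * a :=
  comm_of_sq C (C.two_sq hT ha) (C.two_sq hT hb) (C.two_sq hT (mul_mem ha hb))

theorem two_elt {x : G} {k : ℕ} (hx : orderOf x = 2 ^ k) : x * x = 1 :=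
  C.two_sq (H19.isPGroup_zpowers_of_orderOf hx) (Subgroup.mem_zpowers x)

theorem card_two_le {T : Subgroup G} (hT : IsPGroup 2 T) : Nat.card T ≤ p + 1 := by
  obtain ⟨S, hS⟩ := hT.exists_le_sylow
  have h1 : Nat.card T ≤ Nat.card (S : Subgroup G) := Subgroup.card_le_of_le hS
  have h2 : Nat.card (S : Subgroup G) = Nat.card (Q : Subgroup G) := by
    rw [S.card_eq_multiplicity, Q.card_eq_multiplicity]
  have h3 := C.hcard
  omega

theorem frob_of (H : Subgroup G)
    (h : ∀ T : Subgroup G, T ≤ H → IsPGroup 2 T → T ≠ ⊥ → ∀ x ∈ H,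
      x ∈ Subgroup.normalizer (T : Set G) → (∃ k, orderOf x = p ^ k) → ∀ a ∈ T, x * a * x⁻¹ = a) :
    FrobCond 2 H := by
  intro Q' hQ' g hg hgc
  by_cases hQ1 : Q' = ⊥
  · subst hQ1
    rw [Subgroup.mem_centralizer_iff]
    intro h hh
    have : h = 1 := by simpa using hh
    simp [this]
  have hT : IsPGroup 2 (Q'.map H.subtype) := hQ'.map _
  have hT1 : Q'.map H.subtype ≠ ⊥ := by
    intro h1
    apply hQ1
    rw [Subgroup.map_eq_bot_iff_of_injective _ H.subtype_injective] at h1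
    exact h1
  have h2 : (g : G) ∈ Subgroup.normalizer ((Q'.map H.subtype : Subgroup G) : Set G) := by
    apply mem_normalizer_of_map_conj_le
    rintro _ ⟨_, ⟨y, hy, rfl⟩, rfl⟩
    refine ⟨g * y * g⁻¹, ?_, rfl⟩
    exact (Subgroup.mem_normalizer_iff.mp hg y).mp hy
  have hgc' : (orderOf (g : G)).Coprime 2 := by rwa [Subgroup.orderOf_coe]
  have h3 := pelt_of_norm C.hp Nat.prime_two C.hodd C.star hT hT1 h2 hgc'
  have h4 := h _ (by rintro _ ⟨z, _, rfl⟩; exact z.2) hT hT1 g g.2 h2 h3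
  rw [Subgroup.mem_centralizer_iff]
  intro z hz
  apply Subtype.ext
  have h5 := h4 z ⟨z, hz, rfl⟩
  change (z : G) * g = g * z
  calc (z : G) * g = (g * z * (g : G)⁻¹) * g := by rw [h5]
    _ = g * z := by group

omit C in
theorem odd_part {H : Subgroup G} (hF : FrobCond 2 H) :
    ∃ M : Subgroup G, M ≤ H ∧ (∀ x, x ∈ M ↔ x ∈ H ∧ Odd (orderOf x)) ∧
      ∀ S : Subgroup G, S ≤ H → IsPGroup 2 S →
        (∀ R : Subgroup G, R ≤ H → IsPGroup 2 R → S ≤ R → R = S) →
        ∀ c ∈ H, ∃ m ∈ M, ∃ s ∈ S, c = m * s := by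
  obtain ⟨P, N, hN, hc⟩ := hasNormalPComplement_of_frobCond hF
  have hle : N.map H.subtype ≤ H := by rintro _ ⟨z, _, rfl⟩; exact z.2
  refine ⟨N.map H.subtype, hle, ?_, ?_⟩
  · intro x
    constructor
    · rintro ⟨n, hn, rfl⟩
      refine ⟨n.2, ?_⟩
      have := (Cfsg.Agent.H01.mem_normal_complement_iff P N hc n).mp hn
      simpa [Subgroup.orderOf_coe] using Nat.coprime_two_right.mp this
    · rintro ⟨hx, hodd⟩
      refine ⟨⟨x, hx⟩, ?_, rfl⟩
      show (⟨x, hx⟩ : H) ∈ N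
      rw [Cfsg.Agent.H01.mem_normal_complement_iff P N hc, Nat.coprime_two_right,
        ← Subgroup.orderOf_coe]
      exact hodd
  · intro S hSH hS2 hmax c hcH
    let S' : Sylow 2 H :=
      { toSubgroup := S.subgroupOf H
        isPGroup' := isPGroup_subgroupOf hS2
        is_maximal' := by
          intro Q' hQ' hle'
          have h1 : Q'.map H.subtype = S := by
            apply hmax _ (by rintro _ ⟨z, _, rfl⟩; exact z.2) (hQ'.map _)
            intro s hs
            exact ⟨⟨s, hSH hs⟩, hle' (Subgroup.mem_subgroupOf.mpr hs), rfl⟩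
          ext z
          constructor
          · intro hz
            have : (z : G) ∈ S := h1 ▸ ⟨z, hz, rfl⟩
            exact Subgroup.mem_subgroupOf.mpr this
          · intro hz
            have h2 : (z : G) ∈ S := Subgroup.mem_subgroupOf.mp hz
            rw [← h1] at h2
            obtain ⟨w, hw, hwz⟩ := h2
            have : w = z := Subtype.ext hwz
            exact this ▸ hw }
    have hc' : N.IsComplement' (S' : Subgroup H) := Cfsg.Agent.H01.complement_of_any_sylow P S' hc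
    obtain ⟨⟨n, s⟩, hns⟩ := hc'.2 ⟨c, hcH⟩
    refine ⟨n.1, ⟨n.1, n.2, rfl⟩, s.1, ?_, ?_⟩
    · have h7 : (s.1 : H) ∈ S.subgroupOf H := s.2
      exact Subgroup.mem_subgroupOf.mp h7
    · have h8 := congrArg Subtype.val hns
      simpa using h8.symm

omit C in
theorem norm_odd_part {H M : Subgroup G} (hM : ∀ x, x ∈ M ↔ x ∈ H ∧ Odd (orderOf x)) {t : G}
    (ht : t ∈ Subgroup.normalizer (H : Set G)) : t ∈ Subgroup.normalizer (M : Set G) := by
  rw [Subgroup.mem_normalizer_iff]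
  intro x
  rw [hM, hM, conj_order', ← Subgroup.mem_normalizer_iff.mp ht x]

theorem pgroup_of_odd {M : Subgroup G} (hodd : ∀ x ∈ M, Odd (orderOf x)) {t : G} (ht : t * t = 1)
    (ht1 : t ≠ 1) (htN : t ∈ Subgroup.normalizer (M : Set G)) : IsPGroup p M := by
  haveI : Fact p.Prime := ⟨C.hp⟩
  refine IsPGroup.iff_card.mpr ⟨_, Nat.eq_prime_pow_of_unique_prime_dvd Nat.card_pos.ne' ?_⟩
  intro r hr hrd
  by_contra hrp
  haveI : Fact r.Prime := ⟨hr⟩
  obtain ⟨z, hz⟩ := exists_prime_orderOf_dvd_card' (G := M) r hrd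
  have hr2 : r ≠ 2 := by
    intro h
    have h1 := hodd z z.2
    rw [Subgroup.orderOf_coe, hz, h] at h1
    exact absurd h1 (by decide)
  let T : Sylow r M := default
  set R : Subgroup G := (T : Subgroup M).map M.subtype with hR
  have hRp : IsPGroup r R := T.2.map _
  have hRM : R ≤ M := by rintro _ ⟨z, _, rfl⟩; exact z.2
  have hR1 : R ≠ ⊥ := by
    intro h
    have h2 : (T : Subgroup M) = ⊥ := by
      rw [eq_bot_iff]
      intro x hx
      have h3 : (x : G) ∈ R := ⟨x, hx, rfl⟩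
      rw [h] at h3
      have h4 : (x : G) = 1 := by simpa using h3
      simpa using Subtype.ext h4
    have h1 : Nat.card (T : Subgroup M) = 1 := by rw [h2]; simp
    have h3 := (T : Subgroup M).card_mul_index
    rw [h1, one_mul] at h3
    exact T.not_dvd_index (h3 ▸ hrd)
  have hmax : ∀ R₀ : Subgroup G, R₀ ≤ M → IsPGroup r R₀ → R ≤ R₀ → R₀ = R := by
    intro R₀ hR₀ hp₀ hle
    have h1 : (T : Subgroup M) ≤ R₀.subgroupOf M := by
      intro x hx
      rw [Subgroup.mem_subgroupOf]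
      exact hle ⟨x, hx, rfl⟩
    have h2 := T.is_maximal' (isPGroup_subgroupOf hp₀) h1
    rw [hR, ← h2, Subgroup.map_subgroupOf_eq_of_le hR₀]
  set R' : Subgroup G := R.map (MulAut.conj t).toMonoidHom with hR'
  have hR'M : R' ≤ M := by
    rintro _ ⟨a, ha, rfl⟩
    exact (Subgroup.mem_normalizer_iff.mp htN a).mp (hRM ha)
  have hR'p : IsPGroup r R' := hRp.map _
  obtain ⟨n, hnM, hn⟩ := exists_conj_le_of_maximal hRM hRp hmax hR'M hR'p
  set τ₀ := n * t with hτ₀
  have hτN : τ₀ ∈ Subgroup.normalizer (R : Set G) := by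
    apply mem_normalizer_of_map_conj_le
    rintro _ ⟨a, ha, rfl⟩
    apply hn
    refine ⟨t * a * t⁻¹, ⟨a, ha, rfl⟩, ?_⟩
    simp [hτ₀, MulAut.conj_apply, mul_assoc]
  have hpow : ∀ k : ℕ, ∃ m ∈ M, τ₀ ^ k = m * t ^ k := by
    intro k
    induction k with
    | zero => exact ⟨1, one_mem _, by simp⟩
    | succ k ih =>
      obtain ⟨m, hm, hk⟩ := ih
      have htk : t ^ k ∈ Subgroup.normalizer (M : Set G) := pow_mem htN k
      refine ⟨m * (t ^ k * n * (t ^ k)⁻¹), mul_mem hm ((Subgroup.mem_normalizer_iff.mp htk n).mp hnM), ?_⟩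
      rw [pow_succ, hk, hτ₀, pow_succ]
      group
  have h2o : 2 ∣ orderOf τ₀ := by
    by_contra hno
    have hodd₀ : Odd (orderOf τ₀) := Nat.not_even_iff_odd.mp (fun h => hno h.two_dvd)
    obtain ⟨m, hm, hk⟩ := hpow (orderOf τ₀)
    have ht2 : t ^ 2 = 1 := by rw [pow_two, ht]
    have h3 : t ^ orderOf τ₀ = t := by
      obtain ⟨c, hc⟩ := hodd₀
      rw [hc, pow_succ, pow_mul, ht2, one_pow, one_mul]
    rw [pow_orderOf_eq_one, h3] at hk
    have h4 : t = m⁻¹ := by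
      have : m * t = 1 := hk.symm
      exact eq_inv_of_mul_eq_one_right this
    have h5 : t ∈ M := by rw [h4]; exact inv_mem hm
    have h6 := hodd t h5
    rw [orderOf_eq_prime ht2 ht1] at h6
    exact absurd h6 (by decide)
  have hτo : orderOf (τ₀ ^ (orderOf τ₀ / 2)) = 2 :=
    orderOf_pow_orderOf_div (orderOf_pos τ₀).ne' h2o
  exact star_no_r C.hp Nat.prime_two hr C.hodd hrp hr2 C.star hRp hR1 hτo (pow_mem hτN _)

theorem odd_of_pgroup {P : Subgroup G} (hP : IsPGroup p P) {x : G} (hx : x ∈ P) :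
    Odd (orderOf x) := by
  obtain ⟨k, hk⟩ := RT.elt_of_pgroup C.hp hP hx
  rw [hk]
  exact C.odd_p.pow

/-- 2-subgroups of the centralizer of an inverted element are small. -/
theorem small_cz {v t : G} (hv1 : v ≠ 1) (hvo : Odd (orderOf v)) (ht : t * t = 1) (ht1 : t ≠ 1)
    (hinv : t * v * t⁻¹ = v⁻¹) {R : Subgroup G} (hRH : R ≤ cz v) (hR : IsPGroup 2 R) :
    Nat.card R < p + 1 := by
  have hle := C.card_two_le hR
  by_contra hlt
  have hRc : Nat.card R = p + 1 := by omega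
  have htv : t ∉ cz v := by
    intro h
    apply hv1
    rw [mem_cz] at h
    apply odd_eq_one hvo
    have h2 : v = v⁻¹ := by rw [← hinv, h]; group
    calc v * v = v * v⁻¹ := by rw [← h2]
      _ = 1 := by group
  have hN : Subgroup.zpowers t ≤ Subgroup.normalizer (cz v : Set G) := by
    rw [Subgroup.zpowers_le]
    exact norm_cz_of_inv ht hinv
  have hcard := Cfsg.Agent.H09.card_sup_mul_inf_of_normalizer hN
  have hinf : (cz v ⊓ Subgroup.zpowers t : Subgroup G) = ⊥ := by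
    rw [eq_bot_iff]
    rintro x ⟨hx1, hx2⟩
    obtain ⟨k, rfl⟩ := Subgroup.mem_zpowers_iff.mp hx2
    have ht2 : t ^ 2 = 1 := by rw [pow_two, ht]
    rcases Int.even_or_odd' k with ⟨m, rfl | rfl⟩
    · rw [zpow_mul, zpow_ofNat, ht2]; simp
    · exfalso
      apply htv
      have : t ^ (2 * m + 1) = t := by
        rw [zpow_add, zpow_mul, zpow_ofNat, ht2]; simp
      rwa [this] at hx1
  rw [hinf] at hcard
  have hot : orderOf t = 2 := orderOf_eq_prime (by rw [pow_two, ht]) ht1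
  simp only [Subgroup.card_bot, mul_one, Nat.card_zpowers, hot] at hcard
  have hd1 : Nat.card R ∣ Nat.card (cz v) := Subgroup.card_dvd_of_le hRH
  have hd2 : Nat.card (cz v) * 2 ∣ Nat.card G := by
    rw [← hcard]; exact Subgroup.card_subgroup_dvd_card _
  have hd3 : (p + 1) * 2 ∣ Nat.card G := by
    rw [← hRc]; exact (Nat.mul_dvd_mul_right hd1 2).trans hd2
  have hQi := (Q : Subgroup G).card_mul_index
  rw [C.hcard] at hQi
  rw [← hQi] at hd3
  have h4 := Nat.dvd_of_mul_dvd_mul_left (Nat.succ_pos p) hd3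
  exact Q.not_dvd_index h4

theorem frob_cz_inv {v t : G} (hv1 : v ≠ 1) (hvo : Odd (orderOf v)) (ht : t * t = 1) (ht1 : t ≠ 1)
    (hinv : t * v * t⁻¹ = v⁻¹) : FrobCond 2 (cz v) := by
  apply C.frob_of
  rintro T hT hT2 hT1 x hx hxN ⟨k, hk⟩ a ha
  exact pelt_central_small C.hp (C.small_cz hv1 hvo ht ht1 hinv hT hT2) hk hxN ha

/-- **Lemma A.** -/
theorem lemA {v t : G} (hv1 : v ≠ 1) (hvo : Odd (orderOf v)) (ht : t * t = 1) (ht1 : t ≠ 1)
    (hinv : t * v * t⁻¹ = v⁻¹) :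
    ∃ P : Sylow p G, v ∈ (P : Subgroup G) ∧ (∀ x ∈ cz v, Odd (orderOf x) → x ∈ (P : Subgroup G)) ∧
      t ∈ Subgroup.normalizer ((P : Subgroup G) : Set G) ∧
      (∀ S : Sylow p G, v ∈ (S : Subgroup G) → S = P) := by
  haveI : Fact p.Prime := ⟨C.hp⟩
  obtain ⟨M, hMH, hM, -⟩ := odd_part (C.frob_cz_inv hv1 hvo ht ht1 hinv)
  have htH : t ∈ Subgroup.normalizer ((cz v : Subgroup G) : Set G) := norm_cz_of_inv ht hinv
  have hMo : ∀ x ∈ M, Odd (orderOf x) := fun x hx => ((hM x).mp hx).2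
  have hMp : IsPGroup p M := C.pgroup_of_odd hMo ht ht1 (norm_odd_part hM htH)
  obtain ⟨P, hP⟩ := hMp.exists_le_sylow
  have hvM : v ∈ M := (hM v).mpr ⟨mem_cz.mpr rfl, hvo⟩
  have hPH : ∀ x ∈ (P : Subgroup G), x ∈ M := by
    intro x hx
    refine (hM x).mpr ⟨mem_cz.mpr (C.hab P _ hx _ (hP hvM)), C.odd_of_pgroup P.2 hx⟩
  have hMP : M = P := le_antisymm hP hPH
  refine ⟨P, hP hvM, fun x hx hxo => hP ((hM x).mpr ⟨hx, hxo⟩), ?_, ?_⟩
  · rw [← hMP]; exact norm_odd_part hM htH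
  · intro S hS
    have hSM : (S : Subgroup G) ≤ P := by
      intro x hx
      rw [← hMP]
      exact (hM x).mpr ⟨mem_cz.mpr (C.hab S _ hx _ hS), C.odd_of_pgroup S.2 hx⟩
    exact Sylow.ext (S.is_maximal' P.2 hSM).symm

theorem frob_cz_invol {e : G} (he : e * e = 1) (he1 : e ≠ 1) : FrobCond 2 (cz e) := by
  apply C.frob_of
  rintro T hT hT2 hT1 x hx hxN ⟨k, hk⟩ a ha
  have hle := C.card_two_le hT2
  by_cases hlt : Nat.card T < p + 1
  · exact pelt_central_small C.hp hlt hk hxN ha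
  · have hTc : Nat.card T = p + 1 := by omega
    have ho : orderOf e = 2 ^ 1 := by
      rw [pow_one]; exact orderOf_eq_prime (by rw [pow_two, he]) he1
    have hzT : Subgroup.zpowers e ≤ Subgroup.normalizer (T : Set G) := by
      rw [Subgroup.zpowers_le, Subgroup.mem_normalizer_iff]
      intro z
      constructor
      · intro hz
        have h1 : z * e = e * z := mem_cz.mp (hT hz)
        have h2 : e * z * e⁻¹ = z := by rw [← h1]; group
        rwa [h2]
      · intro hz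
        have h1 : (e * z * e⁻¹) * e = e * (e * z * e⁻¹) := mem_cz.mp (hT hz)
        have h3 : e * z * e⁻¹ * e = e * z := by group
        rw [h3] at h1
        have h5 : z = e * z * e⁻¹ := mul_left_cancel h1
        rwa [← h5] at hz
    have hsup : IsPGroup 2 (Subgroup.zpowers e ⊔ T : Subgroup G) :=
      (H19.isPGroup_zpowers_of_orderOf ho).to_sup_of_normal_right' hT2 hzT
    have hcard := C.card_two_le hsup
    have heq : T = (Subgroup.zpowers e ⊔ T : Subgroup G) :=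
      Subgroup.eq_of_le_of_card_ge le_sup_right (by omega)
    have heT : e ∈ T := by rw [heq]; exact Subgroup.mem_sup_left (Subgroup.mem_zpowers e)
    have hxe : x * e * x⁻¹ = e := by
      have h1 : x * e = e * x := mem_cz.mp hx
      rw [h1]; group
    exact pelt_central_fix C.hp hle hk hxN heT he1 hxe ha

/-- **Lemma C**: the odd part of the centralizer of an involution. -/
theorem lemC {e : G} (he : e * e = 1) (he1 : e ≠ 1) :
    ∃ M : Subgroup G, IsPGroup p M ∧ (∀ x, x ∈ M ↔ x ∈ cz e ∧ Odd (orderOf x)) ∧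
      ∀ S : Subgroup G, S ≤ cz e → IsPGroup 2 S →
        (∀ R : Subgroup G, R ≤ cz e → IsPGroup 2 R → S ≤ R → R = S) →
        ∀ c ∈ cz e, ∃ m ∈ M, ∃ s ∈ S, c = m * s := by
  obtain ⟨M, hMH, hM, hdec⟩ := odd_part (C.frob_cz_invol he he1)
  have heH : e ∈ Subgroup.normalizer ((cz e : Subgroup G) : Set G) :=
    Subgroup.le_normalizer (mem_cz.mpr rfl)
  exact ⟨M, C.pgroup_of_odd (fun x hx => ((hM x).mp hx).2) he he1 (norm_odd_part hM heH), hM, hdec⟩

/-- Odd elements of the centralizer of an involution commute. -/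
theorem odd_comm {e x z : G} (he : e * e = 1) (he1 : e ≠ 1) (hx : x ∈ cz e) (hxo : Odd (orderOf x))
    (hz : z ∈ cz e) (hzo : Odd (orderOf z)) : x * z = z * x := by
  haveI : Fact p.Prime := ⟨C.hp⟩
  obtain ⟨M, hMp, hM, -⟩ := C.lemC he he1
  obtain ⟨P, hP⟩ := hMp.exists_le_sylow
  exact C.hab P _ (hP ((hM x).mpr ⟨hx, hxo⟩)) _ (hP ((hM z).mpr ⟨hz, hzo⟩))

theorem pelt_of_odd_cz {e x : G} (he : e * e = 1) (he1 : e ≠ 1) (hx : x ∈ cz e)
    (hxo : Odd (orderOf x)) : ∃ k, orderOf x = p ^ k := by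
  obtain ⟨M, hMp, hM, -⟩ := C.lemC he he1
  exact RT.elt_of_pgroup C.hp hMp ((hM x).mpr ⟨hx, hxo⟩)

end Cfg

end Cfsg.Agent.H13.TP
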