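import Cfsg.Agent.Lib.H13.TP2
import Cfsg.Agent.Lib.H18.Prod

/-!
The configuration when `Q` centralizes the odd part of the centralizer of each of its involutions:
then all involutions lie in `Q`.
-/

set_option autoImplicit false
set_option linter.unusedSectionVars false
set_option linter.unusedVariables false
set_option linter.style.haveILetI false
set_option linter.unusedDecidableInType false
set_option linter.unusedFintypeInType false

namespace Cfsg.Agent.H13.TP

open Cfsg

universe u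
variable {G : Type u} [Group G] [Finite G]

theorem even_card_of_invol {α : Type*} (s : Finset α) (g : α → α)
    (hmem : ∀ a ∈ s, g a ∈ s) (hne : ∀ a ∈ s, g a ≠ a) (hinv : ∀ a ∈ s, g (g a) = a) :
    Even s.card := by
  have h := Finset.sum_involution (s := s) (f := fun _ => (1 : ZMod 2)) (fun a _ => g a)
    (fun a ha => by decide) (fun a ha _ => hne a ha) (fun a ha => hmem a ha) (fun a ha => hinv a ha)
  rw [← ZMod.natCast_eq_zero_iff_even]
  simpa using h

theorem exists_fixed_invol (H : Subgroup G) {e₀ : G} (he₀ : e₀ ∈ H) (he₀2 : e₀ * e₀ = 1)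
    (he₀1 : e₀ ≠ 1) {t : G} (ht : t * t = 1) (htN : t ∈ Subgroup.normalizer (H : Set G)) :
    ∃ e ∈ H, e * e = 1 ∧ e ≠ 1 ∧ t * e = e * t := by
  classical
  haveI := Fintype.ofFinite G
  set S2 := Finset.univ.filter (fun x : G => x ∈ H ∧ x * x = 1 ∧ x ≠ 1) with hS2
  set S1 := Finset.univ.filter (fun x : G => x ∈ H ∧ x⁻¹ ≠ x) with hS1
  have h1 : Even S1.card := by
    apply even_card_of_invol S1 (fun x => x⁻¹)
    · intro a ha
      simp only [hS1, Finset.mem_filter, Finset.mem_univ, true_and] at ha ⊢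
      exact ⟨inv_mem ha.1, by simpa using ha.2.symm⟩
    · intro a ha
      simp only [hS1, Finset.mem_filter, Finset.mem_univ, true_and] at ha
      exact ha.2
    · intro a _; simp
  have hH : Nat.card H = (Finset.univ.filter (fun x : G => x ∈ H)).card :=
    Nat.subtype_card _ (by simp)
  have hsplit : (Finset.univ.filter (fun x : G => x ∈ H)) = S1 ∪ (S2 ∪ {1}) := by
    ext x
    simp only [hS1, hS2, Finset.mem_filter, Finset.mem_univ, true_and, Finset.mem_union,
      Finset.mem_singleton]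
    constructor
    · intro hx
      by_cases h3 : x⁻¹ = x
      · right
        by_cases h4 : x = 1
        · right; exact h4
        · left
          refine ⟨hx, ?_, h4⟩
          nth_rewrite 1 [← h3]
          simp
      · left; exact ⟨hx, h3⟩
    · rintro (h | h | h)
      · exact h.1
      · exact h.1
      · rw [h]; exact one_mem _
  have hdisj1 : Disjoint S1 (S2 ∪ {1}) := by
    rw [Finset.disjoint_left]
    intro x hx hx2
    simp only [hS1, hS2, Finset.mem_filter, Finset.mem_univ, true_and, Finset.mem_union,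
      Finset.mem_singleton] at hx hx2
    rcases hx2 with h | h
    · exact hx.2 (inv_eq_of_mul_eq_one_left h.2.1)
    · rw [h] at hx; simp at hx
  have hdisj2 : Disjoint S2 {1} := by
    rw [Finset.disjoint_singleton_right]
    simp [hS2]
  have hcard : Nat.card H = S1.card + (S2.card + 1) := by
    rw [hH, hsplit, Finset.card_union_of_disjoint hdisj1, Finset.card_union_of_disjoint hdisj2,
      Finset.card_singleton]
  have hev : Even (Nat.card H) := by
    have ho : orderOf e₀ = 2 := orderOf_eq_prime (by rw [pow_two, he₀2]) he₀1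
    have h5 : orderOf e₀ ∣ Nat.card H := Subgroup.orderOf_dvd_natCard H he₀
    rw [ho] at h5
    exact even_iff_two_dvd.mpr h5
  have hodd : ¬ Even S2.card := by
    intro h
    rw [hcard] at hev
    have h6 : Even (S1.card + S2.card) := h1.add h
    have h7 : Even ((S1.card + S2.card) + 1) := by
      have : S1.card + (S2.card + 1) = (S1.card + S2.card) + 1 := by ring
      rwa [this] at hev
    rw [Nat.even_add_one] at h7
    exact h7 h6
  by_contra hcon
  push Not at hcon
  apply hodd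
  have ht' : t⁻¹ = t := inv_eq_of_mul_eq_one_left ht
  apply even_card_of_invol S2 (fun a => t * a * t⁻¹)
  · intro a ha
    simp only [hS2, Finset.mem_filter, Finset.mem_univ, true_and] at ha ⊢
    refine ⟨(Subgroup.mem_normalizer_iff.mp htN a).mp ha.1, ?_, ?_⟩
    · have : t * a * t⁻¹ * (t * a * t⁻¹) = t * (a * a) * t⁻¹ := by group
      rw [this, ha.2.1]; group
    · intro h
      apply ha.2.2
      have : a = t⁻¹ * (t * a * t⁻¹) * t := by group
      rw [this, h]; group
  · intro a ha h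
    simp only [hS2, Finset.mem_filter, Finset.mem_univ, true_and] at ha
    apply hcon a ha.1 ha.2.1 ha.2.2
    calc t * a = t * a * t⁻¹ * t := by group
      _ = a * t := by rw [h]
  · intro a _
    have : t * (t * a * t⁻¹) * t⁻¹ = (t * t) * a * (t * t)⁻¹ := by group
    simp only [this, ht]
    group

/-- `Q` centralizes the odd part of the centralizer of `t`. -/
def Cen (Q : Sylow 2 G) (t : G) : Prop :=
  ∀ x ∈ cz t, Odd (orderOf x) → ∀ q ∈ (Q : Subgroup G), x * q = q * x

/-- `v` is a nontrivial odd element inverted by `t`. -/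
structure Xt (t v : G) : Prop where
  ne : v ≠ 1
  odd : Odd (orderOf v)
  inv : t * v * t⁻¹ = v⁻¹

namespace Cfg

variable {p : ℕ} {Q : Sylow 2 G} {y : G} (C : Cfg p G Q y)
include C

theorem comm_Q {a b : G} (ha : a ∈ (Q : Subgroup G)) (hb : b ∈ (Q : Subgroup G)) : a * b = b * a :=
  C.two_comm Q.2 ha hb

theorem Q_le_cz {t : G} (ht : t ∈ (Q : Subgroup G)) : (Q : Subgroup G) ≤ cz t :=
  fun a ha => mem_cz.mpr (C.comm_Q ha ht)

variable (hC : ∀ t ∈ (Q : Subgroup G), t ≠ 1 → Cen Q t)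
include hC

theorem mem_Q {t e : G} (ht : t ∈ (Q : Subgroup G)) (ht1 : t ≠ 1) (he : e * e = 1) (hc : e ∈ cz t) :
    e ∈ (Q : Subgroup G) := by
  have htt : t * t = 1 := C.sq_of_mem ht
  obtain ⟨M, -, hM, hdec⟩ := C.lemC htt ht1
  obtain ⟨m, hm, s, hs, hes⟩ := hdec Q (C.Q_le_cz ht) Q.2
    (fun R hR hRp hle => Q.is_maximal' hRp hle) e hc
  obtain ⟨hm1, hmo⟩ := (hM m).mp hm
  have hcm : m * s = s * m := hC t ht ht1 m hm1 hmo s hs
  have hss : s * s = 1 := C.sq_of_mem hs
  have hmm : m * m = 1 := by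
    have h1 : e * e = m * m * (s * s) := by
      rw [hes]
      calc m * s * (m * s) = m * (s * m) * s := by group
        _ = m * (m * s) * s := by rw [hcm]
        _ = m * m * (s * s) := by group
    rw [he, hss, mul_one] at h1
    exact h1.symm
  have h2 := odd_eq_one hmo hmm
  rw [hes, h2, one_mul]
  exact hs

theorem no_invol {t v e : G} (ht : t ∈ (Q : Subgroup G)) (ht1 : t ≠ 1) (hX : Xt t v)
    (he : e ∈ cz v) (he2 : e * e = 1) : e = 1 := by
  by_contra he1
  have htt : t * t = 1 := C.sq_of_mem ht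
  obtain ⟨e', h1, h2, h3, h4⟩ := exists_fixed_invol (cz v) he he2 he1 htt (norm_cz_of_inv htt hX.inv)
  have he'Q : e' ∈ (Q : Subgroup G) := C.mem_Q hC ht ht1 h2 (mem_cz.mpr h4.symm)
  have h5 : v ∈ cz e' := mem_cz.mpr (mem_cz.mp h1).symm
  have h6 : v * t = t * v := hC e' he'Q h3 v h5 hX.odd t ht
  apply hX.ne
  apply odd_eq_one hX.odd
  have h7 : t * v * t⁻¹ = v := by rw [← h6]; group
  have h8 := hX.inv
  rw [h7] at h8
  calc v * v = v * v⁻¹ := by rw [← h8]
    _ = 1 := by group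

theorem all_odd {t v x : G} (ht : t ∈ (Q : Subgroup G)) (ht1 : t ≠ 1) (hX : Xt t v)
    (hx : x ∈ cz v) : Odd (orderOf x) := by
  by_contra hno
  have h2 : 2 ∣ orderOf x := even_iff_two_dvd.mp (Nat.not_odd_iff_even.mp hno)
  have ho : orderOf (x ^ (orderOf x / 2)) = 2 := orderOf_pow_orderOf_div (orderOf_pos x).ne' h2
  have h3 : x ^ (orderOf x / 2) * x ^ (orderOf x / 2) = 1 := by
    have := pow_orderOf_eq_one (x ^ (orderOf x / 2))
    rwa [ho, pow_two] at this
  have h4 := C.no_invol hC ht ht1 hX (pow_mem hx _) h3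
  rw [h4, orderOf_one] at ho
  omega

/-- The odd part of `C(t)` lies in every `t`-invariant Sylow subgroup with nontrivial inverted part. -/
theorem A_le {t f : G} {M : Sylow p G} (ht : t ∈ (Q : Subgroup G)) (ht1 : t ≠ 1)
    (htN : t ∈ Subgroup.normalizer ((M : Subgroup G) : Set G)) (hf : f ∈ (M : Subgroup G))
    (hX : Xt t f) {a : G} (ha : a ∈ cz t) (hao : Odd (orderOf a)) : a ∈ (M : Subgroup G) := by
  classical
  haveI : Fact p.Prime := ⟨C.hp⟩
  have htt : t * t = 1 := C.sq_of_mem ht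
  have ht' : t⁻¹ = t := inv_eq_of_mul_eq_one_left htt
  obtain ⟨A, hAp, hA, -⟩ := C.lemC htt ht1
  have habM := C.hab M
  let F : Subgroup G :=
    { carrier := {x | x ∈ (M : Subgroup G) ∧ t * x * t⁻¹ = x⁻¹}
      mul_mem' := by
        rintro a b ⟨ha, ha2⟩ ⟨hb, hb2⟩
        refine ⟨mul_mem ha hb, ?_⟩
        have : t * (a * b) * t⁻¹ = (t * a * t⁻¹) * (t * b * t⁻¹) := by group
        rw [this, ha2, hb2, mul_inv_rev, ← habM _ (inv_mem ha) _ (inv_mem hb)]
      one_mem' := ⟨one_mem _, by simp⟩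
      inv_mem' := by
        rintro a ⟨ha, ha2⟩
        refine ⟨inv_mem ha, ?_⟩
        have : t * a⁻¹ * t⁻¹ = (t * a * t⁻¹)⁻¹ := by group
        rw [this, ha2] }
  have hFmem : ∀ x, x ∈ F ↔ x ∈ (M : Subgroup G) ∧ t * x * t⁻¹ = x⁻¹ := fun x => Iff.rfl
  set D : Subgroup G := (M : Subgroup G) ⊓ cz t with hD
  have h1 : Nat.card M ≤ Nat.card D * Nat.card F := by
    rw [← Nat.card_prod]
    apply Nat.card_le_card_of_surjective
      (fun z : D × F => (⟨z.1 * z.2, mul_mem z.1.2.1 ((hFmem _).mp z.2.2).1⟩ : (M : Subgroup G)))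
    rintro ⟨x, hx⟩
    have hxo := C.odd_of_pgroup M.2 hx
    obtain ⟨c, hc⟩ := hxo
    set u := x ^ (c + 1) with hu
    have huu : u * u = x := by
      have h2 : u * u = x ^ (orderOf x + 1) := by
        rw [hu, ← pow_add, hc]; congr 1; ring
      rw [h2, pow_succ, pow_orderOf_eq_one, one_mul]
    have huM : u ∈ (M : Subgroup G) := pow_mem hx _
    set u' := t * u * t⁻¹ with hu'
    have hu'M : u' ∈ (M : Subgroup G) := (Subgroup.mem_normalizer_iff.mp htN u).mp huM
    have huc : u * u' = u' * u := habM _ huM _ hu'M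
    have htu' : t * u' * t⁻¹ = u := by
      rw [hu']
      have : t * (t * u * t⁻¹) * t⁻¹ = (t * t) * u * (t * t)⁻¹ := by group
      rw [this, htt]; group
    have hd : u * u' ∈ D := by
      refine ⟨mul_mem huM hu'M, mem_cz.mpr ?_⟩
      have h3 : t * (u * u') * t⁻¹ = u * u' := by
        have : t * (u * u') * t⁻¹ = (t * u * t⁻¹) * (t * u' * t⁻¹) := by group
        rw [this, htu', ← hu', huc]
      calc u * u' * t = t * (u * u') * t⁻¹ * t := by rw [h3]
        _ = t * (u * u') := by group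
    have hf' : u * u'⁻¹ ∈ F := by
      refine (hFmem _).mpr ⟨mul_mem huM (inv_mem hu'M), ?_⟩
      have : t * (u * u'⁻¹) * t⁻¹ = (t * u * t⁻¹) * (t * u' * t⁻¹)⁻¹ := by group
      rw [this, htu', ← hu', mul_inv_rev, inv_inv]
    refine ⟨(⟨_, hd⟩, ⟨_, hf'⟩), ?_⟩
    apply Subtype.ext
    change u * u' * (u * u'⁻¹) = x
    rw [← huu]
    calc u * u' * (u * u'⁻¹) = u * (u' * u) * u'⁻¹ := by group
      _ = u * (u * u') * u'⁻¹ := by rw [huc]
      _ = u * u := by group
  obtain ⟨S, hS⟩ := hAp.exists_le_sylow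
  obtain ⟨g, hg⟩ := MulAction.exists_smul_eq G S M
  set A' : Subgroup G := A.map (MulAut.conj g).toMonoidHom with hA'
  have hgconj : ∀ a ∈ A, g * a * g⁻¹ ∈ (M : Subgroup G) := by
    intro a ha
    rw [← hg, mem_smul_sylow]
    have : g⁻¹ * (g * a * g⁻¹) * g = a := by group
    rw [this]
    exact hS ha
  have hA'M : A' ≤ M := by
    rintro _ ⟨a, ha, rfl⟩
    exact hgconj a ha
  have hdis : (A' ⊓ F : Subgroup G) = ⊥ := by
    rw [eq_bot_iff]
    rintro c ⟨⟨a, ha, hac⟩, hcF⟩
    have hac' : g * a * g⁻¹ = c := hac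
    by_contra hc1
    have hc1' : c ≠ 1 := by simpa using hc1
    have hXc : Xt t c := ⟨hc1', C.odd_of_pgroup M.2 ((hFmem c).mp hcF).1, ((hFmem c).mp hcF).2⟩
    have ha1 : a * t = t * a := mem_cz.mp ((hA a).mp ha).1
    have he : g * t * g⁻¹ ∈ cz c := by
      rw [mem_cz, ← hac']
      calc g * t * g⁻¹ * (g * a * g⁻¹) = g * (t * a) * g⁻¹ := by group
        _ = g * (a * t) * g⁻¹ := by rw [ha1]
        _ = g * a * g⁻¹ * (g * t * g⁻¹) := by group
    have he2 : g * t * g⁻¹ * (g * t * g⁻¹) = 1 := by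
      have : g * t * g⁻¹ * (g * t * g⁻¹) = g * (t * t) * g⁻¹ := by group
      rw [this, htt]; group
    have h4 := C.no_invol hC ht ht1 hXc he he2
    apply ht1
    have : t = g⁻¹ * (g * t * g⁻¹) * g := by group
    rw [this, h4]; group
  have h2 : Nat.card A * Nat.card F ≤ Nat.card M := by
    have h3 := Cfsg.Agent.H18.card_set_mul_mul_card_inf A' F
    rw [hdis, Subgroup.card_bot, mul_one] at h3
    have h4 : Nat.card A' = Nat.card A :=
      Subgroup.card_map_of_injective (MulAut.conj g).injective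
    rw [← h4, ← h3]
    apply Nat.card_mono (Set.toFinite _)
    rintro _ ⟨a, ha, b, hb, rfl⟩
    exact mul_mem (hA'M ha) ((hFmem b).mp hb).1
  have hFpos : 0 < Nat.card F := Nat.card_pos
  have h3 : Nat.card A ≤ Nat.card D := by
    have h5 : Nat.card A * Nat.card F ≤ Nat.card D * Nat.card F := h2.trans h1
    exact Nat.le_of_mul_le_mul_right h5 hFpos
  have hDA : D ≤ A := by
    rintro x ⟨hx1, hx2⟩
    exact (hA x).mpr ⟨hx2, C.odd_of_pgroup M.2 hx1⟩
  have heq : D = A := Subgroup.eq_of_le_of_card_ge hDA h3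
  have haA : a ∈ A := (hA a).mpr ⟨ha, hao⟩
  rw [← heq] at haA
  exact haA.1

theorem normQ {t v q : G} {M : Sylow p G} (ht : t ∈ (Q : Subgroup G)) (ht1 : t ≠ 1)
    (hv : v ∈ (M : Subgroup G)) (hX : Xt t v) (hq : q ∈ (Q : Subgroup G))
    (hqN : q ∈ Subgroup.normalizer ((M : Subgroup G) : Set G)) : q = 1 ∨ q = t := by
  by_contra hcon
  push Not at hcon
  obtain ⟨hq1, hqt⟩ := hcon
  have htt : t * t = 1 := C.sq_of_mem ht
  have hqq : q * q = 1 := C.sq_of_mem hq
  have hq' : q⁻¹ = q := inv_eq_of_mul_eq_one_left hqq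
  have htq : t * q = q * t := C.comm_Q ht hq
  have habM := C.hab M
  set v' := q * v * q⁻¹ with hv'
  have hv'M : v' ∈ (M : Subgroup G) := (Subgroup.mem_normalizer_iff.mp hqN v).mp hv
  have hcv : v * v' = v' * v := habM _ hv _ hv'M
  have htv' : t * v' * t⁻¹ = v'⁻¹ := by
    have h1 : t * (q * v * q⁻¹) * t⁻¹ = q * (t * v * t⁻¹) * q⁻¹ := by
      have h2 : t⁻¹ * q⁻¹ = q⁻¹ * t⁻¹ := by
        rw [← mul_inv_rev, ← mul_inv_rev, htq]
      calc t * (q * v * q⁻¹) * t⁻¹ = (t * q) * v * (q⁻¹ * t⁻¹) := by group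
        _ = (q * t) * v * (t⁻¹ * q⁻¹) := by rw [htq, h2]
        _ = q * (t * v * t⁻¹) * q⁻¹ := by group
    rw [hv', h1, hX.inv]
    group
  by_cases hz : v * v' = 1
  · have h1 : v' = v⁻¹ := eq_inv_of_mul_eq_one_right hz
    have hqv : (q * t) * v * (q * t)⁻¹ = v := by
      have : (q * t) * v * (q * t)⁻¹ = q * (t * v * t⁻¹) * q⁻¹ := by group
      rw [this, hX.inv]
      have h2 : q * v⁻¹ * q⁻¹ = (q * v * q⁻¹)⁻¹ := by group
      rw [h2, ← hv', h1, inv_inv]
    have h3 : q * t ∈ cz v := by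
      rw [mem_cz]
      calc q * t * v = (q * t) * v * (q * t)⁻¹ * (q * t) := by group
        _ = v * (q * t) := by rw [hqv]
    have h4 : (q * t) * (q * t) = 1 := C.sq_of_mem (mul_mem hq ht)
    have h5 := C.no_invol hC ht ht1 hX h3 h4
    apply hqt
    calc q = q * t * t⁻¹ := by group
      _ = t⁻¹ := by rw [h5, one_mul]
      _ = t := inv_eq_of_mul_eq_one_left htt
  · have hzM : v * v' ∈ (M : Subgroup G) := mul_mem hv hv'M
    have hXz : Xt t (v * v') := by
      refine ⟨hz, C.odd_of_pgroup M.2 hzM, ?_⟩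
      have h9 : t * (v * v') * t⁻¹ = (t * v * t⁻¹) * (t * v' * t⁻¹) := by group
      have h10 : (v * v')⁻¹ = v⁻¹ * v'⁻¹ := by
        have h11 : (v * v')⁻¹ = v'⁻¹ * v⁻¹ := mul_inv_rev v v'
        rw [h11]
        exact habM _ (inv_mem hv'M) _ (inv_mem hv)
      rw [h9, hX.inv, htv', h10]
    have hqz : q ∈ cz (v * v') := by
      rw [mem_cz]
      have h1 : q * v' * q⁻¹ = v := by
        rw [hv']
        have : q * (q * v * q⁻¹) * q⁻¹ = (q * q) * v * (q * q)⁻¹ := by group
        rw [this, hqq]; group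
      have h2 : q * (v * v') * q⁻¹ = v * v' := by
        have : q * (v * v') * q⁻¹ = (q * v * q⁻¹) * (q * v' * q⁻¹) := by group
        rw [this, ← hv', h1, hcv]
      calc q * (v * v') = q * (v * v') * q⁻¹ * q := by group
        _ = v * v' * q := by rw [h2]
    exact hq1 (C.no_invol hC ht ht1 hXz hqz hqq)

theorem sylow_trans {t f₁ f₂ : G} {M₁ M₂ : Sylow p G} (ht : t ∈ (Q : Subgroup G)) (ht1 : t ≠ 1)
    (htN₁ : t ∈ Subgroup.normalizer ((M₁ : Subgroup G) : Set G))
    (htN₂ : t ∈ Subgroup.normalizer ((M₂ : Subgroup G) : Set G))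
    (hf₁ : f₁ ∈ (M₁ : Subgroup G)) (hX₁ : Xt t f₁) (hf₂ : f₂ ∈ (M₂ : Subgroup G)) (hX₂ : Xt t f₂) :
    ∃ q ∈ (Q : Subgroup G), q • M₁ = M₂ := by
  haveI : Fact p.Prime := ⟨C.hp⟩
  have htt : t * t = 1 := C.sq_of_mem ht
  obtain ⟨g, hg⟩ := MulAction.exists_smul_eq G M₁ M₂
  set N := Subgroup.normalizer ((M₂ : Subgroup G) : Set G) with hN
  have ht'N : g * t * g⁻¹ ∈ N := by
    have h1 : (g * t * g⁻¹) • M₂ = M₂ := by
      rw [← hg, smul_smul]
      have h2 : g * t * g⁻¹ * g = g * t := by group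
      rw [h2, mul_smul, Sylow.smul_eq_iff_mem_normalizer.mpr htN₁]
    exact Sylow.smul_eq_iff_mem_normalizer.mp h1
  have hot : orderOf t = 2 ^ 1 := by
    rw [pow_one]; exact orderOf_eq_prime (by rw [pow_two, htt]) ht1
  have hot' : orderOf (g * t * g⁻¹) = 2 ^ 1 := by rw [conj_order', hot]
  have hB : IsPGroup 2 (Subgroup.zpowers t) := H19.isPGroup_zpowers_of_orderOf hot
  have hB' : IsPGroup 2 (Subgroup.zpowers (g * t * g⁻¹)) := H19.isPGroup_zpowers_of_orderOf hot'
  have hzp : ∀ x ∈ Subgroup.zpowers t, x = 1 ∨ x = t := by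
    intro x hx
    obtain ⟨k, rfl⟩ := Subgroup.mem_zpowers_iff.mp hx
    have ht2 : t ^ 2 = 1 := by rw [pow_two, htt]
    rcases Int.even_or_odd' k with ⟨m, rfl | rfl⟩
    · left; rw [zpow_mul, zpow_ofNat, ht2]; simp
    · right; rw [zpow_add, zpow_mul, zpow_ofNat, ht2]; simp
  have hmax : ∀ R : Subgroup G, R ≤ N → IsPGroup 2 R → Subgroup.zpowers t ≤ R →
      R = Subgroup.zpowers t := by
    intro R hRN hRp hle
    apply le_antisymm _ hle
    intro e he
    have htR : t ∈ R := hle (Subgroup.mem_zpowers t)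
    have hc : e * t = t * e := C.two_comm hRp he htR
    have heQ := C.mem_Q hC ht ht1 (C.two_sq hRp he) (mem_cz.mpr hc)
    rcases C.normQ hC ht ht1 hf₂ hX₂ heQ (hRN he) with h | h
    · rw [h]; exact one_mem _
    · rw [h]; exact Subgroup.mem_zpowers t
  obtain ⟨n, hnN, hn⟩ := exists_conj_le_of_maximal
    (X := N) (B := Subgroup.zpowers t) (Q := Subgroup.zpowers (g * t * g⁻¹)) (p := 2)
    (by rw [Subgroup.zpowers_le]; exact htN₂) hB hmax
    (by rw [Subgroup.zpowers_le]; exact ht'N) hB'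
  have h1 : n * (g * t * g⁻¹) * n⁻¹ ∈ Subgroup.zpowers t :=
    hn ⟨_, Subgroup.mem_zpowers _, rfl⟩
  have h2 : n * (g * t * g⁻¹) * n⁻¹ = t := by
    rcases hzp _ h1 with h | h
    · exfalso
      apply ht1
      have h3 : t = g⁻¹ * n⁻¹ * (n * (g * t * g⁻¹) * n⁻¹) * n * g := by group
      rw [h3, h]; group
    · exact h
  set x := n * g with hx
  have hxc : x ∈ cz t := by
    rw [mem_cz]
    calc x * t = (n * (g * t * g⁻¹) * n⁻¹) * (n * g) := by rw [hx]; group
      _ = t * x := by rw [h2]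
  obtain ⟨M, -, hM, hdec⟩ := C.lemC htt ht1
  obtain ⟨m, hm, s, hs, hes⟩ := hdec Q (C.Q_le_cz ht) Q.2
    (fun R hR hRp hle => Q.is_maximal' hRp hle) x hxc
  obtain ⟨hm1, hmo⟩ := (hM m).mp hm
  have hmM : m ∈ (M₁ : Subgroup G) := C.A_le hC ht ht1 htN₁ hf₁ hX₁ hm1 hmo
  have hcm : m * s = s * m := hC t ht ht1 m hm1 hmo s hs
  refine ⟨s, hs, ?_⟩
  have h3 : x • M₁ = M₂ := by
    rw [hx, mul_smul, hg]
    exact Sylow.smul_eq_iff_mem_normalizer.mpr hnN
  rw [← h3, hes, hcm, mul_smul, Sylow.smul_eq_iff_mem_normalizer.mpr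
    (Subgroup.le_normalizer (H := (M₁ : Subgroup G)) hmM)]

theorem invol_X {t s : G} (ht : t ∈ (Q : Subgroup G)) (ht1 : t ≠ 1) (hs : s * s = 1)
    (hsQ : s ∉ (Q : Subgroup G)) : Xt t (t * s) := by
  have htt : t * t = 1 := C.sq_of_mem ht
  have ht' : t⁻¹ = t := inv_eq_of_mul_eq_one_left htt
  have hs' : s⁻¹ = s := inv_eq_of_mul_eq_one_left hs
  have hinv : t * (t * s) * t⁻¹ = (t * s)⁻¹ := by
    rw [mul_inv_rev, hs', ht', ← mul_assoc, htt, one_mul]
  have hne : t * s ≠ 1 := by
    intro h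
    apply hsQ
    have : s = t⁻¹ := eq_inv_of_mul_eq_one_right h
    rw [this]
    exact inv_mem ht
  refine ⟨hne, ?_, hinv⟩
  by_contra hno
  set u := t * s with hu
  have h2 : 2 ∣ orderOf u := even_iff_two_dvd.mp (Nat.not_odd_iff_even.mp hno)
  have huo : orderOf u ≠ 0 := (orderOf_pos u).ne'
  have h4 : ¬ 4 ∣ orderOf u := by
    intro h
    have ho : orderOf (u ^ (orderOf u / 4)) = 2 ^ 2 := orderOf_pow_orderOf_div huo h
    have h5 := C.two_elt ho
    have h6 : orderOf (u ^ (orderOf u / 4)) ∣ 2 :=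
      orderOf_dvd_of_pow_eq_one (by rw [pow_two]; exact h5)
    rw [ho] at h6
    omega
  have hwo : Odd (orderOf (u ^ 2)) := by
    rw [orderOf_pow_of_dvd (by norm_num) h2]
    obtain ⟨c, hc⟩ := h2
    rw [hc, Nat.mul_div_cancel_left _ (by norm_num)]
    by_contra hc2
    obtain ⟨d, hd⟩ := even_iff_two_dvd.mp (Nat.not_odd_iff_even.mp hc2)
    apply h4
    rw [hc, hd]
    exact ⟨d, by ring⟩
  have hw1 : u ^ 2 ≠ 1 := by
    intro h
    have h5 : u * u = 1 := by rwa [pow_two] at h
    have h6 : t * s = s * t := comm_of_sq C htt hs h5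
    exact hsQ (C.mem_Q hC ht ht1 hs (mem_cz.mpr h6.symm))
  have hXw : Xt t (u ^ 2) := by
    refine ⟨hw1, hwo, ?_⟩
    have : t * u ^ 2 * t⁻¹ = (t * u * t⁻¹) ^ 2 := by
      rw [pow_two, pow_two]; group
    rw [this, hinv, inv_pow]
  have ho2 : orderOf (u ^ (orderOf u / 2)) = 2 := orderOf_pow_orderOf_div huo h2
  have he : u ^ (orderOf u / 2) ∈ cz (u ^ 2) := by
    rw [mem_cz, ← pow_add, ← pow_add, add_comm]
  have he2 : u ^ (orderOf u / 2) * u ^ (orderOf u / 2) = 1 := by
    have := pow_orderOf_eq_one (u ^ (orderOf u / 2))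
    rwa [ho2, pow_two] at this
  have h7 := C.no_invol hC ht ht1 hXw he he2
  rw [h7, orderOf_one] at ho2
  omega

theorem X_invol {t u : G} (ht : t ∈ (Q : Subgroup G)) (hX : Xt t u) :
    (t * u) * (t * u) = 1 ∧ t * u ≠ 1 ∧ t * u ∉ (Q : Subgroup G) := by
  have htt : t * t = 1 := C.sq_of_mem ht
  have ht' : t⁻¹ = t := inv_eq_of_mul_eq_one_left htt
  have h1 : t * u * t = u⁻¹ := by
    have := hX.inv
    rwa [ht'] at this
  have h2 : (t * u) * (t * u) = 1 := by
    calc (t * u) * (t * u) = (t * u * t) * u := by group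
      _ = 1 := by rw [h1]; group
  refine ⟨h2, ?_, ?_⟩
  · intro h
    have h3 : u = t⁻¹ := eq_inv_of_mul_eq_one_right h
    apply hX.ne
    apply odd_eq_one hX.odd
    rw [h3, ht', htt]
  · intro h
    have h3 : u ∈ (Q : Subgroup G) := by
      have : u = t⁻¹ * (t * u) := by group
      rw [this]
      exact mul_mem (inv_mem ht) h
    exact hX.ne (odd_eq_one hX.odd (C.sq_of_mem h3))

theorem dvd_card_invol {t v : G} {M : Sylow p G} (ht : t ∈ (Q : Subgroup G)) (ht1 : t ≠ 1)
    (hvM : v ∈ (M : Subgroup G)) (hX : Xt t v) : p ∣ Nat.card {e : G // e * e = 1 ∧ e ≠ 1} := by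
  haveI : Fact p.Prime := ⟨C.hp⟩
  letI : MulAction (M : Subgroup G) {e : G // e * e = 1 ∧ e ≠ 1} :=
    { smul := fun m e => ⟨(m : G) * e.1 * (m : G)⁻¹, by
        constructor
        · have : (m : G) * e.1 * (m : G)⁻¹ * ((m : G) * e.1 * (m : G)⁻¹)
              = (m : G) * (e.1 * e.1) * (m : G)⁻¹ := by group
          rw [this, e.2.1]; group
        · intro h
          apply e.2.2
          have : e.1 = (m : G)⁻¹ * ((m : G) * e.1 * (m : G)⁻¹) * m := by group
          rw [this, h]; group⟩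
      one_smul := fun e => by
        apply Subtype.ext
        change ((1 : (M : Subgroup G)) : G) * e.1 * ((1 : (M : Subgroup G)) : G)⁻¹ = e.1
        simp
      mul_smul := fun m n e => by
        apply Subtype.ext
        change ((m * n : (M : Subgroup G)) : G) * e.1 * ((m * n : (M : Subgroup G)) : G)⁻¹
          = (m : G) * ((n : G) * e.1 * (n : G)⁻¹) * (m : G)⁻¹
        simp only [Subgroup.coe_mul]
        group }
  have h1 := M.2.card_modEq_card_fixedPoints {e : G // e * e = 1 ∧ e ≠ 1}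
  have h2 : IsEmpty (MulAction.fixedPoints (M : Subgroup G) {e : G // e * e = 1 ∧ e ≠ 1}) := by
    constructor
    rintro ⟨e, he⟩
    have h3 := he ⟨v, hvM⟩
    have h4 : v * e.1 * v⁻¹ = e.1 := congrArg Subtype.val h3
    apply e.2.2
    apply C.no_invol hC ht ht1 hX (mem_cz.mpr _) e.2.1
    calc e.1 * v = v * e.1 * v⁻¹ * v := by rw [h4]
      _ = v * e.1 := by group
  have h3 : Nat.card (MulAction.fixedPoints (M : Subgroup G) {e : G // e * e = 1 ∧ e ≠ 1}) = 0 :=
    Nat.card_of_isEmpty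
  rw [h3] at h1
  exact Nat.modEq_zero_iff_dvd.mp h1

theorem dvd_card_F {t v : G} {M : Sylow p G} (hvM : v ∈ (M : Subgroup G)) (hX : Xt t v)
    (ht : t * t = 1) (htN : t ∈ Subgroup.normalizer ((M : Subgroup G) : Set G)) (Xs : Finset G)
    (hXs : ∀ x, x ∈ Xs ↔ Xt t x) [DecidablePred (· ∈ (M : Subgroup G))] :
    p ∣ (Xs.filter (· ∈ (M : Subgroup G))).card + 1 := by
  classical
  haveI : Fact p.Prime := ⟨C.hp⟩
  have habM := C.hab M
  let F : Subgroup G :=
    { carrier := {x | x ∈ (M : Subgroup G) ∧ t * x * t⁻¹ = x⁻¹}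
      mul_mem' := by
        rintro a b ⟨ha, ha2⟩ ⟨hb, hb2⟩
        refine ⟨mul_mem ha hb, ?_⟩
        have : t * (a * b) * t⁻¹ = (t * a * t⁻¹) * (t * b * t⁻¹) := by group
        rw [this, ha2, hb2, mul_inv_rev, ← habM _ (inv_mem ha) _ (inv_mem hb)]
      one_mem' := ⟨one_mem _, by simp⟩
      inv_mem' := by
        rintro a ⟨ha, ha2⟩
        refine ⟨inv_mem ha, ?_⟩
        have : t * a⁻¹ * t⁻¹ = (t * a * t⁻¹)⁻¹ := by group
        rw [this, ha2] }
  have hFmem : ∀ x, x ∈ F ↔ x ∈ (M : Subgroup G) ∧ t * x * t⁻¹ = x⁻¹ := fun x => Iff.rfl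
  have hFp : IsPGroup p F := M.2.to_le (fun x hx => ((hFmem x).mp hx).1)
  have hcard : Nat.card F = (Xs.filter (· ∈ (M : Subgroup G))).card + 1 := by
    have h1 : Nat.card F = (insert 1 (Xs.filter (· ∈ (M : Subgroup G)))).card := by
      apply Nat.subtype_card
      intro x
      rw [Finset.mem_insert, Finset.mem_filter, hXs]
      constructor
      · rintro (h | ⟨h1, h2⟩)
        · rw [h]; exact one_mem _
        · exact (hFmem x).mpr ⟨h2, h1.inv⟩
      · intro h
        by_cases h1 : x = 1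
        · left; exact h1
        · right
          obtain ⟨h2, h3⟩ := (hFmem x).mp h
          exact ⟨⟨h1, C.odd_of_pgroup M.2 h2, h3⟩, h2⟩
    rw [h1, Finset.card_insert_of_notMem]
    rw [Finset.mem_filter, hXs]
    intro h
    exact h.1.ne rfl
  rw [← hcard]
  obtain ⟨n, hn⟩ := IsPGroup.iff_card.mp hFp
  rw [hn]
  rcases Nat.eq_zero_or_pos n with rfl | hpos
  · exfalso
    have h1 : Nat.card F = 1 := by simpa using hn
    have h2 : F = ⊥ := Subgroup.card_eq_one.mp h1
    have h3 : v ∈ F := (hFmem v).mpr ⟨hvM, hX.inv⟩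
    rw [h2] at h3
    exact hX.ne (by simpa using h3)
  · exact dvd_pow_self p hpos.ne'

theorem no_X {t v : G} (ht : t ∈ (Q : Subgroup G)) (ht1 : t ≠ 1) (hX : Xt t v) : False := by
  classical
  haveI : Fact p.Prime := ⟨C.hp⟩
  haveI := Fintype.ofFinite G
  have htt : t * t = 1 := C.sq_of_mem ht
  set Js : Finset G := Finset.univ.filter (fun e : G => e * e = 1 ∧ e ≠ 1) with hJs
  set Qs : Finset G := Finset.univ.filter (fun e : G => e ∈ (Q : Subgroup G) ∧ e ≠ 1) with hQs
  set Xs : Finset G := Finset.univ.filter (fun e : G => Xt t e) with hXsdef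
  have hXs : ∀ x, x ∈ Xs ↔ Xt t x := by intro x; simp [hXsdef]
  have hQcard : Qs.card = p := by
    have h1 := ncard_nonone (Q : Subgroup G)
    have h2 : ({a | a ∈ (Q : Subgroup G) ∧ a ≠ 1} : Set G) = (Qs : Set G) := by
      ext a; simp [hQs]
    rw [h2, Set.ncard_coe_finset, C.hcard] at h1
    simpa using h1
  have hQJ : Qs ⊆ Js := by
    intro e he
    simp only [hQs, hJs, Finset.mem_filter, Finset.mem_univ, true_and] at he ⊢
    exact ⟨C.sq_of_mem he.1, he.2⟩
  have hdiff : (Js \ Qs).card = Xs.card := by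
    apply Finset.card_nbij' (fun s => t * s) (fun u => t * u)
    · intro s hs
      have hs' : s ∈ Js \ Qs := hs
      rw [Finset.mem_sdiff] at hs'
      simp only [hQs, hJs, Finset.mem_filter, Finset.mem_univ, true_and, not_and, not_not] at hs'
      have hsQ : s ∉ (Q : Subgroup G) := fun h => hs'.1.2 (hs'.2 h)
      exact (hXs _).mpr (C.invol_X hC ht ht1 hs'.1.1 hsQ)
    · intro u hu
      have hu' : Xt t u := (hXs u).mp hu
      obtain ⟨h1, h2, h3⟩ := C.X_invol hC ht hu'
      have : t * u ∈ Js \ Qs := by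
        rw [Finset.mem_sdiff]
        simp only [hQs, hJs, Finset.mem_filter, Finset.mem_univ, true_and, not_and]
        exact ⟨⟨h1, h2⟩, fun h => absurd h h3⟩
      exact this
    · intro s _
      simp only
      rw [← mul_assoc, htt, one_mul]
    · intro u _
      simp only
      rw [← mul_assoc, htt, one_mul]
  have hJcard : Js.card = p + Xs.card := by
    rw [← hdiff, ← hQcard]
    have := Finset.card_sdiff_add_card_eq_card hQJ
    omega
  obtain ⟨M₁, hvM₁, -, htM₁, hu₁⟩ := C.lemA hX.ne hX.odd htt ht1 hX.inv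
  have hJd : p ∣ Js.card := by
    have h1 := C.dvd_card_invol hC ht ht1 hvM₁ hX
    have h2 : Nat.card {e : G // e * e = 1 ∧ e ≠ 1} = Js.card :=
      Nat.subtype_card _ (by intro x; simp [hJs])
    rwa [h2] at h1
  set PP : Finset (Sylow p G) := Finset.univ.filter
    (fun M : Sylow p G => t ∈ Subgroup.normalizer ((M : Subgroup G) : Set G) ∧
      ∃ f ∈ (M : Subgroup G), Xt t f) with hPP
  have hPPmem : ∀ M, M ∈ PP ↔ t ∈ Subgroup.normalizer ((M : Subgroup G) : Set G) ∧
      ∃ f ∈ (M : Subgroup G), Xt t f := by intro M; simp [hPP]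
  have hM₁PP : M₁ ∈ PP := (hPPmem _).mpr ⟨htM₁, v, hvM₁, hX⟩
  have hcover : Xs = PP.biUnion (fun M => Xs.filter (· ∈ (M : Subgroup G))) := by
    ext x
    simp only [Finset.mem_biUnion, Finset.mem_filter]
    constructor
    · intro hx
      have hx' := (hXs x).mp hx
      obtain ⟨P, hP1, -, hP3, -⟩ := C.lemA hx'.ne hx'.odd htt ht1 hx'.inv
      exact ⟨P, (hPPmem _).mpr ⟨hP3, x, hP1, hx'⟩, hx, hP1⟩
    · rintro ⟨_, _, hx, _⟩
      exact hx
  have hdisj : (PP : Set (Sylow p G)).PairwiseDisjoint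
      (fun M => Xs.filter (· ∈ (M : Subgroup G))) := by
    intro M _ M' _ hne
    simp only [Function.onFun]
    rw [Finset.disjoint_left]
    intro x hx hx2
    rw [Finset.mem_filter] at hx hx2
    have hx' := (hXs x).mp hx.1
    obtain ⟨P, -, -, -, hu⟩ := C.lemA hx'.ne hx'.odd htt ht1 hx'.inv
    exact hne ((hu M hx.2).trans (hu M' hx2.2).symm)
  have hsum : Xs.card + PP.card =
      ∑ M ∈ PP, ((Xs.filter (· ∈ (M : Subgroup G))).card + 1) := by
    rw [Finset.sum_add_distrib, Finset.sum_const, smul_eq_mul, mul_one]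
    congr 1
    conv_lhs => rw [hcover]
    exact Finset.card_biUnion hdisj
  have hpd : p ∣ Xs.card + PP.card := by
    rw [hsum]
    apply Finset.dvd_sum
    intro M hM
    obtain ⟨h1, f, hf, hXf⟩ := (hPPmem M).mp hM
    exact C.dvd_card_F hC hf hXf htt h1 Xs hXs
  have hbound : 2 * PP.card ≤ p + 1 := by
    set S : Finset G := Finset.univ.filter
      (fun q : G => q ∈ (Q : Subgroup G) ∧ q • M₁ ∈ PP) with hS
    have h1 : 2 * PP.card ≤ S.card := by
      apply Finset.mul_card_image_le_card_of_maps_to (f := fun q : G => q • M₁)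
      · intro q hq
        simp only [hS, Finset.mem_filter, Finset.mem_univ, true_and] at hq
        exact hq.2
      · intro b hb
        obtain ⟨h1, f, hf, hXf⟩ := (hPPmem b).mp hb
        obtain ⟨q, hq, hqb⟩ := C.sylow_trans hC ht ht1 htM₁ h1 hvM₁ hX hf hXf
        have htfix : t • M₁ = M₁ := Sylow.smul_eq_iff_mem_normalizer.mpr htM₁
        have hqt : (q * t) • M₁ = b := by rw [mul_smul, htfix, hqb]
        have hmem1 : q ∈ S.filter (fun a => a • M₁ = b) := by
          simp only [hS, Finset.mem_filter, Finset.mem_univ, true_and]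
          exact ⟨⟨hq, by rw [hqb]; exact hb⟩, hqb⟩
        have hmem2 : q * t ∈ S.filter (fun a => a • M₁ = b) := by
          simp only [hS, Finset.mem_filter, Finset.mem_univ, true_and]
          exact ⟨⟨mul_mem hq ht, by rw [hqt]; exact hb⟩, hqt⟩
        have hne : q ≠ q * t := by
          intro h
          apply ht1
          exact (mul_eq_left.mp h.symm)
        exact Finset.one_lt_card.mpr ⟨q, hmem1, q * t, hmem2, hne⟩
    have h2 : S.card ≤ p + 1 := by
      have h3 : S ⊆ Finset.univ.filter (fun q : G => q ∈ (Q : Subgroup G)) := by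
        intro q hq
        simp only [hS, Finset.mem_filter, Finset.mem_univ, true_and] at hq ⊢
        exact hq.1
      have h4 : Nat.card (Q : Subgroup G) =
          (Finset.univ.filter (fun q : G => q ∈ (Q : Subgroup G))).card :=
        Nat.subtype_card _ (by simp)
      have h5 := Finset.card_le_card h3
      rw [← h4, C.hcard] at h5
      exact h5
    omega
  have hd2 : p ∣ Xs.card := by
    rw [hJcard] at hJd
    exact (Nat.dvd_add_right (dvd_refl p)).mp hJd
  have hd3 : p ∣ PP.card := (Nat.dvd_add_right hd2).mp hpd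
  have hpos : 0 < PP.card := Finset.card_pos.mpr ⟨M₁, hM₁PP⟩
  have hle := Nat.le_of_dvd hpos hd3
  have hp2 := C.hp.two_le
  have hp3 : p ≠ 2 := C.hodd
  omega

theorem exists_ne_one_Q : ∃ t ∈ (Q : Subgroup G), t ≠ 1 := by
  clear hC
  have h1 : Nontrivial (Q : Subgroup G) := by
    rw [← Finite.one_lt_card_iff_nontrivial, C.hcard]
    have := C.hp.pos
    omega
  obtain ⟨x, hx⟩ := exists_ne (1 : (Q : Subgroup G))
  exact ⟨x, x.2, by simpa using hx⟩

theorem invol_mem_Q {s : G} (hs : s * s = 1) : s ∈ (Q : Subgroup G) := by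
  obtain ⟨t, ht, ht1⟩ := exists_ne_one_Q C hC
  by_contra hsQ
  exact C.no_X hC ht ht1 (C.invol_X hC ht ht1 hs hsQ)

theorem path1_concl (r : ℕ) (hr : r.Prime) (hrG : r ∣ Nat.card G) : r = p ∨ r = 2 := by
  haveI : Fact r.Prime := ⟨hr⟩
  by_contra hcon
  push Not at hcon
  obtain ⟨hrp, hr2⟩ := hcon
  obtain ⟨z, hz⟩ := exists_prime_orderOf_dvd_card' (G := G) r hrG
  have hN : z ∈ Subgroup.normalizer ((Q : Subgroup G) : Set G) := by
    apply mem_normalizer_of_map_conj_le
    rintro _ ⟨a, ha, rfl⟩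
    apply C.invol_mem_Q hC
    change z * a * z⁻¹ * (z * a * z⁻¹) = 1
    have : z * a * z⁻¹ * (z * a * z⁻¹) = z * (a * a) * z⁻¹ := by group
    rw [this, C.sq_of_mem ha]; group
  obtain ⟨t, ht, ht1⟩ := exists_ne_one_Q C hC
  have hQ1 : (Q : Subgroup G) ≠ ⊥ := by
    intro h
    rw [h] at ht
    exact ht1 (by simpa using ht)
  have h1 := star_eq_one C.hp Nat.prime_two C.hodd C.star Q.2 hQ1 hN
    (by rw [hz]; exact (Nat.coprime_primes hr C.hp).mpr hrp)
    (by rw [hz]; exact (Nat.coprime_primes hr Nat.prime_two).mpr hr2)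
  rw [h1, orderOf_one] at hz
  exact hr.one_lt.ne hz

end Cfg

end Cfsg.Agent.H13.TP
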