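import Mathlib

/-!
Regular graphs in which any two distinct vertices have exactly one common neighbour have degree at
most two (the trace argument of the friendship theorem; the argument follows Huneke's proof as
formalized by Anderson, Stark and Miller).
-/

set_option autoImplicit false
set_option linter.unusedSectionVars false
set_option linter.unusedVariables false

namespace Cfsg.Agent.H13.TP.Fr

noncomputable section

open Finset SimpleGraph Matrix

universe u v

variable {V : Type u} {R : Type v} [Semiring R]

open scoped Classical in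
/-- Any two distinct vertices have exactly one common neighbour. -/
def Fship [Fintype V] (G : SimpleGraph V) : Prop :=
  ∀ ⦃v w : V⦄, v ≠ w → Fintype.card (G.commonNeighbors v w) = 1

variable [Fintype V] {G : SimpleGraph V} {d : ℕ} (hG : Fship G)

variable (R)

set_option backward.isDefEq.respectTransparency false in
open scoped Classical in
include hG in
theorem adjM_sq_of_ne {v w : V} (hvw : v ≠ w) :
    (G.adjMatrix R ^ 2 : Matrix V V R) v w = 1 := by
  rw [sq, ← Nat.cast_one, ← hG hvw]
  simp only [mul_adjMatrix_apply, neighborFinset_eq_filter, adjMatrix_apply,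
    sum_boole, filter_filter, and_comm, commonNeighbors,
    Fintype.card_ofFinset (s := filter (fun x ↦ x ∈ G.neighborSet v ∩ G.neighborSet w) univ),
    Set.mem_inter_iff, mem_neighborSet]

variable {R}

open scoped Classical in
include hG in
theorem adjM_sq_of_regular (hd : G.IsRegularOfDegree d) :
    G.adjMatrix R ^ 2 = of fun v w => if v = w then (d : R) else (1 : R) := by
  ext (v w); by_cases h : v = w
  · rw [h, sq, adjMatrix_mul_self_apply_self, hd]; simp
  · rw [adjM_sq_of_ne R hG h, of_apply, if_neg h]

open scoped Classical in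
include hG in
theorem adjM_sq_mod_p_of_regular {p : ℕ} (dmod : (d : ZMod p) = 1)
    (hd : G.IsRegularOfDegree d) : G.adjMatrix (ZMod p) ^ 2 = of fun _ _ => 1 := by
  simp [adjM_sq_of_regular hG hd, dmod]

section Nonempty

variable [Nonempty V]

open scoped Classical in
include hG in
theorem card_of_reg (hd : G.IsRegularOfDegree d) : d + (Fintype.card V - 1) = d * d := by
  have v := Classical.arbitrary V
  trans ((G.adjMatrix ℕ ^ 2) *ᵥ (fun _ => 1)) v
  · rw [adjM_sq_of_regular hG hd, mulVec, dotProduct, ← insert_erase (mem_univ v)]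
    simp only [sum_insert, mul_one, if_true, Nat.cast_id, mem_erase, not_true,
      Ne, not_false_iff, add_right_inj, false_and, of_apply]
    rw [Finset.sum_const_nat, card_erase_of_mem (mem_univ v), mul_one]; · rfl
    intro x hx; simp [(ne_of_mem_erase hx).symm]
  · rw [sq, ← mulVec_mulVec]
    simp only [adjMatrix_mulVec_const_apply_of_regular hd, neighborFinset,
      Function.const_def, adjMatrix_mulVec_apply _ _ (mulVec _ _),
      mul_one, Nat.cast_id]
    have h9 : (G.neighborSet v).toFinset.sum (Function.const V d)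
        = ∑ _x ∈ (G.neighborSet v).toFinset, d := rfl
    rw [h9, Finset.sum_const, Set.toFinset_card, card_neighborSet_eq_degree, hd v, smul_eq_mul]

open scoped Classical in
include hG in
theorem card_mod_p_of_reg {p : ℕ} (dmod : (d : ZMod p) = 1) (hd : G.IsRegularOfDegree d) :
    (Fintype.card V : ZMod p) = 1 := by
  have hpos : 0 < Fintype.card V := Fintype.card_pos_iff.mpr inferInstance
  rw [← Nat.succ_pred_eq_of_pos hpos, Nat.succ_eq_add_one, Nat.pred_eq_sub_one]
  simp only [add_eq_right, Nat.cast_add, Nat.cast_one]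
  have h := congr_arg (fun n : ℕ => (n : ZMod p)) (card_of_reg hG hd)
  revert h; simp [dmod]

end Nonempty

open scoped Classical in
theorem adjM_sq_mul_const_one_of_regular (hd : G.IsRegularOfDegree d) :
    G.adjMatrix R * of (fun _ _ => 1) = of (fun _ _ => (d : R)) := by
  ext x
  simp only [← hd x, degree, adjMatrix_mul_apply, sum_const, Nat.smul_one_eq_cast,
    of_apply]

open scoped Classical in
theorem adjM_mul_const_one_mod_p_of_regular {p : ℕ} (dmod : (d : ZMod p) = 1)
    (hd : G.IsRegularOfDegree d) :
    G.adjMatrix (ZMod p) * of (fun _ _ => 1) = of (fun _ _ => 1) := by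
  rw [adjM_sq_mul_const_one_of_regular hd, dmod]

open scoped Classical in
include hG in
theorem adjM_pow_mod_p_of_regular {p : ℕ} (dmod : (d : ZMod p) = 1)
    (hd : G.IsRegularOfDegree d) {k : ℕ} (hk : 2 ≤ k) :
    G.adjMatrix (ZMod p) ^ k = of (fun _ _ => 1) := by
  match k with
  | 0 | 1 => exfalso; linarith
  | k + 2 =>
    induction k with
    | zero => exact adjM_sq_mod_p_of_regular hG dmod hd
    | succ k hind =>
      rw [pow_succ', hind (Nat.le_add_left 2 k)]
      exact adjM_mul_const_one_mod_p_of_regular dmod hd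

variable [Nonempty V]

open scoped Classical in
include hG in
theorem false_of_three_le (hd : G.IsRegularOfDegree d) (h : 3 ≤ d) : False := by
  let p : ℕ := (d - 1).minFac
  have p_dvd_d_pred := (ZMod.natCast_eq_zero_iff _ _).mpr (d - 1).minFac_dvd
  have dpos : 1 ≤ d := by lia
  have d_cast : ↑(d - 1) = (d : ℤ) - 1 := by norm_cast
  have : Fact p.Prime := ⟨Nat.minFac_prime (by lia)⟩
  have hp2 : 2 ≤ p := (Fact.out (p := p.Prime)).two_le
  have dmod : (d : ZMod p) = 1 := by
    rw [← Nat.succ_pred_eq_of_pos dpos, Nat.succ_eq_add_one, Nat.pred_eq_sub_one]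
    simp only [add_eq_right, Nat.cast_add, Nat.cast_one]
    exact p_dvd_d_pred
  have Vmod := card_mod_p_of_reg hG dmod hd
  have := ZMod.trace_pow_card (G.adjMatrix (ZMod p))
  contrapose! this; clear this
  rw [trace_adjMatrix, zero_pow this.out.ne_zero]
  rw [adjM_pow_mod_p_of_regular hG dmod hd hp2]
  dsimp only [Fintype.card] at Vmod
  simp only [Matrix.trace, Matrix.diag, mul_one, nsmul_eq_mul, sum_const,
    of_apply, Ne]
  rw [Vmod, ← Nat.cast_one (R := ZMod (Nat.minFac (d - 1))), ZMod.natCast_eq_zero_iff,
    Nat.dvd_one, Nat.minFac_eq_one_iff]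
  lia

end

/-- The statement in elementary terms. -/
theorem no_friend {W : Type*} [Finite W] [Nonempty W] (adj : W → W → Prop)
    (hsym : ∀ a b, adj a b → adj b a) (hirr : ∀ a, ¬ adj a a)
    (hfr : ∀ a b, a ≠ b → ∃! z, adj a z ∧ adj b z) (d : ℕ)
    (hreg : ∀ a, ({z | adj a z} : Set W).ncard = d) (hd : 3 ≤ d) : False := by
  classical
  haveI := Fintype.ofFinite W
  let G : SimpleGraph W := { Adj := adj, symm := ⟨fun a b h => hsym a b h⟩, loopless := ⟨hirr⟩ }
  have hF : Fship G := by
    intro v w hvw
    obtain ⟨z, hz, huniq⟩ := hfr v w hvw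
    rw [Fintype.card_eq_one_iff]
    refine ⟨⟨z, ?_⟩, ?_⟩
    · exact ⟨hz.1, hz.2⟩
    · rintro ⟨x, hx⟩
      apply Subtype.ext
      exact huniq x ⟨hx.1, hx.2⟩
  have hR : G.IsRegularOfDegree d := by
    intro v
    rw [← hreg v, ← SimpleGraph.card_neighborSet_eq_degree, ← Nat.card_eq_fintype_card]
    rfl
  exact false_of_three_le hF hR hd

end Cfsg.Agent.H13.TP.Fr
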