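import Cfsg.Agent.Lib.H13.TP3
import Cfsg.Agent.Lib.H19.Sp2

/-!
If `|Q| ≥ 8` then `Q` centralizes the odd part of the centralizer of each of its involutions.
-/

set_option autoImplicit false
set_option linter.unusedSectionVars false
set_option linter.unusedVariables false
set_option linter.style.haveILetI false
set_option maxHeartbeats 1000000

namespace Cfsg.Agent.H13.TP

open Cfsg

universe u
variable {G : Type u} [Group G] [Finite G]

namespace Cfg

variable {p : ℕ} {Q : Sylow 2 G} {y : G} (C : Cfg p G Q y)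
include C

/-- An invertible-conjugate witness: a nontrivial odd element inverted by an involution, with the
elements of `Q` commuting with it or inverting it, has all `y`-conjugates commuting. -/
theorem y_comm_of_common {w τ q : G} (hτ : τ ∈ (Q : Subgroup G)) (hτ1 : τ ≠ 1)
    (hq : q ∈ (Q : Subgroup G)) (hq1 : q ≠ 1)
    (hw : Xt q w) (h1 : w * τ = τ * w) (h2 : (y * w * y⁻¹) * τ = τ * (y * w * y⁻¹)) :
    y * w = w * y := by
  haveI : Fact p.Prime := ⟨C.hp⟩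
  have hττ : τ * τ = 1 := C.sq_of_mem hτ
  have hqq : q * q = 1 := C.sq_of_mem hq
  have hw1o : Odd (orderOf (y * w * y⁻¹)) := by rw [conj_order']; exact hw.odd
  have hcomm : (y * w * y⁻¹) * w = w * (y * w * y⁻¹) :=
    C.odd_comm hττ hτ1 (mem_cz.mpr h2) hw1o (mem_cz.mpr h1) hw.odd
  obtain ⟨P, hP1, hP2, -, -⟩ := C.lemA hw.ne hw.odd hqq hq1 hw.inv
  have hw1P : y * w * y⁻¹ ∈ (P : Subgroup G) := hP2 _ (mem_cz.mpr hcomm) hw1o
  have hqc : (y * q * y⁻¹) * (y * q * y⁻¹) = 1 := by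
    have : (y * q * y⁻¹) * (y * q * y⁻¹) = y * (q * q) * y⁻¹ := by group
    rw [this, hqq]; group
  have hqc1 : y * q * y⁻¹ ≠ 1 := by
    intro h
    apply hq1
    have : q = y⁻¹ * (y * q * y⁻¹) * y := by group
    rw [this, h]; group
  have hinvc : (y * q * y⁻¹) * (y * w * y⁻¹) * (y * q * y⁻¹)⁻¹ = (y * w * y⁻¹)⁻¹ := by
    have h3 : (y * q * y⁻¹) * (y * w * y⁻¹) * (y * q * y⁻¹)⁻¹ = y * (q * w * q⁻¹) * y⁻¹ := by group
    rw [h3, hw.inv]; group
  have hw1ne : y * w * y⁻¹ ≠ 1 := by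
    intro h
    apply hw.ne
    have : w = y⁻¹ * (y * w * y⁻¹) * y := by group
    rw [this, h]; group
  obtain ⟨P₁, -, -, -, hu⟩ := C.lemA hw1ne hw1o hqc hqc1 hinvc
  have h3 : y * w * y⁻¹ ∈ ((y • P : Sylow p G) : Subgroup G) := by
    rw [mem_smul_sylow]
    have : y⁻¹ * (y * w * y⁻¹) * y = w := by group
    rw [this]
    exact hP1
  have h4 : y • P = P := (hu _ h3).trans (hu _ hw1P).symm
  have hyN : y ∈ Subgroup.normalizer ((P : Subgroup G) : Set G) :=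
    Sylow.smul_eq_iff_mem_normalizer.mp h4
  obtain ⟨k, hk⟩ := C.hyo
  have hyP : y ∈ (P : Subgroup G) := Cfsg.Agent.H19.Sp.mem_sylow_of_normalizer P hk hyN
  exact C.hab P _ hyP _ hP1

theorem cen_large (h8 : 8 ≤ p + 1) {t : G} (ht : t ∈ (Q : Subgroup G)) (ht1 : t ≠ 1) : Cen Q t := by
  classical
  haveI : Fact p.Prime := ⟨C.hp⟩
  haveI := Fintype.ofFinite G
  by_contra hnc
  unfold Cen at hnc
  push Not at hnc
  obtain ⟨x, hx, hxo, q₀, hq₀, hne₀⟩ := hnc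
  have htt : t * t = 1 := C.sq_of_mem ht
  obtain ⟨M, hMp, hM, -⟩ := C.lemC htt ht1
  have hcomm : ∀ a ∈ M, ∀ b ∈ M, a * b = b * a := by
    intro a ha b hb
    exact C.odd_comm htt ht1 ((hM a).mp ha).1 ((hM a).mp ha).2 ((hM b).mp hb).1 ((hM b).mp hb).2
  have hconj : ∀ q ∈ (Q : Subgroup G), ∀ x ∈ M, q * x * q⁻¹ ∈ M := by
    intro q hq x hx
    obtain ⟨h1, h2⟩ := (hM x).mp hx
    have hqc := C.Q_le_cz ht hq
    exact (hM _).mpr ⟨mul_mem (mul_mem hqc h1) (inv_mem hqc), by rw [conj_order']; exact h2⟩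
  have hoddM : ∀ x ∈ M, Odd (orderOf x) := fun x hx => ((hM x).mp hx).2
  let K : G → Finset G := fun x => Finset.univ.filter (fun a => a ∈ (Q : Subgroup G) ∧ x * a = a * x)
  have hK : ∀ x a, a ∈ K x ↔ a ∈ (Q : Subgroup G) ∧ x * a = a * x := by
    intro x a; simp [K]
  let W : Finset G := Finset.univ.filter
    (fun x => x ∈ M ∧ ∃ q ∈ (Q : Subgroup G), x * q ≠ q * x)
  have hWm : ∀ x, x ∈ W ↔ x ∈ M ∧ ∃ q ∈ (Q : Subgroup G), x * q ≠ q * x := by
    intro x; simp [W]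
  have hWne : W.Nonempty := ⟨x, (hWm x).mpr ⟨(hM x).mpr ⟨hx, hxo⟩, q₀, hq₀, hne₀⟩⟩
  obtain ⟨w, hw, hmax⟩ := Finset.exists_max_image W (fun x => (K x).card) hWne
  obtain ⟨hwM, q, hq, hwq⟩ := (hWm w).mp hw
  have hqq : q * q = 1 := C.sq_of_mem hq
  have hqi : q⁻¹ = q := inv_eq_of_mul_eq_one_left hqq
  set w₁ := q * w * q⁻¹ with hw₁
  have hw₁M : w₁ ∈ M := hconj q hq w hwM
  have hqw₁ : q * w₁ * q⁻¹ = w := by
    rw [hw₁]
    have : q * (q * w * q⁻¹) * q⁻¹ = (q * q) * w * (q * q)⁻¹ := by group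
    rw [this, hqq]; group
  set w0 := w * w₁⁻¹ with hw0
  have hw0M : w0 ∈ M := mul_mem hwM (inv_mem hw₁M)
  have hqinv : q * w0 * q⁻¹ = w0⁻¹ := by
    have h1 : q * (w * w₁⁻¹) * q⁻¹ = (q * w * q⁻¹) * (q * w₁ * q⁻¹)⁻¹ := by group
    rw [hw0, h1, ← hw₁, hqw₁, mul_inv_rev, inv_inv]
  have hw0ne : w0 ≠ 1 := by
    intro h
    have h1 : w = w₁ := by
      have : w * w₁⁻¹ = 1 := h
      exact mul_inv_eq_one.mp this
    apply hwq
    calc w * q = q * w * q⁻¹ * q := by rw [← hw₁, ← h1]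
      _ = q * w := by group
  have hinv_not_comm : ∀ z ∈ M, z ≠ 1 → ∀ r ∈ (Q : Subgroup G), r * z * r⁻¹ = z⁻¹ → z * r ≠ r * z := by
    intro z hz hz1 r _ hr h
    apply hz1
    apply odd_eq_one (hoddM z hz)
    have h2 : r * z * r⁻¹ = z := by rw [← h]; group
    rw [h2] at hr
    calc z * z = z * z⁻¹ := by
          nth_rewrite 2 [hr]
          rfl
      _ = 1 := by group
  have hw0nc : w0 * q ≠ q * w0 := hinv_not_comm w0 hw0M hw0ne q hq hqinv
  have hw0W : w0 ∈ W := (hWm w0).mpr ⟨hw0M, q, hq, hw0nc⟩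
  have hsub : K w ⊆ K w0 := by
    intro a ha
    obtain ⟨ha1, ha2⟩ := (hK w a).mp ha
    refine (hK w0 a).mpr ⟨ha1, ?_⟩
    have hcq : Commute q a := C.comm_Q hq ha1
    have hcw : Commute w a := ha2
    have h3 : Commute w₁ a := (hcq.mul_left hcw).mul_left hcq.inv_left
    exact (hcw.mul_left h3.inv_left)
  have hKeq : K w = K w0 := Finset.eq_of_subset_of_card_le hsub (hmax w0 hw0W)
  have hinvert : ∀ r ∈ (Q : Subgroup G), w0 * r ≠ r * w0 → r * w0 * r⁻¹ = w0⁻¹ := by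
    intro r hr hrn
    by_contra hrinv
    set z := w0 * (r * w0 * r⁻¹) with hz
    have hrr : r * r = 1 := C.sq_of_mem hr
    have hrw : r * w0 * r⁻¹ ∈ M := hconj r hr w0 hw0M
    have hzM : z ∈ M := mul_mem hw0M hrw
    have hz1 : z ≠ 1 := by
      intro h
      apply hrinv
      exact (eq_inv_of_mul_eq_one_right h)
    have hrz : z * r = r * z := by
      have h1 : r * (r * w0 * r⁻¹) * r⁻¹ = w0 := by
        have : r * (r * w0 * r⁻¹) * r⁻¹ = (r * r) * w0 * (r * r)⁻¹ := by group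
        rw [this, hrr]; group
      have h2 : r * z * r⁻¹ = z := by
        have : r * (w0 * (r * w0 * r⁻¹)) * r⁻¹ = (r * w0 * r⁻¹) * (r * (r * w0 * r⁻¹) * r⁻¹) := by
          group
        rw [hz, this, h1]
        exact hcomm _ hrw _ hw0M
      calc z * r = r * z * r⁻¹ * r := by rw [h2]
        _ = r * z := by group
    have hqz : q * z * q⁻¹ = z⁻¹ := by
      have hqr : q * r = r * q := C.comm_Q hq hr
      have h1 : q * (r * w0 * r⁻¹) * q⁻¹ = r * (q * w0 * q⁻¹) * r⁻¹ := by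
        have h2 : r⁻¹ * q⁻¹ = q⁻¹ * r⁻¹ := by
          rw [← mul_inv_rev, ← mul_inv_rev, hqr]
        calc q * (r * w0 * r⁻¹) * q⁻¹ = (q * r) * w0 * (r⁻¹ * q⁻¹) := by group
          _ = (r * q) * w0 * (q⁻¹ * r⁻¹) := by rw [hqr, h2]
          _ = r * (q * w0 * q⁻¹) * r⁻¹ := by group
      have h3 : q * (w0 * (r * w0 * r⁻¹)) * q⁻¹ = (q * w0 * q⁻¹) * (q * (r * w0 * r⁻¹) * q⁻¹) := by
        group
      have h4 : z⁻¹ = w0⁻¹ * (r * w0 * r⁻¹)⁻¹ := by
        have h5 : z⁻¹ = (r * w0 * r⁻¹)⁻¹ * w0⁻¹ := mul_inv_rev w0 (r * w0 * r⁻¹)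
        rw [h5]
        exact hcomm _ (inv_mem hrw) _ (inv_mem hw0M)
      rw [hz, h3, h1, hqinv, ← hz, h4]
      congr 1
      group
    have hznc : z * q ≠ q * z := hinv_not_comm z hzM hz1 q hq hqz
    have hzW : z ∈ W := (hWm z).mpr ⟨hzM, q, hq, hznc⟩
    have hsub2 : K w0 ⊂ K z := by
      refine ⟨?_, fun h => ?_⟩
      · intro a ha
        obtain ⟨ha1, ha2⟩ := (hK w0 a).mp ha
        refine (hK z a).mpr ⟨ha1, ?_⟩
        have hcr : Commute r a := C.comm_Q hr ha1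
        have hcw : Commute w0 a := ha2
        have h3 : Commute (r * w0 * r⁻¹) a := (hcr.mul_left hcw).mul_left hcr.inv_left
        exact hcw.mul_left h3
      · have h3 := h ((hK z r).mpr ⟨hr, hrz⟩)
        exact hrn ((hK w0 r).mp h3).2
    have h5 := Finset.card_lt_card hsub2
    have h6 := hmax z hzW
    rw [hKeq] at h6
    omega
  have hprod : ∀ a ∈ (Q : Subgroup G), ∀ b ∈ (Q : Subgroup G),
      (w0 * a = a * w0 ↔ w0 * b = b * w0) → w0 * (a * b) = (a * b) * w0 := by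
    intro a ha b hb hiff
    by_cases h1 : w0 * a = a * w0
    · have h2 := hiff.mp h1
      have hc1 : Commute w0 a := h1
      have hc2 : Commute w0 b := h2
      exact hc1.mul_right hc2
    · have h2 : w0 * b ≠ b * w0 := fun h => h1 (hiff.mpr h)
      have h3 := hinvert a ha h1
      have h4 := hinvert b hb h2
      have h5 : (a * b) * w0 * (a * b)⁻¹ = w0 := by
        have h6 : (a * b) * w0 * (a * b)⁻¹ = a * (b * w0 * b⁻¹) * a⁻¹ := by group
        have h7 : a * w0⁻¹ * a⁻¹ = (a * w0 * a⁻¹)⁻¹ := by group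
        rw [h6, h4, h7, h3, inv_inv]
      calc w0 * (a * b) = (a * b) * w0 * (a * b)⁻¹ * (a * b) := by rw [h5]
        _ = (a * b) * w0 := by group
  have hyQ : ∀ a ∈ (Q : Subgroup G), y⁻¹ * a * y ∈ (Q : Subgroup G) := by
    intro a ha
    have h1 := (Subgroup.mem_normalizer_iff.mp (inv_mem C.hyN) a).mp ha
    simpa using h1
  let f : ↥(Q : Subgroup G) → Bool × Bool := fun a =>
    (decide (w0 * a = a * w0), decide (w0 * (y⁻¹ * a * y) = (y⁻¹ * a * y) * w0))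
  have hlt : Fintype.card (Bool × Bool) < Fintype.card ↥(Q : Subgroup G) := by
    rw [← Nat.card_eq_fintype_card (α := ↥(Q : Subgroup G)), C.hcard]
    simp
    omega
  obtain ⟨a, b, hab, hfab⟩ := Fintype.exists_ne_map_eq_of_card_lt f hlt
  have hf1 : (w0 * (a : G) = a * w0 ↔ w0 * (b : G) = b * w0) := by
    have := congrArg Prod.fst hfab
    simpa [f] using this
  have hf2 : (w0 * (y⁻¹ * (a : G) * y) = (y⁻¹ * a * y) * w0 ↔
      w0 * (y⁻¹ * (b : G) * y) = (y⁻¹ * b * y) * w0) := by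
    have := congrArg Prod.snd hfab
    simpa [f] using this
  set τ := (a : G) * b with hτ
  have hτQ : τ ∈ (Q : Subgroup G) := mul_mem a.2 b.2
  have hτ1 : τ ≠ 1 := by
    intro h
    apply hab
    apply Subtype.ext
    have h1 : (a : G) = (b : G)⁻¹ := eq_inv_of_mul_eq_one_left h
    rw [h1]
    exact inv_eq_of_mul_eq_one_left (C.sq_of_mem b.2)
  have hτ2 : w0 * τ = τ * w0 := hprod a a.2 b b.2 hf1
  have hτ3 : w0 * (y⁻¹ * τ * y) = (y⁻¹ * τ * y) * w0 := by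
    have h1 := hprod _ (hyQ a a.2) _ (hyQ b b.2) hf2
    have h2 : (y⁻¹ * (a : G) * y) * (y⁻¹ * (b : G) * y) = y⁻¹ * τ * y := by
      rw [hτ]; group
    rwa [h2] at h1
  have hτ4 : (y * w0 * y⁻¹) * τ = τ * (y * w0 * y⁻¹) := by
    have h1 : y * (w0 * (y⁻¹ * τ * y)) * y⁻¹ = (y * w0 * y⁻¹) * τ := by group
    have h2 : y * ((y⁻¹ * τ * y) * w0) * y⁻¹ = τ * (y * w0 * y⁻¹) := by group
    rw [← h1, ← h2, hτ3]
  have hX0 : Xt q w0 := ⟨hw0ne, hoddM w0 hw0M, hqinv⟩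
  have hq1 : q ≠ 1 := by
    intro h
    apply hw0nc
    rw [h]; group
  have hyc := C.y_comm_of_common hτQ hτ1 hq hq1 hX0 hτ2 hτ4
  obtain ⟨i, hi⟩ := C.trans hτQ hτ1 hq hq1
  have hc1 : Commute (y ^ i) w0 := Commute.zpow_left hyc i
  have hc2 : Commute τ w0 := hτ2.symm
  apply hw0nc
  have h5 : Commute (y ^ i * τ * (y ^ i)⁻¹) w0 := (hc1.mul_left hc2).mul_left hc1.inv_left
  rw [hi] at h5
  exact h5.symm

end Cfg

end Cfsg.Agent.H13.TP
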