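import Cfsg.Agent.Lib.H13.TP4
import Cfsg.Agent.Lib.H13.TP5

/-!
If `|Q| = 4` then `Q` centralizes the odd part of the centralizer of each of its involutions:
otherwise the commuting graph on the involutions is a regular friendship graph of degree at least
three.
-/

set_option autoImplicit false
set_option linter.unusedSectionVars false
set_option linter.unusedVariables false
set_option linter.style.haveILetI false
set_option maxHeartbeats 1000000

namespace Cfsg.Agent.H13.TP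

open Cfsg

universe u
variable {G : Type u} [Group G] [Finite G]

theorem four_cases (T : Subgroup G) (hT : Nat.card T ≤ 4) {a b c : G} (ha : a ∈ T) (hb : b ∈ T)
    (hc : c ∈ T) (ha1 : a ≠ 1) (hb1 : b ≠ 1) (hab : a ≠ b) (habi : a * b ≠ 1) (hc1 : c ≠ 1)
    (hca : c ≠ a) (hcb : c ≠ b) : c = a * b := by
  classical
  by_contra hne
  let S : Finset G := {1, a, b, a * b, c}
  have h1a : a * b ≠ a := by simpa using hb1
  have h1b : a * b ≠ b := by simpa using ha1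
  have hS : S.card = 5 := by
    simp only [S]
    rw [Finset.card_insert_of_notMem, Finset.card_insert_of_notMem, Finset.card_insert_of_notMem,
      Finset.card_insert_of_notMem, Finset.card_singleton]
    · simp only [Finset.mem_singleton]; exact fun h => hne h.symm
    · simp only [Finset.mem_insert, Finset.mem_singleton, not_or]
      exact ⟨fun h => h1b h.symm, fun h => hcb h.symm⟩
    · simp only [Finset.mem_insert, Finset.mem_singleton, not_or]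
      exact ⟨fun h => hab h, fun h => h1a h.symm, fun h => hca h.symm⟩
    · simp only [Finset.mem_insert, Finset.mem_singleton, not_or]
      exact ⟨fun h => ha1 h.symm, fun h => hb1 h.symm, fun h => habi h.symm, fun h => hc1 h.symm⟩
  have hsub : (S : Set G) ⊆ T := by
    intro x hx
    simp only [S, Finset.coe_insert, Finset.coe_singleton, Set.mem_insert_iff,
      Set.mem_singleton_iff] at hx
    rcases hx with rfl | rfl | rfl | rfl | rfl
    · exact one_mem _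
    · exact ha
    · exact hb
    · exact mul_mem ha hb
    · exact hc
  have h3 := Set.ncard_le_ncard hsub (Set.toFinite _)
  rw [Set.ncard_coe_finset, hS] at h3
  have h4 : ((T : Subgroup G) : Set G).ncard = Nat.card T := by
    rw [← Nat.card_coe_set_eq]; rfl
  omega

theorem closure_sq {k : Set G} (hcomm : ∀ x ∈ k, ∀ y ∈ k, x * y = y * x)
    (hk : ∀ x ∈ k, x * x = 1) {x : G} (hx : x ∈ Subgroup.closure k) : x * x = 1 := by
  haveI := Subgroup.isMulCommutative_closure hcomm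
  induction hx using Subgroup.closure_induction with
  | mem x h => exact hk x h
  | one => simp
  | mul x y hx hy h1 h2 =>
    have h3 : (⟨x, hx⟩ : Subgroup.closure k) * ⟨y, hy⟩ = ⟨y, hy⟩ * ⟨x, hx⟩ := mul_comm' _ _
    have h4 : x * y = y * x := congrArg Subtype.val h3
    calc x * y * (x * y) = x * (y * x) * y := by group
       _ = x * (x * y) * y := by rw [h4]
       _ = (x * x) * (y * y) := by group
       _ = 1 := by rw [h1, h2, one_mul]
  | inv x hx h1 =>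
    calc x⁻¹ * x⁻¹ = (x * x)⁻¹ := by group
       _ = 1 := by rw [h1, inv_one]

theorem isPGroup_closure_two {k : Set G} (hcomm : ∀ x ∈ k, ∀ y ∈ k, x * y = y * x)
    (hk : ∀ x ∈ k, x * x = 1) : IsPGroup 2 (Subgroup.closure k) := by
  intro g
  refine ⟨1, Subtype.ext ?_⟩
  have h := closure_sq hcomm hk g.2
  simpa [pow_two] using h

theorem zpowers_of_sq {z x : G} (hz : z * z = 1) (hx : x ∈ Subgroup.zpowers z) : x = 1 ∨ x = z := by
  obtain ⟨k, rfl⟩ := Subgroup.mem_zpowers_iff.mp hx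
  have h2 : z ^ (2 : ℤ) = 1 := by rw [zpow_two]; exact hz
  rcases Int.even_or_odd k with ⟨r, rfl⟩ | ⟨r, rfl⟩
  · left
    rw [← two_mul, zpow_mul, h2, one_zpow]
  · right
    rw [zpow_add_one, zpow_mul, h2, one_zpow, one_mul]

theorem eq_one_of_inv_comm {x r : G} (hx : Odd (orderOf x)) (hinv : r * x * r⁻¹ = x⁻¹)
    (hc : x * r = r * x) : x = 1 := by
  apply odd_eq_one hx
  have h2 : r * x * r⁻¹ = x := by rw [← hc]; group
  rw [h2] at hinv
  calc x * x = x⁻¹ * x := by rw [← hinv]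
    _ = 1 := by group

namespace Cfg

variable {p : ℕ} {Q : Sylow 2 G} {y : G} (C : Cfg p G Q y)
include C

theorem zpow_pelt (i : ℤ) : ∃ k, orderOf (y ^ i) = p ^ k := by
  obtain ⟨k, hk⟩ := C.hyo
  have h1 : orderOf (y ^ i) ∣ p ^ k := by
    apply orderOf_dvd_of_pow_eq_one
    rw [← zpow_natCast, ← zpow_mul, mul_comm, zpow_mul, zpow_natCast, ← hk, pow_orderOf_eq_one,
      one_zpow]
  obtain ⟨j, -, hj⟩ := (Nat.dvd_prime_pow C.hp).mp h1
  exact ⟨j, hj⟩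

theorem tau_false {t₁ t₂ τ w f : G} {P : Sylow p G}
    (ht₁ : t₁ ∈ (Q : Subgroup G)) (ht₁1 : t₁ ≠ 1)
    (ht₂ : t₂ ∈ (Q : Subgroup G)) (ht₂1 : t₂ ≠ 1)
    (hτ : τ ∈ (Q : Subgroup G)) (hτ1 : τ ≠ 1)
    (hwt₁ : w * t₁ = t₁ * w) (hw : Xt t₂ w) (hwτ : Xt τ w) (hwP : w ∈ (P : Subgroup G))
    (hf : Xt t₁ f) (hfP : f ∈ (P : Subgroup G)) (hfτ : f * τ = τ * f) : False := by
  haveI : Fact p.Prime := ⟨C.hp⟩
  obtain ⟨i, hi⟩ := C.trans ht₁ ht₁1 hτ hτ1
  obtain ⟨k, hk⟩ := C.zpow_pelt i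
  set y' := y ^ i with hy'
  have htt₁ := C.sq_of_mem ht₁
  have htt₂ := C.sq_of_mem ht₂
  have hττ := C.sq_of_mem hτ
  set w' := y' * w * y'⁻¹ with hw'
  have hw'o : Odd (orderOf w') := by rw [hw', conj_order']; exact hw.odd
  have hw'τ : w' * τ = τ * w' := by
    rw [← hi, hw']
    calc y' * w * y'⁻¹ * (y' * t₁ * y'⁻¹) = y' * (w * t₁) * y'⁻¹ := by group
      _ = y' * (t₁ * w) * y'⁻¹ := by rw [hwt₁]
      _ = y' * t₁ * y'⁻¹ * (y' * w * y'⁻¹) := by group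
  have hcomm : w' * f = f * w' :=
    C.odd_comm hττ hτ1 (mem_cz.mpr hw'τ) hw'o (mem_cz.mpr hfτ) hf.odd
  obtain ⟨P', -, hP'2, -, hP'u⟩ := C.lemA hf.ne hf.odd htt₁ ht₁1 hf.inv
  have hPP' : P = P' := hP'u P hfP
  have hw'P : w' ∈ (P : Subgroup G) := by rw [hPP']; exact hP'2 _ (mem_cz.mpr hcomm) hw'o
  have hw'1 : w' ≠ 1 := by
    intro h
    apply hw.ne
    have : w = y'⁻¹ * w' * y' := by rw [hw']; group
    rw [this, h]; group
  have hqq : (y' * t₂ * y'⁻¹) * (y' * t₂ * y'⁻¹) = 1 := by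
    have : (y' * t₂ * y'⁻¹) * (y' * t₂ * y'⁻¹) = y' * (t₂ * t₂) * y'⁻¹ := by group
    rw [this, htt₂]; group
  have hq1 : y' * t₂ * y'⁻¹ ≠ 1 := by
    intro h
    apply ht₂1
    have : t₂ = y'⁻¹ * (y' * t₂ * y'⁻¹) * y' := by group
    rw [this, h]; group
  have hinv : (y' * t₂ * y'⁻¹) * w' * (y' * t₂ * y'⁻¹)⁻¹ = w'⁻¹ := by
    have : (y' * t₂ * y'⁻¹) * w' * (y' * t₂ * y'⁻¹)⁻¹ = y' * (t₂ * w * t₂⁻¹) * y'⁻¹ := by
      rw [hw']; group
    rw [this, hw.inv, hw']; group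
  obtain ⟨P₁, -, -, -, hu⟩ := C.lemA hw'1 hw'o hqq hq1 hinv
  have h3 : w' ∈ ((y' • P : Sylow p G) : Subgroup G) := by
    rw [mem_smul_sylow]
    have : y'⁻¹ * w' * y' = w := by rw [hw']; group
    rw [this]; exact hwP
  have h4 : y' • P = P := (hu _ h3).trans (hu _ hw'P).symm
  have hyN : y' ∈ Subgroup.normalizer ((P : Subgroup G) : Set G) :=
    Sylow.smul_eq_iff_mem_normalizer.mp h4
  have hyP : y' ∈ (P : Subgroup G) := Cfsg.Agent.H19.Sp.mem_sylow_of_normalizer P hk hyN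
  have hc : y' * w = w * y' := C.hab P _ hyP _ hwP
  have hw'w : w' = w := by rw [hw', hc]; group
  rw [hw'w] at hw'τ
  exact hw.ne (eq_one_of_inv_comm hw.odd hwτ.inv hw'τ)

theorem p2_central {t₁ t₂ w : G} {P : Sylow p G}
    (ht₁ : t₁ ∈ (Q : Subgroup G)) (ht₁1 : t₁ ≠ 1)
    (ht₂ : t₂ ∈ (Q : Subgroup G)) (ht₂1 : t₂ ≠ 1) (h12 : t₁ ≠ t₂)
    (hwt₁ : w * t₁ = t₁ * w) (hw : Xt t₂ w) (hwP : w ∈ (P : Subgroup G))
    (h1N : t₁ ∈ Subgroup.normalizer ((P : Subgroup G) : Set G))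
    (h2N : t₂ ∈ Subgroup.normalizer ((P : Subgroup G) : Set G))
    {f : G} (hfP : f ∈ (P : Subgroup G)) : f * t₁ = t₁ * f := by
  haveI : Fact p.Prime := ⟨C.hp⟩
  by_contra hne
  have htt₁ := C.sq_of_mem ht₁
  have htt₂ := C.sq_of_mem ht₂
  have h1i : t₁⁻¹ = t₁ := inv_eq_of_mul_eq_one_left htt₁
  have h2i : t₂⁻¹ = t₂ := inv_eq_of_mul_eq_one_left htt₂
  set f' := t₁ * f * t₁⁻¹ with hf'
  have hf'P : f' ∈ (P : Subgroup G) := (Subgroup.mem_normalizer_iff.mp h1N f).mp hfP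
  set f₁ := f * f'⁻¹ with hf₁
  have hf₁P : f₁ ∈ (P : Subgroup G) := mul_mem hfP (inv_mem hf'P)
  have hf₁o : Odd (orderOf f₁) := C.odd_of_pgroup P.2 hf₁P
  have hf₁1 : f₁ ≠ 1 := by
    intro h
    apply hne
    have h1 : f = f' := mul_inv_eq_one.mp h
    calc f * t₁ = f' * t₁ := by rw [← h1]
      _ = t₁ * f := by rw [hf']; group
  have hf₁inv : t₁ * f₁ * t₁⁻¹ = f₁⁻¹ := by
    have h1 : t₁ * f₁ * t₁⁻¹ = f' * (t₁ * f' * t₁⁻¹)⁻¹ := by rw [hf₁, hf']; group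
    have h2 : t₁ * f' * t₁⁻¹ = f := by
      rw [hf']
      have : t₁ * (t₁ * f * t₁⁻¹) * t₁⁻¹ = (t₁ * t₁) * f * (t₁ * t₁)⁻¹ := by group
      rw [this, htt₁]; group
    rw [h1, h2, hf₁]; group
  set g := t₂ * f₁ * t₂⁻¹ with hg
  have hgP : g ∈ (P : Subgroup G) := (Subgroup.mem_normalizer_iff.mp h2N f₁).mp hf₁P
  have hfg : f₁ * g = g * f₁ := C.hab P _ hf₁P _ hgP
  have hcomm12 : t₁ * t₂ = t₂ * t₁ := C.comm_Q ht₁ ht₂
  have h1g : t₁ * g * t₁⁻¹ = g⁻¹ := by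
    have h1 : t₁ * g * t₁⁻¹ = (t₁ * t₂) * f₁ * (t₁ * t₂)⁻¹ := by rw [hg]; group
    have h2 : (t₂ * t₁) * f₁ * (t₂ * t₁)⁻¹ = t₂ * (t₁ * f₁ * t₁⁻¹) * t₂⁻¹ := by group
    rw [h1, hcomm12, h2, hf₁inv, hg]; group
  by_cases hz : f₁ * g = 1
  · have hgi : g = f₁⁻¹ := eq_inv_of_mul_eq_one_right hz
    have hτQ : t₁ * t₂ ∈ (Q : Subgroup G) := mul_mem ht₁ ht₂
    have hτ1 : t₁ * t₂ ≠ 1 := by
      intro h
      apply h12
      have h1 : t₁ = t₂⁻¹ := eq_inv_of_mul_eq_one_left h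
      rw [h1, h2i]
    have hfτ : f₁ * (t₁ * t₂) = (t₁ * t₂) * f₁ := by
      have h1 : (t₁ * t₂) * f₁ * (t₁ * t₂)⁻¹ = f₁ := by
        have h2 : (t₁ * t₂) * f₁ * (t₁ * t₂)⁻¹ = t₁ * g * t₁⁻¹ := by rw [hg]; group
        rw [h2, h1g, hgi, inv_inv]
      calc f₁ * (t₁ * t₂) = (t₁ * t₂) * f₁ * (t₁ * t₂)⁻¹ * (t₁ * t₂) := by rw [h1]
        _ = (t₁ * t₂) * f₁ := by group
    have hwτ : Xt (t₁ * t₂) w := by
      refine ⟨hw.ne, hw.odd, ?_⟩
      have h1 : (t₁ * t₂) * w * (t₁ * t₂)⁻¹ = t₁ * (t₂ * w * t₂⁻¹) * t₁⁻¹ := by group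
      rw [h1, hw.inv]
      have h2 : t₁ * w * t₁⁻¹ = w := by rw [← hwt₁]; group
      have h3 : t₁ * w⁻¹ * t₁⁻¹ = (t₁ * w * t₁⁻¹)⁻¹ := by group
      rw [h3, h2]
    exact C.tau_false ht₁ ht₁1 ht₂ ht₂1 hτQ hτ1 hwt₁ hw hwτ hwP ⟨hf₁1, hf₁o, hf₁inv⟩ hf₁P hfτ
  · have hzP : f₁ * g ∈ (P : Subgroup G) := mul_mem hf₁P hgP
    have hzinv : t₁ * (f₁ * g) * t₁⁻¹ = (f₁ * g)⁻¹ := by
      have h1 : t₁ * (f₁ * g) * t₁⁻¹ = (t₁ * f₁ * t₁⁻¹) * (t₁ * g * t₁⁻¹) := by group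
      rw [h1, hf₁inv, h1g, hfg]; group
    have hzt : (f₁ * g) * t₂ = t₂ * (f₁ * g) := by
      have h1 : t₂ * (f₁ * g) * t₂⁻¹ = f₁ * g := by
        have h2 : t₂ * g * t₂⁻¹ = f₁ := by
          rw [hg]
          have : t₂ * (t₂ * f₁ * t₂⁻¹) * t₂⁻¹ = (t₂ * t₂) * f₁ * (t₂ * t₂)⁻¹ := by group
          rw [this, htt₂]; group
        have h3 : t₂ * (f₁ * g) * t₂⁻¹ = (t₂ * f₁ * t₂⁻¹) * (t₂ * g * t₂⁻¹) := by group
        rw [h3, h2, ← hg, hfg]
      calc (f₁ * g) * t₂ = t₂ * (f₁ * g) * t₂⁻¹ * t₂ := by rw [h1]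
        _ = t₂ * (f₁ * g) := by group
    exact C.tau_false ht₁ ht₁1 ht₂ ht₂1 ht₂ ht₂1 hwt₁ hw hw hwP
      ⟨hz, C.odd_of_pgroup P.2 hzP, hzinv⟩ hzP hzt

theorem invol_conj {t e : G} (ht : t ∈ (Q : Subgroup G)) (ht1 : t ≠ 1) (he : e * e = 1)
    (he1 : e ≠ 1) : ∃ g : G, g * e * g⁻¹ = t := by
  have h2 : IsPGroup 2 (Subgroup.closure ({e} : Set G)) := by
    apply isPGroup_closure_two
    · intro x hx y hy
      rw [Set.mem_singleton_iff] at hx hy
      rw [hx, hy]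
    · intro x hx
      rw [Set.mem_singleton_iff] at hx
      rw [hx]; exact he
  obtain ⟨g, hg⟩ := C.conj_into_Q h2
  have h3 : g * e * g⁻¹ ∈ (Q : Subgroup G) := hg e (Subgroup.subset_closure rfl)
  have h4 : g * e * g⁻¹ ≠ 1 := by
    intro h
    apply he1
    have : e = g⁻¹ * (g * e * g⁻¹) * g := by group
    rw [this, h]; group
  obtain ⟨i, hi⟩ := C.trans h3 h4 ht ht1
  refine ⟨y ^ i * g, ?_⟩
  rw [← hi]; group

theorem lemE (h4 : p + 1 = 4) {t v z : G} (ht : t * t = 1) (ht1 : t ≠ 1) (hX : Xt t v)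
    (hz : z * z = 1) (hz1 : z ≠ 1) (hvz : z ∈ cz v)
    (hPz : ∀ x ∈ cz v, Odd (orderOf x) → x * z = z * x) {e : G} (he : e * e = 1)
    (hec : e ∈ cz v) : e = 1 ∨ e = z := by
  have hF := C.frob_cz_inv hX.ne hX.odd ht ht1 hX.inv
  obtain ⟨M, hMle, hM, hdec⟩ := odd_part hF
  have hzo : orderOf z = 2 ^ 1 := by
    rw [pow_one]
    exact orderOf_eq_prime (by rw [pow_two]; exact hz) hz1
  have hS2 : IsPGroup 2 (Subgroup.zpowers z) := H19.isPGroup_zpowers_of_orderOf hzo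
  have hSle : Subgroup.zpowers z ≤ cz v := (Subgroup.zpowers_le).mpr hvz
  have hmaxS : ∀ R : Subgroup G, R ≤ cz v → IsPGroup 2 R → Subgroup.zpowers z ≤ R →
      R = Subgroup.zpowers z := by
    intro R hR hR2 hSR
    have h1 : Nat.card R < p + 1 := C.small_cz hX.ne hX.odd ht ht1 hX.inv hR hR2
    have h2 : Nat.card (Subgroup.zpowers z) = 2 := by
      rw [Nat.card_zpowers, hzo, pow_one]
    have h3 : Nat.card (Subgroup.zpowers z) ∣ Nat.card R := Subgroup.card_dvd_of_le hSR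
    rw [h2] at h3
    have h5 : 0 < Nat.card R := Nat.card_pos
    have h6 : Nat.card R = 2 := by omega
    exact (Subgroup.eq_of_le_of_card_ge hSR (by rw [h2, h6])).symm
  obtain ⟨m, hm, s, hs, hes⟩ := hdec _ hSle hS2 hmaxS e hec
  obtain ⟨hm1, hm2⟩ := (hM m).mp hm
  rcases zpowers_of_sq hz hs with rfl | rfl
  · left
    rw [mul_one] at hes
    rw [hes] at he ⊢
    exact odd_eq_one hm2 he
  · right
    have hc := hPz m hm1 hm2
    have h5 : m * m = 1 := by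
      have h6 : e * e = (m * m) * (s * s) := by
        rw [hes]
        calc m * s * (m * s) = m * (s * m) * s := by group
          _ = m * (m * s) * s := by rw [hc]
          _ = (m * m) * (s * s) := by group
      rw [he, hz, mul_one] at h6
      exact h6.symm
    have h6 : m = 1 := odd_eq_one hm2 h5
    rw [hes, h6, one_mul]

theorem E2 (h4 : p + 1 = 4) (hS : ∀ S : Sylow p G, ∃ z : G, z * z = 1 ∧ z ≠ 1 ∧
      ∀ x, x ∈ (S : Subgroup G) ↔ x ∈ cz z ∧ Odd (orderOf x))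
    {t v : G} (ht : t * t = 1) (ht1 : t ≠ 1) (hX : Xt t v) :
    ∃ z, z * z = 1 ∧ z ≠ 1 ∧ z ∈ cz v ∧ ∀ e, e * e = 1 → e ∈ cz v → e = 1 ∨ e = z := by
  obtain ⟨P, hP1, hP2, -, -⟩ := C.lemA hX.ne hX.odd ht ht1 hX.inv
  obtain ⟨z, hz, hz1, hzP⟩ := hS P
  have hvz : v * z = z * v := mem_cz.mp ((hzP v).mp hP1).1
  have hzv : z ∈ cz v := mem_cz.mpr hvz.symm
  refine ⟨z, hz, hz1, hzv, fun e he hec => ?_⟩
  refine C.lemE h4 ht ht1 hX hz hz1 hzv ?_ he hec
  intro x hx hxo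
  exact mem_cz.mp ((hzP x).mp (hP2 x hx hxo)).1

theorem sq_odd (u : G) : Odd (orderOf (u * u)) := by
  by_contra hno
  obtain ⟨r, hr⟩ := Nat.not_odd_iff_even.mp hno
  have hpos := orderOf_pos (u * u)
  have h3 : (u * u) ^ r ≠ 1 := pow_ne_one_of_lt_orderOf (by omega) (by omega)
  have h5 : (u ^ r) * (u ^ r) = (u * u) ^ r := by
    rw [← pow_two u, ← pow_mul, two_mul, pow_add]
  have h6 : (u ^ r) ^ (2 ^ (1 + 1)) = 1 := by
    have h7 : (u ^ r) ^ (2 ^ (1 + 1)) = (u * u) ^ (r + r) := by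
      rw [← pow_two u, ← pow_mul, ← pow_mul]
      congr 1
      ring
    rw [h7, ← hr, pow_orderOf_eq_one]
  have h7 : ¬ (u ^ r) ^ (2 ^ 1) = 1 := by
    rw [pow_one, pow_two, h5]
    exact h3
  have h8 : orderOf (u ^ r) = 2 ^ (1 + 1) := orderOf_eq_prime_pow h7 h6
  have h9 := C.two_elt h8
  exact h3 (h5 ▸ h9)

theorem common_comm (h4 : p + 1 = 4) {a b c : G} (ha : a * a = 1) (ha1 : a ≠ 1) (hb : b * b = 1)
    (hb1 : b ≠ 1) (hab : a ≠ b) (hcomm : a * b = b * a) (hc : c * c = 1) (hc1 : c ≠ 1) (hca : c ≠ a)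
    (hcb : c ≠ b) (h1 : a * c = c * a) (h2 : b * c = c * b) : c = a * b := by
  have hk : ∀ x ∈ ({a, b, c} : Set G), x * x = 1 := by
    intro x hx
    simp only [Set.mem_insert_iff, Set.mem_singleton_iff] at hx
    rcases hx with h | h | h <;> rw [h] <;> assumption
  have hk2 : ∀ x ∈ ({a, b, c} : Set G), ∀ y ∈ ({a, b, c} : Set G), x * y = y * x := by
    intro x hx y hy
    simp only [Set.mem_insert_iff, Set.mem_singleton_iff] at hx hy
    rcases hx with h | h | h <;> rcases hy with h' | h' | h' <;> rw [h, h'] <;>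
      first | rfl | assumption | (symm; assumption)
  have hT := isPGroup_closure_two hk2 hk
  have hcard := C.card_two_le hT
  have habi : a * b ≠ 1 := by
    intro h
    apply hab
    have h3 : a = b⁻¹ := eq_inv_of_mul_eq_one_left h
    rw [h3]
    exact inv_eq_of_mul_eq_one_left hb
  exact four_cases (Subgroup.closure ({a, b, c} : Set G)) (by omega)
    (Subgroup.subset_closure (by simp)) (Subgroup.subset_closure (by simp))
    (Subgroup.subset_closure (by simp)) ha1 hb1 hab habi hc1 hca hcb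

theorem common_noncomm (h4 : p + 1 = 4) (hS : ∀ S : Sylow p G, ∃ z : G, z * z = 1 ∧ z ≠ 1 ∧
      ∀ x, x ∈ (S : Subgroup G) ↔ x ∈ cz z ∧ Odd (orderOf x))
    {a b : G} (ha : a * a = 1) (ha1 : a ≠ 1) (hb : b * b = 1) (hb1 : b ≠ 1) (hcomm : a * b ≠ b * a) :
    ∃ z, z * z = 1 ∧ z ≠ 1 ∧ a * z = z * a ∧ b * z = z * b ∧ z ≠ a ∧ z ≠ b ∧
      ∀ c, c * c = 1 → c ≠ 1 → a * c = c * a → b * c = c * b → c = z := by
  have hai : a⁻¹ = a := inv_eq_of_mul_eq_one_left ha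
  have hbi : b⁻¹ = b := inv_eq_of_mul_eq_one_left hb
  set u := a * b with hu
  set v := u * u with hv
  have hv1 : v ≠ 1 := fun h => hcomm (comm_of_sq C ha hb h)
  have hvo : Odd (orderOf v) := C.sq_odd u
  have huia : a * u * a⁻¹ = u⁻¹ := by
    have h1 : u⁻¹ = b⁻¹ * a⁻¹ := by rw [hu]; group
    rw [h1, hu, hai, hbi]
    calc a * (a * b) * a = (a * a) * (b * a) := by group
      _ = b * a := by rw [ha, one_mul]
  have huib : b * u * b⁻¹ = u⁻¹ := by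
    have h1 : u⁻¹ = b⁻¹ * a⁻¹ := by rw [hu]; group
    rw [h1, hu, hai, hbi]
    calc b * (a * b) * b = b * a * (b * b) := by group
      _ = b * a := by rw [hb, mul_one]
  have hgen : ∀ t : G, t * u * t⁻¹ = u⁻¹ → t * v * t⁻¹ = v⁻¹ := by
    intro t ht
    have h1 : t * v * t⁻¹ = (t * u * t⁻¹) * (t * u * t⁻¹) := by rw [hv]; group
    rw [h1, ht, hv]; group
  have hXa : Xt a v := ⟨hv1, hvo, hgen a huia⟩
  have hXb : Xt b v := ⟨hv1, hvo, hgen b huib⟩
  obtain ⟨z, hz, hz1, hzv, hzu⟩ := C.E2 h4 hS ha ha1 hXa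
  have hfix : ∀ t : G, t * t = 1 → t * v * t⁻¹ = v⁻¹ → t * z = z * t := by
    intro t ht hinv
    have hN := norm_cz_of_inv ht hinv
    have h1 : t * z * t⁻¹ ∈ cz v := (Subgroup.mem_normalizer_iff.mp hN z).mp hzv
    have h2 : (t * z * t⁻¹) * (t * z * t⁻¹) = 1 := by
      have : (t * z * t⁻¹) * (t * z * t⁻¹) = t * (z * z) * t⁻¹ := by group
      rw [this, hz]; group
    have h3 : t * z * t⁻¹ ≠ 1 := by
      intro h
      apply hz1
      have : z = t⁻¹ * (t * z * t⁻¹) * t := by group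
      rw [this, h]; group
    rcases hzu _ h2 h1 with h | h
    · exact absurd h h3
    · calc t * z = (t * z * t⁻¹) * t := by group
        _ = z * t := by rw [h]
  have hza : z ≠ a := by
    intro h
    rw [h] at hzv
    exact hv1 (eq_one_of_inv_comm hvo hXa.inv (mem_cz.mp hzv).symm)
  have hzb : z ≠ b := by
    intro h
    rw [h] at hzv
    exact hv1 (eq_one_of_inv_comm hvo hXb.inv (mem_cz.mp hzv).symm)
  refine ⟨z, hz, hz1, hfix a ha hXa.inv, hfix b hb hXb.inv, hza, hzb, ?_⟩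
  intro c hc hc1 hca hcb
  have h1 : Commute c a := hca.symm
  have h2 : Commute c b := hcb.symm
  have h3 : Commute c u := h1.mul_right h2
  have h4 : Commute c v := h3.mul_right h3
  rcases hzu c hc (mem_cz.mpr h4) with h | h
  · exact absurd h hc1
  · exact h

theorem graph_false (h4 : p + 1 = 4) (hS : ∀ S : Sylow p G, ∃ z : G, z * z = 1 ∧ z ≠ 1 ∧
      ∀ x, x ∈ (S : Subgroup G) ↔ x ∈ cz z ∧ Odd (orderOf x))
    {t₁ n₁ n₂ n₃ : G} (ht₁ : t₁ ∈ (Q : Subgroup G)) (ht₁1 : t₁ ≠ 1)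
    (h1s : n₁ * n₁ = 1) (h11 : n₁ ≠ 1) (h1t : n₁ ≠ t₁) (h1c : t₁ * n₁ = n₁ * t₁)
    (h2s : n₂ * n₂ = 1) (h21 : n₂ ≠ 1) (h2t : n₂ ≠ t₁) (h2c : t₁ * n₂ = n₂ * t₁)
    (h3s : n₃ * n₃ = 1) (h31 : n₃ ≠ 1) (h3t : n₃ ≠ t₁) (h3c : t₁ * n₃ = n₃ * t₁)
    (h12 : n₁ ≠ n₂) (h13 : n₁ ≠ n₃) (h23 : n₂ ≠ n₃) : False := by
  classical
  let W := {e : G // e * e = 1 ∧ e ≠ 1}
  let adj : W → W → Prop := fun a b => a ≠ b ∧ (a : G) * b = b * a
  have hsym : ∀ a b, adj a b → adj b a := fun a b h => ⟨h.1.symm, h.2.symm⟩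
  have hirr : ∀ a, ¬ adj a a := fun a h => h.1 rfl
  let t : W := ⟨t₁, C.sq_of_mem ht₁, ht₁1⟩
  haveI : Nonempty W := ⟨t⟩
  have hne : ∀ {c d : W}, (c : G) ≠ d → c ≠ d := fun h h' => h (congrArg Subtype.val h')
  have hfr : ∀ a b, a ≠ b → ∃! z, adj a z ∧ adj b z := by
    intro a b hab
    have hab' : (a : G) ≠ b := fun h => hab (Subtype.ext h)
    have ha := a.2.1
    have ha1 := a.2.2
    have hb := b.2.1
    have hb1 := b.2.2
    by_cases hc : (a : G) * b = b * a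
    · have hc' : Commute (a : G) b := hc
      have hsq : ((a : G) * b) * (a * b) = 1 := by
        calc ((a : G) * b) * (a * b) = a * (b * a) * b := by group
          _ = a * (a * b) * b := by rw [hc]
          _ = (a * a) * (b * b) := by group
          _ = 1 := by rw [ha, hb, one_mul]
      have hne1 : (a : G) * b ≠ 1 := by
        intro h
        apply hab'
        have h3 : (a : G) = (b : G)⁻¹ := eq_inv_of_mul_eq_one_left h
        rw [h3]
        exact inv_eq_of_mul_eq_one_left hb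
      refine ⟨⟨(a : G) * b, hsq, hne1⟩, ⟨⟨hne ?_, ?_⟩, ⟨hne ?_, ?_⟩⟩, ?_⟩
      · intro h
        exact hb1 (by simpa using h)
      · show (a : G) * (a * b) = a * b * a
        exact ((Commute.refl (a : G)).mul_right hc').eq
      · intro h
        exact ha1 (by simpa using h)
      · show (b : G) * (a * b) = a * b * b
        exact (hc'.symm.mul_right (Commute.refl (b : G))).eq
      · rintro ⟨c, hc2, hc1⟩ ⟨⟨h1, h2⟩, ⟨h3, h4'⟩⟩
        apply Subtype.ext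
        exact C.common_comm h4 ha ha1 hb hb1 hab' hc hc2 hc1
          (fun h => h1 (Subtype.ext h.symm)) (fun h => h3 (Subtype.ext h.symm)) h2 h4'
    · obtain ⟨z, hz, hz1, h1, h2, hza, hzb, hu⟩ := C.common_noncomm h4 hS ha ha1 hb hb1 hc
      refine ⟨⟨z, hz, hz1⟩, ⟨⟨hne hza.symm, h1⟩, ⟨hne hzb.symm, h2⟩⟩, ?_⟩
      rintro ⟨c, hc2, hc1⟩ ⟨⟨h3, h4'⟩, ⟨h5, h6⟩⟩
      apply Subtype.ext
      exact hu c hc2 hc1 h4' h6
  let φ : G → W → W := fun g z => ⟨g * z * g⁻¹, by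
      have : (g * (z : G) * g⁻¹) * (g * z * g⁻¹) = g * (z * z) * g⁻¹ := by group
      rw [this, z.2.1]; group, by
      intro h
      apply z.2.2
      have : (z : G) = g⁻¹ * (g * z * g⁻¹) * g := by group
      rw [this, h]; group⟩
  have hφ : ∀ g z, ((φ g z : W) : G) = g * z * g⁻¹ := fun g z => rfl
  have hφinj : ∀ g, Function.Injective (φ g) := by
    intro g c d h
    apply Subtype.ext
    have h1 := congrArg Subtype.val h
    rw [hφ, hφ] at h1
    simpa using h1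
  have hle : ∀ (a b : W) (g : G), g * a * g⁻¹ = b →
      ({z | adj a z} : Set W).ncard ≤ ({z | adj b z} : Set W).ncard := by
    intro a b g hg
    refine Set.ncard_le_ncard_of_injOn (φ g) ?_ ((hφinj g).injOn) (Set.toFinite _)
    rintro z ⟨h1, h2⟩
    refine ⟨?_, ?_⟩
    · intro h
      apply h1
      have h3 := congrArg Subtype.val h
      rw [hφ, ← hg] at h3
      apply Subtype.ext
      simpa using h3
    · show (b : G) * (g * z * g⁻¹) = (g * z * g⁻¹) * b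
      rw [← hg]
      calc g * (a : G) * g⁻¹ * (g * z * g⁻¹) = g * (a * z) * g⁻¹ := by group
        _ = g * (z * a) * g⁻¹ := by rw [h2]
        _ = g * z * g⁻¹ * (g * a * g⁻¹) := by group
  have hreg : ∀ a, ({z | adj a z} : Set W).ncard = ({z | adj t z} : Set W).ncard := by
    intro a
    obtain ⟨g, hg⟩ := C.invol_conj ht₁ ht₁1 a.2.1 a.2.2
    apply le_antisymm
    · exact hle a t g hg
    · refine hle t a g⁻¹ ?_
      show g⁻¹ * t₁ * g⁻¹⁻¹ = a
      rw [← hg]; group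
  refine Fr.no_friend adj hsym hirr hfr _ hreg ?_
  have h2 : 2 < ({z | adj t z} : Set W).ncard := by
    rw [Set.two_lt_ncard_iff (Set.toFinite _)]
    refine ⟨⟨n₁, h1s, h11⟩, ⟨n₂, h2s, h21⟩, ⟨n₃, h3s, h31⟩, ⟨hne h1t.symm, h1c⟩, ⟨hne h2t.symm, h2c⟩,
      ⟨hne h3t.symm, h3c⟩, hne h12, hne h13, hne h23⟩
  omega

theorem path2 (h4 : p + 1 = 4) {t₁ : G} (ht₁ : t₁ ∈ (Q : Subgroup G)) (ht₁1 : t₁ ≠ 1) : Cen Q t₁ := by
  haveI : Fact p.Prime := ⟨C.hp⟩
  by_contra hnc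
  unfold Cen at hnc
  push Not at hnc
  obtain ⟨x, hx, hxo, q, hq, hne⟩ := hnc
  have htt₁ := C.sq_of_mem ht₁
  have hqq := C.sq_of_mem hq
  have hqi : q⁻¹ = q := inv_eq_of_mul_eq_one_left hqq
  obtain ⟨M, -, hM, -⟩ := C.lemC htt₁ ht₁1
  have hqc := C.Q_le_cz ht₁ hq
  set x' := q * x * q⁻¹ with hx'
  have hx'c : x' ∈ cz t₁ := mul_mem (mul_mem hqc hx) (inv_mem hqc)
  have hx'o : Odd (orderOf x') := by rw [hx', conj_order']; exact hxo
  have hxM : x ∈ M := (hM x).mpr ⟨hx, hxo⟩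
  have hx'M : x' ∈ M := (hM x').mpr ⟨hx'c, hx'o⟩
  set w := x * x'⁻¹ with hw
  have hwM : w ∈ M := mul_mem hxM (inv_mem hx'M)
  obtain ⟨hwc, hwo⟩ := (hM w).mp hwM
  have hwt₁ : w * t₁ = t₁ * w := mem_cz.mp hwc
  have hqx' : q * x' * q⁻¹ = x := by
    rw [hx']
    have : q * (q * x * q⁻¹) * q⁻¹ = (q * q) * x * (q * q)⁻¹ := by group
    rw [this, hqq]; group
  have hqinv : q * w * q⁻¹ = w⁻¹ := by
    have h1 : q * (x * x'⁻¹) * q⁻¹ = (q * x * q⁻¹) * (q * x' * q⁻¹)⁻¹ := by group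
    rw [hw, h1, ← hx', hqx', mul_inv_rev, inv_inv]
  have hw1 : w ≠ 1 := by
    intro h
    have h1 : x = x' := mul_inv_eq_one.mp h
    apply hne
    calc x * q = q * x * q⁻¹ * q := by rw [← hx', ← h1]
      _ = q * x := by group
  have hq1 : q ≠ 1 := by
    intro h
    apply hne
    rw [h]; group
  have hqt : t₁ ≠ q := by
    intro h
    apply hne
    rw [← h]
    exact mem_cz.mp hx
  have hX : Xt q w := ⟨hw1, hwo, hqinv⟩
  obtain ⟨P, hP1, hP2, h2N, hu⟩ := C.lemA hw1 hwo hqq hq1 hqinv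
  have h1N : t₁ ∈ Subgroup.normalizer ((P : Subgroup G) : Set G) := by
    apply Sylow.smul_eq_iff_mem_normalizer.mp
    apply hu
    rw [mem_smul_sylow]
    have h1 : t₁⁻¹ * w * t₁ = w := by
      rw [mul_assoc, hwt₁]; group
    rw [h1]; exact hP1
  have hcen := fun {f : G} (hf : f ∈ (P : Subgroup G)) =>
    C.p2_central ht₁ ht₁1 hq hq1 hqt hwt₁ hX hP1 h1N h2N hf
  have hPiff : ∀ z, z ∈ (P : Subgroup G) ↔ z ∈ cz t₁ ∧ Odd (orderOf z) := by
    intro z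
    refine ⟨fun hz => ⟨mem_cz.mpr (hcen hz), C.odd_of_pgroup P.2 hz⟩, fun hz => ?_⟩
    exact hP2 z (mem_cz.mpr (C.odd_comm htt₁ ht₁1 hz.1 hz.2 hwc hwo)) hz.2
  have hS : ∀ S : Sylow p G, ∃ z : G, z * z = 1 ∧ z ≠ 1 ∧
      ∀ x, x ∈ (S : Subgroup G) ↔ x ∈ cz z ∧ Odd (orderOf x) := by
    intro S
    obtain ⟨g, rfl⟩ := MulAction.exists_smul_eq G P S
    refine ⟨g * t₁ * g⁻¹, ?_, ?_, ?_⟩
    · have : (g * t₁ * g⁻¹) * (g * t₁ * g⁻¹) = g * (t₁ * t₁) * g⁻¹ := by group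
      rw [this, htt₁]; group
    · intro h
      apply ht₁1
      have : t₁ = g⁻¹ * (g * t₁ * g⁻¹) * g := by group
      rw [this, h]; group
    · intro z
      rw [mem_smul_sylow, hPiff, mem_cz, mem_cz]
      have h1 : orderOf (g⁻¹ * z * g) = orderOf z := by
        have h2 := conj_order' g⁻¹ z
        rwa [inv_inv] at h2
      rw [h1]
      refine and_congr_left fun _ => ?_
      constructor
      · intro h
        calc z * (g * t₁ * g⁻¹) = g * ((g⁻¹ * z * g) * t₁) * g⁻¹ := by group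
          _ = g * (t₁ * (g⁻¹ * z * g)) * g⁻¹ := by rw [h]
          _ = g * t₁ * g⁻¹ * z := by group
      · intro h
        calc g⁻¹ * z * g * t₁ = g⁻¹ * (z * (g * t₁ * g⁻¹)) * g := by group
          _ = g⁻¹ * ((g * t₁ * g⁻¹) * z) * g := by rw [h]
          _ = t₁ * (g⁻¹ * z * g) := by group
  have hct : t₁ * q = q * t₁ := C.comm_Q ht₁ hq
  have h2s : (t₁ * q) * (t₁ * q) = 1 := by
    calc (t₁ * q) * (t₁ * q) = t₁ * (q * t₁) * q := by group
      _ = t₁ * (t₁ * q) * q := by rw [hct]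
      _ = (t₁ * t₁) * (q * q) := by group
      _ = 1 := by rw [htt₁, hqq, one_mul]
  have h21 : t₁ * q ≠ 1 := by
    intro h
    apply hqt
    have h3 : t₁ = q⁻¹ := eq_inv_of_mul_eq_one_left h
    rw [h3, hqi]
  have h3s : (w * q * w⁻¹) * (w * q * w⁻¹) = 1 := by
    have : (w * q * w⁻¹) * (w * q * w⁻¹) = w * (q * q) * w⁻¹ := by group
    rw [this, hqq]; group
  have h31 : w * q * w⁻¹ ≠ 1 := by
    intro h
    apply hq1
    have : q = w⁻¹ * (w * q * w⁻¹) * w := by group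
    rw [this, h]; group
  have hcw : Commute w t₁ := hwt₁
  refine C.graph_false (n₁ := q) (n₂ := t₁ * q) (n₃ := w * q * w⁻¹) h4 hS ht₁ ht₁1 hqq hq1 hqt.symm hct
    h2s h21 ?_ ?_ h3s h31 ?_ ?_ ?_ ?_ ?_
  · intro h
    exact hq1 (by simpa using h)
  · calc t₁ * (t₁ * q) = t₁ * (q * t₁) := by rw [hct]
      _ = t₁ * q * t₁ := by group
  · intro h
    apply hqt
    have : q = w⁻¹ * (w * q * w⁻¹) * w := by group
    rw [this, h]
    have h1 : w⁻¹ * t₁ * w = t₁ := by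
      calc w⁻¹ * t₁ * w = w⁻¹ * (t₁ * w) := by group
        _ = w⁻¹ * (w * t₁) := by rw [hwt₁]
        _ = t₁ := by group
    exact h1.symm
  · calc t₁ * (w * q * w⁻¹) = (t₁ * w) * q * w⁻¹ := by group
      _ = (w * t₁) * q * w⁻¹ := by rw [hwt₁]
      _ = w * (t₁ * q) * w⁻¹ := by group
      _ = w * (q * t₁) * w⁻¹ := by rw [hct]
      _ = w * q * (t₁ * w⁻¹) := by group
      _ = w * q * (w⁻¹ * t₁) := by rw [(hcw.inv_left.eq)]
      _ = w * q * w⁻¹ * t₁ := by group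
  · intro h
    exact ht₁1 (by simpa using h.symm)
  · intro h
    apply hw1
    refine eq_one_of_inv_comm hwo hqinv ?_
    calc w * q = (w * q * w⁻¹) * w := by group
      _ = q * w := by rw [← h]
  · intro h
    have h5 : q * w⁻¹ = w * q := by
      calc q * w⁻¹ = (q * w * q⁻¹)⁻¹ * q := by group
        _ = w * q := by rw [hqinv, inv_inv]
    have h6 : t₁ = w * w := by
      have h7 : t₁ * q = (w * w) * q := by
        rw [h]
        calc w * q * w⁻¹ = w * (q * w⁻¹) := by group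
          _ = w * (w * q) := by rw [h5]
          _ = (w * w) * q := by group
      exact mul_right_cancel h7
    have h8 : (w * w) * (w * w) = 1 := by rw [← h6]; exact htt₁
    have h9 : w * w = 1 := odd_eq_one ((hM _).mp (mul_mem hwM hwM)).2 h8
    exact ht₁1 (h6.trans h9)


end Cfg

end Cfsg.Agent.H13.TP
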