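import Cfsg.Agent.Lib.H13.Frob3
import Cfsg.Agent.Lib.H08.Transfer2
import Cfsg.Agent.Lib.H01.Basic

/-!
A central involution of a Sylow `2`-subgroup outside a subgroup of index two, which is centralized
by the normalizer of the Sylow subgroup, yields a subgroup of index two (transfer).
-/

set_option autoImplicit false

namespace Cfsg.Agent.H13

open Cfsg

variable {G : Type*} [Group G]

theorem exists_index_two_of_central_involution [Finite G] (H : Subgroup G) (hH2 : IsPGroup 2 H)
    (hHodd : ¬ 2 ∣ H.index)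
    (M : Subgroup H) [hM : M.Normal] (hMi : M.index = 2) {t : G}
    (htS : t ∈ H) (htZ : ∀ u ∈ H, u * t = t * u) (ht2 : t ^ 2 = 1)
    (htM : (⟨t, htS⟩ : H) ∉ M)
    (hN : ∀ g ∈ Subgroup.normalizer (H : Set G), g * t * g⁻¹ = t) :
    ∃ K : Subgroup G, K.Normal ∧ K.index = 2 := by
  classical
  haveI : Fintype (G ⧸ H) := Fintype.ofFinite _
  have hA : Nat.card (H ⧸ M) = 2 := hMi
  haveI hcyc : IsCyclic (H ⧸ M) := isCyclic_of_prime_card hA
  letI instA : CommGroup (H ⧸ M) := IsCyclic.commGroup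
  let φ : H →* H ⧸ M := QuotientGroup.mk' M
  let tH : H := ⟨t, htS⟩
  let c : H ⧸ M := φ tH
  have hc1 : c ≠ 1 := fun h => htM ((QuotientGroup.eq_one_iff _).mp h)
  have hAall : ∀ a : H ⧸ M, a ≠ 1 → a = c := by
    obtain ⟨y, -, hy⟩ := (Nat.card_eq_two_iff' (1 : H ⧸ M)).mp hA
    intro a ha
    rw [hy a ha, hy c hc1]
  have hc2 : c ^ 2 = 1 := by
    rw [← hA]
    exact pow_card_eq_one'
  let tω : G ⧸ H → G := fun ω => (Quotient.out ω)⁻¹ * t * (Quotient.out ω)
  let P : G ⧸ H → Prop := fun ω => ∃ h : tω ω ∈ H, (⟨tω ω, h⟩ : H) ∉ M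
  have hf : ∀ ω : G ⧸ H, (if h : (Quotient.out ω)⁻¹ * t * (Quotient.out ω) ∈ H then φ ⟨_, h⟩ else 1) =
      if P ω then c else 1 := by
    intro ω
    by_cases h : (Quotient.out ω)⁻¹ * t * (Quotient.out ω) ∈ H
    · rw [dif_pos h]
      by_cases hm : (⟨_, h⟩ : H) ∈ M
      · rw [if_neg]
        · exact (QuotientGroup.eq_one_iff _).mpr hm
        · rintro ⟨_, h2⟩
          exact h2 hm
      · rw [if_pos ⟨h, hm⟩]
        apply hAall
        intro h3
        exact hm ((QuotientGroup.eq_one_iff _).mp h3)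
    · rw [dif_neg h, if_neg]
      rintro ⟨h2, _⟩
      exact h h2
  have hV := H08.transfer_involution H φ t ht2
  have hV2 : MonoidHom.transfer φ t = c ^ (Finset.univ.filter P).card := by
    rw [hV, Finset.prod_congr rfl (fun ω _ => hf ω), Finset.prod_ite, Finset.prod_const_one, mul_one,
      Finset.prod_const]
  -- invariance of `P`
  have hP : ∀ (u : H) (ω : G ⧸ H), P ω → P (u • ω) := by
    rintro u ω ⟨h, hm⟩
    have h1 : ((Quotient.out (u • ω) : G) : G ⧸ H) = (((u : G) * Quotient.out ω : G) : G ⧸ H) := by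
      rw [QuotientGroup.out_eq']
      conv_lhs => rw [← QuotientGroup.out_eq' ω]
      rfl
    have h2 := QuotientGroup.eq.mp h1.symm
    set s : G := ((u : G) * Quotient.out ω)⁻¹ * Quotient.out (u • ω) with hs
    have h3 : Quotient.out (u • ω) = (u : G) * Quotient.out ω * s := by rw [hs]; group
    have h4 : tω (u • ω) = s⁻¹ * tω ω * s := by
      show (Quotient.out (u • ω))⁻¹ * t * Quotient.out (u • ω) = s⁻¹ * ((Quotient.out ω)⁻¹ * t * Quotient.out ω) * s
      rw [h3]
      have h5 : (u : G)⁻¹ * t * u = t := by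
        have := htZ u u.2
        calc (u : G)⁻¹ * t * u = (u : G)⁻¹ * (t * u) := by group
          _ = (u : G)⁻¹ * (u * t) := by rw [this]
          _ = t := by group
      calc ((u : G) * Quotient.out ω * s)⁻¹ * t * ((u : G) * Quotient.out ω * s)
          = s⁻¹ * (Quotient.out ω)⁻¹ * ((u : G)⁻¹ * t * u) * Quotient.out ω * s := by group
        _ = _ := by rw [h5]; group
    have h6 : tω (u • ω) ∈ H := by
      rw [h4]
      exact H.mul_mem (H.mul_mem (H.inv_mem h2) h) h2
    refine ⟨h6, ?_⟩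
    intro hm2
    apply hm
    have h7 := hM.conj_mem _ hm2 ⟨s, h2⟩
    have h8 : (⟨s, h2⟩ : H) * ⟨tω (u • ω), h6⟩ * (⟨s, h2⟩ : H)⁻¹ = ⟨tω ω, h⟩ := by
      apply Subtype.ext
      show s * tω (u • ω) * s⁻¹ = tω ω
      rw [h4]
      group
    rwa [h8] at h7
  let Y : SubMulAction H (G ⧸ H) :=
    { carrier := {ω | ¬ P ω}
      smul_mem' := by
        intro u ω hω h2
        apply hω
        have := hP u⁻¹ _ h2
        rwa [inv_smul_smul] at this }
  have hYfix : IsEmpty (MulAction.fixedPoints H Y) := by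
    constructor
    rintro ⟨⟨ω, hω⟩, hfix⟩
    apply hω
    have h1 : ∀ u : H, u • ω = ω := by
      intro u
      have := hfix u
      exact congrArg Subtype.val this
    have h2 : (Quotient.out ω)⁻¹ ∈ Subgroup.normalizer (H : Set G) := by
      apply mem_normalizer_of_map_conj_le
      rintro _ ⟨u, hu, rfl⟩
      have h3 := (H08.out_conj_mem_iff H u ω).mpr (h1 ⟨u, hu⟩)
      show (Quotient.out ω)⁻¹ * u * (Quotient.out ω)⁻¹⁻¹ ∈ H
      rwa [inv_inv]
    have h3 := hN _ h2
    rw [inv_inv] at h3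
    have h4 : tω ω = t := h3
    have h5 : tω ω ∈ H := by rw [h4]; exact htS
    refine ⟨h5, ?_⟩
    intro h6
    apply htM
    have h7 : (⟨tω ω, h5⟩ : H) = ⟨t, htS⟩ := Subtype.ext h4
    rwa [h7] at h6
  have hYcard : 2 ∣ Nat.card Y := by
    have h1 := hH2.card_modEq_card_fixedPoints (α := Y)
    have h0 : Nat.card (MulAction.fixedPoints H Y) = 0 := Nat.card_of_isEmpty
    rw [h0] at h1
    exact (Nat.modEq_zero_iff_dvd).mp h1
  have hYcard2 : Nat.card Y = (Finset.univ.filter (fun ω => ¬ P ω)).card := by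
    rw [Nat.card_eq_fintype_card]
    exact Fintype.card_of_subtype _ (fun x => by
      rw [Finset.mem_filter]
      exact ⟨fun h => h.2, fun h => ⟨Finset.mem_univ _, h⟩⟩)
  have hsum := Finset.card_filter_add_card_filter_not (s := (Finset.univ : Finset (G ⧸ H))) P
  have hodd : ¬ 2 ∣ Nat.card (G ⧸ H) := hHodd
  rw [Nat.card_eq_fintype_card] at hodd
  have hoddX : ¬ 2 ∣ (Finset.univ.filter P).card := by
    intro h1
    apply hodd
    rw [Finset.card_univ] at hsum
    rw [← hsum, ← hYcard2]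
    exact dvd_add h1 hYcard
  have hVc : MonoidHom.transfer φ t = c := by
    rw [hV2]
    obtain ⟨k, hk⟩ := Nat.odd_iff.mpr (Nat.mod_two_ne_zero.mp (fun h => hoddX (Nat.dvd_of_mod_eq_zero h)))
    rw [hk, pow_succ, pow_mul, hc2, one_pow, one_mul]
  refine ⟨(MonoidHom.transfer φ).ker, inferInstance, ?_⟩
  rw [Subgroup.index_ker]
  have h1 : Nat.card (MonoidHom.transfer φ).range ∣ 2 := by
    rw [← hA]
    exact Subgroup.card_subgroup_dvd_card _
  rcases (Nat.dvd_prime Nat.prime_two).mp h1 with h2 | h2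
  · exfalso
    rw [Subgroup.card_eq_one] at h2
    apply hc1
    have h3 : c ∈ (MonoidHom.transfer φ).range := ⟨t, hVc⟩
    rw [h2] at h3
    exact h3
  · exact h2

end Cfsg.Agent.H13
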