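import Cfsg.Agent.Lib.H13.WeakFact

/-!
Factorizations of the weak closure.
-/

set_option autoImplicit false
set_option linter.style.haveILetI false

namespace Cfsg.Agent.H13

open Cfsg
open scoped commutatorElement Pointwise

variable {G : Type*} [Group G] {p : ℕ}

section
variable [Finite G] [Fact p.Prime]

theorem wc_side {Q Hc H₁ H₂ : Subgroup G} (hQp : IsPGroup p Q) (hwc : IsWeaklyClosedSubgroup p Q)
    (hHc : Hc = weakClosure Q ⊤) (hn₁ : H₁ ≤ Hc ∧ Hc ≤ Subgroup.normalizer ((H₁ : Subgroup G) : Set G))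
    (hn₂ : H₂ ≤ Hc ∧ Hc ≤ Subgroup.normalizer ((H₂ : Subgroup G) : Set G)) (hprod : H₁ ⊔ H₂ = Hc)
    (hcomm : ⁅H₁, H₂⁆ ≤ Subgroup.normalizer ((Q : Subgroup G) : Set G)) :
    ⁅ppGen p (weakClosure Q (H₁ ⊔ Q)), Q⁆ = ppGen p (weakClosure Q (H₁ ⊔ Q)) ∧
      ⁅ppGen p (weakClosure Q (H₁ ⊔ Q)), H₁⁆ = ppGen p (weakClosure Q (H₁ ⊔ Q)) ∧
      ppGen p (weakClosure Q (H₁ ⊔ Q)) ≤ ⁅H₁, H₁⁆ ∧
      Hc ≤ Subgroup.normalizer ((ppGen p (weakClosure Q (H₁ ⊔ Q)) : Subgroup G) : Set G) ∧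
      ppGen p (weakClosure Q (H₁ ⊔ Q)) ≤ H₁ ∧
      ⁅ppGen p (weakClosure Q (H₁ ⊔ Q)), H₂⁆ ≤ pCoreOf p Hc ∧
      weakClosure Q (H₁ ⊔ Q) = ppGen p (weakClosure Q (H₁ ⊔ Q)) ⊔ Q := by
  have hQHc : Q ≤ Hc := by
    rw [hHc]
    exact le_weakClosure le_top
  have hQ1 : Q ≤ Subgroup.normalizer ((H₁ : Subgroup G) : Set G) := hQHc.trans hn₁.2
  obtain ⟨L, hL⟩ : ∃ L, L = H₁ ⊔ Q := ⟨_, rfl⟩
  rw [← hL]
  have hH₁L : H₁ ≤ L := hL ▸ le_sup_left
  have hQL : Q ≤ L := hL ▸ le_sup_right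
  have hLHc : L ≤ Hc := by
    rw [hL]
    exact sup_le hn₁.1 hQHc
  obtain ⟨hXeq, hKQ, hLX, hLK⟩ := wc_structure hQp hwc hQL
  obtain ⟨X, hX⟩ : ∃ X, X = weakClosure Q L := ⟨_, rfl⟩
  rw [← hX] at hXeq hKQ hLX hLK ⊢
  obtain ⟨K, hK⟩ : ∃ K, K = ppGen p X := ⟨_, rfl⟩
  rw [← hK] at hXeq hKQ hLK ⊢
  have hKH₁ : K ≤ H₁ := by
    rw [hK, hX]
    refine (ppGen_mono (weakClosure_le Q L)).trans ?_
    rw [hL]
    exact ppGen_sup_le hQp hQ1
  have hLH₁ : L ≤ Subgroup.normalizer ((H₁ : Subgroup G) : Set G) := hLHc.trans hn₁.2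
  obtain ⟨N₀, hN₀⟩ : ∃ N₀, N₀ = ⁅H₁, H₂⁆ := ⟨_, rfl⟩
  have hN₀Hc : Hc ≤ Subgroup.normalizer ((N₀ : Subgroup G) : Set G) := fun g hg => by
    rw [hN₀]
    exact mem_normalizer_commutator (hn₁.2 hg) (hn₂.2 hg)
  have hN₀H₁ : N₀ ≤ H₁ := by
    rw [hN₀]
    exact commutator_le_left_of_le_normalizer (hn₂.1.trans hn₁.2)
  have hN₀le : N₀ ≤ Hc := hN₀H₁.trans hn₁.1
  have hN₀Q : N₀ ≤ Subgroup.normalizer ((Q : Subgroup G) : Set G) := hN₀ ▸ hcomm
  obtain ⟨P, hPdef⟩ : ∃ P, P = pCoreOf p Hc := ⟨_, rfl⟩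
  rw [← hPdef]
  have hP : Hc ≤ Subgroup.normalizer ((P : Subgroup G) : Set G) := hPdef ▸ pCoreOf_normalized Hc
  have hPp : IsPGroup p P := hPdef ▸ isPGroup_pCoreOf Hc
  have hPHc : P ≤ Hc := hPdef ▸ pCoreOf_le Hc
  have hQN : Q ⊓ N₀ ≤ P := by
    have h1 : Q ⊓ N₀ ≤ pCoreOf p N₀ := le_pCoreOf inf_le_right (hQp.to_le inf_le_left)
      (fun n hn => mem_normalizer_inf (hN₀Q hn) (Subgroup.le_normalizer hn))
    rw [hPdef]
    exact h1.trans (pCoreOf_le_pCoreOf_of_normal hN₀le hN₀Hc)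
  have hcQ : ⁅N₀, Q⁆ ≤ P := by
    refine le_trans (le_inf ?_ ?_) hQN
    · exact commutator_le_right_of_le_normalizer hN₀Q
    · exact commutator_le_left_of_le_normalizer (hQHc.trans hN₀Hc)
  have hcHc : ⁅N₀, Hc⁆ ≤ P := by
    rw [Subgroup.commutator_le]
    intro n hn y hy
    have key : ∀ y ∈ weakClosure Q ⊤, y ∈ Hc ∧ ∀ n ∈ N₀, ⁅n, y⁆ ∈ P := by
      intro y hy
      unfold weakClosure at hy
      refine Subgroup.iSup_induction (C := fun y => y ∈ Hc ∧ ∀ n ∈ N₀, ⁅n, y⁆ ∈ P) _ hy ?_ ?_ ?_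
      · rintro ⟨g, hg⟩ x hx
        have hgHc : Q.map (MulAut.conj g).toMonoidHom ≤ Hc := by
          rw [hHc]
          exact conj_le_weakClosure hg
        refine ⟨hgHc hx, ?_⟩
        intro n hn
        obtain ⟨k, hk, e⟩ := exists_conj_in hwc hQp hQHc hgHc
        have hx' : x ∈ Q.map (MulAut.conj k).toMonoidHom := e ▸ hx
        obtain ⟨q, hq, rfl⟩ := hx'
        have hkinv : k⁻¹ ∈ Subgroup.normalizer ((N₀ : Subgroup G) : Set G) := Subgroup.inv_mem _ (hN₀Hc hk)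
        have hn' : k⁻¹ * n * k⁻¹⁻¹ ∈ N₀ := (Subgroup.mem_normalizer_iff.1 hkinv n).1 hn
        have hc : ⁅k⁻¹ * n * k⁻¹⁻¹, q⁆ ∈ P := hcQ (Subgroup.commutator_mem_commutator hn' hq)
        have hc2 := (Subgroup.mem_normalizer_iff.1 (hP hk) _).1 hc
        have e2 : k * ⁅k⁻¹ * n * k⁻¹⁻¹, q⁆ * k⁻¹ = ⁅n, (MulAut.conj k).toMonoidHom q⁆ := by
          simp only [commutatorElement_def]
          simp [MulAut.conj_apply]
          group
        rw [← e2]
        exact hc2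
      · refine ⟨Hc.one_mem, ?_⟩
        intro n _
        simp [commutatorElement_def, P.one_mem]
      · rintro x y ⟨hx1, hx2⟩ ⟨hy1, hy2⟩
        refine ⟨Hc.mul_mem hx1 hy1, ?_⟩
        intro n hn
        have e : ⁅n, x * y⁆ = ⁅n, x⁆ * (x * ⁅n, y⁆ * x⁻¹) := by
          simp only [commutatorElement_def]
          group
        rw [e]
        exact P.mul_mem (hx2 n hn) ((Subgroup.mem_normalizer_iff.1 (hP hx1) _).1 (hy2 n hn))
    rw [hHc] at hy
    exact (key y hy).2 n hn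
  -- `[K,H₁] = K`
  obtain ⟨J, hJ⟩ : ∃ J, J = ⁅K, H₁⁆ := ⟨_, rfl⟩
  rw [← hJ]
  have hH₁K : H₁ ≤ Subgroup.normalizer ((K : Subgroup G) : Set G) := hH₁L.trans hLK
  have hJK : J ≤ K := hJ ▸ commutator_le_left_of_le_normalizer hH₁K
  have hLJ : L ≤ Subgroup.normalizer ((J : Subgroup G) : Set G) := fun g hg => by
    rw [hJ]
    exact mem_normalizer_commutator (hLK hg) (hLH₁ hg)
  have hKL : K ≤ L := hKH₁.trans hH₁L
  have hKJ : J = K := by
    apply le_antisymm hJK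
    have hmemsup : ∀ q ∈ Q, ∃ q₁ ∈ H₁, ∃ q₂ ∈ H₂, q = q₁ * q₂ := by
      intro q hq
      have h1 : q ∈ ((H₁ ⊔ H₂ : Subgroup G) : Set G) := by
        rw [hprod]
        exact hQHc hq
      rw [Subgroup.coe_mul_of_right_le_normalizer_left H₁ H₂ (hn₂.1.trans hn₁.2)] at h1
      obtain ⟨a, ha, b, hb, rfl⟩ := Set.mem_mul.mp h1
      exact ⟨a, ha, b, hb, rfl⟩
    have hK1 : K ≤ J ⊔ (K ⊓ N₀) := by
      conv_lhs => rw [← hKQ]
      rw [Subgroup.commutator_le]
      intro k hk q hq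
      obtain ⟨q₁, hq₁, q₂, hq₂, rfl⟩ := hmemsup q hq
      have e : ⁅k, q₁ * q₂⁆ = ⁅k, q₁⁆ * (q₁ * ⁅k, q₂⁆ * q₁⁻¹) := by
        simp only [commutatorElement_def]
        group
      rw [e]
      apply Subgroup.mul_mem
      · apply Subgroup.mem_sup_left
        rw [hJ]
        exact Subgroup.commutator_mem_commutator hk hq₁
      · apply Subgroup.mem_sup_right
        have hq₂L : q₂ ∈ L := by
          have : q₂ = q₁⁻¹ * (q₁ * q₂) := by group
          rw [this]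
          exact L.mul_mem (L.inv_mem (hH₁L hq₁)) (hQL hq)
        have hcK : ⁅k, q₂⁆ ∈ K := commutator_le_left_of_le_normalizer (show Subgroup.zpowers q₂ ≤ _ from
          (Subgroup.zpowers_le).2 (hLK hq₂L)) (Subgroup.commutator_mem_commutator hk (Subgroup.mem_zpowers q₂))
        have hcN : ⁅k, q₂⁆ ∈ N₀ := by
          rw [hN₀]
          exact Subgroup.commutator_mem_commutator (hKH₁ hk) hq₂
        refine Subgroup.mem_inf.2 ⟨?_, ?_⟩
        · exact (Subgroup.mem_normalizer_iff.1 (hLK (hH₁L hq₁)) _).1 hcK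
        · exact (Subgroup.mem_normalizer_iff.1 (hN₀Hc (hn₁.1 hq₁)) _).1 hcN
    have hQJ : Q ≤ Subgroup.normalizer ((J : Subgroup G) : Set G) := hQL.trans hLJ
    have hDJ : Q ⊓ K ≤ Subgroup.normalizer ((J : Subgroup G) : Set G) := inf_le_left.trans hQJ
    have hK2 : K ≤ J ⊔ (Q ⊓ K) := by
      conv_lhs => rw [← hKQ]
      rw [Subgroup.commutator_le]
      intro k hk q hq
      have hk' : k ∈ ((J ⊔ (K ⊓ N₀) : Subgroup G) : Set G) := hK1 hk
      rw [Subgroup.coe_mul_of_right_le_normalizer_left J (K ⊓ N₀)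
        (inf_le_left.trans (hKL.trans hLJ))] at hk'
      obtain ⟨j, hj, c, hc, rfl⟩ := Set.mem_mul.mp hk'
      have hcK := (Subgroup.mem_inf.1 hc).1
      have hcN := (Subgroup.mem_inf.1 hc).2
      have hdQ : ⁅c, q⁆ ∈ Q := commutator_le_right_of_le_normalizer hN₀Q
        (Subgroup.commutator_mem_commutator hcN hq)
      have hdK : ⁅c, q⁆ ∈ K := commutator_le_left_of_le_normalizer (hQL.trans hLK)
        (Subgroup.commutator_mem_commutator hcK hq)
      have e : ⁅j * c, q⁆ = (⁅j, ⁅c, q⁆⁆ * ⁅c, q⁆) * ⁅j, q⁆ := by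
        simp only [commutatorElement_def]
        group
      rw [e]
      apply Subgroup.mul_mem
      · apply Subgroup.mul_mem
        · apply Subgroup.mem_sup_left
          exact commutator_le_left_of_le_normalizer hDJ
            (Subgroup.commutator_mem_commutator hj (Subgroup.mem_inf.2 ⟨hdQ, hdK⟩))
        · exact Subgroup.mem_sup_right (Subgroup.mem_inf.2 ⟨hdQ, hdK⟩)
      · apply Subgroup.mem_sup_left
        exact commutator_le_left_of_le_normalizer hQJ (Subgroup.commutator_mem_commutator hj hq)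
    have hKidem : ppGen p K = K := by
      rw [hK]
      exact ppGen_idem X
    calc K = ppGen p K := hKidem.symm
      _ ≤ ppGen p (J ⊔ (Q ⊓ K)) := ppGen_mono hK2
      _ ≤ J := ppGen_sup_le (hQp.to_le inf_le_left) hDJ
  have hKH₁eq : ⁅K, H₁⁆ = K := by
    rw [← hJ]
    exact hKJ
  have hKH₂ : ⁅K, H₂⁆ ≤ P := by
    have hKHc : K ≤ Hc := hKH₁.trans hn₁.1
    have h3 := three_subgroups_of_normalizer K H₁ H₂ P (hKHc.trans hP) (hn₁.1.trans hP) (hn₂.1.trans hP)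
      (by
        rw [← hN₀]
        exact (Subgroup.commutator_mono le_rfl hKHc).trans hcHc)
      (by
        have h4 : ⁅H₂, K⁆ ≤ N₀ := by
          rw [hN₀, Subgroup.commutator_comm H₂ K]
          exact Subgroup.commutator_mono hKH₁ le_rfl
        exact (Subgroup.commutator_mono h4 hn₁.1).trans hcHc)
    rwa [hKH₁eq] at h3
  have hHK : Hc ≤ Subgroup.normalizer ((K : Subgroup G) : Set G) := by
    have hPQ : P ≤ Subgroup.normalizer ((Q : Subgroup G) : Set G) :=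
      wc_le_normalizer hQp hwc hPp (hQHc.trans hP)
    have hPL : P ≤ Subgroup.normalizer ((L : Subgroup G) : Set G) := fun g hg => by
      rw [hL]
      exact mem_normalizer_sup (hn₁.2 (hPHc hg)) (hPQ hg)
    have hPK : P ≤ Subgroup.normalizer ((K : Subgroup G) : Set G) := by
      refine hPL.trans ?_
      rw [hK, hX]
      exact (normalizer_le_normalizer_weakClosure Q L).trans (normalizer_le_normalizer_ppGen _)
    have hYN : Hc ≤ Subgroup.normalizer ((K ⊔ P : Subgroup G) : Set G) := by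
      rw [← hprod]
      apply sup_le
      · intro h hh
        exact mem_normalizer_sup (hH₁K hh) (hP (hn₁.1 hh))
      · intro h hh
        apply mem_normalizer_of_map_conj_le
        rw [map_conj_sup, map_conj_eq_of_mem_normalizer (hP (hn₂.1 hh))]
        apply sup_le _ le_sup_right
        rintro _ ⟨k, hk, rfl⟩
        have h1 : (MulAut.conj h).toMonoidHom k = ⁅h, k⁆ * k := by
          simp [commutatorElement_def, MulAut.conj_apply]
        rw [h1]
        have h2 : ⁅h, k⁆ ∈ P := by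
          apply hKH₂
          rw [Subgroup.commutator_comm]
          exact Subgroup.commutator_mem_commutator hh hk
        exact Subgroup.mul_mem _ (Subgroup.mem_sup_right h2) (Subgroup.mem_sup_left hk)
    have hYK : ppGen p (K ⊔ P) = K := by
      apply le_antisymm (ppGen_sup_le hPp hPK)
      calc K = ppGen p K := by
            rw [hK]
            exact (ppGen_idem X).symm
        _ ≤ ppGen p (K ⊔ P) := ppGen_mono le_sup_left
    have := hYN.trans (normalizer_le_normalizer_ppGen (p := p) (K ⊔ P))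
    rwa [hYK] at this
  refine ⟨hKQ, hKJ, ?_, hHK, hKH₁, hKH₂, hXeq⟩
  calc K = ⁅K, H₁⁆ := hKH₁eq.symm
    _ ≤ ⁅H₁, H₁⁆ := Subgroup.commutator_mono hKH₁ le_rfl

end

end Cfsg.Agent.H13
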