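import Cfsg.Agent.Lib.H13.Isolated
import Cfsg.Agent.Lib.H13.Frob3
import Cfsg.Agent.Lib.H01.Coprime3
import Cfsg.Agent.Lib.H06.CoprimeCoset
import Cfsg.Agent.Lib.H08.PiCore
import Cfsg.Prelude.Def_IsolatedElements

/-!
Minimal counterexamples to the `Z*_p`-statement: invariant Sylow subgroups.
-/

set_option autoImplicit false

namespace Cfsg.Agent.H13

open Cfsg

variable {G : Type*} [Group G] {p : ℕ}

/-- The hypotheses of a minimal counterexample to the `Z*_p`-statement. -/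
structure ZStarMin (p : ℕ) (x : G) : Prop where
  hx : orderOf x = p
  hiso : IsIsolated x
  hnz : ¬ InZStar p x
  hmin : ∀ (H : Subgroup G) (hxH : x ∈ H), H ≠ ⊤ → InZStar p (⟨x, hxH⟩ : ↥H)
  hquot : ∀ (N : Subgroup G) [N.Normal], N ≠ ⊥ → InZStar p (QuotientGroup.mk x : G ⧸ N)

theorem not_dvd_card_sup [Finite G] {L R M : Subgroup G} (hLM : L ≤ M) (hRM : R ≤ M)
    (hLn : (L.subgroupOf M).Normal) (hp : p.Prime) (hL : ¬ p ∣ Nat.card L) (hR : ¬ p ∣ Nat.card R) :
    ¬ p ∣ Nat.card (R ⊔ L : Subgroup G) := by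
  intro h
  have h1 : Nat.card ((R ⊔ L : Subgroup G).subgroupOf M : Subgroup M) = Nat.card (R ⊔ L : Subgroup G) :=
    Nat.card_congr (Subgroup.subgroupOfEquivOfLe (sup_le hRM hLM)).toEquiv
  rw [← h1, Subgroup.subgroupOf_sup hRM hLM] at h
  rcases H08.prime_dvd_card_sup (L.subgroupOf M) (R.subgroupOf M) hp h with h2 | h2
  · apply hL
    rwa [Nat.card_congr (Subgroup.subgroupOfEquivOfLe hLM).toEquiv] at h2
  · apply hR
    rwa [Nat.card_congr (Subgroup.subgroupOfEquivOfLe hRM).toEquiv] at h2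

namespace ZStarMin

variable {x : G}

theorem comm_mem (h : ZStarMin p x) {H : Subgroup G} (hxH : x ∈ H) (hne : H ≠ ⊤) {g : G} (hg : g ∈ H) :
    g * x * g⁻¹ * x⁻¹ ∈ (pPrimeCore p H).map H.subtype := by
  have h1 := h.hmin H hxH hne ⟨g, hg⟩
  exact ⟨_, h1, rfl⟩

section
variable [Finite G] [Fact p.Prime]

theorem x_ne_one (h : ZStarMin p x) : x ≠ 1 := by
  have hpp : p.Prime := Fact.out
  intro h1
  have := h.hx
  rw [h1, orderOf_one] at this
  exact hpp.one_lt.ne this

/-- A nontrivial normal `q`-subgroup with `q ≠ p` does not exist. -/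
theorem normalizer_ne_top (h : ZStarMin p x) {q : ℕ} [Fact q.Prime] (hq : q ≠ p) {Q : Subgroup G}
    (hQ : IsPGroup q Q) (hQ1 : Q ≠ ⊥) : Subgroup.normalizer (Q : Set G) ≠ ⊤ := by
  have hpp : p.Prime := Fact.out
  have hqq : q.Prime := Fact.out
  intro hN
  haveI hQn : Q.Normal := Subgroup.normalizer_eq_top_iff.mp hN
  apply h.hnz
  have h1 := h.hquot Q hQ1
  intro g
  let L : Subgroup G := (pPrimeCore p (G ⧸ Q)).comap (QuotientGroup.mk' Q)
  haveI hLn : L.Normal := inferInstance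
  have hLc : (Nat.card L).Coprime p := by
    apply H05.coprime_card_of_orders
    intro y hy
    apply H05.order_coprime_of_map (QuotientGroup.mk' Q)
    · exact H05.pp_order_coprime p hy
    · intro z hz
      rw [QuotientGroup.ker_mk'] at hz
      obtain ⟨k, hk⟩ := hQ ⟨z, hz⟩
      have h2 : z ^ q ^ k = 1 := by simpa using congrArg Subtype.val hk
      exact Nat.Coprime.coprime_dvd_left (orderOf_dvd_of_pow_eq_one h2)
        (Nat.Coprime.pow_left k ((Nat.coprime_primes hqq hpp).mpr hq))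
  have h2 : L ≤ pPrimeCore p G := H05.le_pp hLn hLc
  apply h2
  show QuotientGroup.mk' Q _ ∈ pPrimeCore p (G ⧸ Q)
  simpa using h1 (g : G ⧸ Q)

/-- Part 1: maximal `x`-invariant `q`-subgroups are trivial or Sylow. -/
theorem maximal_invariant (h : ZStarMin p x) {q : ℕ} [Fact q.Prime] (Q : Subgroup G) (hQ : IsPGroup q Q)
    (hxQ : x ∈ Subgroup.normalizer (Q : Set G))
    (hmax : ∀ R : Subgroup G, IsPGroup q R → x ∈ Subgroup.normalizer (R : Set G) → Q ≤ R → R = Q) :
    Q = ⊥ ∨ ∃ S : Sylow q G, (S : Subgroup G) = Q := by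
  have hpp : p.Prime := Fact.out
  have hqq : q.Prime := Fact.out
  obtain ⟨T, hT⟩ := hQ.exists_le_sylow
  by_cases hqp : q = p
  · subst hqp
    right
    refine ⟨T, ?_⟩
    have hzp : IsPGroup q (Subgroup.zpowers x) := isPGroup_zpowers_of_orderOf ⟨1, by rw [h.hx, pow_one]⟩
    have h1 : Subgroup.zpowers x ≤ Subgroup.normalizer (Q : Set G) := by
      rw [Subgroup.zpowers_le]
      exact hxQ
    have h2 : IsPGroup q (Q ⊔ Subgroup.zpowers x : Subgroup G) := by
      rw [sup_comm]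
      exact IsPGroup.to_sup_of_normal_right' hzp hQ h1
    have h3 := hmax _ h2 (Subgroup.le_normalizer ((le_sup_right : Subgroup.zpowers x ≤ _) (Subgroup.mem_zpowers x))) le_sup_left
    have hxQ' : x ∈ Q := by
      rw [← h3]
      exact (le_sup_right : Subgroup.zpowers x ≤ _) (Subgroup.mem_zpowers x)
    have hxT := hT hxQ'
    have h4 := isolated_central_of_pgroup h.hiso T T.2 hxT
    exact hmax T T.2 (Subgroup.le_normalizer hxT) hT
  by_cases hQ1 : Q = ⊥
  · exact Or.inl hQ1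
  right
  by_cases hTQ : (T : Subgroup G) = Q
  · exact ⟨T, hTQ⟩
  exfalso
  have hlt : Q < T := lt_of_le_of_ne hT (Ne.symm hTQ)
  obtain ⟨u, huT, huQ, huN⟩ := exists_normalizer_growth T.2 hlt
  set N : Subgroup G := Subgroup.normalizer (Q : Set G) with hN
  have hNne : N ≠ ⊤ := h.normalizer_ne_top hqp hQ hQ1
  set R : Subgroup G := (T : Subgroup G) ⊓ N with hR
  have hQR : Q ≤ R := le_inf hT Subgroup.le_normalizer
  have hQRlt : Q < R := lt_of_le_of_ne hQR (fun h0 => huQ (by rw [h0]; exact ⟨huT, huN⟩))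
  have hRN : R ≤ N := inf_le_right
  have hRp : IsPGroup q R := T.2.to_le inf_le_left
  set L : Subgroup G := (pPrimeCore p N).map N.subtype with hL
  have hLN : L ≤ N := Subgroup.map_subtype_le _
  have hLn' : (L.subgroupOf N).Normal := by
    show (Subgroup.comap N.subtype (Subgroup.map N.subtype _)).Normal
    rw [Subgroup.comap_map_eq_self_of_injective N.subtype_injective]
    infer_instance
  have hLc : ¬ p ∣ Nat.card L := by
    rw [hL, Subgroup.card_map_of_injective N.subtype_injective]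
    intro hd
    have := Nat.dvd_gcd hd (dvd_refl p)
    rw [H06.coprime_card_pPrimeCore p] at this
    exact hpp.one_lt.ne' (Nat.dvd_one.mp this)
  have hRnd : ¬ p ∣ Nat.card R := by
    obtain ⟨k, hk⟩ := IsPGroup.iff_card.mp hRp
    rw [hk]
    intro hd
    exact hqp ((Nat.prime_dvd_prime_iff_eq hpp hqq).mp (hpp.dvd_of_dvd_pow hd)).symm
  set H : Subgroup G := R ⊔ L with hH
  have hHnd := not_dvd_card_sup hLN hRN hLn' hpp hLc hRnd
  have hHN : H ≤ N := sup_le hRN hLN
  have hconjL : ∀ w ∈ N, ∀ u ∈ L, w * u * w⁻¹ ∈ L := by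
    intro w hw u hu
    have h1 := hLn'.conj_mem ⟨u, hLN hu⟩ (by rw [Subgroup.mem_subgroupOf]; exact hu) ⟨w, hw⟩
    rw [Subgroup.mem_subgroupOf] at h1
    exact h1
  have hxH : x ∈ Subgroup.normalizer (H : Set G) := by
    apply mem_normalizer_of_map_conj_le
    rw [hH, map_conj_sup]
    refine sup_le ?_ ?_
    · rintro _ ⟨r, hr, rfl⟩
      have h1 := h.comm_mem hxQ hNne (hRN hr)
      have h2 := L.inv_mem h1
      have h3 : x * r * x⁻¹ * r⁻¹ ∈ L := by
        have : (r * x * r⁻¹ * x⁻¹)⁻¹ = x * r * x⁻¹ * r⁻¹ := by group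
        rwa [this] at h2
      have h4 := (R ⊔ L).mul_mem ((le_sup_right : L ≤ R ⊔ L) h3) ((le_sup_left : R ≤ R ⊔ L) hr)
      have h5 : x * r * x⁻¹ * r⁻¹ * r = x * r * x⁻¹ := by group
      rw [h5] at h4
      exact h4
    · rintro _ ⟨u, hu, rfl⟩
      exact (le_sup_right : L ≤ R ⊔ L) (hconjL x hxQ u hu)
  have hAK : Subgroup.zpowers x ≤ Subgroup.normalizer (H : Set G) := by
    rw [Subgroup.zpowers_le]
    exact hxH
  have hcop : (Nat.card (Subgroup.zpowers x)).Coprime (Nat.card H) := by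
    rw [Nat.card_zpowers, h.hx, Nat.Prime.coprime_iff_not_dvd hpp]
    exact hHnd
  obtain ⟨P, hPx⟩ := H01.exists_invariant_sylow hAK hcop
    (Or.inl (isSolvable_of_comm (fun a b => by
      obtain ⟨a, ha⟩ := a
      obtain ⟨b, hb⟩ := b
      obtain ⟨i, rfl⟩ := Subgroup.mem_zpowers_iff.mp ha
      obtain ⟨j, rfl⟩ := Subgroup.mem_zpowers_iff.mp hb
      apply Subtype.ext
      exact (Commute.refl x).zpow_zpow i j))) q
  have hQH : Q ≤ H := hQR.trans le_sup_left
  have hQHn : (Q.subgroupOf H).Normal := by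
    constructor
    intro a ha b
    rw [Subgroup.mem_subgroupOf] at ha ⊢
    exact (Subgroup.mem_normalizer_iff.mp (hHN b.2) a).mp ha
  have hQP : Q.subgroupOf H ≤ P := by
    have h1 : IsPGroup q ((P : Subgroup H) ⊔ Q.subgroupOf H : Subgroup H) :=
      IsPGroup.to_sup_of_normal_right P.2 (isPGroup_subgroupOf hQ)
    have h2 := P.3 h1 le_sup_left
    rw [← h2]
    exact le_sup_right
  set S : Subgroup G := (P : Subgroup H).map H.subtype with hS
  have hQS : Q ≤ S := by
    intro y hy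
    exact ⟨⟨y, hQH hy⟩, hQP hy, rfl⟩
  have hSQ : S = Q := hmax S (isPGroup_map_subtype P) (hPx (Subgroup.mem_zpowers x)) hQS
  have hcardS : Nat.card R ≤ Nat.card S := by
    obtain ⟨T₁, hT₁⟩ := exists_sylow_subgroup_le (le_sup_left : R ≤ H) hRp
    have h1 : Nat.card (T₁ : Subgroup H) = Nat.card (P : Subgroup H) := by
      rw [T₁.card_eq_multiplicity, P.card_eq_multiplicity]
    have h2 := Subgroup.card_le_of_le hT₁
    rw [Subgroup.card_map_of_injective H.subtype_injective, h1] at h2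
    rwa [hS, Subgroup.card_map_of_injective H.subtype_injective]
  have h5 := card_lt_of_lt hQRlt
  rw [hSQ] at hcardS
  omega

/-- Part 2: `C_G(x)` is transitive on the `x`-invariant Sylow `q`-subgroups. -/
theorem transitive_invariant (h : ZStarMin p x) {q : ℕ} [Fact q.Prime] (S₁ S₂ : Sylow q G)
    (h₁ : x ∈ Subgroup.normalizer ((S₁ : Subgroup G) : Set G))
    (h₂ : x ∈ Subgroup.normalizer ((S₂ : Subgroup G) : Set G)) :
    ∃ c ∈ Subgroup.centralizer ({x} : Set G), (S₁ : Subgroup G).map (MulAut.conj c).toMonoidHom = (S₂ : Subgroup G) := by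
  have hpp : p.Prime := Fact.out
  have hqq : q.Prime := Fact.out
  by_cases hqp : q = p
  · subst hqp
    have hzp : IsPGroup q (Subgroup.zpowers x) := isPGroup_zpowers_of_orderOf ⟨1, by rw [h.hx, pow_one]⟩
    have hxS : ∀ S : Sylow q G, x ∈ Subgroup.normalizer ((S : Subgroup G) : Set G) → x ∈ (S : Subgroup G) := by
      intro S hS
      have h1 : Subgroup.zpowers x ≤ Subgroup.normalizer ((S : Subgroup G) : Set G) := by
        rw [Subgroup.zpowers_le]
        exact hS
      have h2 : IsPGroup q ((S : Subgroup G) ⊔ Subgroup.zpowers x : Subgroup G) := by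
        rw [sup_comm]
        exact IsPGroup.to_sup_of_normal_right' hzp S.2 h1
      have h3 := S.3 h2 le_sup_left
      rw [← h3]
      exact (le_sup_right : Subgroup.zpowers x ≤ _) (Subgroup.mem_zpowers x)
    have h3 := isolated_central_of_pgroup h.hiso S₁ S₁.2 (hxS S₁ h₁)
    have h4 := isolated_central_of_pgroup h.hiso S₂ S₂.2 (hxS S₂ h₂)
    obtain ⟨k, hk, hk2⟩ := sylow_conj_of_le S₁ S₂ h3 h4
    exact ⟨k, hk, hk2.symm⟩
  obtain ⟨g, hg⟩ := sylow_conj S₁ S₂
  by_cases hS₁ : (S₁ : Subgroup G) = ⊥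
  · refine ⟨1, Subgroup.one_mem _, ?_⟩
    rw [hg, hS₁, Subgroup.map_bot, Subgroup.map_bot]
  set N : Subgroup G := Subgroup.normalizer ((S₁ : Subgroup G) : Set G) with hN
  have hNne : N ≠ ⊤ := h.normalizer_ne_top hqp S₁.2 hS₁
  set y := g⁻¹ * x * g with hy
  have hyN : y ∈ N := by
    rw [hg, ← map_conj_normalizer, ← hN] at h₂
    exact mem_map_conj.mp h₂
  set L : Subgroup G := (pPrimeCore p N).map N.subtype with hL
  have hLN : L ≤ N := Subgroup.map_subtype_le _
  have hLn' : (L.subgroupOf N).Normal := by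
    show (Subgroup.comap N.subtype (Subgroup.map N.subtype _)).Normal
    rw [Subgroup.comap_map_eq_self_of_injective N.subtype_injective]
    infer_instance
  have hLcard : (Nat.card L).Coprime p := by
    rw [hL, Subgroup.card_map_of_injective N.subtype_injective]
    exact H06.coprime_card_pPrimeCore p
  have hconjL : ∀ w ∈ N, ∀ u ∈ L, w * u * w⁻¹ ∈ L := by
    intro w hw u hu
    have h1 := hLn'.conj_mem ⟨u, hLN hu⟩ (by rw [Subgroup.mem_subgroupOf]; exact hu) ⟨w, hw⟩
    rw [Subgroup.mem_subgroupOf] at h1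
    exact h1
  have hw : y⁻¹ * (x * y * x⁻¹) ∈ L := by
    have h1 := h.comm_mem h₁ hNne (N.inv_mem hyN)
    have h2 : y⁻¹ * x * y⁻¹⁻¹ * x⁻¹ = y⁻¹ * (x * y * x⁻¹) := by group
    rwa [h2] at h1
  have hordy : orderOf y = p := by
    have h1 : y = MulAut.conj g⁻¹ x := by simp [hy]
    rw [h1, MulEquiv.orderOf_eq, h.hx]
  obtain ⟨l, hl, hcomm⟩ := H06.exists_fixed_of_coset (hconjL x h₁)
    (by rw [h.hx, Nat.coprime_comm]; exact hLcard) hw
  set z := y * l with hz
  have hh0 : z * y⁻¹ ∈ L := by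
    have := hconjL y hyN l hl
    rwa [hz]
  obtain ⟨a, ha, c, hc, hcy, he⟩ := H06.exists_conj_mul_eq (hconjL y hyN)
    (by rw [hordy, Nat.coprime_comm]; exact hLcard) hh0
  have h3 : z * y⁻¹ * y = z := by group
  rw [h3] at he
  have hcopc : p.Coprime (orderOf c) :=
    (Nat.Coprime.coprime_dvd_left (Subgroup.orderOf_dvd_natCard L hc) hLcard).symm
  obtain ⟨k, hk1, hk2⟩ := Nat.chineseRemainder hcopc 1 0
  have hck : c ^ k = 1 := orderOf_dvd_iff_pow_eq_one.mp ((Nat.modEq_zero_iff_dvd).mp hk2)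
  have hyk : y ^ k = y := by
    have h4 : y ^ k = y ^ 1 := by
      rw [pow_eq_pow_iff_modEq, hordy]
      exact hk1
    rwa [pow_one] at h4
  have h5 : a * z ^ k * a⁻¹ = y := by
    rw [← conj_pow, he, (show Commute c y from hcy).mul_pow, hck, hyk, one_mul]
  have hv : Commute x (z ^ k) := (Commute.pow_left hcomm k).symm
  have h6 : z ^ k = (a⁻¹ * g⁻¹) * x * (a⁻¹ * g⁻¹)⁻¹ := by
    have h7 : z ^ k = a⁻¹ * y * a := by
      rw [← h5]
      group
    rw [h7, hy]
    group
  rw [h6] at hv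
  have h8 := h.hiso _ hv
  refine ⟨g * a, ?_, ?_⟩
  · rw [Subgroup.mem_centralizer_iff]
    intro w hw
    rw [Set.mem_singleton_iff.mp hw]
    have h10 : (g * a) * ((a⁻¹ * g⁻¹) * x * (a⁻¹ * g⁻¹)⁻¹) = x * (g * a) := by group
    rw [h8] at h10
    exact h10.symm
  · rw [hg, ← map_conj_mul, map_conj_eq_of_mem_normalizer (hLN ha)]

end

end ZStarMin

end Cfsg.Agent.H13
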