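import Cfsg.Agent.Lib.H13.ZStar

/-!
Minimal counterexamples to the `Z*_p`-statement: `G = G'⟨x⟩` with `G'` nonabelian simple.
-/

set_option autoImplicit false

namespace Cfsg.Agent.H13

open Cfsg
open scoped commutatorElement

variable {G : Type*} [Group G] {p : ℕ}

/-- An isolated element of order `p` does not move a minimal `N`-invariant subgroup. -/
theorem isolated_normalizes_minimal [Finite G] [Fact p.Prime] {x : G} (hx : orderOf x = p)
    (hiso : IsIsolated x) {N S : Subgroup G} (hN : N.Normal) (hSN : S ≤ N)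
    (hSn : ∀ u ∈ N, ∀ s ∈ S, u * s * u⁻¹ ∈ S)
    (hSmin : ∀ I : Subgroup G, I ≤ S → I ≠ ⊥ → (∀ u ∈ N, ∀ s ∈ I, u * s * u⁻¹ ∈ I) → I = S)
    (hdvd : p ∣ Nat.card S) : x ∈ Subgroup.normalizer (S : Set G) := by
  have hpp : p.Prime := Fact.out
  by_contra hxS
  -- the conjugates
  let Sk : ℕ → Subgroup G := fun k => S.map (MulAut.conj (x ^ k)).toMonoidHom
  have hSkn : ∀ k, ∀ u ∈ N, ∀ b ∈ Sk k, u * b * u⁻¹ ∈ Sk k := by
    rintro k u hu _ ⟨s, hs, rfl⟩
    have h1 : (x ^ k)⁻¹ * u * x ^ k ∈ N := by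
      have := hN.conj_mem u hu (x ^ k)⁻¹
      simpa using this
    have h2 := hSn _ h1 s hs
    refine ⟨_, h2, ?_⟩
    show x ^ k * ((x ^ k)⁻¹ * u * x ^ k * s * ((x ^ k)⁻¹ * u * x ^ k)⁻¹) * (x ^ k)⁻¹ = u * (x ^ k * s * (x ^ k)⁻¹) * u⁻¹
    group
  have hinf : ∀ k, ¬ p ∣ k → S ⊓ Sk k = ⊥ := by
    intro k hk
    by_contra hne
    have h1 : S ⊓ Sk k = S := hSmin _ inf_le_left hne (fun u hu s hs => ⟨hSn u hu s hs.1, hSkn k u hu s hs.2⟩)
    have h2 : S ≤ Sk k := inf_eq_left.mp h1
    have h3 : Sk k = S := by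
      symm
      apply Subgroup.eq_of_le_of_card_ge h2
      exact le_of_eq (Subgroup.card_map_of_injective (MulAut.conj (x ^ k)).injective)
    have h4 : x ^ k ∈ Subgroup.normalizer (S : Set G) := mem_normalizer_of_map_conj_eq h3
    have hcop : k.Coprime (orderOf x) := by
      rw [hx, Nat.coprime_comm, Nat.Prime.coprime_iff_not_dvd hpp]
      exact hk
    obtain ⟨m, hm⟩ := exists_pow_eq_self_of_coprime hcop
    apply hxS
    rw [← hm]
    exact Subgroup.pow_mem _ h4 m
  have hcomm0 : ∀ k, ¬ p ∣ k → ∀ a ∈ S, ∀ b ∈ Sk k, a * b = b * a := by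
    intro k hk a ha b hb
    have h1 : a * b * a⁻¹ ∈ Sk k := hSkn k a (hSN ha) b hb
    have h2 : (b * a⁻¹ * b⁻¹) ∈ S := by
      have hbN : b ∈ N := by
        obtain ⟨s, hs, rfl⟩ := hb
        exact hN.conj_mem s (hSN hs) _
      exact hSn b hbN _ (S.inv_mem ha)
    have h3 : a * b * a⁻¹ * b⁻¹ ∈ S ⊓ Sk k := by
      refine ⟨?_, (Sk k).mul_mem h1 ((Sk k).inv_mem hb)⟩
      have := S.mul_mem ha h2
      simpa [mul_assoc] using this
    rw [hinf k hk, Subgroup.mem_bot] at h3
    have h4 : a * b * a⁻¹ = b := by simpa using congrArg (· * b) h3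
    simpa using congrArg (· * a) h4
  obtain ⟨c₀, hc₀⟩ := exists_prime_orderOf_dvd_card' (G := S) p hdvd
  set c : G := (c₀ : G) with hc
  have hcS : c ∈ S := c₀.2
  have hcord : orderOf c = p := by rw [hc, Subgroup.orderOf_coe, hc₀]
  have hc1 : c ≠ 1 := by
    intro h0
    rw [h0, orderOf_one] at hcord
    exact hpp.one_lt.ne hcord
  let ci : ℕ → G := fun i => x ^ i * c * (x ^ i)⁻¹
  have hxp : x ^ p = 1 := by rw [← hx, pow_orderOf_eq_one]
  have hciadd : ∀ i k : ℕ, ci (i + k) = x ^ i * ci k * (x ^ i)⁻¹ := by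
    intro i k
    show x ^ (i + k) * c * (x ^ (i + k))⁻¹ = x ^ i * (x ^ k * c * (x ^ k)⁻¹) * (x ^ i)⁻¹
    rw [pow_add]
    group
  have hcijle : ∀ i k : ℕ, ci i * ci (i + k) = ci (i + k) * ci i := by
    intro i k
    by_cases hk : p ∣ k
    · obtain ⟨m, rfl⟩ := hk
      have h1 : x ^ (p * m) = 1 := by rw [pow_mul, hxp, one_pow]
      have h2 : ci (p * m) = c := by
        show x ^ (p * m) * c * (x ^ (p * m))⁻¹ = c
        rw [h1]
        group
      rw [hciadd, h2]
    · have h1 := hcomm0 k hk c hcS (ci k) ⟨c, hcS, rfl⟩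
      rw [hciadd]
      show x ^ i * c * (x ^ i)⁻¹ * _ = _ * (x ^ i * c * (x ^ i)⁻¹)
      calc x ^ i * c * (x ^ i)⁻¹ * (x ^ i * ci k * (x ^ i)⁻¹) = x ^ i * (c * ci k) * (x ^ i)⁻¹ := by group
        _ = x ^ i * (ci k * c) * (x ^ i)⁻¹ := by rw [h1]
        _ = _ := by group
  have hcij : ∀ i j : ℕ, ci i * ci j = ci j * ci i := by
    intro i j
    rcases le_total i j with hij | hij
    · obtain ⟨k, rfl⟩ := Nat.exists_eq_add_of_le hij
      exact hcijle i k
    · obtain ⟨k, rfl⟩ := Nat.exists_eq_add_of_le hij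
      exact (hcijle j k).symm
  let A : Subgroup G := Subgroup.closure (Set.range ci)
  have hAc : IsMulCommutative A := by
    apply Subgroup.isMulCommutative_closure
    rintro _ ⟨i, rfl⟩ _ ⟨j, rfl⟩
    exact hcij i j
  have hAmul : ∀ a ∈ A, ∀ b ∈ A, a * b = b * a := by
    intro a ha b hb
    have h1 : (⟨a, ha⟩ : A) * ⟨b, hb⟩ = ⟨b, hb⟩ * ⟨a, ha⟩ := hAc.is_comm.comm _ _
    exact congrArg Subtype.val h1
  have hAexp : ∀ a ∈ A, a ^ p = 1 := by
    intro a ha
    induction ha using Subgroup.closure_induction with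
    | mem w hw =>
      obtain ⟨i, rfl⟩ := hw
      show (x ^ i * c * (x ^ i)⁻¹) ^ p = 1
      rw [conj_pow, ← hcord, pow_orderOf_eq_one]
      group
    | one => simp
    | mul a b ha' hb' ha hb =>
      have h1 : Commute a b := hAmul a ha' b hb'
      rw [h1.mul_pow, ha, hb, one_mul]
    | inv a _ ha => rw [inv_pow, ha, inv_one]
  have hAp : IsPGroup p A := by
    intro a
    refine ⟨1, ?_⟩
    apply Subtype.ext
    simpa using hAexp a a.2
  have hxA : x ∈ Subgroup.normalizer (A : Set G) := by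
    apply mem_normalizer_of_map_conj_le
    show A.map _ ≤ A
    rw [Subgroup.map_le_iff_le_comap, Subgroup.closure_le]
    rintro _ ⟨i, rfl⟩
    show x * ci i * x⁻¹ ∈ A
    have h1 : x * ci i * x⁻¹ = ci (i + 1) := by
      show x * (x ^ i * c * (x ^ i)⁻¹) * x⁻¹ = x ^ (i + 1) * c * (x ^ (i + 1))⁻¹
      rw [pow_succ']
      group
    rw [h1]
    exact Subgroup.subset_closure ⟨_, rfl⟩
  have hzp : IsPGroup p (Subgroup.zpowers x) := isPGroup_zpowers_of_orderOf ⟨1, by rw [hx, pow_one]⟩
  have hP₁ : IsPGroup p (Subgroup.zpowers x ⊔ A : Subgroup G) :=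
    IsPGroup.to_sup_of_normal_right' hzp hAp (by rw [Subgroup.zpowers_le]; exact hxA)
  have hxP₁ : x ∈ (Subgroup.zpowers x ⊔ A : Subgroup G) :=
    (le_sup_left : Subgroup.zpowers x ≤ _) (Subgroup.mem_zpowers x)
  have hcen := isolated_central_of_pgroup hiso _ hP₁ hxP₁
  have hcA : c ∈ A := Subgroup.subset_closure ⟨0, by simp [ci]⟩
  have hcP₁ : c ∈ (Subgroup.zpowers x ⊔ A : Subgroup G) := (le_sup_right : A ≤ _) hcA
  have hcc := Subgroup.mem_centralizer_iff.mp (hcen hcP₁) x rfl
  have hinf1 := hinf 1 (fun hd => hpp.one_lt.ne' (Nat.dvd_one.mp hd))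
  have hc2 : c ∈ S ⊓ Sk 1 := by
    refine ⟨hcS, c, hcS, ?_⟩
    show x ^ 1 * c * (x ^ 1)⁻¹ = c
    rw [pow_one, hcc]
    group
  rw [hinf1, Subgroup.mem_bot] at hc2
  exact hc1 hc2

/-- The structure of a minimal counterexample to the `Z*_p`-statement. -/
theorem ZStarMin.commutator_simple [Finite G] [Fact p.Prime] {x : G} (h : ZStarMin p x) :
    IsSimpleGroup ↥(commutator G) ∧ ¬ IsMulCommutative ↥(commutator G) ∧
      commutator G ⊔ Subgroup.zpowers x = ⊤ := by
  have hpp : p.Prime := Fact.out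
  have hcentral_absurd : ¬ ∀ g : G, g * x * g⁻¹ = x := by
    intro hc
    apply h.hnz
    intro g
    rw [hc g, mul_inv_cancel]
    exact Subgroup.one_mem _
  have hOpp : pPrimeCore p G = ⊥ := by
    by_contra hne
    have h1 := h.hquot _ hne
    apply h.hnz
    intro g
    have h2 := h1 (g : G ⧸ pPrimeCore p G)
    rw [H08.pPrimeCore_quotient_eq_bot p, Subgroup.mem_bot] at h2
    rw [← QuotientGroup.eq_one_iff]
    simpa using h2
  have hgen : Subgroup.normalClosure ({x} : Set G) = ⊤ := by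
    by_contra hne
    set K : Subgroup G := Subgroup.normalClosure ({x} : Set G) with hK
    haveI hKn : K.Normal := Subgroup.normalClosure_normal
    have hxK : x ∈ K := Subgroup.subset_normalClosure rfl
    have h1 : ∀ g ∈ K, g * x * g⁻¹ * x⁻¹ = 1 := by
      intro g hg
      have h2 := h.comm_mem hxK hne hg
      have h3 := H05.pp_map_le (p := p) (H := K) h2
      rwa [hOpp, Subgroup.mem_bot] at h3
    apply hcentral_absurd
    intro g
    have h2 : g * x * g⁻¹ ∈ K := hKn.conj_mem x hxK g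
    have h3 := h1 _ h2
    apply h.hiso g
    have h5 : (g * x * g⁻¹) * x = x * (g * x * g⁻¹) := by
      calc (g * x * g⁻¹) * x = ((g * x * g⁻¹) * x * (g * x * g⁻¹)⁻¹ * x⁻¹) * (x * (g * x * g⁻¹)) := by group
        _ = x * (g * x * g⁻¹) := by rw [h3, one_mul]
    exact h5.symm
  haveI : Nontrivial G := ⟨⟨x, 1, h.x_ne_one⟩⟩
  let Cand := {L : Subgroup G // L.Normal ∧ L ≠ ⊥}
  haveI : Nonempty Cand := ⟨⟨⊤, inferInstance, top_ne_bot⟩⟩
  obtain ⟨⟨N, hNn, hN1⟩, hmin⟩ := Finite.exists_min (fun L : Cand => Nat.card (L.1 : Subgroup G))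
  have hminN : ∀ W : Subgroup G, W.Normal → W ≠ ⊥ → W ≤ N → W = N := by
    intro W hWn hW1 hWN
    exact Subgroup.eq_of_le_of_card_ge hWN (hmin ⟨W, hWn, hW1⟩)
  have hNsn : N.IsSubnormal := Subgroup.IsSubnormal.step N ⊤ le_top .top inferInstance
  have hNdvd : p ∣ Nat.card N := by
    by_contra hnd
    have hc : (Nat.card N).Coprime p := ((Nat.Prime.coprime_iff_not_dvd hpp).mpr hnd).symm
    have := H05.le_pp hNn hc
    rw [hOpp] at this
    exact hN1 (le_bot_iff.mp this)
  have hsup : N ⊔ Subgroup.zpowers x = ⊤ := by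
    by_contra hne
    set H : Subgroup G := N ⊔ Subgroup.zpowers x with hH
    have hxH : x ∈ H := (le_sup_right : Subgroup.zpowers x ≤ H) (Subgroup.mem_zpowers x)
    have hNH : N ≤ H := le_sup_left
    have h1 : ∀ n ∈ N, n * x * n⁻¹ * x⁻¹ = 1 := by
      intro n hn
      have h2 := h.comm_mem hxH hne (hNH hn)
      let L : Subgroup G := (pPrimeCore p H).map H.subtype
      have hLH : L ≤ H := Subgroup.map_subtype_le _
      have hLn' : (L.subgroupOf H).Normal := by
        show (Subgroup.comap H.subtype (Subgroup.map H.subtype _)).Normal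
        rw [Subgroup.comap_map_eq_self_of_injective H.subtype_injective]
        infer_instance
      let C : Subgroup G := L ⊓ N
      have hCc : (Nat.card C).Coprime p := by
        apply H05.coprime_card_of_orders
        rintro _ ⟨⟨y, hy, rfl⟩, -⟩
        rw [show (H.subtype y) = (y : G) from rfl, Subgroup.orderOf_coe]
        exact H05.pp_order_coprime p hy
      have hCsn : C.IsSubnormal := by
        apply Subgroup.IsSubnormal.step C N inf_le_right hNsn
        constructor
        intro c hc u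
        rw [Subgroup.mem_subgroupOf] at hc ⊢
        refine ⟨?_, hNn.conj_mem _ hc.2 _⟩
        have h5 := hLn'.conj_mem ⟨c, hNH hc.2⟩ (by rw [Subgroup.mem_subgroupOf]; exact hc.1) ⟨u, hNH u.2⟩
        rw [Subgroup.mem_subgroupOf] at h5
        exact h5
      have h3 := H05.sn_coprime_le_pp hCsn hCc
      rw [hOpp] at h3
      refine Subgroup.mem_bot.mp (h3 ⟨h2, ?_⟩)
      have h4 := N.mul_mem hn (hNn.conj_mem n⁻¹ (N.inv_mem hn) x)
      simpa [mul_assoc] using h4
    have hxC : x ∈ Subgroup.centralizer (N : Set G) := by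
      rw [Subgroup.mem_centralizer_iff]
      intro n hn
      have h2 := h1 n hn
      have h3 : n * x * n⁻¹ = x := by simpa using congrArg (· * x) h2
      simpa using congrArg (· * n) h3
    haveI hCn : (Subgroup.centralizer (N : Set G)).Normal := Subgroup.normal_centralizer
    have h2 : Subgroup.normalClosure ({x} : Set G) ≤ Subgroup.centralizer (N : Set G) := by
      apply Subgroup.normalClosure_le_normal
      intro w hw
      rw [Set.mem_singleton_iff.mp hw]
      exact hxC
    rw [hgen] at h2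
    have hNcentral : ∀ n ∈ N, ∀ g : G, n * g = g * n := by
      intro n hn g
      exact Subgroup.mem_centralizer_iff.mp (h2 (Subgroup.mem_top g)) n hn
    let π := QuotientGroup.mk' N
    let M : Subgroup G := (pPrimeCore p (G ⧸ N)).comap π
    haveI hMn : M.Normal := inferInstance
    have hpel : ∀ y ∈ M, (∃ k : ℕ, y ^ p ^ k = 1) → y ∈ N := by
      rintro y hy ⟨k, hk⟩
      have h3 : (orderOf (π y)).Coprime p := H05.pp_order_coprime p hy
      have h4 : (π y) ^ p ^ k = 1 := by rw [← map_pow, hk, map_one]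
      have h5 : orderOf (π y) = 1 :=
        Nat.Coprime.eq_one_of_dvd (h3.pow_right k) (orderOf_dvd_of_pow_eq_one h4)
      exact (QuotientGroup.eq_one_iff y).mp (orderOf_eq_one_iff.mp h5)
    have hFM : FrobCond p M := by
      intro Q hQ g _ _
      rw [Subgroup.mem_centralizer_iff]
      intro y hy
      obtain ⟨k, hk⟩ := hQ ⟨y, hy⟩
      have h3 : ((y : M) : G) ^ p ^ k = 1 := by
        have := congrArg (fun z : Q => ((z : M) : G)) hk
        simpa using this
      have h4 := hpel y y.2 ⟨k, h3⟩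
      apply Subtype.ext
      exact hNcentral _ h4 _
    obtain ⟨k, hk⟩ := frob_index hFM
    have h3 : pPrimeCore p M = ⊥ := by
      have := H05.pp_map_le (p := p) (H := M)
      rwa [hOpp, le_bot_iff, Subgroup.map_eq_bot_iff_of_injective _ M.subtype_injective] at this
    rw [h3, Subgroup.index_bot] at hk
    have hMp : IsPGroup p M := IsPGroup.of_card hk
    apply hcentral_absurd
    intro g
    have h4 := h.hquot N hN1 (g : G ⧸ N)
    have h5 : g * x * g⁻¹ * x⁻¹ ∈ M := by
      have h6 : π (g * x * g⁻¹ * x⁻¹) ∈ pPrimeCore p (G ⧸ N) := by simpa [π] using h4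
      exact h6
    obtain ⟨j, hj⟩ := hMp ⟨_, h5⟩
    have h6 := hpel _ h5 ⟨j, by simpa using congrArg Subtype.val hj⟩
    apply h.hiso g
    have h7 := hNcentral _ h6 x
    have h8 : g * x * g⁻¹ = (g * x * g⁻¹ * x⁻¹) * x := by group
    show x * (g * x * g⁻¹) = (g * x * g⁻¹) * x
    rw [h8]
    calc x * ((g * x * g⁻¹ * x⁻¹) * x) = (x * (g * x * g⁻¹ * x⁻¹)) * x := by group
      _ = ((g * x * g⁻¹ * x⁻¹) * x) * x := by rw [← h7]
  have hNnc : ¬ IsMulCommutative N := by
    intro hc
    obtain ⟨T⟩ : Nonempty (Sylow p N) := inferInstance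
    haveI hTn : (T : Subgroup N).Normal := by
      constructor
      intro a ha b
      have : b * a * b⁻¹ = a := by
        rw [hc.is_comm.comm b a]
        group
      rwa [this]
    haveI hTc := Sylow.characteristic_of_normal T hTn
    let T' : Subgroup G := (T : Subgroup N).map N.subtype
    haveI hT'n : T'.Normal := ConjAct.normal_of_characteristic_of_normal
    have hT'1 : T' ≠ ⊥ := by
      intro h0
      apply sylow_ne_bot_of_dvd hNdvd T
      exact (Subgroup.map_eq_bot_iff_of_injective _ N.subtype_injective).mp h0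
    have h1 := hminN T' hT'n hT'1 (Subgroup.map_subtype_le _)
    have hNp : IsPGroup p N := h1 ▸ (isPGroup_map_subtype T)
    have hzp : IsPGroup p (Subgroup.zpowers x) := isPGroup_zpowers_of_orderOf ⟨1, by rw [h.hx, pow_one]⟩
    have hGp : IsPGroup p (N ⊔ Subgroup.zpowers x : Subgroup G) := by
      rw [sup_comm]
      exact IsPGroup.to_sup_of_normal_right hzp hNp
    rw [hsup] at hGp
    have h2 := isolated_central_of_pgroup h.hiso ⊤ hGp trivial
    apply hcentral_absurd
    intro g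
    apply h.hiso g
    have h3 := Subgroup.mem_centralizer_iff.mp (h2 (Subgroup.mem_top (g * x * g⁻¹))) x rfl
    exact h3
  have hcomm : commutator G = N := by
    apply hminN _ inferInstance
    · intro h0
      apply hNnc
      refine ⟨⟨?_⟩⟩
      rintro ⟨a, ha⟩ ⟨b, hb⟩
      apply Subtype.ext
      have h1 : ⁅a, b⁆ ∈ commutator G := Subgroup.commutator_mem_commutator trivial trivial
      rw [h0, Subgroup.mem_bot, commutatorElement_eq_one_iff_mul_comm] at h1
      exact h1
    · have hzpq : ∀ q : G ⧸ N, q ∈ Subgroup.zpowers (QuotientGroup.mk' N x) := by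
        intro q
        have h3 : (⊤ : Subgroup (G ⧸ N)) = (N ⊔ Subgroup.zpowers x).map (QuotientGroup.mk' N) := by
          rw [hsup, Subgroup.map_top_of_surjective _ (QuotientGroup.mk'_surjective N)]
        have h4 : q ∈ (N ⊔ Subgroup.zpowers x).map (QuotientGroup.mk' N) := by rw [← h3]; trivial
        rw [Subgroup.map_sup, MonoidHom.map_zpowers] at h4
        have h5 : N.map (QuotientGroup.mk' N) = ⊥ := by
          rw [Subgroup.map_eq_bot_iff, QuotientGroup.ker_mk']
        rw [h5, bot_sup_eq] at h4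
        exact h4
      rw [commutator, Subgroup.commutator_le]
      intro a _ b _
      rw [← QuotientGroup.eq_one_iff, commutatorElement_def, QuotientGroup.mk_mul, QuotientGroup.mk_mul,
        QuotientGroup.mk_mul, QuotientGroup.mk_inv, QuotientGroup.mk_inv]
      obtain ⟨i, hi⟩ := Subgroup.mem_zpowers_iff.mp (hzpq (a : G ⧸ N))
      obtain ⟨j, hj⟩ := Subgroup.mem_zpowers_iff.mp (hzpq (b : G ⧸ N))
      rw [← hi, ← hj]
      have h6 : Commute (QuotientGroup.mk' N x ^ i) (QuotientGroup.mk' N x ^ j) := (Commute.refl _).zpow_zpow i j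
      rw [h6.eq]
      group
  rw [hcomm]
  refine ⟨?_, hNnc, hsup⟩
  haveI hNnt : Nontrivial N := (Subgroup.nontrivial_iff_ne_bot _).mpr hN1
  refine ⟨?_⟩
  intro T hT
  by_cases hT1 : T = ⊥
  · exact Or.inl hT1
  right
  let CandS := {S : Subgroup N // S.Normal ∧ S ≠ ⊥ ∧ S ≤ T}
  haveI : Nonempty CandS := ⟨⟨T, hT, hT1, le_rfl⟩⟩
  obtain ⟨⟨S, hSn, hS1, hST⟩, hminS⟩ := Finite.exists_min (fun L : CandS => Nat.card (L.1 : Subgroup N))
  set S' : Subgroup G := S.map N.subtype with hS'
  have hS'N : S' ≤ N := Subgroup.map_subtype_le _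
  have hSn' : ∀ u ∈ N, ∀ s ∈ S', u * s * u⁻¹ ∈ S' := by
    rintro u hu _ ⟨s, hs, rfl⟩
    exact ⟨_, hSn.conj_mem s hs ⟨u, hu⟩, rfl⟩
  have hSmin : ∀ I : Subgroup G, I ≤ S' → I ≠ ⊥ → (∀ u ∈ N, ∀ s ∈ I, u * s * u⁻¹ ∈ I) → I = S' := by
    intro I hI hI1 hIn
    have hIN : I ≤ N := hI.trans hS'N
    have h1 : I.subgroupOf N ≤ S := by
      intro y hy
      rw [Subgroup.mem_subgroupOf] at hy
      obtain ⟨s, hs, hsy⟩ := hI hy
      have : s = y := Subtype.ext hsy
      rwa [← this]
    have h2 : I.subgroupOf N ≠ ⊥ := by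
      intro h0
      apply hI1
      rw [← Subgroup.map_subgroupOf_eq_of_le hIN, h0, Subgroup.map_bot]
    have h3 : (I.subgroupOf N).Normal := by
      constructor
      intro a ha b
      rw [Subgroup.mem_subgroupOf] at ha ⊢
      exact hIn b b.2 a ha
    have h4 : Nat.card S ≤ Nat.card (I.subgroupOf N) := hminS ⟨I.subgroupOf N, h3, h2, h1.trans hST⟩
    have h5 : I.subgroupOf N = S := Subgroup.eq_of_le_of_card_ge h1 h4
    rw [hS', ← h5, Subgroup.map_subgroupOf_eq_of_le hIN]
  have hS'1 : S' ≠ ⊥ := by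
    intro h0
    exact hS1 ((Subgroup.map_eq_bot_iff_of_injective _ N.subtype_injective).mp h0)
  have hdvdS : p ∣ Nat.card S' := by
    by_contra hnd
    have hc : (Nat.card S').Coprime p := ((Nat.Prime.coprime_iff_not_dvd hpp).mpr hnd).symm
    have hsn : S'.IsSubnormal := by
      apply Subgroup.IsSubnormal.step S' N hS'N hNsn
      constructor
      intro a ha b
      rw [Subgroup.mem_subgroupOf] at ha ⊢
      exact hSn' b b.2 a ha
    have h1 := H05.sn_coprime_le_pp hsn hc
    rw [hOpp] at h1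
    exact hS'1 (le_bot_iff.mp h1)
  have hxS := isolated_normalizes_minimal h.hx h.hiso hNn hS'N hSn' hSmin hdvdS
  have hS'top : Subgroup.normalizer (S' : Set G) = ⊤ := by
    rw [eq_top_iff, ← hsup]
    refine sup_le ?_ ?_
    · intro u hu
      rw [Subgroup.mem_normalizer_iff]
      intro s
      constructor
      · intro hs
        exact hSn' u hu s hs
      · intro hs
        have h1 := hSn' u⁻¹ (N.inv_mem hu) _ hs
        simpa [mul_assoc] using h1
    · rw [Subgroup.zpowers_le]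
      exact hxS
  have hS'n : S'.Normal := Subgroup.normalizer_eq_top_iff.mp hS'top
  have hS'eq := hminN S' hS'n hS'1 hS'N
  rw [eq_top_iff]
  intro y _
  apply hST
  have h1 : (y : G) ∈ S' := by rw [hS'eq]; exact y.2
  obtain ⟨s, hs, hsy⟩ := h1
  have h2 : s = y := Subtype.ext hsy
  rwa [← h2]

end Cfsg.Agent.H13
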